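import Mathlib

/-!
# Elements of order 11 acting on small groups

* `comm_mem_of_eleven`: an element `d` with `d^11 = 1` normalizing `A` and `B ⊴ A` acts trivially on `A/B` when
  no proper divisor of `|A : B|` is congruent to it modulo 11;
* `iterate_conj`, `eq_one_of_pow`: small tools.
-/

set_option autoImplicit false

namespace Cfsg.Agent.JankoFour

open Subgroup

variable {G : Type*} [Group G]

/-- `d a d⁻¹ = f a` with `f` fixed by `d` gives `d^n a d^(-n) = f^n a`. -/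
theorem iterate_conj {d a f : G} (h : d * a * d⁻¹ = f * a) (hf : d * f * d⁻¹ = f) :
    ∀ n : ℕ, d ^ n * a * (d ^ n)⁻¹ = f ^ n * a := by
  intro n
  induction n with
  | zero => simp
  | succ n ih =>
    have hdn : d * f ^ n * d⁻¹ = f ^ n := by
      rw [show d * f ^ n * d⁻¹ = (d * f * d⁻¹) ^ n by rw [conj_pow], hf]
    calc d ^ (n + 1) * a * (d ^ (n + 1))⁻¹ = d * (d ^ n * a * (d ^ n)⁻¹) * d⁻¹ := by
          rw [pow_succ']; group
      _ = d * f ^ n * d⁻¹ * (d * a * d⁻¹) := by rw [ih]; group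
      _ = f ^ n * (f * a) := by rw [hdn, h]
      _ = f ^ (n + 1) * a := by rw [pow_succ, mul_assoc]

/-- An element fixed by `d` which is moved onto itself times `a`. -/
theorem pow_eleven_eq_one {d a f : G} (h11 : d ^ 11 = 1) (h : d * a * d⁻¹ = f * a) (hf : d * f * d⁻¹ = f) :
    f ^ 11 = 1 := by
  have := iterate_conj h hf 11
  rw [h11, one_mul, inv_one, mul_one] at this
  exact mul_eq_right.mp this.symm

theorem eq_one_of_pow {f : G} {m : ℕ} (h11 : f ^ 11 = 1) (hm : f ^ m = 1) (hcop : Nat.Coprime 11 m) : f = 1 := by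
  have := pow_gcd_eq_one.mpr ⟨h11, hm⟩
  rwa [hcop.gcd_eq_one, pow_one] at this

/-- An element with `d^11 = 1` acting on a small group `A/B` acts trivially. -/
theorem comm_mem_of_eleven [Finite G] {d : G} {A B : Subgroup G} (hd : d ∈ normalizer (A : Set G))
    (hdB : d ∈ normalizer (B : Set G)) (hn : A ≤ normalizer (B : Set G)) (h11 : d ^ 11 = 1)
    (hidx : ∀ a : ℕ, a ∣ B.relIndex A → B.relIndex A ≡ a [MOD 11] → a = B.relIndex A) :
    ∀ a ∈ A, d * a * d⁻¹ * a⁻¹ ∈ B := by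
  classical
  have hBn : (B.subgroupOf A).Normal := by
    refine ⟨fun b hb a => ?_⟩
    rw [mem_subgroupOf] at hb ⊢
    simp only [Subgroup.coe_mul, Subgroup.coe_inv]
    exact (mem_normalizer_iff.mp (hn a.2) _).mp hb
  let φ : ↥A ≃* ↥A :=
    { toFun := fun a => ⟨d * a * d⁻¹, (mem_normalizer_iff.mp hd _).mp a.2⟩
      invFun := fun a => ⟨d⁻¹ * a * d, by
        have := (mem_normalizer_iff.mp (inv_mem hd) _).mp a.2
        simpa using this⟩
      left_inv := fun a => Subtype.ext (by show d⁻¹ * (d * a * d⁻¹) * d = a; group)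
      right_inv := fun a => Subtype.ext (by show d * (d⁻¹ * a * d) * d⁻¹ = a; group)
      map_mul' := fun a b => Subtype.ext (by show d * (a * b) * d⁻¹ = d * a * d⁻¹ * (d * b * d⁻¹); group) }
  have hφ : (B.subgroupOf A).map φ.toMonoidHom = B.subgroupOf A := by
    ext a
    constructor
    · rintro ⟨b, hb, rfl⟩
      exact (mem_normalizer_iff.mp hdB _).mp hb
    · intro ha
      refine ⟨φ.symm a, ?_, φ.apply_symm_apply a⟩
      show d⁻¹ * (a : G) * d ∈ B
      have := (mem_normalizer_iff.mp (inv_mem hdB) _).mp ha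
      simpa using this
  let ψ : MulAut (↥A ⧸ B.subgroupOf A) := QuotientGroup.congr _ _ φ hφ
  have hψ : ∀ (n : ℕ) (a b : ↥A), d ^ n * (a : G) * (d ^ n)⁻¹ = b →
      (ψ ^ n) (QuotientGroup.mk a) = QuotientGroup.mk b := by
    intro n
    induction n with
    | zero =>
      intro a b h
      simp at h
      rw [pow_zero, MulAut.one_apply]
      exact congrArg _ (h : a = b)
    | succ n ih =>
      intro a b h
      rw [pow_succ, MulAut.mul_apply]
      refine ih (φ a) b ?_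
      show d ^ n * (d * a * d⁻¹) * (d ^ n)⁻¹ = b
      rw [← h, pow_succ]
      group
  have hψ11 : ψ ^ 11 = 1 := by
    refine MulEquiv.ext fun x => ?_
    induction x using QuotientGroup.induction_on with
    | H a => exact (hψ 11 a a (by rw [h11]; simp)).trans rfl
  have hp : Fact (Nat.Prime 11) := ⟨by norm_num⟩
  have hP : IsPGroup 11 ↥(zpowers ψ) := by
    rintro ⟨y, hy⟩
    refine ⟨1, Subtype.ext ?_⟩
    obtain ⟨k, rfl⟩ := mem_zpowers_iff.mp hy
    show (ψ ^ k) ^ (11 ^ 1) = 1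
    rw [pow_one, ← zpow_natCast, ← zpow_mul, mul_comm, zpow_mul, zpow_natCast, hψ11, one_zpow]
  have hmod := hP.card_modEq_card_fixedPoints (↥A ⧸ B.subgroupOf A)
  let Fix : Subgroup (↥A ⧸ B.subgroupOf A) := MonoidHom.eqLocus ψ.toMonoidHom (MonoidHom.id _)
  have hfix : MulAction.fixedPoints ↥(zpowers ψ) (↥A ⧸ B.subgroupOf A) = (Fix : Set _) := by
    ext x
    constructor
    · intro hx
      exact hx ⟨ψ, mem_zpowers ψ⟩
    · rintro (hx : ψ x = x) ⟨y, hy⟩
      show y x = x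
      have hle : zpowers ψ ≤ MulAction.stabilizer (MulAut (↥A ⧸ B.subgroupOf A)) x := zpowers_le.mpr hx
      exact hle hy
  rw [hfix] at hmod
  have hdvd : Nat.card ↥Fix ∣ B.relIndex A := card_subgroup_dvd_card Fix
  have hFix : Fix = ⊤ := Subgroup.eq_top_of_card_eq _ (hidx _ hdvd hmod)
  intro a ha
  have hmem : (QuotientGroup.mk ⟨a, ha⟩ : ↥A ⧸ B.subgroupOf A) ∈ Fix := hFix ▸ mem_top _
  have h1 : (QuotientGroup.mk (φ ⟨a, ha⟩) : ↥A ⧸ B.subgroupOf A) = QuotientGroup.mk ⟨a, ha⟩ := hmem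
  rw [QuotientGroup.eq_iff_div_mem, mem_subgroupOf] at h1
  have h2 : ((φ ⟨a, ha⟩ / ⟨a, ha⟩ : ↥A) : G) = d * a * d⁻¹ * a⁻¹ := by
    rw [Subgroup.coe_div, div_eq_mul_inv]
    rfl
  rwa [h2] at h1

/-- The divisors of `2^k`, `k ≤ 9`, are pairwise incongruent modulo 11; so are those of 27. -/
theorem two_pow_rule {n : ℕ} (hn : ∃ k ≤ 9, n = 2 ^ k) : ∀ a : ℕ, a ∣ n → n ≡ a [MOD 11] → a = n := by
  obtain ⟨k, hk, rfl⟩ := hn
  intro a ha h
  obtain ⟨j, hj, rfl⟩ := (Nat.dvd_prime_pow Nat.prime_two).mp ha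
  interval_cases k <;> interval_cases j <;> first | rfl | simp [Nat.ModEq] at h

theorem three_pow_rule {n : ℕ} (hn : n ∣ 27) : ∀ a : ℕ, a ∣ n → n ≡ a [MOD 11] → a = n := by
  obtain ⟨k, hk, rfl⟩ := (Nat.dvd_prime_pow Nat.prime_three).mp (show n ∣ 3 ^ 3 by norm_num; exact hn)
  intro a ha h
  obtain ⟨j, hj, rfl⟩ := (Nat.dvd_prime_pow Nat.prime_three).mp ha
  interval_cases k <;> interval_cases j <;> first | rfl | simp [Nat.ModEq] at h

end Cfsg.Agent.JankoFour
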