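import Cfsg.Agent.Lib.JankoFour.Interface
import Cfsg.Agent.Lib.JankoFour.ActionEleven

/-!
# Groups of Janko-four type: an involution of `H/E` fixes at most a sixteenth of `E/⟨z⟩`

* `fixMod`: the elements of `A` fixed by `h` modulo a subgroup `B` centralised by `A`;
* `fixBound`: an element of `H` whose square lies in `E` and which fixes an eighth of `E` modulo `⟨z⟩` lies in `E`.
-/

set_option autoImplicit false
set_option linter.unusedSectionVars false

namespace Cfsg.Agent.JankoFour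

open Subgroup
open scoped commutatorElement

variable {G : Type*} [Group G]

/-- The elements of `A` fixed by `h` modulo `B`, a subgroup centralised by `A`. -/
def fixMod (A B : Subgroup G) (hc : A ≤ centralizer (B : Set G)) (h : G) : Subgroup G where
  carrier := {a | a ∈ A ∧ h * a * h⁻¹ * a⁻¹ ∈ B}
  one_mem' := ⟨one_mem A, by simp⟩
  mul_mem' := by
    rintro a b ⟨ha, ha'⟩ ⟨hb, hb'⟩
    refine ⟨mul_mem ha hb, ?_⟩
    have hab : a * (h * b * h⁻¹ * b⁻¹) = (h * b * h⁻¹ * b⁻¹) * a := (hc ha _ hb').symm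
    rw [show h * (a * b) * h⁻¹ * (a * b)⁻¹ = (h * a * h⁻¹ * a⁻¹) * (a * (h * b * h⁻¹ * b⁻¹)) * a⁻¹ by group, hab]
    simpa [mul_assoc] using mul_mem ha' hb'
  inv_mem' := by
    rintro a ⟨ha, ha'⟩
    refine ⟨inv_mem ha, ?_⟩
    have hab : a⁻¹ * (h * a * h⁻¹ * a⁻¹)⁻¹ = (h * a * h⁻¹ * a⁻¹)⁻¹ * a⁻¹ :=
      (hc (inv_mem ha) _ (inv_mem ha')).symm
    rw [show h * a⁻¹ * h⁻¹ * a⁻¹⁻¹ = a⁻¹ * (h * a * h⁻¹ * a⁻¹)⁻¹ * a by group, hab]
    simpa [mul_assoc] using inv_mem ha'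

theorem mem_fixMod {A B : Subgroup G} {hc : A ≤ centralizer (B : Set G)} {h a : G} :
    a ∈ fixMod A B hc h ↔ a ∈ A ∧ h * a * h⁻¹ * a⁻¹ ∈ B := Iff.rfl

theorem fixMod_le {A B : Subgroup G} (hc : A ≤ centralizer (B : Set G)) (h : G) : fixMod A B hc h ≤ A :=
  fun _ ha => ha.1

/-- The elements normalising `B` which fix `a` modulo `B` are closed under products. -/
theorem fixes_mul {B : Subgroup G} {a g h : G} (hg : g ∈ normalizer (B : Set G))
    (h1 : g * a * g⁻¹ * a⁻¹ ∈ B) (h2 : h * a * h⁻¹ * a⁻¹ ∈ B) : g * h * a * (g * h)⁻¹ * a⁻¹ ∈ B := by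
  rw [show g * h * a * (g * h)⁻¹ * a⁻¹ = (g * (h * a * h⁻¹ * a⁻¹) * g⁻¹) * (g * a * g⁻¹ * a⁻¹) by group]
  exact mul_mem ((mem_normalizer_iff.mp hg _).mp h2) h1

theorem fixes_pow {B : Subgroup G} {a g : G} (hg : g ∈ normalizer (B : Set G))
    (h1 : g * a * g⁻¹ * a⁻¹ ∈ B) : ∀ n : ℕ, g ^ n * a * (g ^ n)⁻¹ * a⁻¹ ∈ B := by
  intro n
  induction n with
  | zero => simp
  | succ n ih => rw [pow_succ']; exact fixes_mul hg h1 ih

/-- Conjugating `h` moves the fixed points. -/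
theorem fixMod_conj {A B : Subgroup G} (hc : A ≤ centralizer (B : Set G)) (h : G) {k : G}
    (hA : k ∈ normalizer (A : Set G)) (hB : k ∈ normalizer (B : Set G)) :
    fixMod A B hc (k * h * k⁻¹) = (fixMod A B hc h).map (MulAut.conj k).toMonoidHom := by
  ext x
  constructor
  · rintro ⟨hx, hx'⟩
    refine ⟨k⁻¹ * x * k, ⟨?_, ?_⟩, by show k * (k⁻¹ * x * k) * k⁻¹ = x; group⟩
    · have := (mem_normalizer_iff.mp (inv_mem hA) x).mp hx
      simpa using this
    · have := (mem_normalizer_iff.mp (inv_mem hB) _).mp hx'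
      simpa [mul_assoc] using this
  · rintro ⟨a, ⟨ha, ha'⟩, rfl⟩
    refine ⟨(mem_normalizer_iff.mp hA a).mp ha, ?_⟩
    show k * h * k⁻¹ * (k * a * k⁻¹) * (k * h * k⁻¹)⁻¹ * (k * a * k⁻¹)⁻¹ ∈ B
    rw [show k * h * k⁻¹ * (k * a * k⁻¹) * (k * h * k⁻¹)⁻¹ * (k * a * k⁻¹)⁻¹ =
      k * (h * a * h⁻¹ * a⁻¹) * k⁻¹ by group]
    exact (mem_normalizer_iff.mp hB _).mp ha'

theorem relIndex_fixMod_conj {A B : Subgroup G} (hc : A ≤ centralizer (B : Set G)) (h : G) {k : G}
    (hA : k ∈ normalizer (A : Set G)) (hB : k ∈ normalizer (B : Set G)) :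
    (fixMod A B hc (k * h * k⁻¹)).relIndex A = (fixMod A B hc h).relIndex A := by
  have hAk : A.map (MulAut.conj k).toMonoidHom = A := by
    ext x
    constructor
    · rintro ⟨a, ha, rfl⟩
      exact (mem_normalizer_iff.mp hA a).mp ha
    · intro hx
      refine ⟨k⁻¹ * x * k, ?_, by show k * (k⁻¹ * x * k) * k⁻¹ = x; group⟩
      have := (mem_normalizer_iff.mp (inv_mem hA) x).mp hx
      simpa using this
  conv_lhs => rw [fixMod_conj hc h hA hB]; arg 2; rw [← hAk]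
  exact relIndex_map_map_of_injective _ _ (MulAut.conj k).injective

theorem relIndex_mul_card {H K : Subgroup G} (h : H ≤ K) : H.relIndex K * Nat.card ↥H = Nat.card ↥K := by
  rw [← card_mul_index (H.subgroupOf K), Nat.card_congr (subgroupOfEquivOfLe h).toEquiv, relIndex]
  ring

theorem relIndex_dvd_card (H K : Subgroup G) : H.relIndex K ∣ Nat.card ↥K :=
  index_dvd_card _

namespace Setting

variable {z : G} {P : Subgroup G} (S : Setting z P)
include S

theorem commute_z {h : G} (hh : h ∈ centralizer ({z} : Set G)) : Commute h z :=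
  mem_centralizer_singleton_iff.mp hh

theorem coreE_le : coreE z ≤ centralizer ({z} : Set G) := map_subtype_le _

theorem H_le_normalizer : centralizer ({z} : Set G) ≤ normalizer (coreE z : Set G) := by
  intro h hh
  refine mem_normalizer_iff.mpr fun x => ⟨S.hub.normalizes h (S.commute_z hh) x, fun hx => ?_⟩
  have := S.hub.normalizes h⁻¹ (S.commute_z hh).inv_left _ hx
  simpa [mul_assoc] using this

theorem zpowers_le_center : coreE z ≤ centralizer (zpowers z : Set G) := by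
  intro q hq w hw
  obtain ⟨n, rfl⟩ := mem_zpowers_iff.mp hw
  exact ((S.hub.central q hq).zpow_right n).eq.symm

theorem H_normalizes_zpowers : centralizer ({z} : Set G) ≤ normalizer (zpowers z : Set G) := by
  refine le_trans ?_ (centralizer_le_normalizer _)
  intro h hh w hw
  obtain ⟨n, rfl⟩ := mem_zpowers_iff.mp hw
  exact ((S.commute_z hh).zpow_right n).eq.symm

theorem pow_two_zpowers {c : G} (hc : c ∈ zpowers z) : c ^ 2 = 1 := by
  obtain ⟨n, rfl⟩ := mem_zpowers_iff.mp hc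
  rw [← zpow_natCast, ← zpow_mul, mul_comm, zpow_mul, zpow_natCast, pow_two, S.hub.sq, one_zpow]

theorem card_zpowers_eq : Nat.card ↥(zpowers z) = 2 := by
  rw [Nat.card_zpowers]
  exact orderOf_eq_prime (by rw [pow_two, S.hub.sq]) S.hub.ne_one

theorem pow_E {e : G} (he : e ∈ coreE z) : e ^ 2 ^ 13 = 1 := by
  have := pow_card_eq_one' (x := (⟨e, he⟩ : ↥(coreE z)))
  rw [S.card_E] at this
  exact congrArg Subtype.val this

theorem exists_gen : ∃ p ∈ P, p ^ 3 = 1 ∧ P = zpowers p := by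
  have hfin : Finite ↥P := Nat.finite_of_card_ne_zero (by rw [S.card_P]; norm_num)
  obtain ⟨q, hq⟩ : ∃ q : ↥P, q ≠ 1 := by
    have : Nontrivial ↥P := Finite.one_lt_card_iff_nontrivial (α := ↥P).mp (by rw [S.card_P]; norm_num)
    exact exists_ne 1
  have : Fact (Nat.Prime 3) := ⟨Nat.prime_three⟩
  have hord : orderOf (q : G) = 3 := by
    rw [Subgroup.orderOf_coe]
    refine orderOf_eq_prime ?_ hq
    have := pow_card_eq_one' (x := q)
    rwa [S.card_P] at this
  refine ⟨q, q.2, hord ▸ pow_orderOf_eq_one (q : G), (eq_of_le_of_card_ge (zpowers_le.mpr q.2) ?_).symm⟩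
  rw [S.card_P, Nat.card_zpowers, hord]

theorem sup_mul {k : G} (hk : k ∈ coreE z ⊔ P) : ∃ e ∈ coreE z, ∃ q ∈ P, k = e * q := by
  rw [← SetLike.mem_coe,
    coe_mul_of_right_le_normalizer_left _ _ (S.P_le.trans S.H_le_normalizer)] at hk
  obtain ⟨e, he, q, hq, rfl⟩ := hk
  exact ⟨e, he, q, hq, rfl⟩

theorem pow_ker {k : G} (hk : k ∈ coreE z ⊔ P) : k ^ (3 * 2 ^ 13) = 1 := by
  obtain ⟨p, -, hp3, hP⟩ := S.exists_gen
  obtain ⟨e, he, q, hq, rfl⟩ := S.sup_mul hk
  have hq3 : q ^ 3 = 1 := by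
    rw [hP] at hq
    obtain ⟨n, rfl⟩ := mem_zpowers_iff.mp hq
    rw [← zpow_natCast, ← zpow_mul, mul_comm, zpow_mul, zpow_natCast, hp3, one_zpow]
  rw [pow_mul]
  refine S.pow_E ?_
  have hqN : q ∈ normalizer (coreE z : Set G) := S.H_le_normalizer (S.P_le hq)
  have e3 : (e * q) ^ 3 = e * (q * e * q⁻¹) * (q ^ 2 * e * (q ^ 2)⁻¹) * q ^ 3 := by
    simp only [pow_succ, pow_zero]
    group
  rw [e3, hq3, mul_one]
  exact mul_mem (mul_mem he ((mem_normalizer_iff.mp hqN _).mp he))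
    ((mem_normalizer_iff.mp (pow_mem hqN 2) _).mp he)

/-- `d` in `E` fixed by an element of `P` modulo `⟨z⟩` is centralised by it. -/
theorem commute_of_fixed {d q : G} (hd : d ∈ coreE z) (hq : q ∈ P) (hq3 : q ^ 3 = 1)
    (h : q * d * q⁻¹ * d⁻¹ ∈ zpowers z) : Commute q d := by
  have hfix : q * (q * d * q⁻¹ * d⁻¹) * q⁻¹ = q * d * q⁻¹ * d⁻¹ := by
    obtain ⟨n, hn⟩ := mem_zpowers_iff.mp h
    rw [← hn, ((S.commute_z (S.P_le hq)).zpow_right n).eq, mul_inv_cancel_right]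
  have h3 := iterate_conj (show q * d * q⁻¹ = q * d * q⁻¹ * d⁻¹ * d by group) hfix 3
  rw [hq3, one_mul, inv_one, mul_one] at h3
  have h3' : (q * d * q⁻¹ * d⁻¹) ^ 3 = 1 := mul_eq_right.mp h3.symm
  have h1 := pow_gcd_eq_one.mpr ⟨h3', S.pow_two_zpowers h⟩
  norm_num at h1
  exact mul_inv_eq_iff_eq_mul.mp (mul_inv_eq_one.mp h1)

variable [Finite G]

/-- An element of `H` over an involution outside the inner part fixes at most a 64th of `E` mod `⟨z⟩`. -/
theorem outer_fix {u : G} (hu : u ∈ centralizer ({z} : Set G)) (hout : S.pi ⟨u, hu⟩ ∉ innerM22) :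
    8 < (fixMod (coreE z) (zpowers z) S.zpowers_le_center u).relIndex (coreE z) := by
  set E := coreE z
  set F := fixMod E (zpowers z) S.zpowers_le_center u with hF
  obtain ⟨e, he, y, hy, rfl⟩ := S.factor u hu
  have hyX : y ∉ cX z P := fun h => hout ((S.pi_mem_inner _).mpr ⟨e, he, y, h, rfl⟩)
  obtain ⟨p, hp, hp3, hP⟩ := S.exists_gen
  have hpH := S.P_le hp
  have hpE := S.H_le_normalizer hpH
  have hpz := S.H_normalizes_zpowers hpH
  have hupu : (e * y) * p * (e * y)⁻¹ = e * p⁻¹ * e⁻¹ := by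
    rw [← S.inverts y hy hyX p hp]; group
  -- the two fixed groups meet in `⟨z⟩`
  have hmeet : F ⊓ F.map (MulAut.conj p⁻¹).toMonoidHom ≤ zpowers z := by
    intro d hd
    obtain ⟨hdF, d', hd', hdd'⟩ := hd
    have hd'e : d' = p * d * p⁻¹ := by
      rw [← hdd']; show d' = p * (p⁻¹ * d' * p⁻¹⁻¹) * p⁻¹; group
    subst hd'e
    obtain ⟨hdE, hc⟩ := hdF
    obtain ⟨hd'E, hc'⟩ := hd'
    set c := e * y * d * (e * y)⁻¹ * d⁻¹ with hcdef
    set c' := e * y * (p * d * p⁻¹) * (e * y)⁻¹ * (p * d * p⁻¹)⁻¹ with hc'def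
    have cen : ∀ w ∈ zpowers z, ∀ x : G, Commute x z → Commute w x := by
      intro w hw x hx
      obtain ⟨n, rfl⟩ := mem_zpowers_iff.mp hw
      exact (hx.zpow_right n).symm
    have hmove : e⁻¹ * d * e * d⁻¹ ∈ zpowers z := by
      rcases S.hub.comm _ (inv_mem he) d hdE with h | h <;> rw [inv_inv] at h <;> rw [h]
      · simp
      · rw [(S.hub.central d hdE).eq, mul_inv_cancel_right]; exact mem_zpowers z
    have hd'' : p⁻¹ * d * p ∈ E := by
      have := (mem_normalizer_iff.mp (inv_mem hpE) d).mp hdE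
      simpa using this
    have hmove2 : e * (p⁻¹ * d * p) * e⁻¹ * (p⁻¹ * d * p)⁻¹ ∈ zpowers z := by
      rcases S.hub.comm e he _ hd'' with h | h <;> rw [h]
      · simp
      · rw [(S.hub.central _ hd'').eq, mul_inv_cancel_right]; exact mem_zpowers z
    set c1 := e⁻¹ * d * e * d⁻¹ with hc1
    set c2 := e * (p⁻¹ * d * p) * e⁻¹ * (p⁻¹ * d * p)⁻¹ with hc2
    have hpcz : Commute p⁻¹ z := (S.commute_z hpH).inv_left
    have hecz : Commute e z := S.hub.central e he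
    -- `p² d p⁻² ≡ d`
    have key : p⁻¹ * d * p * (p * d * p⁻¹)⁻¹ ∈ zpowers z := by
      have e1 : c' * (p * d * p⁻¹) = c * c1 * c2 * (p⁻¹ * d * p) := by
        calc c' * (p * d * p⁻¹) = (e * y * p * (e * y)⁻¹) * (c * d) * (e * y * p * (e * y)⁻¹)⁻¹ := by
              rw [hc'def, hcdef]; group
          _ = e * p⁻¹ * (e⁻¹ * c) * d * e * p * e⁻¹ := by rw [hupu]; group
          _ = e * (p⁻¹ * c) * (e⁻¹ * d * e) * p * e⁻¹ := by
              rw [← (cen c hc e⁻¹ hecz.inv_left).eq]; group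
          _ = e * c * (p⁻¹ * c1) * d * p * e⁻¹ := by
              rw [← (cen c hc p⁻¹ hpcz).eq, hc1]; group
          _ = (e * c) * c1 * (p⁻¹ * d * p) * e⁻¹ := by
              rw [← (cen c1 hmove p⁻¹ hpcz).eq]; group
          _ = c * (e * c1) * (p⁻¹ * d * p) * e⁻¹ := by rw [← (cen c hc e hecz).eq]; group
          _ = c * c1 * c2 * (p⁻¹ * d * p) := by
              rw [← (cen c1 hmove e hecz).eq, hc2]; group
      rw [show p⁻¹ * d * p * (p * d * p⁻¹)⁻¹ =
        (c * c1 * c2)⁻¹ * (c * c1 * c2 * (p⁻¹ * d * p)) * (p * d * p⁻¹)⁻¹ by group, ← e1,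
        show (c * c1 * c2)⁻¹ * (c' * (p * d * p⁻¹)) * (p * d * p⁻¹)⁻¹ = (c * c1 * c2)⁻¹ * c' by group]
      exact mul_mem (inv_mem (mul_mem (mul_mem hc hmove) hmove2)) hc'
    have key2 : p ^ 2 * d * (p ^ 2)⁻¹ * d⁻¹ ∈ zpowers z := by
      have := inv_mem ((mem_normalizer_iff.mp hpz _).mp key)
      rwa [show (p * (p⁻¹ * d * p * (p * d * p⁻¹)⁻¹) * p⁻¹)⁻¹ = p ^ 2 * d * (p ^ 2)⁻¹ * d⁻¹ by
        simp [pow_two, mul_assoc]] at this
    have hc2' : Commute (p ^ 2) d :=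
      S.commute_of_fixed hdE (pow_mem hp 2) (by rw [← pow_mul, mul_comm, pow_mul, hp3, one_pow]) key2
    have hpd : Commute p d := by
      have := hc2'.pow_left 2
      rwa [← pow_mul, show 2 * 2 = 3 + 1 by norm_num, pow_succ, hp3, one_mul] at this
    rw [← S.fix]
    refine ⟨hdE, ?_⟩
    show d ∈ centralizer (P : Set G)
    rw [hP, ← zpowers_le]
    refine le_centralizer_iff.mp (zpowers_le.mpr ?_)
    intro w hw
    obtain ⟨n, rfl⟩ := mem_zpowers_iff.mp hw
    exact (hpd.symm.zpow_left n).eq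
  have hmap : (F.map (MulAut.conj p⁻¹).toMonoidHom).relIndex E = F.relIndex E := by
    rw [hF, ← fixMod_conj S.zpowers_le_center _ (inv_mem hpE) (inv_mem hpz)]
    exact relIndex_fixMod_conj _ _ (inv_mem hpE) (inv_mem hpz)
  have hle := relIndex_inf_le (H := F) (K := F.map (MulAut.conj p⁻¹).toMonoidHom) (L := E)
  have hbig : 2 ^ 12 ≤ (F ⊓ F.map (MulAut.conj p⁻¹).toMonoidHom).relIndex E := by
    have h1 := relIndex_mul_card (H := F ⊓ F.map (MulAut.conj p⁻¹).toMonoidHom) (K := E)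
      (inf_le_left.trans (fixMod_le _ _))
    have h2 := Finite.card_subtype_le (α := G) (fun x => x ∈ zpowers z)
    have h3 : Nat.card ↥(F ⊓ F.map (MulAut.conj p⁻¹).toMonoidHom) ≤ 2 :=
      S.card_zpowers_eq ▸ Subgroup.card_le_of_le hmeet
    have h4 : Nat.card ↥E = 2 ^ 13 := S.card_E
    rw [h4] at h1
    nlinarith [Nat.zero_le ((F ⊓ F.map (MulAut.conj p⁻¹).toMonoidHom).relIndex E)]
  by_contra hlt
  rw [not_lt] at hlt
  have : F.relIndex E * (F.map (MulAut.conj p⁻¹).toMonoidHom).relIndex E ≤ 8 * 8 := by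
    rw [hmap]; exact Nat.mul_le_mul hlt hlt
  omega

/-- An element of `H` of order dividing 11 centralising a subgroup of index at most 512 in `E` is in the kernel. -/
theorem pi_eq_one_of_eleven {d : G} (hd : d ∈ centralizer ({z} : Set G)) (h11 : d ^ 11 = 1)
    {D : Subgroup G} (hDE : D ≤ coreE z) (hzD : zpowers z ≤ D) (hidx : D.relIndex (coreE z) ≤ 512)
    (hfix : ∀ x ∈ D, d * x * d⁻¹ * x⁻¹ ∈ zpowers z) : S.pi ⟨d, hd⟩ = 1 := by
  set E := coreE z
  have hdz : Commute d z := S.commute_z hd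
  have hcen : ∀ x ∈ D, d * x * d⁻¹ = x := by
    intro x hx
    have hc := hfix x hx
    have hf : d * (d * x * d⁻¹ * x⁻¹) * d⁻¹ = d * x * d⁻¹ * x⁻¹ := by
      obtain ⟨n, hn⟩ := mem_zpowers_iff.mp hc
      rw [← hn, (hdz.zpow_right n).eq, mul_inv_cancel_right]
    have h1 := eq_one_of_pow (pow_eleven_eq_one h11 (show d * x * d⁻¹ = d * x * d⁻¹ * x⁻¹ * x by group) hf)
      (S.pow_two_zpowers hc) (by norm_num)
    exact mul_inv_eq_one.mp h1
  have hdD : d ∈ normalizer (D : Set G) := by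
    refine mem_normalizer_iff.mpr fun x => ⟨fun hx => (hcen x hx).symm ▸ hx, fun hx => ?_⟩
    have h2 := hcen _ hx
    have : d * x * d⁻¹ = x := by
      calc d * x * d⁻¹ = d⁻¹ * (d * (d * x * d⁻¹) * d⁻¹) * d := by group
        _ = x := by rw [h2]; group
    rwa [this] at hx
  have hED : E ≤ normalizer (D : Set G) := by
    intro q hq
    refine mem_normalizer_iff.mpr fun x => ⟨fun hx => ?_, fun hx => ?_⟩
    · rcases S.hub.comm q hq x (hDE hx) with h | h <;> rw [h]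
      · exact hx
      · exact mul_mem hx (hzD (mem_zpowers z))
    · have hxE : x ∈ E := (mem_normalizer_iff.mp (le_normalizer hq) x).mpr (hDE hx)
      rcases S.hub.comm q hq x hxE with h | h <;> rw [h] at hx
      · exact hx
      · simpa using mul_mem hx (inv_mem (hzD (mem_zpowers z)))
  have hpow : ∃ k ≤ 9, D.relIndex E = 2 ^ k := by
    have hdvd : D.relIndex E ∣ 2 ^ 13 := S.card_E ▸ relIndex_dvd_card D E
    obtain ⟨k, hk, hk'⟩ := (Nat.dvd_prime_pow Nat.prime_two).mp hdvd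
    refine ⟨k, ?_, hk'⟩
    by_contra h
    have : (2 : ℕ) ^ 10 ≤ 2 ^ k := Nat.pow_le_pow_right (by norm_num) (by omega)
    omega
  have hall : ∀ q ∈ E, Commute d q := by
    intro q hq
    have hm := comm_mem_of_eleven (S.H_le_normalizer hd) hdD hED h11 (two_pow_rule hpow) q hq
    have h1 := eq_one_of_pow (pow_eleven_eq_one h11 (show d * q * d⁻¹ = d * q * d⁻¹ * q⁻¹ * q by group)
      (hcen _ hm)) (S.pow_E (hDE hm)) (by norm_num)
    exact mul_inv_eq_iff_eq_mul.mp (mul_inv_eq_one.mp h1)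
  refine (S.pi_eq_one _).mpr (mem_sup_left ?_)
  show d ∈ coreE z
  rcases S.hub.self d hall with h | h <;> rw [h]
  exacts [one_mem _, S.hub.mem]

/-- The power of an element over one of order 11 used below. -/
theorem exists_eleven {w : G} (hw : w ∈ centralizer ({z} : Set G)) (h : orderOf (S.pi ⟨w, hw⟩) = 11) :
    ∃ n : ℕ, (w ^ n) ^ 11 = 1 ∧ S.pi ⟨w ^ n, pow_mem hw n⟩ ≠ 1 := by
  refine ⟨3 * 2 ^ 13, ?_, ?_⟩
  · have h1 : (⟨w, hw⟩ : ↥(centralizer ({z} : Set G))) ^ 11 ∈ S.pi.ker := by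
      rw [MonoidHom.mem_ker, map_pow, ← h, pow_orderOf_eq_one]
    have := S.pow_ker ((S.pi_eq_one _).mp h1)
    rw [← pow_mul, mul_comm, pow_mul]
    simpa using this
  · intro hk
    have h2 : S.pi ⟨w, hw⟩ ^ (3 * 2 ^ 13) = 1 := by
      rw [← map_pow]; exact hk
    have := orderOf_dvd_of_pow_eq_one h2
    rw [h] at this
    norm_num at this

end Setting

/-- An element of `H` with square in `E` fixing an eighth of `E` modulo `⟨z⟩` lies in `E`. -/
theorem fixBound [Finite G] {z : G} {P : Subgroup G} (S : Setting z P) (F : AutFacts innerM22) : FixBound z := by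
  intro u hu husq D hDE hD hcard
  set E := coreE z
  set Fu := fixMod E (zpowers z) S.zpowers_le_center u with hFu
  have hDF : D ≤ Fu := fun d hd => ⟨hDE hd, by
    have := inv_mem (hD d hd)
    rwa [commutatorElement_def, show (d * u * d⁻¹ * u⁻¹)⁻¹ = u * d * u⁻¹ * d⁻¹ by group] at this⟩
  have hidx : Fu.relIndex E ≤ 8 := by
    have h1 := relIndex_mul_card (H := Fu) (K := E) (fixMod_le _ _)
    have h2 := Subgroup.card_le_of_le hDF
    rw [S.card_E] at h1
    nlinarith [Nat.zero_le (Fu.relIndex E)]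
  by_cases hone : S.pi ⟨u, hu⟩ = 1
  · obtain ⟨e, he, q, hq, rfl⟩ := S.sup_mul ((S.pi_eq_one _).mp hone)
    obtain ⟨p, -, hp3, hP⟩ := S.exists_gen
    have hq2 : q * q ∈ E := by
      have hqe : q * e * q⁻¹ ∈ E :=
        (mem_normalizer_iff.mp (S.H_le_normalizer (S.P_le hq)) e).mp he
      have := mul_mem (mul_mem (inv_mem hqe) (inv_mem he)) husq
      rwa [show (q * e * q⁻¹)⁻¹ * e⁻¹ * (e * q * (e * q)) = q * q by group] at this
    have hqE : q ∈ E := by
      have hq3 : q ^ 3 = 1 := by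
        rw [hP] at hq
        obtain ⟨n, rfl⟩ := mem_zpowers_iff.mp hq
        rw [← zpow_natCast, ← zpow_mul, mul_comm, zpow_mul, zpow_natCast, hp3, one_zpow]
      have := mul_mem hq2 hq2
      rwa [show q * q * (q * q) = q ^ 3 * q by simp only [pow_succ, pow_zero]; group, hq3, one_mul] at this
    exact mul_mem he hqE
  exfalso
  by_cases hin : S.pi ⟨u, hu⟩ ∈ innerM22
  swap
  · exact absurd hidx (not_le.mpr (S.outer_fix hu hin))
  have hord : orderOf (S.pi ⟨u, hu⟩) = 2 := by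
    refine orderOf_eq_prime ?_ hone
    rw [pow_two, ← map_mul]
    exact (S.pi_eq_one _).mpr (mem_sup_left husq)
  obtain ⟨k, -, l, -, hkl⟩ := F.invol_triple _ hin hord
  obtain ⟨⟨K, hK⟩, rfl⟩ := S.pi_surjective k
  obtain ⟨⟨L, hL⟩, rfl⟩ := S.pi_surjective l
  rw [← map_inv, ← map_inv, ← map_mul, ← map_mul, ← map_mul, ← map_mul, ← map_mul, ← map_mul] at hkl
  have hw : u * (K * u * K⁻¹) * (L * u * L⁻¹) ∈ centralizer ({z} : Set G) :=
    mul_mem (mul_mem hu (mul_mem (mul_mem hK hu) (inv_mem hK))) (mul_mem (mul_mem hL hu) (inv_mem hL))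
  obtain ⟨n, hn11, hn1⟩ := S.exists_eleven hw hkl
  set w := u * (K * u * K⁻¹) * (L * u * L⁻¹)
  set FK := fixMod E (zpowers z) S.zpowers_le_center (K * u * K⁻¹)
  set FL := fixMod E (zpowers z) S.zpowers_le_center (L * u * L⁻¹)
  refine hn1 (S.pi_eq_one_of_eleven (pow_mem hw n) hn11 (D := Fu ⊓ FK ⊓ FL)
    ((inf_le_left.trans inf_le_left).trans (fixMod_le _ _)) ?_ ?_ ?_)
  · refine zpowers_le.mpr ?_
    have : ∀ h ∈ centralizer ({z} : Set G), z ∈ fixMod E (zpowers z) S.zpowers_le_center h := fun h hh =>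
      ⟨S.hub.mem, by rw [(S.commute_z hh).eq]; simp⟩
    exact ⟨⟨this u hu, this _ (mul_mem (mul_mem hK hu) (inv_mem hK))⟩,
      this _ (mul_mem (mul_mem hL hu) (inv_mem hL))⟩
  · have h1 := relIndex_inf_le (H := Fu ⊓ FK) (K := FL) (L := E)
    have h2 := relIndex_inf_le (H := Fu) (K := FK) (L := E)
    have eK : FK.relIndex E = Fu.relIndex E :=
      relIndex_fixMod_conj _ _ (S.H_le_normalizer hK) (S.H_normalizes_zpowers hK)
    have eL : FL.relIndex E = Fu.relIndex E :=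
      relIndex_fixMod_conj _ _ (S.H_le_normalizer hL) (S.H_normalizes_zpowers hL)
    rw [eK] at h2
    rw [eL] at h1
    calc (Fu ⊓ FK ⊓ FL).relIndex E ≤ (Fu ⊓ FK).relIndex E * Fu.relIndex E := h1
      _ ≤ Fu.relIndex E * Fu.relIndex E * Fu.relIndex E := Nat.mul_le_mul_right _ h2
      _ ≤ 8 * 8 * 8 := Nat.mul_le_mul (Nat.mul_le_mul hidx hidx) hidx
  · rintro x ⟨⟨hx1, hx2⟩, hx3⟩
    exact fixes_pow (S.H_normalizes_zpowers hw)
      (fixes_mul (S.H_normalizes_zpowers (mul_mem hu (mul_mem (mul_mem hK hu) (inv_mem hK))))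
        (fixes_mul (S.H_normalizes_zpowers hu) hx1.2 hx2.2) hx3.2) n

end Cfsg.Agent.JankoFour
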