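import Cfsg.Agent.Lib.JankoFour.Bound

/-!
# Groups of Janko-four type: the odd part of the centraliser of `P`

* `eq_of_oddCore`: an odd subgroup `O` of `C(P)` containing `P`, normalised by `C(P)`, on which `z` only fixes `P`,
  is `P`.
-/

set_option autoImplicit false
set_option linter.unusedSectionVars false

namespace Cfsg.Agent.JankoFour

open Subgroup
open scoped commutatorElement

variable {G : Type*} [Group G]

/-- The index of an intersection with a normal subgroup. -/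
theorem index_inf_dvd {K : Type*} [Group K] (A B : Subgroup K) [A.Normal] :
    (A ⊓ B).index ∣ A.index * B.index := by
  rw [← relIndex_mul_index (inf_le_right : A ⊓ B ≤ B), inf_relIndex_right]
  exact Nat.mul_dvd_mul_right (relIndex_dvd_index_of_normal A B) _

theorem dvd_three_of_odd {n : ℕ} (h0 : n ≠ 0) (hle : n ≤ 3) (hodd : Odd n) : n ∣ 3 := by
  obtain ⟨m, rfl⟩ := hodd
  rcases m with - | - | m
  · norm_num
  · norm_num
  · omega

namespace Setting

variable [Finite G] {z : G} {P : Subgroup G} (S : Setting z P)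
include S

theorem z_mem_centralizer : z ∈ centralizer (P : Set G) :=
  ((le_of_eq S.fix.symm).trans inf_le_right) (mem_zpowers z)

theorem pow_three {q : G} (hq : q ∈ P) : q ^ 3 = 1 := by
  have := pow_card_eq_one' (x := (⟨q, hq⟩ : ↥P))
  rw [S.card_P] at this
  exact congrArg Subtype.val this

theorem eq_one_of_sq {q : G} (hq : q ∈ P) (h : q ^ 2 = 1) : q = 1 := by
  have h1 := pow_gcd_eq_one.mpr ⟨S.pow_three hq, h⟩
  norm_num at h1
  exact h1

/-- A subgroup of order 3 of `EP` is conjugate to `P` under `E`. -/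
theorem exists_conj_le {t : G} (ht : t ∈ coreE z ⊔ P) (ht3 : t ^ 3 = 1) :
    ∃ e ∈ coreE z, e⁻¹ * t * e ∈ P := by
  set N := coreE z ⊔ P
  have : Fact (Nat.Prime 3) := ⟨Nat.prime_three⟩
  have hP3 : IsPGroup 3 ↥(P.subgroupOf N) := by
    rintro ⟨⟨q, hqN⟩, hq⟩
    exact ⟨1, Subtype.ext (Subtype.ext (by simpa using S.pow_three hq))⟩
  have hmax : ∀ {Q : Subgroup ↥N}, IsPGroup 3 ↥Q → P.subgroupOf N ≤ Q → Q = P.subgroupOf N := by
    intro Q hQ hle
    refine le_antisymm (fun x hx => ?_) hle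
    obtain ⟨e, he, q, hq, hxe⟩ := S.sup_mul x.2
    have heN : e ∈ N := mem_sup_left he
    have hqN : q ∈ N := mem_sup_right hq
    have heQ : (⟨e, heN⟩ : ↥N) ∈ Q := by
      have := mul_mem hx (inv_mem (hle (show (⟨q, hqN⟩ : ↥N) ∈ P.subgroupOf N from hq)))
      convert this using 1
      exact Subtype.ext (by simp [hxe])
    obtain ⟨n, hn⟩ := hQ ⟨_, heQ⟩
    have hn' : e ^ 3 ^ n = 1 := congrArg (fun a : ↥Q => ((a : ↥N) : G)) hn
    have h1 := pow_gcd_eq_one.mpr ⟨hn', S.pow_E he⟩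
    rw [(Nat.Coprime.pow n 13 (by norm_num : Nat.Coprime 3 2)).gcd_eq_one, pow_one] at h1
    show (x : G) ∈ P
    rw [hxe, h1, one_mul]
    exact hq
  let SP : Sylow 3 ↥N := ⟨P.subgroupOf N, hP3, hmax⟩
  have hT3 : IsPGroup 3 ↥(zpowers (⟨t, ht⟩ : ↥N)) := by
    rintro ⟨x, hx⟩
    obtain ⟨k, rfl⟩ := mem_zpowers_iff.mp hx
    refine ⟨1, Subtype.ext ?_⟩
    show ((⟨t, ht⟩ : ↥N) ^ k) ^ 3 ^ 1 = 1
    rw [pow_one, ← zpow_natCast, ← zpow_mul, mul_comm, zpow_mul, zpow_natCast]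
    rw [show (⟨t, ht⟩ : ↥N) ^ 3 = 1 from Subtype.ext ht3, one_zpow]
  obtain ⟨Q, hQ⟩ := hT3.exists_le_sylow
  obtain ⟨m, hm⟩ := MulAction.exists_smul_eq ↥N SP Q
  have htQ : (⟨t, ht⟩ : ↥N) ∈ (Q : Subgroup ↥N) := hQ (mem_zpowers _)
  rw [← hm, Sylow.coe_subgroup_smul, mem_pointwise_smul_iff_inv_smul_mem] at htQ
  have htm : (m : G)⁻¹ * t * (m : G) ∈ P := by
    simpa [SP, mem_subgroupOf] using htQ
  obtain ⟨e, he, q, hq, hme⟩ := S.sup_mul m.2
  refine ⟨e, he, ?_⟩
  have := mul_mem (mul_mem hq htm) (inv_mem hq)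
  rwa [hme, show q * ((e * q)⁻¹ * t * (e * q)) * q⁻¹ = e⁻¹ * t * e by group] at this

end Setting

/-- An odd subgroup between `P` and `C(P)` normalised by `C(P)` on which `z` fixes only `P` equals `P`. -/
theorem eq_of_oddCore [Finite G] {z : G} {P : Subgroup G} (S : Setting z P) (F : AutFacts innerM22)
    (hz : z ∈ ⁅cX z P, cX z P⁆) (hT : ThreeBound z P) (hiso : IsolatedIn z P) {g : G}
    (hx : g * z * g⁻¹ ∈ cX z P) (hne : g * z * g⁻¹ ≠ z)
    {O : Subgroup G} (hPO : P ≤ O) (hOC : O ≤ centralizer (P : Set G)) (hodd : Odd (Nat.card ↥O))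
    (hn : centralizer (P : Set G) ≤ normalizer (O : Set G))
    (hOz : O ⊓ centralizer ({z} : Set G) ≤ P) : O = P := by
  classical
  obtain ⟨p, hp, hp3, hP⟩ := S.exists_gen
  set x := g * z * g⁻¹ with hxdef
  have hxH : x ∈ centralizer ({z} : Set G) := hx.1
  have hxP : ∀ q ∈ P, Commute x q := fun q hq => (hx.2 q hq).symm
  have hx2 : x * x = 1 := by rw [hxdef]; simp [mul_assoc, ← mul_assoc z z, S.hub.sq]
  have hzC : z ∈ centralizer (P : Set G) := S.z_mem_centralizer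
  have hzP : ∀ q ∈ P, Commute z q := fun q hq => (hzC q hq).symm
  have hPn : centralizer (P : Set G) ≤ normalizer (P : Set G) := centralizer_le_normalizer _
  have hp1 : p ≠ 1 := by
    rintro rfl
    have h := S.card_P
    rw [hP, Nat.card_zpowers, orderOf_one] at h
    norm_num at h
  -- `C_O(x)` has order at most 9
  have htH : g⁻¹ * p * g ∈ centralizer ({z} : Set G) := by
    have h1 : Commute p x := (hxP p hp).symm
    have h2 := h1.map (MulAut.conj g⁻¹).toMonoidHom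
    refine mem_centralizer_singleton_iff.mpr ?_
    simpa [hxdef, mul_assoc] using h2.eq
  have ht3 : (g⁻¹ * p * g) ^ 3 = 1 := by
    have h := conj_pow (i := 3) (a := g⁻¹) (b := p)
    rw [inv_inv, hp3, mul_one, inv_mul_cancel] at h
    exact h
  have htout : g⁻¹ * p * g ∉ coreE z ⊔ P := by
    intro ht
    obtain ⟨e, he, hmem⟩ := S.exists_conj_le ht ht3
    -- `k` normalises `P` and moves `z` to `x`
    set k := g * e with hk
    have hkz : k * z * k⁻¹ = x := by
      rw [hk, show g * e * z * (g * e)⁻¹ = g * (e * z) * e⁻¹ * g⁻¹ by group, (S.hub.central e he).eq, hxdef]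
      group
    have hkp : k⁻¹ * p * k ∈ P := by
      rwa [hk, show (g * e)⁻¹ * p * (g * e) = e⁻¹ * (g⁻¹ * p * g) * e by group]
    have hcases : ∃ n : ℤ, p ^ n = k⁻¹ * p * k := mem_zpowers_iff.mp (hP ▸ hkp)
    obtain ⟨n, hn'⟩ := hcases
    have hmod : p ^ n = p ^ (n % 3) := by
      conv_lhs => rw [← Int.emod_add_ediv_mul n 3, zpow_add, mul_comm (n / 3), zpow_mul,
        show (3 : ℤ) = ((3 : ℕ) : ℤ) from rfl, zpow_natCast, hp3, one_zpow, mul_one]
      rfl
    have h0 := Int.emod_nonneg n (show (3 : ℤ) ≠ 0 by norm_num)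
    have h3 := Int.emod_lt_of_pos n (show (0 : ℤ) < 3 by norm_num)
    have hcent : ∀ j : G, (j * p * j⁻¹ = p) → j ∈ centralizer (P : Set G) := by
      intro j hj
      rw [hP]
      intro w hw
      obtain ⟨i, rfl⟩ := mem_zpowers_iff.mp hw
      exact ((show Commute j p from mul_inv_eq_iff_eq_mul.mp hj).zpow_right i).eq.symm
    have hbad : ∀ j ∈ centralizer (P : Set G), j * z * j⁻¹ = x → False := fun j hj hjz =>
      hne (hjz ▸ hiso j hj (hjz ▸ (mem_centralizer_singleton_iff.mp hxH).symm))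
    rw [hmod] at hn'
    interval_cases hj : n % 3
    · rw [zpow_zero] at hn'
      exact hp1 (by rw [show p = k * (k⁻¹ * p * k) * k⁻¹ by group, ← hn']; group)
    · rw [zpow_one] at hn'
      refine hbad k (hcent k ?_) hkz
      conv_lhs => rw [hn']
      group
    · have hk2 : k * p * k⁻¹ = p ^ 2 := by
        have h4 : k * p ^ (2 : ℤ) * k⁻¹ = p := by rw [hn']; group
        calc k * p * k⁻¹ = k * (p ^ 3 * p) * k⁻¹ := by rw [hp3, one_mul]
          _ = k * (p ^ (2 : ℤ) * p ^ (2 : ℤ)) * k⁻¹ := by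
              rw [← pow_succ, ← zpow_add, ← zpow_natCast]; rfl
          _ = (k * p ^ (2 : ℤ) * k⁻¹) * (k * p ^ (2 : ℤ) * k⁻¹) := by group
          _ = p ^ 2 := by rw [h4, pow_two]
      obtain ⟨y, hy, hyX⟩ := S.exists_inverting
      refine hbad (k * y) (hcent _ ?_) ?_
      · calc k * y * p * (k * y)⁻¹ = k * (y * p * y⁻¹) * k⁻¹ := by group
          _ = k * p⁻¹ * k⁻¹ := by rw [S.inverts y hy hyX p hp]
          _ = (k * p * k⁻¹)⁻¹ := by group
          _ = p := by rw [hk2]; exact inv_eq_of_mul_eq_one_left (by rw [← pow_succ']; exact hp3)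
      · rw [show k * y * z * (k * y)⁻¹ = k * (y * z) * y⁻¹ * k⁻¹ by group,
          (mem_centralizer_singleton_iff.mp hy.1), ← hkz]
        group
  have hCx : Nat.card ↥(O ⊓ centralizer ({x} : Set G)) ≤ 9 := by
    have hle := hT _ htH ht3 htout ((O ⊓ centralizer ({x} : Set G)).map (MulAut.conj g⁻¹).toMonoidHom) ?_ ?_ ?_
    · rwa [card_map_of_injective (MulAut.conj g⁻¹).injective] at hle
    · rintro _ ⟨o, ho, rfl⟩
      have h2 := (show Commute o x from mem_centralizer_singleton_iff.mp ho.2).map (MulAut.conj g⁻¹).toMonoidHom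
      refine mem_centralizer_singleton_iff.mpr ?_
      simpa [hxdef, mul_assoc] using h2.eq
    · rintro _ ⟨o, ho, rfl⟩
      have h2 := (show Commute o p from (hOC ho.1 p hp).symm).map (MulAut.conj g⁻¹).toMonoidHom
      simpa [mul_assoc] using h2
    · rw [card_map_of_injective (MulAut.conj g⁻¹).injective]
      exact hodd.of_dvd_nat (card_dvd_of_le inf_le_left)
  -- `z` inverts `O / P`
  have hPnO : (P.subgroupOf O).Normal := by
    refine ⟨fun b hb a => ?_⟩
    rw [mem_subgroupOf] at hb ⊢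
    simp only [Subgroup.coe_mul, Subgroup.coe_inv]
    exact (mem_normalizer_iff.mp (hPn (hOC a.2)) _).mp hb
  have hzO : ∀ o ∈ O, z * o * z⁻¹ ∈ O := fun o ho => (mem_normalizer_iff.mp (hn hzC) o).mp ho
  let zc : ↥O →* ↥O :=
    { toFun := fun o => ⟨z * o * z⁻¹, hzO o o.2⟩
      map_one' := Subtype.ext (by simp)
      map_mul' := fun a b => Subtype.ext (by simp [mul_assoc]) }
  let ψ : ↥O ⧸ P.subgroupOf O →* ↥O ⧸ P.subgroupOf O := QuotientGroup.map _ _ zc (fun o ho => by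
    rw [mem_comap, mem_subgroupOf]
    exact (mem_normalizer_iff.mp (hPn hzC) _).mp ho)
  have hinv : Function.Involutive ψ := by
    intro q
    induction q using QuotientGroup.induction_on with
    | H o =>
      show (QuotientGroup.mk (zc (zc o)) : ↥O ⧸ P.subgroupOf O) = QuotientGroup.mk o
      congr 1
      refine Subtype.ext ?_
      show z * (z * (o : G) * z⁻¹) * z⁻¹ = o
      rw [show z * (z * (o : G) * z⁻¹) * z⁻¹ = (z * z) * o * (z * z)⁻¹ by group, S.hub.sq]
      simp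
  have hfpf : MonoidHom.FixedPointFree ψ := by
    intro q
    induction q using QuotientGroup.induction_on with
    | H o =>
      intro ho
      have h1 : (QuotientGroup.mk (zc o) : ↥O ⧸ P.subgroupOf O) = QuotientGroup.mk o := ho
      rw [QuotientGroup.eq_iff_div_mem, mem_subgroupOf, Subgroup.coe_div, div_eq_mul_inv] at h1
      have h1' : z * o * z⁻¹ * (o : G)⁻¹ ∈ P := h1
      set q := z * o * z⁻¹ * (o : G)⁻¹ with hqdef
      have hq : q = 1 := S.eq_one_of_sq h1' (by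
        have hzq : z * q * z⁻¹ = q := by rw [(hzP q h1').eq, mul_inv_cancel_right]
        calc q ^ 2 = (z * q * z⁻¹) * q := by rw [hzq, pow_two]
          _ = (z * z) * o * (z * z)⁻¹ * (o : G)⁻¹ := by rw [hqdef]; group
          _ = 1 := by rw [S.hub.sq]; simp)
      rw [QuotientGroup.eq_one_iff, mem_subgroupOf]
      exact hOz ⟨o.2, mem_centralizer_singleton_iff.mpr
        (show (o : G) * z = z * o from (mul_inv_eq_iff_eq_mul.mp (mul_inv_eq_one.mp hq)).symm)⟩
  have hneg : ∀ o ∈ O, z * o * z⁻¹ * o ∈ P := by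
    intro o ho
    have h1 := congrFun (hfpf.coe_eq_inv_of_involutive hinv) (QuotientGroup.mk ⟨o, ho⟩)
    have h2 : (QuotientGroup.mk (zc ⟨o, ho⟩) : ↥O ⧸ P.subgroupOf O) = QuotientGroup.mk (⟨o, ho⟩ : ↥O)⁻¹ := h1
    rw [QuotientGroup.eq_iff_div_mem, mem_subgroupOf, Subgroup.coe_div, div_eq_mul_inv] at h2
    simpa [zc] using h2
  have hab : ∀ a b : ↥O ⧸ P.subgroupOf O, a * b = b * a := fun a b =>
    hfpf.commute_all_of_involutive hinv a b
  have hcomm : ∀ a ∈ O, ∀ b ∈ O, a * b * a⁻¹ * b⁻¹ ∈ P := by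
    intro a ha b hb
    have h1 := hab (QuotientGroup.mk ⟨a, ha⟩) (QuotientGroup.mk ⟨b, hb⟩)
    rw [← QuotientGroup.mk_mul, ← QuotientGroup.mk_mul, QuotientGroup.eq_iff_div_mem, mem_subgroupOf,
      Subgroup.coe_div, div_eq_mul_inv] at h1
    simpa [mul_assoc] using h1
  -- the index of the elements fixed by `v = x z` modulo `P`
  set v := x * z with hv
  have hvC : v ∈ centralizer (P : Set G) := mul_mem hx.2 hzC
  have hvH : v ∈ centralizer ({z} : Set G) := mul_mem hxH (mem_centralizer_singleton_iff.mpr rfl)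
  have hxO : ∀ o ∈ O, x * o * x⁻¹ ∈ O := fun o ho => (mem_normalizer_iff.mp (hn hx.2) o).mp ho
  let Φ : ↥O →* ↥O ⧸ P.subgroupOf O :=
    { toFun := fun o => QuotientGroup.mk (o * ⟨x * o * x⁻¹, hxO o o.2⟩)
      map_one' := by
        rw [QuotientGroup.eq_one_iff, mem_subgroupOf]
        simp
      map_mul' := fun a b => by
        rw [show (⟨x * ((a * b : ↥O) : G) * x⁻¹, hxO _ (a * b).2⟩ : ↥O) =
          ⟨x * a * x⁻¹, hxO _ a.2⟩ * ⟨x * b * x⁻¹, hxO _ b.2⟩ from Subtype.ext (by simp [mul_assoc])]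
        simp only [QuotientGroup.mk_mul]
        rw [mul_assoc, ← mul_assoc (QuotientGroup.mk b), hab (QuotientGroup.mk b)]
        simp only [mul_assoc] }
  have hfix3 : (fixMod O P hOC v).relIndex O ∣ 3 := by
    have hker : (fixMod O P hOC v).subgroupOf O = Φ.ker := by
      ext o
      rw [mem_subgroupOf, mem_fixMod, MonoidHom.mem_ker]
      show _ ↔ (QuotientGroup.mk _ : ↥O ⧸ P.subgroupOf O) = 1
      rw [QuotientGroup.eq_one_iff, mem_subgroupOf, Subgroup.coe_mul]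
      have hq := hneg o o.2
      set q := z * o * z⁻¹ * (o : G) with hqdef
      have e : v * o * v⁻¹ * (o : G)⁻¹ = q * ((o : G) * (x * o * x⁻¹))⁻¹ := by
        calc v * o * v⁻¹ * (o : G)⁻¹ = x * (z * o * z⁻¹) * x⁻¹ * (o : G)⁻¹ := by rw [hv]; group
          _ = x * (q * (o : G)⁻¹) * x⁻¹ * (o : G)⁻¹ := by rw [hqdef]; group
          _ = q * (x * (o : G)⁻¹ * x⁻¹) * (o : G)⁻¹ := by rw [← mul_assoc x, (hxP q hq).eq]; group
          _ = q * ((o : G) * (x * o * x⁻¹))⁻¹ := by group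
      constructor
      · rintro ⟨-, h⟩
        rw [e] at h
        have := mul_mem (inv_mem hq) h
        rw [inv_mul_cancel_left] at this
        simpa using inv_mem this
      · intro h
        exact ⟨o.2, e ▸ mul_mem hq (inv_mem h)⟩
    have hrange : Φ.range ≤ ((O ⊓ centralizer ({x} : Set G)).subgroupOf O).map (QuotientGroup.mk' _) := by
      rintro _ ⟨o, rfl⟩
      refine ⟨o * ⟨x * o * x⁻¹, hxO o o.2⟩, ⟨(o * _ : ↥O).2, ?_⟩, rfl⟩
      show (o : G) * (x * o * x⁻¹) ∈ centralizer ({x} : Set G)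
      set i := (o : G) * (x * o * x⁻¹) with hi
      have hiO : i ∈ O := mul_mem o.2 (hxO o o.2)
      have hc : x * i * x⁻¹ * i⁻¹ ∈ P := by
        have h2 := hcomm (x * o * x⁻¹) (hxO o o.2) o o.2
        have e : x * i * x⁻¹ = x * o * x⁻¹ * o := by
          rw [hi, show x * ((o : G) * (x * o * x⁻¹)) * x⁻¹ = x * o * x⁻¹ * ((x * x) * o * (x * x)⁻¹) by group, hx2]
          simp
        rw [e, hi]
        simpa [mul_assoc] using h2
      set c := x * i * x⁻¹ * i⁻¹ with hcdef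
      have hxc : x * c * x⁻¹ = c := by rw [(hxP c hc).eq, mul_inv_cancel_right]
      have hc1 : c = 1 := S.eq_one_of_sq hc (by
        calc c ^ 2 = (x * c * x⁻¹) * c := by rw [hxc, pow_two]
          _ = (x * x) * i * (x * x)⁻¹ * i⁻¹ := by rw [hcdef]; group
          _ = 1 := by rw [hx2]; simp)
      exact mem_centralizer_singleton_iff.mpr (mul_inv_eq_iff_eq_mul.mp (mul_inv_eq_one.mp hc1)).symm
    rw [relIndex, hker, index_ker]
    refine dvd_three_of_odd (Nat.card_pos).ne' ?_ ?_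
    · refine (Subgroup.card_le_of_le hrange).trans ?_
      have h1 := relIndex_ker ((O ⊓ centralizer ({x} : Set G)).subgroupOf O) (QuotientGroup.mk' (P.subgroupOf O))
      rw [QuotientGroup.ker_mk', relIndex_subgroupOf inf_le_left] at h1
      refine le_trans (le_of_eq h1.symm) ?_
      have h2 := relIndex_mul_card (H := P) (K := O ⊓ centralizer ({x} : Set G))
        (le_inf hPO fun q hq => mem_centralizer_singleton_iff.mpr (hxP q hq).eq.symm)
      rw [S.card_P] at h2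
      omega
    · rw [← index_ker]
      exact hodd.of_dvd_nat (index_dvd_card _)
  -- an element of order 11 acting trivially
  have hvE : S.pi ⟨v, hvH⟩ ≠ 1 := by
    intro h
    obtain ⟨e, he, q, hq, heq⟩ := S.sup_mul ((S.pi_eq_one _).mp h)
    have heC : e ∈ centralizer (P : Set G) := by
      have : e = v * q⁻¹ := by rw [show v = e * q from heq, mul_inv_cancel_right]
      rw [this]
      refine mul_mem hvC (inv_mem ?_)
      rw [hP] at hq ⊢
      intro w hw
      obtain ⟨i, rfl⟩ := mem_zpowers_iff.mp hw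
      obtain ⟨j, rfl⟩ := mem_zpowers_iff.mp hq
      exact ((Commute.refl p).zpow_zpow i j).eq
    have hez : e ∈ zpowers z := S.fix ▸ ⟨he, heC⟩
    have hxq : x = e * z * q := by
      calc x = v * z := by rw [hv, mul_assoc, S.hub.sq, mul_one]
        _ = e * q * z := by rw [show v = e * q from heq]
        _ = e * z * q := by rw [mul_assoc, ← (hzP q hq).eq, mul_assoc]
    have hezm : e * z ∈ zpowers z := mul_mem hez (mem_zpowers z)
    have hc : Commute (e * z) q := by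
      obtain ⟨i, hi⟩ := mem_zpowers_iff.mp hezm
      rw [← hi]
      exact (hzP q hq).zpow_left i
    have hq1 : q = 1 := by
      refine S.eq_one_of_sq hq ?_
      have h2 : (e * z * q) ^ 2 = 1 := by rw [← hxq, pow_two, hx2]
      rwa [hc.mul_pow, S.pow_two_zpowers hezm, one_mul] at h2
    rw [hq1, mul_one] at hxq
    obtain ⟨i, hi⟩ := mem_zpowers_iff.mp (hxq ▸ hezm : x ∈ zpowers z)
    rcases Int.even_or_odd i with ⟨j, rfl⟩ | ⟨j, rfl⟩
    · rw [← two_mul, zpow_mul, zpow_two, S.hub.sq, one_zpow] at hi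
      refine S.hub.ne_one ?_
      have h1 : g * z * g⁻¹ = 1 := hi.symm
      simpa using h1
    · rw [zpow_add, zpow_mul, zpow_two, S.hub.sq, one_zpow, one_mul, zpow_one] at hi
      exact hne hi.symm
  have hzker : S.pi ⟨z, mem_centralizer_singleton_iff.mpr rfl⟩ = 1 := (S.pi_eq_one _).mpr (mem_sup_left S.hub.mem)
  have hxin : ∀ h (hh : h ∈ cX z P), S.pi ⟨h, hh.1⟩ ∈ innerM22 := fun h hh =>
    (S.pi_mem_inner _).mpr ⟨1, one_mem _, h, hh, (one_mul h).symm⟩
  have hord : orderOf (S.pi ⟨v, hvH⟩) = 2 := by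
    refine orderOf_eq_prime ?_ hvE
    rw [← map_pow, ← map_one S.pi]
    congr 1
    refine Subtype.ext ?_
    show v ^ 2 = 1
    rw [hv, (show Commute x z from mem_centralizer_singleton_iff.mp hxH).mul_pow, pow_two, pow_two, hx2,
      S.hub.sq, one_mul]
  obtain ⟨k, hk, l, hl, hkl⟩ := F.invol_triple _ (hxin v ⟨hvH, hvC⟩) hord
  have hlift : ∀ k ∈ innerM22, ∃ K, ∃ hK : K ∈ cX z P, S.pi ⟨K, hK.1⟩ = k := by
    intro k hk
    obtain ⟨h, rfl⟩ := S.pi_surjective k
    obtain ⟨e, he, K, hK, he'⟩ := (S.pi_mem_inner h).mp hk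
    refine ⟨K, hK, ?_⟩
    have : h = ⟨e, S.coreE_le he⟩ * ⟨K, hK.1⟩ := Subtype.ext he'
    rw [this, map_mul, (S.pi_eq_one ⟨e, _⟩).mpr (mem_sup_left he), one_mul]
  obtain ⟨K, hK, rfl⟩ := hlift k hk
  obtain ⟨L, hL, rfl⟩ := hlift l hl
  rw [← map_inv, ← map_inv, ← map_mul, ← map_mul, ← map_mul, ← map_mul, ← map_mul, ← map_mul] at hkl
  have hvX : v ∈ cX z P := ⟨hvH, hvC⟩
  have hvK : K * v * K⁻¹ ∈ cX z P := mul_mem (mul_mem hK hvX) (inv_mem hK)
  have hvL : L * v * L⁻¹ ∈ cX z P := mul_mem (mul_mem hL hvX) (inv_mem hL)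
  have hw : v * (K * v * K⁻¹) * (L * v * L⁻¹) ∈ cX z P := mul_mem (mul_mem hvX hvK) hvL
  obtain ⟨n, hn11, hn1⟩ := S.exists_eleven hw.1 hkl
  set w := v * (K * v * K⁻¹) * (L * v * L⁻¹)
  set d := w ^ n with hd
  have hdX : d ∈ cX z P := pow_mem hw n
  have hPfix : ∀ h ∈ centralizer (P : Set G), P ≤ fixMod O P hOC h := fun h hh q hq =>
    ⟨hPO hq, by rw [show h * q = q * h from (hh q hq).symm]; simp⟩
  set F0 := fixMod O P hOC v ⊓ fixMod O P hOC (K * v * K⁻¹) ⊓ fixMod O P hOC (L * v * L⁻¹) with hF0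
  have hnorm : ∀ h ∈ centralizer (P : Set G), O ≤ normalizer (fixMod O P hOC h : Set G) := by
    intro h hh o ho
    have key : ∀ o ∈ O, ∀ f ∈ fixMod O P hOC h, o * f * o⁻¹ ∈ fixMod O P hOC h := by
      intro o ho f hf
      have := mul_mem (hPfix h hh (hcomm o ho f hf.1)) hf
      simpa using this
    refine mem_normalizer_iff.mpr fun f => ⟨key o ho f, fun hf => ?_⟩
    have := key o⁻¹ (inv_mem ho) _ hf
    simpa [mul_assoc] using this
  have hnF0 : O ≤ normalizer (F0 : Set G) := by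
    intro o ho
    refine mem_normalizer_iff.mpr fun f => ?_
    rw [hF0]
    simp only [Subgroup.mem_inf]
    rw [← mem_normalizer_iff.mp (hnorm v hvC ho) f, ← mem_normalizer_iff.mp (hnorm _ hvK.2 ho) f,
      ← mem_normalizer_iff.mp (hnorm _ hvL.2 ho) f]
  have hidx : F0.relIndex O ∣ 27 := by
    have hnA : ∀ h ∈ centralizer (P : Set G), ((fixMod O P hOC h).subgroupOf O).Normal := fun h hh =>
      ⟨fun f hf a => by
        rw [mem_subgroupOf] at hf ⊢
        exact (mem_normalizer_iff.mp (hnorm h hh a.2) _).mp hf⟩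
    have := hnA v hvC
    have := hnA _ hvK.2
    have := hnA _ hvL.2
    have e : F0.subgroupOf O = (fixMod O P hOC v).subgroupOf O ⊓ (fixMod O P hOC (K * v * K⁻¹)).subgroupOf O ⊓
        (fixMod O P hOC (L * v * L⁻¹)).subgroupOf O := rfl
    have hKi : (fixMod O P hOC (K * v * K⁻¹)).relIndex O = (fixMod O P hOC v).relIndex O :=
      relIndex_fixMod_conj _ _ (hn hK.2) (hPn hK.2)
    have hLi : (fixMod O P hOC (L * v * L⁻¹)).relIndex O = (fixMod O P hOC v).relIndex O :=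
      relIndex_fixMod_conj _ _ (hn hL.2) (hPn hL.2)
    show (F0.subgroupOf O).index ∣ 27
    rw [e]
    refine (index_inf_dvd _ _).trans ((Nat.mul_dvd_mul_right (index_inf_dvd _ _) _).trans ?_)
    rw [show (27 : ℕ) = 3 * 3 * 3 by norm_num]
    exact Nat.mul_dvd_mul (Nat.mul_dvd_mul hfix3 (hKi ▸ hfix3 : (fixMod O P hOC (K * v * K⁻¹)).relIndex O ∣ 3))
      (hLi ▸ hfix3 : (fixMod O P hOC (L * v * L⁻¹)).relIndex O ∣ 3)
  have hdP : ∀ q ∈ P, d * q * d⁻¹ = q := fun q hq => by rw [← hdX.2 q hq, mul_inv_cancel_right]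
  have hdF0 : ∀ f ∈ F0, d * f * d⁻¹ = f := by
    rintro f ⟨⟨hf1, hf2⟩, hf3⟩
    have hc : d * f * d⁻¹ * f⁻¹ ∈ P := fixes_pow (hPn hw.2)
      (fixes_mul (hPn (mul_mem hvC hvK.2)) (fixes_mul (hPn hvC) hf1.2 hf2.2) hf3.2) n
    have h1 := eq_one_of_pow (pow_eleven_eq_one hn11 (show d * f * d⁻¹ = d * f * d⁻¹ * f⁻¹ * f by group)
      (hdP _ hc)) (S.pow_three hc) (by norm_num)
    exact mul_inv_eq_one.mp h1
  have hdn : d ∈ normalizer (F0 : Set G) := by
    refine mem_normalizer_iff.mpr fun f => ⟨fun hf => (hdF0 f hf).symm ▸ hf, fun hf => ?_⟩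
    have h2 := hdF0 _ hf
    have : d * f * d⁻¹ = f := by
      calc d * f * d⁻¹ = d⁻¹ * (d * (d * f * d⁻¹) * d⁻¹) * d := by group
        _ = f := by rw [h2]; group
    rwa [this] at hf
  have hPF0 : P ≤ F0 := le_inf (le_inf (hPfix v hvC) (hPfix _ hvK.2)) (hPfix _ hvL.2)
  have hF0O : F0 ≤ O := (inf_le_left.trans inf_le_left).trans (fixMod_le _ _)
  have hdO : ∀ o ∈ O, d * o * d⁻¹ * o⁻¹ ∈ P := by
    intro o ho
    have hm := comm_mem_of_eleven (hn hdX.2) hdn hnF0 hn11 (three_pow_rule hidx) o ho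
    set f := d * o * d⁻¹ * o⁻¹ with hf
    have hdo : d * o * d⁻¹ = f * o := by rw [hf]; group
    have h11 := pow_eleven_eq_one hn11 hdo (hdF0 f hm)
    -- the 27th power of `o` is fixed
    let oo : ↥O := ⟨o, ho⟩
    let ff : ↥O := ⟨f, hF0O hm⟩
    have h27 : (oo : G) ^ 27 ∈ F0 := by
      have hn0 : (F0.subgroupOf O).Normal := ⟨fun b hb a => by
        rw [mem_subgroupOf] at hb ⊢
        exact (mem_normalizer_iff.mp (hnF0 a.2) _).mp hb⟩
      obtain ⟨m, hm'⟩ := hidx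
      have h1 := Subgroup.pow_index_mem (F0.subgroupOf O) oo
      rw [show (27 : ℕ) = (F0.subgroupOf O).index * m from hm', pow_mul]
      rw [← SubgroupClass.coe_pow]
      exact pow_mem h1 m
    have hfix := hdF0 _ h27
    have e1 : (f * o) ^ 27 = o ^ 27 := by
      rw [← hdo, conj_pow]; exact hfix
    have e2 : (QuotientGroup.mk ff : ↥O ⧸ P.subgroupOf O) ^ 27 = 1 := by
      have e3 : (ff * oo) ^ 27 = oo ^ 27 := Subtype.ext (by simpa [ff, oo] using e1)
      have := congrArg (QuotientGroup.mk (s := P.subgroupOf O)) e3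
      rw [QuotientGroup.mk_pow, QuotientGroup.mk_pow, QuotientGroup.mk_mul,
        (show Commute (QuotientGroup.mk ff : ↥O ⧸ P.subgroupOf O) (QuotientGroup.mk oo) from hab _ _).mul_pow,
        mul_eq_right] at this
      exact this
    rw [← QuotientGroup.mk_pow, QuotientGroup.eq_one_iff, mem_subgroupOf] at e2
    have h81 : (f ^ 27) ^ 3 = 1 := S.pow_three (by simpa [ff] using e2)
    rw [← pow_mul] at h81
    rw [eq_one_of_pow h11 h81 (by norm_num)]
    exact one_mem P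
  -- the kernel of `X` on `O / P`
  let Kx : Subgroup G :=
    { carrier := {h | h ∈ cX z P ∧ ∀ o ∈ O, h * o * h⁻¹ * o⁻¹ ∈ P}
      one_mem' := ⟨one_mem _, fun o _ => by simp⟩
      mul_mem' := fun {a b} ha hb => ⟨mul_mem ha.1 hb.1, fun o ho => fixes_mul (hPn ha.1.2) (ha.2 o ho) (hb.2 o ho)⟩
      inv_mem' := fun {a} ha => ⟨inv_mem ha.1, fun o ho => by
        have h1 := (mem_normalizer_iff.mp (hPn (inv_mem ha.1.2)) _).mp (inv_mem (ha.2 o ho))
        simpa [mul_assoc] using h1⟩ }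
  have hKX : Kx ≤ cX z P := fun _ h => h.1
  have hKn : ∀ j ∈ cX z P, ∀ h ∈ Kx, j * h * j⁻¹ ∈ Kx := by
    intro j hj h hh
    refine ⟨mul_mem (mul_mem hj hh.1) (inv_mem hj), fun o ho => ?_⟩
    have ho' : j⁻¹ * o * j ∈ O := by simpa using (mem_normalizer_iff.mp (hn (inv_mem hj.2)) o).mp ho
    have h1 := (mem_normalizer_iff.mp (hPn hj.2) _).mp (hh.2 _ ho')
    rwa [show j * (h * (j⁻¹ * o * j) * h⁻¹ * (j⁻¹ * o * j)⁻¹) * j⁻¹ = j * h * j⁻¹ * o * (j * h * j⁻¹)⁻¹ * o⁻¹
      by group] at h1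
  set M := ((Kx.subgroupOf (centralizer ({z} : Set G))).map S.pi).subgroupOf innerM22 with hM
  have hMn : M.Normal := by
    refine ⟨?_⟩
    rintro ⟨a, ha⟩ ⟨⟨b, hb⟩, hbK, rfl⟩ ⟨c, hc⟩
    obtain ⟨j, hj, rfl⟩ := hlift c hc
    exact ⟨⟨j, hj.1⟩ * ⟨b, hb⟩ * ⟨j, hj.1⟩⁻¹, hKn j hj b hbK, by rw [map_mul, map_mul, map_inv]; rfl⟩
  have hMtop : M = ⊤ := by
    refine (F.simple.eq_bot_or_eq_top_of_normal M hMn).resolve_left fun h => hn1 ?_
    have hdm : (⟨S.pi ⟨d, hdX.1⟩, hxin d hdX⟩ : ↥innerM22) ∈ M := ⟨⟨d, hdX.1⟩, ⟨hdX, hdO⟩, rfl⟩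
    rw [h, mem_bot] at hdm
    exact congrArg Subtype.val hdm
  have hderived : ⁅cX z P, cX z P⁆ ≤ Kx := by
    refine commutator_le.mpr ?_
    have split : ∀ a ∈ cX z P, ∃ a' ∈ Kx, ∃ c, (∀ b ∈ cX z P, Commute c b) ∧ a = a' * c := by
      intro a ha
      have hm : (⟨S.pi ⟨a, ha.1⟩, hxin a ha⟩ : ↥innerM22) ∈ M := hMtop ▸ mem_top _
      obtain ⟨⟨a', ha'⟩, ha'K, hpi⟩ := hm
      refine ⟨a', ha'K, a'⁻¹ * a, fun b hb => ?_, (mul_inv_cancel_left a' a).symm⟩
      have hker : (⟨a', ha'⟩⁻¹ * ⟨a, ha.1⟩ : ↥(centralizer ({z} : Set G))) ∈ S.pi.ker := by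
        rw [MonoidHom.mem_ker, map_mul, map_inv]
        rw [show S.pi ⟨a', ha'⟩ = S.pi ⟨a, ha.1⟩ from hpi, inv_mul_cancel]
      have hmem : a'⁻¹ * a ∈ coreE z ⊔ P := (S.pi_eq_one _).mp hker
      obtain ⟨e, he, q, hq, heq⟩ := S.sup_mul hmem
      have hqC : q ∈ centralizer (P : Set G) := by
        rw [hP] at hq ⊢
        intro w hw
        obtain ⟨i, rfl⟩ := mem_zpowers_iff.mp hw
        obtain ⟨j, rfl⟩ := mem_zpowers_iff.mp hq
        exact ((Commute.refl p).zpow_zpow i j).eq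
      have heC : e ∈ centralizer (P : Set G) := by
        have : e = a'⁻¹ * a * q⁻¹ := by rw [heq, mul_inv_cancel_right]
        rw [this]
        exact mul_mem (mul_mem (inv_mem ha'K.1.2) ha.2) (inv_mem hqC)
      obtain ⟨i, rfl⟩ := mem_zpowers_iff.mp (S.fix ▸ ⟨he, heC⟩ : e ∈ zpowers z)
      rw [heq]
      exact (((S.commute_z hb.1).symm).zpow_left i).mul_left (hb.2 q hq)
    intro a ha b hb
    obtain ⟨a', ha', c, hc, rfl⟩ := split a ha
    obtain ⟨b', hb', c', hc', rfl⟩ := split b hb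
    have hcX : c ∈ cX z P := by
      have := mul_mem (inv_mem (hKX ha')) ha
      rwa [inv_mul_cancel_left] at this
    have h1 : ⁅a' * c, b' * c'⁆ = ⁅a', b'⁆ := by
      rw [commutatorElement_def, commutatorElement_def, mul_inv_rev, mul_inv_rev]
      calc a' * c * (b' * c') * (c⁻¹ * a'⁻¹) * (c'⁻¹ * b'⁻¹)
          = a' * (c * (b' * c') * c⁻¹) * a'⁻¹ * c'⁻¹ * b'⁻¹ := by group
        _ = a' * b' * (c' * a'⁻¹ * c'⁻¹) * b'⁻¹ := by
            rw [(hc _ hb).eq, mul_inv_cancel_right]; group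
        _ = a' * b' * a'⁻¹ * b'⁻¹ := by
            rw [(hc' _ (inv_mem (hKX ha'))).eq, mul_inv_cancel_right]
    rw [h1, commutatorElement_def]
    exact mul_mem (mul_mem (mul_mem ha' hb') (inv_mem ha')) (inv_mem hb')
  refine le_antisymm (fun o ho => ?_) hPO
  have h1 := (hderived hz).2 o ho
  have h2 := hneg o ho
  have h3 : o * o ∈ P := by
    have := mul_mem (inv_mem h1) h2
    rwa [show (z * o * z⁻¹ * o⁻¹)⁻¹ * (z * o * z⁻¹ * o) = o * o by group] at this
  obtain ⟨m, hm⟩ := hodd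
  have hpow := pow_card_eq_one' (x := (⟨o, ho⟩ : ↥O))
  have h4 := congrArg Subtype.val hpow
  rw [hm] at h4
  simp only [SubgroupClass.coe_pow, OneMemClass.coe_one] at h4
  rw [pow_add, pow_one, pow_mul, pow_two] at h4
  have : o = ((o * o) ^ m)⁻¹ := eq_inv_of_mul_eq_one_right h4
  rw [this]
  exact inv_mem (pow_mem h3 m)

end Cfsg.Agent.JankoFour
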