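import Cfsg.Agent.Lib.JankoFour.Interface
import Cfsg.Agent.Lib.LargeExtraspecial.SmithMain
import Cfsg.Agent.Lib.PCore.Basic

/-!
# Janko-four type: the setting, and a conjugate of `z` in `E`
-/

set_option autoImplicit false

namespace Cfsg.Agent.JankoFour

open Subgroup LargeExtraspecial
open scoped commutatorElement Pointwise

variable {G : Type*} [Group G] {z : G} {P : Subgroup G}

theorem card_autM22_of_facts (F : AutFacts innerM22) : Nat.card AutM22 = 887040 := by
  rw [← Subgroup.card_mul_index innerM22, F.index_two, F.card_inner]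

/-- The hypothesis gives the setting. -/
theorem exists_setting [Finite G] (F : AutFacts innerM22) (h : Cfsg.IsOfJankoFourTypeWith z P) :
    Nonempty (Setting z P) := by
  obtain ⟨hz, hex, hcard, hCE, ⟨N, hEN, hNH, hnorm, hNcard, ⟨hNn, ⟨ε⟩⟩, hPN⟩, hP, hfix, hne, hder⟩ := h
  set H := centralizer ({z} : Set G) with hH
  set E := coreE z with hE
  have hEH : E ≤ H := map_subtype_le _
  have hzE : z ∈ E := by
    have : z ∈ zpowers z := mem_zpowers z
    rw [← hfix] at this
    exact this.1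
  have hself : centralizer (E : Set G) ≤ E := fun c hc =>
    hCE ⟨mem_centralizer_singleton_iff.mpr (mem_centralizer_iff.mp hc z hzE).symm, hc⟩
  obtain ⟨hub, -⟩ := LargeExtraspecial.Hub.of_coreAt (z := z) hz hex hself
  have hPH : P ≤ H := hPN.trans hNH
  have hHE : H ≤ normalizer (E : Set G) := fun c hc => mem_normalizer_iff.mpr fun q => by
    have hcz : Commute c z := mem_centralizer_singleton_iff.mp hc
    refine ⟨hub.normalizes c hcz q, fun hq => ?_⟩
    have := hub.normalizes c⁻¹ hcz.inv_left _ hq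
    rw [show c⁻¹ * (c * q * c⁻¹) * c⁻¹⁻¹ = q by group] at this
    exact this
  have hNEP : N = E ⊔ P := by
    refine (eq_of_le_of_card_ge (sup_le hEN hPN) ?_).symm
    have h1 : Nat.card E ∣ Nat.card ↥(E ⊔ P) := card_dvd_of_le le_sup_left
    have h2 : Nat.card P ∣ Nat.card ↥(E ⊔ P) := card_dvd_of_le le_sup_right
    rw [hcard] at h1
    rw [hP] at h2
    rw [hNcard, hcard]
    exact Nat.le_of_dvd Nat.card_pos (Nat.Coprime.mul_dvd_of_dvd_of_dvd (by norm_num) h2 h1)
  have hfactor : ∀ c ∈ H, ∃ e ∈ E, ∃ y ∈ cY z P, c = e * y := by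
    intro c hc
    have : Fact (Nat.Prime 3) := ⟨Nat.prime_three⟩
    have hQN : P.map (MulAut.conj c).toMonoidHom ≤ N := by
      rintro _ ⟨p, hp, rfl⟩
      exact (mem_normalizer_iff.mp (hnorm hc) p).mp (hPN hp)
    have hfac : (Nat.card N).factorization 3 = 1 := by
      rw [hNcard, hcard, Nat.factorization_mul (by norm_num) (by norm_num), Finsupp.add_apply,
        Nat.factorization_pow, Finsupp.smul_apply, Nat.Prime.factorization Nat.prime_three,
        Nat.Prime.factorization Nat.prime_two]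
      simp
    let T₁ : Sylow 3 ↥N := Sylow.ofCard (P.subgroupOf N) (by
      rw [Nat.card_congr (subgroupOfEquivOfLe hPN).toEquiv, hP, hfac, pow_one])
    let T₂ : Sylow 3 ↥N := Sylow.ofCard ((P.map (MulAut.conj c).toMonoidHom).subgroupOf N) (by
      rw [Nat.card_congr (subgroupOfEquivOfLe hQN).toEquiv,
        card_map_of_injective (MulAut.conj c).injective, hP, hfac, pow_one])
    obtain ⟨n, hn⟩ := MulAction.exists_smul_eq ↥N T₁ T₂
    have hnE : (n : G) ∈ (E : Set G) * (P : Set G) := by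
      rw [← coe_mul_of_right_le_normalizer_left E P (hPH.trans hHE), ← hNEP]
      exact n.2
    obtain ⟨e, he, p₀, hp₀, hep⟩ := hnE
    have key : ∀ p, p ∈ P → e⁻¹ * c * p * (e⁻¹ * c)⁻¹ ∈ P := by
      intro p hp
      have hm : (⟨c * p * c⁻¹, hQN ⟨p, hp, rfl⟩⟩ : ↥N) ∈ (T₂ : Subgroup ↥N) :=
        ⟨p, hp, rfl⟩
      rw [← hn, Sylow.coe_subgroup_smul, Subgroup.mem_pointwise_smul_iff_inv_smul_mem] at hm
      have hm' : (n : G)⁻¹ * (c * p * c⁻¹) * (n : G) ∈ P := by
        simp only [MulAut.smul_def, ← map_inv, MulAut.conj_apply, inv_inv] at hm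
        exact hm
      rw [← hep] at hm'
      simp only at hm'
      have := P.mul_mem (P.mul_mem hp₀ hm') (P.inv_mem hp₀)
      convert this using 1
      group
    refine ⟨e, he, e⁻¹ * c, ⟨H.mul_mem (H.inv_mem (hEH he)) hc,
      (mem_normalizer_iff.mpr fun p => ⟨key p, fun hp => ?_⟩)⟩, by group⟩
    have himg : P.map (MulAut.conj (e⁻¹ * c)).toMonoidHom = P := by
      refine eq_of_le_of_card_ge ?_ (by rw [card_map_of_injective (MulAut.conj _).injective])
      rintro _ ⟨q, hq, rfl⟩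
      exact key q hq
    rw [← himg] at hp
    obtain ⟨q, hq, he'⟩ := hp
    rwa [show q = p from (MulAut.conj (e⁻¹ * c)).injective he'] at hq
  set π : ↥H →* AutM22 := ε.toMonoidHom.comp (QuotientGroup.mk' (N.subgroupOf H)) with hπ
  have hπsurj : Function.Surjective π := ε.surjective.comp (QuotientGroup.mk'_surjective _)
  have hker : ∀ c : ↥H, π c = 1 ↔ (c : G) ∈ E ⊔ P := fun c => by
    rw [← hNEP, hπ]
    simp [QuotientGroup.eq_one_iff, mem_subgroupOf]
  have hkerE : ∀ {c : G} (hc : c ∈ H), c ∈ E → π ⟨c, hc⟩ = 1 := fun hc he =>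
    (hker _).mpr (mem_sup_left he)
  have hPX : P ≤ cX z P :=
    le_inf hPH ((le_centralizer_iff_isMulCommutative (K := P)).mpr
      (have : IsCyclic ↥P := isCyclic_of_prime_card (p := 3) hP; inferInstance))
  have hXY : cX z P ≤ cY z P := inf_le_inf_left _ (centralizer_le_normalizer _)
  have hzX : z ∈ cX z P := by
    refine ⟨mem_centralizer_singleton_iff.mpr rfl, ?_⟩
    have : z ∈ zpowers z := mem_zpowers z
    rw [← hfix] at this
    exact this.2
  have hkerY : ∀ y ∈ cY z P, y ∈ E ⊔ P → y ∈ cX z P := by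
    intro y hy hyN
    rw [← SetLike.mem_coe, coe_mul_of_right_le_normalizer_left E P (hPH.trans hHE)] at hyN
    obtain ⟨e, he, p, hp, rfl⟩ := hyN
    simp only at hy ⊢
    have heP : e ∈ normalizer (P : Set G) := by
      have hpn : p ∈ normalizer (P : Set G) := le_normalizer hp
      have := (normalizer (P : Set G)).mul_mem hy.2 ((normalizer (P : Set G)).inv_mem hpn)
      simpa using this
    have hec : e ∈ centralizer (P : Set G) := mem_centralizer_iff.mpr fun q hq => by
      have h1 : e * q * e⁻¹ * q⁻¹ ∈ P := mul_mem ((mem_normalizer_iff.mp heP q).mp hq) (inv_mem hq)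
      have h2 : e * q * e⁻¹ * q⁻¹ ∈ E := by
        rw [show e * q * e⁻¹ * q⁻¹ = e * (q * e⁻¹ * q⁻¹) by group]
        exact mul_mem he ((mem_normalizer_iff.mp (hHE (hPH hq)) _).mp (inv_mem he))
      have h3 : E ⊓ P = ⊥ := (disjoint_of_coprime_natCard (by rw [hcard, hP]; norm_num)).eq_bot
      have h4 : e * q * e⁻¹ * q⁻¹ = 1 := by
        have : e * q * e⁻¹ * q⁻¹ ∈ E ⊓ P := ⟨h2, h1⟩
        rwa [h3, mem_bot] at this
      exact (mul_inv_eq_iff_eq_mul.mp (mul_inv_eq_one.mp h4)).symm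
    exact mul_mem ⟨hEH he, hec⟩ (hPX hp)
  obtain ⟨y₀, hy₀, hy₀X⟩ : ∃ y ∈ cY z P, y ∉ cX z P := by
    by_contra hall
    push Not at hall
    exact hne (le_antisymm hall hXY)
  have hPcases : ∀ p ∈ P, ∀ q ∈ P, p ≠ 1 → q = 1 ∨ q = p ∨ q = p⁻¹ := by
    intro p hp q hq hp1
    have : Fact (Nat.Prime 3) := ⟨Nat.prime_three⟩
    have hz' : zpowers (⟨p, hp⟩ : ↥P) = ⊤ :=
      zpowers_eq_top_of_prime_card hP fun e => hp1 (congrArg Subtype.val e)
    have hord : orderOf (⟨p, hp⟩ : ↥P) = 3 := by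
      rw [← Nat.card_zpowers, hz', card_top, hP]
    obtain ⟨m, hm, hm'⟩ : ∃ m < 3, (⟨q, hq⟩ : ↥P) = ⟨p, hp⟩ ^ m := by
      obtain ⟨n, hn⟩ := mem_zpowers_iff.mp (hz' ▸ mem_top (⟨q, hq⟩ : ↥P))
      refine ⟨(n % 3).toNat, by omega, ?_⟩
      rw [← hn, ← zpow_mod_orderOf, hord, ← zpow_natCast, Int.toNat_of_nonneg (by omega)]
      rfl
    have hm'' : q = p ^ m := congrArg Subtype.val hm'
    have h3 : p ^ 3 = 1 := by
      have := congrArg Subtype.val (pow_orderOf_eq_one (⟨p, hp⟩ : ↥P))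
      rwa [hord] at this
    interval_cases m
    · exact Or.inl (by rw [hm'', pow_zero])
    · exact Or.inr (Or.inl (by rw [hm'', pow_one]))
    · refine Or.inr (Or.inr (hm''.trans (eq_inv_of_mul_eq_one_left ?_)))
      rw [← pow_succ, h3]
  have hinv : ∀ y ∈ cY z P, y ∉ cX z P → ∀ p ∈ P, y * p * y⁻¹ = p⁻¹ := by
    intro y hy hyX
    obtain ⟨p, hp, hyp⟩ : ∃ p ∈ P, y * p * y⁻¹ ≠ p := by
      by_contra hall
      push Not at hall
      exact hyX ⟨hy.1, mem_centralizer_iff.mpr fun p hp =>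
        (mul_inv_eq_iff_eq_mul.mp (hall p hp)).symm⟩
    have hp1 : p ≠ 1 := by rintro rfl; simp at hyp
    have hyp' : y * p * y⁻¹ = p⁻¹ := by
      rcases hPcases p hp _ ((mem_normalizer_iff.mp hy.2 p).mp hp) hp1 with e | e | e
      · exact absurd (conj_eq_one_iff.mp e) hp1
      · exact absurd e hyp
      · exact e
    intro q hq
    rcases hPcases p hp q hq hp1 with rfl | rfl | rfl
    · simp
    · exact hyp'
    · rw [← conj_inv, hyp']
  set L := ((cX z P).subgroupOf H).map π with hL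
  have hLinner : L = innerM22 := by
    refine F.inner_unique L (index_eq_two_iff.mpr ⟨π ⟨y₀, hy₀.1⟩, fun b => ?_⟩)
    obtain ⟨c, rfl⟩ := hπsurj b
    obtain ⟨e, he, y, hy, hc⟩ := hfactor c c.2
    have hc' : π c = π ⟨y, hy.1⟩ := by
      rw [show c = ⟨e, hEH he⟩ * ⟨y, hy.1⟩ from Subtype.ext hc, map_mul, hkerE _ he, one_mul]
    have hmem : ∀ w (hw : w ∈ cY z P), π ⟨w, hw.1⟩ ∈ L ↔ w ∈ cX z P := fun w hw => by
      refine ⟨?_, fun hwX => ⟨⟨w, hw.1⟩, hwX, rfl⟩⟩
      rintro ⟨x, hx, hxw⟩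
      have hx' : (x : G) ∈ cX z P := hx
      have hq : (x : G)⁻¹ * w ∈ E ⊔ P := by
        refine (hker (x⁻¹ * ⟨w, hw.1⟩)).mp ?_
        rw [map_mul, map_inv, hxw, inv_mul_cancel]
      have := mul_mem hx' (hkerY _ (mul_mem (inv_mem (hXY hx')) hw) hq)
      rwa [mul_inv_cancel_left] at this
    have hiff : π c * π ⟨y₀, hy₀.1⟩ ∈ L ↔ y * y₀ ∈ cX z P := by
      rw [hc', ← map_mul]
      exact hmem _ (mul_mem hy hy₀)
    have hciff : π c ∈ L ↔ y ∈ cX z P := hc' ▸ hmem y hy
    rw [hiff, hciff]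
    by_cases hyX : y ∈ cX z P
    · exact Or.inr ⟨hyX, fun hh => hy₀X (by simpa using mul_mem (inv_mem hyX) hh)⟩
    · refine Or.inl ⟨⟨mul_mem hy.1 hy₀.1, mem_centralizer_iff.mpr fun p hp => ?_⟩, hyX⟩
      have h1 := hinv y hy hyX p⁻¹ (inv_mem hp)
      have h2 := hinv y₀ hy₀ hy₀X p hp
      rw [inv_inv] at h1
      rw [eq_comm, ← mul_inv_eq_iff_eq_mul]
      calc y * y₀ * p * (y * y₀)⁻¹ = y * (y₀ * p * y₀⁻¹) * y⁻¹ := by group
        _ = p := by rw [h2, h1]
  refine ⟨⟨hub, hex, hcard, hP, hPH, hfix, π, hπsurj, hker, fun c => ?_, hfactor, ⟨y₀, hy₀, hy₀X⟩,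
    hinv, ?_, hder⟩⟩
  · rw [← hLinner]
    constructor
    · rintro ⟨x, hx, hxc⟩
      have hx' : (x : G) ∈ cX z P := hx
      have hq : (c : G) * (x : G)⁻¹ ∈ E ⊔ P := by
        refine (hker (c * x⁻¹)).mp ?_
        rw [map_mul, map_inv, hxc, mul_inv_cancel]
      rw [← SetLike.mem_coe, coe_mul_of_right_le_normalizer_left E P (hPH.trans hHE)] at hq
      obtain ⟨e, he, p, hp, hep⟩ := hq
      exact ⟨e, he, p * x, mul_mem (hPX hp) hx', by
        simp only at hep; rw [← mul_assoc, hep, inv_mul_cancel_right]⟩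
    · rintro ⟨e, he, x, hx, hc⟩
      refine ⟨⟨x, hx.1⟩, hx, ?_⟩
      rw [show c = ⟨e, hEH he⟩ * ⟨x, hx.1⟩ from Subtype.ext hc, map_mul, hkerE _ he, one_mul]
  · have h1 := Subgroup.card_mul_index π.ker
    rw [index_ker, MonoidHom.range_eq_top.mpr hπsurj, card_top, card_autM22_of_facts F] at h1
    have h2 : Nat.card π.ker = 2 ^ 13 * 3 := by
      have : π.ker = N.subgroupOf H := by
        ext c
        rw [MonoidHom.mem_ker, hker, mem_subgroupOf, hNEP]
      rw [this, Nat.card_congr (subgroupOfEquivOfLe hNH).toEquiv, hNcard, hcard, mul_comm]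
    rw [← h1, h2]

/-- A nonabelian simple group with an element of order 3 is generated by its elements of odd order. -/
theorem pResidual_two_eq_top [Finite G] [IsSimpleGroup G] (h3 : 3 ∣ Nat.card G) :
    Cfsg.pResidual 2 G = ⊤ := by
  have hn : (Cfsg.pResidual 2 G).Normal := by
    constructor
    intro x hx g
    have : (Cfsg.pResidual 2 G).map (MulAut.conj g).toMonoidHom ≤ Cfsg.pResidual 2 G := by
      rw [Cfsg.pResidual, MonoidHom.map_closure]
      refine closure_mono ?_
      rintro _ ⟨y, hy, rfl⟩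
      show Nat.Coprime (orderOf ((MulAut.conj g).toMonoidHom y)) 2
      rw [orderOf_injective (MulAut.conj g).toMonoidHom (MulAut.conj g).injective y]
      exact hy
    simpa using this (mem_map_of_mem _ hx)
  refine hn.eq_bot_or_eq_top.resolve_left fun hb => ?_
  have : Fact (Nat.Prime 3) := ⟨Nat.prime_three⟩
  obtain ⟨x, hx⟩ := exists_prime_orderOf_dvd_card' 3 h3
  have hm : x ∈ Cfsg.pResidual 2 G := subset_closure (by
    show Nat.Coprime (orderOf x) 2
    rw [hx]
    norm_num)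
  rw [hb, mem_bot] at hm
  rw [hm, orderOf_one] at hx
  exact absurd hx (by norm_num)

/-- `z` is not weakly closed in `E`. -/
theorem exists_conj_mem_core [Finite G] [IsSimpleGroup G] (S : Setting z P) (F : AutFacts innerM22) :
    ∃ g : G, g * z * g⁻¹ ∈ coreE z ∧ g * z * g⁻¹ ≠ z := by
  classical
  by_contra hno
  push Not at hno
  have h3 : 3 ∣ Nat.card G := S.card_P ▸ card_subgroup_dvd_card P
  let χ : ↥(centralizer ({z} : Set G)) →* ℤˣ :=
    { toFun := fun c => if S.pi c ∈ innerM22 then 1 else -1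
      map_one' := by rw [map_one, if_pos (one_mem _)]
      map_mul' := fun a b => by
        simp only [map_mul, mul_mem_iff_of_index_two F.index_two]
        by_cases ha : S.pi a ∈ innerM22 <;> by_cases hb : S.pi b ∈ innerM22 <;> simp [ha, hb] }
  obtain ⟨k, hk⟩ : ∃ k : AutM22, k ∉ innerM22 := by
    by_contra hall
    push Not at hall
    have := F.index_two
    rw [show innerM22 = ⊤ from eq_top_iff.mpr fun a _ => hall a, index_top] at this
    norm_num at this
  obtain ⟨a, ha⟩ := S.pi_surjective k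
  have hA : IsPGroup 2 ℤˣ := IsPGroup.of_card (n := 1) (by
    rw [Nat.card_eq_fintype_card, Fintype.card_units_int, pow_one])
  have h1 := LargeExtraspecial.Hub.hom_eq_one_of_wc S.hub (map_subtype_le _)
    (IsPGroup.of_card S.card_E) (by rw [S.card_E]; norm_num) (pResidual_two_eq_top h3) hno χ hA
    (fun c => Int.units_mul_self _)
    (fun c d hc hd => by rw [(Int.units_eq_one_or _).resolve_left hc, (Int.units_eq_one_or _).resolve_left hd]) a
  have : χ a = -1 := by
    show (if S.pi a ∈ innerM22 then (1 : ℤˣ) else -1) = -1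
    rw [ha, if_neg hk]
  rw [this] at h1
  exact absurd h1 (by decide)

end Cfsg.Agent.JankoFour
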