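import Cfsg.Agent.Lib.JankoFour.Cover
import Cfsg.Agent.Lib.JankoFour.Setting
import Cfsg.Agent.Lib.JankoFour.Bound
import Cfsg.Agent.Lib.JankoFour.OddCore

/-!
# Janko-four type: assembling `N(P) ≤ H` from the pieces
-/

set_option autoImplicit false

namespace Cfsg.Agent.JankoFour

open Subgroup
open scoped commutatorElement

variable {G : Type*} [Group G] {z : G} {P : Subgroup G}

/-- `N(P) ≤ H`, given `z ∈ X'` and a conjugate of `z` in `X` other than `z`. -/
theorem normalizer_le_of_conj [Finite G] (S : Setting z P) (F : AutFacts innerM22)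
    (hz : z ∈ ⁅cX z P, cX z P⁆) {j : G} (hj : j * z * j⁻¹ ∈ cX z P) (hne : j * z * j⁻¹ ≠ z) :
    normalizer (P : Set G) ≤ centralizer ({z} : Set G) :=
  S.normalizer_P_le F (S.centralizer_P_le F fun _O hPO hOC hodd hn hOz =>
    eq_of_oddCore S F hz (threeBound S F) (isolatedIn S F) hj hne hPO hOC hodd hn hOz)

end Cfsg.Agent.JankoFour
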