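import Cfsg.Agent.Lib.JankoFour.AutElemSearch

/-!
# Kernel computations for the automorphism group of M₂₂
-/

set_option autoImplicit false
set_option maxRecDepth 100000

namespace Cfsg.Agent.JankoFour

open Cfsg Cfsg.Agent.Mathieu

/-- The elements of the Sylow 2-subgroup. -/
def sylList : List ℕ := slpList Data.sylGens Data.sylSteps

/-- The elements of the Sylow 3-subgroup. -/
def threeList : List ℕ := slpList Data.threeGens Data.threeSteps

/-- `g` with inverse `gi` conjugates `x`. -/
def conjNum (g gi x : ℕ) : ℕ := packMulS 24 (packMulS 24 g x) gi

/-- `g` conjugates the list into itself. -/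
def normList (L : List ℕ) (g : ℕ) : Bool :=
  memPair g && leftInvOK 24 (invPack 24 g) g &&
    force (invPack 24 g) fun gi => L.all fun x => L.contains (conjNum g gi x)

/-- The setwise stabiliser of `{1, 2}`. -/
def nearLevels : List CertLevel :=
  (23, [23, 0], [packId 24, Data.swapFar]) :: (1, [1, 2], [packId 24, Data.swapNear]) ::
    levels22.drop 2

/-- The 8th power of 256 = eight squarings. -/
def pow256 (l : ℕ) : ℕ := (List.range 8).foldl (fun a _ => force a fun a => packMulS 24 a a) l

/-- The 72nd power. -/
def pow72 (l : ℕ) : ℕ :=
  force (packMulS 24 l l) fun a => force (packMulS 24 a a) fun b => force (packMulS 24 b b) fun c =>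
    force (packMulS 24 c c) fun d => force (packMulS 24 d d) fun f => force (packMulS 24 f f) fun g =>
      packMulS 24 g c

theorem syl_group : listGroupOK 24 Data.sylGens Data.sylSteps = true := by decide +kernel

theorem syl_ok : (Data.sylGens.all memPair && sylList.all fun l => canonNum l == l) = true := by
  decide +kernel

theorem syl_nodup : sylList.Nodup := by decide +kernel

theorem syl_length : sylList.length = 256 := by decide +kernel

theorem syl_search : elemCheck Data.elemList 7 [packId 24]
    (sylList.filter fun l => !(l == packId 24) && isId 24 (packMulS 24 l l)) = true := by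
  decide +kernel

theorem elem_closed : (Data.elemList.all fun a => Data.elemList.all fun b =>
    Data.elemList.contains (packMulS 24 a b)) = true := by decide +kernel

theorem elem_ok : (Data.elemList.all fun l => memPair l && canonNum l == l) = true := by
  decide +kernel

theorem elem_one : packId 24 ∈ Data.elemList := by decide +kernel

theorem elem_nodup : Data.elemList.Nodup := by decide +kernel

theorem elem_length : Data.elemList.length = 32 := by decide +kernel

theorem elem_outer : (Data.elemList.any fun l => !(app l 23 == 23)) = true := by decide +kernel

theorem elem_pair : ((List.range 24).all fun i => (List.range 24).all fun j =>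
    i == j || i == 23 || i == 0 || j == 23 || j == 0 ||
      (Data.elemList.any fun a => !((app a i == i || app a i == j) && (app a j == i || app a j == j))) ||
      (i == 1 && j == 2) || (i == 2 && j == 1)) = true := by decide +kernel

theorem near_levels : levelsOK 24 [] nearLevels = true := by decide +kernel

theorem far_moves : (memPair Data.farElem && leftInvOK 24 (invPack 24 Data.farElem) Data.farElem &&
    Data.elemList.any fun a =>
      !Data.elemList.contains (conjNum Data.farElem (invPack 24 Data.farElem) a)) = true := by
  decide +kernel

theorem far_meet : (Data.farMeet.all fun x => Data.elemList.contains x &&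
    normList Data.elemList (conjNum (invPack 24 Data.farElem) Data.farElem x)) = true := by
  decide +kernel

theorem far_meet_size : (decide Data.farMeet.Nodup && decide (16 ≤ Data.farMeet.length) &&
    Data.farMeet.any fun x => !(app x 23 == 23)) = true := by decide +kernel

theorem square_root_ok : (mem22 Data.squareRoot &&
    samePack 24 (packMulS 24 Data.squareRoot Data.squareRoot) invol22_8.z) = true := by
  decide +kernel

theorem triple_ok : (mem22 Data.tripleConj.1 && mem22 Data.tripleConj.2 &&
    leftInvOK 24 (invPack 24 Data.tripleConj.1) Data.tripleConj.1 &&
    leftInvOK 24 (invPack 24 Data.tripleConj.2) Data.tripleConj.2 &&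
    force (packMulS 24 (packMulS 24 invol22_8.z
        (conjNum Data.tripleConj.1 (invPack 24 Data.tripleConj.1) invol22_8.z))
        (conjNum Data.tripleConj.2 (invPack 24 Data.tripleConj.2) invol22_8.z))
      fun u => !isId 24 u && isId 24 (packPowS 24 u 11)) = true := by
  decide +kernel

theorem three_ok : (decide threeList.Nodup && threeList.length == 9 &&
    threeList.all (fun l => memPair l && canonNum l == l &&
      isId 24 (packMulS 24 (packMulS 24 l l) l)) &&
    threeList.contains (packId 24) &&
    threeList.all fun a => threeList.all fun b => threeList.contains (packMulS 24 a b)) = true := by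
  decide +kernel

theorem three_inverter_ok : (memPair Data.threeInverter && app Data.threeInverter 23 == 23 &&
    leftInvOK 24 (invPack 24 Data.threeInverter) Data.threeInverter &&
    threeList.all fun l =>
      isId 24 (packMulS 24 (conjNum Data.threeInverter (invPack 24 Data.threeInverter) l) l)) =
        true := by
  decide +kernel

end Cfsg.Agent.JankoFour
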