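import Cfsg.Agent.Lib.JankoFour.Interface

/-!
# The facts about an elementary subgroup of order 32 are invariant under isomorphisms
-/

set_option autoImplicit false

namespace Cfsg.Agent.JankoFour

open Subgroup
open scoped commutatorElement

variable {K K' : Type*} [Group K] [Group K']

/-- The four facts of `AutFacts` about one elementary subgroup of order 32. -/
structure ElemFacts (I U : Subgroup K) : Prop where
  not_le : ¬ U ≤ I
  center : ∀ k ∈ normalizer (U : Set K), (∀ m ∈ normalizer (U : Set K), Commute k m) → k = 1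
  moved : ∀ t ∈ I, t ∈ normalizer (U : Set K) → orderOf t = 3 →
    ∃ m ∈ I, m ∈ normalizer (U : Set K) ∧ ∀ n : ℕ, orderOf ⁅t, m⁆ ≠ 2 ^ n
  adjacent : ∃ h ∉ normalizer (U : Set K),
    16 ≤ Nat.card ↥(U ⊓ (normalizer (U : Set K)).map (MulAut.conj h).toMonoidHom) ∧
      ¬ (U ⊓ (normalizer (U : Set K)).map (MulAut.conj h).toMonoidHom) ≤ I

theorem normalizer_map_equiv (e : K ≃* K') (U : Subgroup K) :
    normalizer ((U.map e.toMonoidHom : Subgroup K') : Set K') =
      (normalizer (U : Set K)).map e.toMonoidHom :=
  (map_normalizer_eq_of_bijective U e.bijective).symm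

theorem mem_map_e (e : K ≃* K') {H : Subgroup K} {x : K'} :
    x ∈ H.map e.toMonoidHom ↔ e.symm x ∈ H := mem_map_equiv

theorem ElemFacts.map {I U : Subgroup K} (F : ElemFacts I U) (e : K ≃* K') :
    ElemFacts (I.map e.toMonoidHom) (U.map e.toMonoidHom) := by
  have hinj : Function.Injective e.toMonoidHom := e.injective
  refine ⟨fun h => F.not_le ((map_le_map_iff_of_injective hinj).1 h), ?_, ?_, ?_⟩
  · intro k hk hc
    rw [normalizer_map_equiv e, mem_map_e e] at hk
    have := F.center _ hk fun m hm => by
      have h := hc (e m) (by rw [normalizer_map_equiv e, mem_map_e e]; simpa using hm)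
      have h' := congrArg e.symm h.eq
      exact (by simpa using h' : e.symm k * m = m * e.symm k)
    simpa using congrArg e this
  · intro t ht hn ho
    rw [mem_map_e e] at ht
    rw [normalizer_map_equiv e, mem_map_e e] at hn
    obtain ⟨m, hmI, hmN, hm⟩ := F.moved _ ht hn (by rw [MulEquiv.orderOf_eq, ho])
    refine ⟨e m, by rw [mem_map_e e]; simpa using hmI,
      by rw [normalizer_map_equiv e, mem_map_e e]; simpa using hmN, fun n hn' => hm n ?_⟩
    rw [← hn', ← MulEquiv.orderOf_eq e, map_commutatorElement, MulEquiv.apply_symm_apply]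
  · obtain ⟨h, hh, hcard, hnle⟩ := F.adjacent
    have hcomp : ((normalizer (U : Set K)).map e.toMonoidHom).map (MulAut.conj (e h)).toMonoidHom =
        ((normalizer (U : Set K)).map (MulAut.conj h).toMonoidHom).map e.toMonoidHom := by
      rw [map_map, map_map]
      congr 1
      ext x
      simp
    refine ⟨e h, ?_, ?_, ?_⟩
    · rw [normalizer_map_equiv e, mem_map_e e]; simpa using hh
    · rw [normalizer_map_equiv e, hcomp, ← map_inf _ _ _ hinj, card_map_of_injective hinj]
      exact hcard
    · rw [normalizer_map_equiv e, hcomp, ← map_inf _ _ _ hinj]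
      exact fun hle => hnle ((map_le_map_iff_of_injective hinj).1 hle)

theorem IsThirtyTwo.map {U : Subgroup K} (h : IsThirtyTwo U) (e : K ≃* K') :
    IsThirtyTwo (U.map e.toMonoidHom) := by
  refine ⟨?_, by rw [card_map_of_injective (f := e.toMonoidHom) e.injective]; exact h.2⟩
  rintro _ ⟨a, ha, rfl⟩
  rw [← map_mul, h.1 a ha, map_one]

/-- `AutFacts` moves along an isomorphism. -/
theorem AutFacts.map {I : Subgroup K} (F : AutFacts I) (e : K ≃* K') {I' : Subgroup K'}
    (hI : I.map e.toMonoidHom = I') : AutFacts I' := by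
  subst hI
  have hinj : Function.Injective e.toMonoidHom := e.injective
  have hcard : ∀ H : Subgroup K, Nat.card ↥(H.map e.toMonoidHom) = Nat.card ↥H := fun H =>
    card_map_of_injective hinj
  have hback : ∀ U : Subgroup K', U = (U.map e.symm.toMonoidHom).map e.toMonoidHom := fun U => by
    ext x; simp [mem_map_equiv]
  have helem : ∀ U : Subgroup K', IsThirtyTwo U → ElemFacts (I.map e.toMonoidHom) U := fun U hU => by
    have hU' := hU.map e.symm
    rw [hback U]
    exact ElemFacts.map
      ⟨F.elem_not_le _ hU', F.elem_center _ hU', F.elem_moved _ hU', F.elem_adjacent _ hU'⟩ e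
  refine
    { index_two := ?_, inner_unique := ?_, simple := ?_, card_inner := ?_, invol_sq := ?_,
      invol_triple := ?_, elem_card := ?_,
      elem_not_le := fun U hU => (helem U hU).not_le,
      elem_center := fun U hU => (helem U hU).center,
      elem_moved := fun U hU => (helem U hU).moved,
      elem_adjacent := fun U hU => (helem U hU).adjacent,
      three_cent := ?_, three_exp := ?_, three_inv := ?_, three_norm := ?_ }
  · rw [show I.map e.toMonoidHom = I.map (e : K →* K') from rfl, index_map_equiv]; exact F.index_two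
  · intro L hL
    rw [hback L]
    congr 1
    refine F.inner_unique _ ?_
    rw [show L.map e.symm.toMonoidHom = L.map (e.symm : K' →* K) from rfl, index_map_equiv]
    exact hL
  · have := F.simple
    exact (e.subgroupMap I).isSimpleGroup_congr.1 this
  · rw [hcard]; exact F.card_inner
  · intro a ha ho
    rw [mem_map_e e] at ha
    obtain ⟨b, hb, hb2⟩ := F.invol_sq _ ha (by rw [MulEquiv.orderOf_eq, ho])
    exact ⟨e b, mem_map_of_mem _ hb, by rw [← map_mul, hb2, MulEquiv.apply_symm_apply]⟩
  · intro a ha ho
    rw [mem_map_e e] at ha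
    obtain ⟨k, hk, l, hl, h⟩ := F.invol_triple _ ha (by rw [MulEquiv.orderOf_eq, ho])
    refine ⟨e k, mem_map_of_mem _ hk, e l, mem_map_of_mem _ hl, ?_⟩
    rw [← h, ← MulEquiv.orderOf_eq e (e.symm a * (k * e.symm a * k⁻¹) * (l * e.symm a * l⁻¹))]
    congr 1
    simp
  · intro U hU
    rw [hback U, hcard]
    refine F.elem_card _ ?_
    rintro _ ⟨a, ha, rfl⟩
    rw [← map_mul, hU a ha, map_one]
  · intro t a ht hc hp
    rw [← MulEquiv.orderOf_eq e.symm] at ht hp ⊢
    exact F.three_cent _ _ ht (hc.map e.symm.toMonoidHom) hp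
  · intro a ha
    have h := F.three_exp (e.symm a) (by rw [← map_pow, ha, map_one])
    rw [← map_pow] at h
    exact e.symm.injective (h.trans (map_one _).symm)
  · intro Q hQ
    rw [hback Q, hcard] at hQ
    obtain ⟨k, hk, h⟩ := F.three_inv _ hQ
    refine ⟨e k, mem_map_of_mem _ hk, fun a ha => ?_⟩
    have := congrArg e (h (e.symm a) (mem_map_of_mem _ ha))
    simpa using this
  · intro Q hQ
    rw [hback Q, hcard] at hQ
    rw [hback Q, normalizer_map_equiv e, hcard]
    exact F.three_norm _ hQ

end Cfsg.Agent.JankoFour
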