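import Cfsg.Agent.Lib.JankoFour.AutNearChecks
import Cfsg.Agent.Lib.JankoFour.AutTransport

/-!
# Elementary subgroups of order 32 of the automorphism group of M₂₂

Every such subgroup is conjugate to `elemGrp`, and satisfies `ElemFacts`.
-/

set_option autoImplicit false

namespace Cfsg.Agent.JankoFour

open Cfsg Subgroup Cfsg.Agent.Mathieu
open scoped commutatorElement

/-- The subgroup with a list of packed elements. -/
def canonGrp (L : List ℕ) (h1 : packId 24 ∈ L)
    (h : (L.all fun a => L.all fun b => L.contains (packMulS 24 a b)) = true) : Subgroup ↥pairGrp where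
  carrier := {σ | canon (σ : Equiv.Perm GolayPt) ∈ L}
  mul_mem' := by
    intro σ τ hσ hτ
    simp only [List.all_eq_true, List.contains_iff_mem, packMulS_eq] at h
    show canon ((σ * τ : ↥pairGrp) : Equiv.Perm GolayPt) ∈ L
    rw [Subgroup.coe_mul, canon_mul]
    exact h _ hσ _ hτ
  one_mem' := by
    show canon ((1 : ↥pairGrp) : Equiv.Perm GolayPt) ∈ L
    rw [Subgroup.coe_one, canon_one]
    exact h1
  inv_mem' := by
    intro σ hσ
    simp only [List.all_eq_true, List.contains_iff_mem, packMulS_eq] at h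
    have hpow : ∀ k : ℕ, canon ((σ ^ k : ↥pairGrp) : Equiv.Perm GolayPt) ∈ L := by
      intro k
      induction k with
      | zero => rw [pow_zero, Subgroup.coe_one, canon_one]; exact h1
      | succ k ih => rw [pow_succ, Subgroup.coe_mul, canon_mul]; exact h _ ih _ hσ
    have hinv : σ⁻¹ = σ ^ (orderOf σ - 1) := inv_eq_of_mul_eq_one_right (by
      rw [← pow_succ', Nat.sub_add_cancel (orderOf_pos σ), pow_orderOf_eq_one])
    show canon ((σ⁻¹ : ↥pairGrp) : Equiv.Perm GolayPt) ∈ L
    rw [hinv]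
    exact hpow _

theorem mem_canonGrp {L : List ℕ} {h1 : packId 24 ∈ L}
    {h : (L.all fun a => L.all fun b => L.contains (packMulS 24 a b)) = true} {σ : ↥pairGrp} :
    σ ∈ canonGrp L h1 h ↔ canon (σ : Equiv.Perm GolayPt) ∈ L := Iff.rfl

/-- The standard elementary subgroup of order 32. -/
def elemGrp : Subgroup ↥pairGrp := canonGrp Data.elemList elem_one elem_closed

theorem mem_elemGrp {σ : ↥pairGrp} : σ ∈ elemGrp ↔ canon (σ : Equiv.Perm GolayPt) ∈ Data.elemList :=
  Iff.rfl

theorem card_elemGrp : Nat.card ↥elemGrp = 32 := by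
  rw [card_of_canon_list (fun _ => mem_elemGrp) elem_nodup elem_ok, elem_length]

theorem rep_of_mem {L : List ℕ} (hok : (L.all fun l => memPair l && canonNum l == l) = true) {l : ℕ}
    (hl : l ∈ L) : ∃ σ : ↥pairGrp, canon (σ : Equiv.Perm GolayPt) = l := by
  simp only [List.all_eq_true, Bool.and_eq_true, beq_iff_eq] at hok
  obtain ⟨σ, hσ⟩ := exists_rep_pair (hok l hl).1
  exact ⟨σ, by rw [canon_eq hσ, (hok l hl).2]⟩

theorem canon_conjNum {g x : ↥pairGrp} {lg lgi lx : ℕ} (hg : Rep ptEnc (g : Equiv.Perm GolayPt) lg)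
    (hgi : Rep ptEnc (g : Equiv.Perm GolayPt)⁻¹ lgi) (hx : Rep ptEnc (x : Equiv.Perm GolayPt) lx) :
    Rep ptEnc ((g * x * g⁻¹ : ↥pairGrp) : Equiv.Perm GolayPt) (conjNum lg lgi lx) := by
  rw [conjNum, packMulS_eq, packMulS_eq]
  exact rep_packMul (rep_packMul hg hx) hgi

theorem canonNum_packMul (a b : ℕ) : canonNum (packMul 24 a b) = packMul 24 a b := by
  unfold canonNum
  exact canon_congr fun i hi => Cfsg.Agent.Mathieu.app_packMul_aux (fun i => app a (app b i))
    (List.range 24) (fun _ _ => Nat.mod_lt _ (by norm_num)) i (by simpa using hi) |>.trans (by simp)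

theorem canon_of_conjNum {g x : ↥pairGrp} {lg lgi lx : ℕ} (hg : Rep ptEnc (g : Equiv.Perm GolayPt) lg)
    (hgi : Rep ptEnc (g : Equiv.Perm GolayPt)⁻¹ lgi) (hx : Rep ptEnc (x : Equiv.Perm GolayPt) lx) :
    canon ((g * x * g⁻¹ : ↥pairGrp) : Equiv.Perm GolayPt) = conjNum lg lgi lx := by
  rw [canon_eq (canon_conjNum hg hgi hx), conjNum, packMulS_eq, packMulS_eq, canonNum_packMul]

/-- A checked element normalises the group of the list. -/
theorem normList_spec {L : List ℕ} {h1 : packId 24 ∈ L}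
    {h : (L.all fun a => L.all fun b => L.contains (packMulS 24 a b)) = true} {g : ↥pairGrp} {l : ℕ}
    (hg : Rep ptEnc (g : Equiv.Perm GolayPt) l) (hl : normList L l = true) :
    g ∈ normalizer ((canonGrp L h1 h : Subgroup ↥pairGrp) : Set ↥pairGrp) := by
  simp only [normList, force_eq, Bool.and_eq_true, List.all_eq_true, List.contains_iff_mem] at hl
  obtain ⟨⟨-, hinv⟩, hall⟩ := hl
  have hle : (canonGrp L h1 h).map (MulAut.conj g).toMonoidHom ≤ canonGrp L h1 h := by
    rintro _ ⟨x, hx, rfl⟩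
    show canon ((g * x * g⁻¹ : ↥pairGrp) : Equiv.Perm GolayPt) ∈ L
    rw [canon_of_conjNum hg (hg.inv_of_leftInvOK hinv) (rep_canon _)]
    exact hall _ hx
  have heq := eq_of_le_of_card_ge hle
    (card_map_of_injective (f := (MulAut.conj g).toMonoidHom) (MulAut.conj g).injective).ge
  rw [mem_normalizer_iff]
  intro x
  constructor
  · exact fun hx => hle ⟨x, hx, rfl⟩
  · intro hx
    rw [← heq] at hx
    obtain ⟨y, hy, hxy⟩ := hx
    exact (MulAut.conj g).injective hxy ▸ hy

/-- A subgroup given by a list of realised packed elements. -/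
theorem card_of_canon_real {H : Subgroup ↥pairGrp} {L : List ℕ}
    (hmem : ∀ σ : ↥pairGrp, σ ∈ H ↔ canon (σ : Equiv.Perm GolayPt) ∈ L) (hnd : L.Nodup)
    (hreal : ∀ l ∈ L, ∃ σ : ↥pairGrp, canon (σ : Equiv.Perm GolayPt) = l) :
    Nat.card ↥H = L.length := by
  classical
  rw [← List.toFinset_card_of_nodup hnd, ← Nat.card_eq_finsetCard]
  refine Nat.card_congr (Equiv.ofBijective
    (fun σ => ⟨canon ((σ : ↥pairGrp) : Equiv.Perm GolayPt), List.mem_toFinset.2 ((hmem _).1 σ.2)⟩)
    ⟨fun σ τ h => ?_, ?_⟩)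
  · exact Subtype.ext (Subtype.ext (canon_injective (congrArg Subtype.val h)))
  · rintro ⟨l, hl⟩
    rw [List.mem_toFinset] at hl
    obtain ⟨σ, hσ⟩ := hreal l hl
    exact ⟨⟨σ, (hmem σ).2 (hσ ▸ hl)⟩, Subtype.ext hσ⟩

/-! ### The normaliser -/

/-- Setwise stabiliser of `{1, 2}` in `pairGrp`. -/
def nearGrp : Subgroup (Equiv.Perm GolayPt) := pairGrp ⊓ pairFix (idx ptEnc 1) (idx ptEnc 2)

theorem near_reps : ∀ t ∈ allReps nearLevels, ∃ σ ∈ nearGrp, Rep ptEnc σ t := by
  intro t ht
  suffices h : ∃ σ ∈ pairGrp, Rep ptEnc σ t by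
    obtain ⟨σ, hσ, hr⟩ := h
    refine ⟨σ, ⟨hσ, ?_⟩, hr⟩
    have hchk : ((allReps nearLevels).all fun t =>
        (app t 1 == 1 && app t 2 == 2) || (app t 1 == 2 && app t 2 == 1)) = true := by decide +kernel
    simp only [List.all_eq_true, Bool.and_eq_true, Bool.or_eq_true, beq_iff_eq] at hchk
    show σ ∈ pairFix _ _
    rw [mem_pairFix, apply_idx_eq_iff hr (show 1 < 24 by norm_num) (show 1 < 24 by norm_num),
      apply_idx_eq_iff hr (show 2 < 24 by norm_num) (show 2 < 24 by norm_num),
      apply_idx_eq_iff hr (show 1 < 24 by norm_num) (show 2 < 24 by norm_num),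
      apply_idx_eq_iff hr (show 2 < 24 by norm_num) (show 1 < 24 by norm_num)]
    exact hchk t ht
  simp only [nearLevels, allReps, List.flatMap_cons, List.mem_append, List.mem_cons,
    List.not_mem_nil, or_false] at ht
  rcases ht with (rfl | rfl) | (rfl | rfl) | ht
  · exact ⟨1, pairGrp.one_mem, rep_packId (by norm_num)⟩
  · obtain ⟨σ, hσ⟩ := exists_rep_pair memPair_swapFar
    exact ⟨σ, σ.2, hσ⟩
  · exact ⟨1, pairGrp.one_mem, rep_packId (by norm_num)⟩
  · obtain ⟨σ, hσ⟩ := exists_rep_pair (l := Data.swapNear) (by decide +kernel)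
    exact ⟨σ, σ.2, hσ⟩
  · refine exists_rep_M22 ?_
    simp only [List.mem_flatMap] at ht
    obtain ⟨p, hp, hpt⟩ := ht
    exact List.mem_flatMap.2 ⟨p, List.mem_of_mem_drop hp, hpt⟩

theorem near_list {g : Equiv.Perm GolayPt} (hg : g ∈ nearGrp) :
    ∃ l ∈ prodList 24 nearLevels, Rep ptEnc g l := by
  have hbases : (levels22.take 2).map (fun p => idx ptEnc p.1) = [idx ptEnc 1, idx ptEnc 2] := by
    have : (levels22.take 2).map (fun p => p.1) = [1, 2] := by decide +kernel
    rw [show (fun p : CertLevel => idx ptEnc p.1) = idx ptEnc ∘ Prod.fst from rfl, ← List.map_map, this]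
    rfl
  have hsplit := (upper_append (levels22.take 2) (levels22.drop 2) Spor.M22).1
    (by rw [List.take_append_drop]; exact M22_upper.1)
  have hle : nearGrp ⊓ MulAction.stabilizer _ (idx ptEnc 23) ⊓ MulAction.stabilizer _ (idx ptEnc 1) ≤
      fixList Spor.M22 ((levels22.take 2).map fun p => idx ptEnc p.1) := by
    intro σ hσ
    obtain ⟨⟨hN, h23⟩, h1⟩ := hσ
    rw [hbases, mem_fixList]
    have h23' : σ none = none := by
      have h : σ (idx ptEnc 23) = idx ptEnc 23 := h23
      rwa [idx_none] at h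
    have h1' : σ (idx ptEnc 1) = idx ptEnc 1 := h1
    refine ⟨mem_M22_of_fix hN.1 h23', List.forall_mem_cons.2 ⟨h1', List.forall_mem_singleton.2 ?_⟩⟩
    rcases hN.2 with ⟨-, h⟩ | ⟨h, h'⟩
    · exact h
    · rw [h1'] at h
      exact absurd h (by decide +kernel)
  have hup : Upper ptEnc nearGrp nearLevels := by
    refine ⟨fun σ hσ => ?_, fun σ hσ => ?_, upper_mono hle hsplit.2⟩
    · rcases (mem_pairGrp.1 hσ.1).2 with ⟨h, -⟩ | ⟨h, -⟩ <;> rw [idx_none, h]
      · rw [← idx_none, idx_val (by norm_num)]; simp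
      · rw [← idx_zero, idx_val (by norm_num)]; simp
    · rcases hσ.1.2 with ⟨h, -⟩ | ⟨h, -⟩ <;> rw [h, idx_val (by norm_num)] <;> simp
  have hbot : fixList nearGrp (nearLevels.map fun p => idx ptEnc p.1) = ⊥ := by
    rw [eq_bot_iff]
    intro σ hσ
    have h' : σ ∈ fixList (fixList Spor.M22 ((levels22.take 2).map fun p => idx ptEnc p.1))
        ((levels22.drop 2).map fun p => idx ptEnc p.1) := fixList_mono hle _ hσ
    rw [← M22_upper.2, mem_fixList]
    obtain ⟨h1, h2⟩ := mem_fixList.1 h'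
    obtain ⟨h3, h4⟩ := mem_fixList.1 h1
    refine ⟨h3, fun b hb => ?_⟩
    rw [← List.take_append_drop 2 levels22, List.map_append, List.mem_append] at hb
    rcases hb with hb | hb
    exacts [h4 b hb, h2 b hb]
  exact exists_mem_prodList_aux (H := nearGrp) (by norm_num) nearLevels [] nearGrp (by simp)
    (fun σ hσ _ => hσ) near_levels near_reps hup hbot g hg

theorem near_of_normalizer {k : ↥pairGrp}
    (hk : k ∈ normalizer (elemGrp : Set ↥pairGrp)) : (k : Equiv.Perm GolayPt) ∈ nearGrp := by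
  set l := canon (k : Equiv.Perm GolayPt) with hl
  have hr : Rep ptEnc (k : Equiv.Perm GolayPt) l := rep_canon _
  refine ⟨k.2, ?_⟩
  set p := idx ptEnc 1 with hp
  set q := idx ptEnc 2 with hq
  have hstd : ∀ a : ↥pairGrp, a ∈ elemGrp →
      ((a : Equiv.Perm GolayPt) p = p ∨ (a : Equiv.Perm GolayPt) p = q) ∧
      ((a : Equiv.Perm GolayPt) q = p ∨ (a : Equiv.Perm GolayPt) q = q) := by
    intro a ha
    have hchk : (Data.elemList.all fun l => (app l 1 == 1 || app l 1 == 2) &&
        (app l 2 == 1 || app l 2 == 2)) = true := by decide +kernel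
    simp only [List.all_eq_true, Bool.and_eq_true, Bool.or_eq_true, beq_iff_eq] at hchk
    have h := hchk _ ha
    simp only [hp, hq, apply_idx_eq_iff (rep_canon (a : Equiv.Perm GolayPt)) (show 1 < 24 by norm_num)
      (show 1 < 24 by norm_num), apply_idx_eq_iff (rep_canon (a : Equiv.Perm GolayPt))
      (show 1 < 24 by norm_num) (show 2 < 24 by norm_num), apply_idx_eq_iff
      (rep_canon (a : Equiv.Perm GolayPt)) (show 2 < 24 by norm_num) (show 1 < 24 by norm_num),
      apply_idx_eq_iff (rep_canon (a : Equiv.Perm GolayPt)) (show 2 < 24 by norm_num)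
      (show 2 < 24 by norm_num)]
    exact h
  set i := (ptEnc ((k : Equiv.Perm GolayPt) p)).val with hi
  set j := (ptEnc ((k : Equiv.Perm GolayPt) q)).val with hj
  have hki : (k : Equiv.Perm GolayPt) p = idx ptEnc i := (idx_self _).symm
  have hkj : (k : Equiv.Perm GolayPt) q = idx ptEnc j := (idx_self _).symm
  have hij : i ≠ j := by
    intro h
    rw [← h, ← hki] at hkj
    have := (k : Equiv.Perm GolayPt).injective hkj
    exact absurd this (by rw [hp, hq]; decide +kernel)
  have houtside : ∀ x : GolayPt, x ≠ none → x ≠ some 0 →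
      (ptEnc ((k : Equiv.Perm GolayPt) x)).val ≠ 23 ∧ (ptEnc ((k : Equiv.Perm GolayPt) x)).val ≠ 0 := by
    intro x hx hx'
    constructor <;> intro h
    all_goals
      have e := (idx_self (e := ptEnc) ((k : Equiv.Perm GolayPt) x)).symm
      rw [h] at e
      first
        | rw [idx_none] at e
        | rw [idx_zero] at e
      rcases (mem_pairGrp.1 k.2).2 with ⟨h1, h2⟩ | ⟨h1, h2⟩
      all_goals first
        | exact hx ((k : Equiv.Perm GolayPt).injective (e.trans h1.symm))
        | exact hx' ((k : Equiv.Perm GolayPt).injective (e.trans h2.symm))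
  have hi' := houtside p (by rw [hp]; decide +kernel) (by rw [hp]; decide +kernel)
  have hj' := houtside q (by rw [hq]; decide +kernel) (by rw [hq]; decide +kernel)
  have hinvar : ∀ a ∈ Data.elemList,
      (app a i = i ∨ app a i = j) ∧ (app a j = i ∨ app a j = j) := by
    intro l hl'
    obtain ⟨σ, rfl⟩ := rep_of_mem elem_ok hl'
    have hm : k⁻¹ * σ * k ∈ elemGrp := by
      have := (mem_normalizer_iff.1 (inv_mem hk) σ).1 hl'
      simpa using this
    have key : ∀ x, (σ : Equiv.Perm GolayPt) ((k : Equiv.Perm GolayPt) x) =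
        (k : Equiv.Perm GolayPt) (((k⁻¹ * σ * k : ↥pairGrp) : Equiv.Perm GolayPt) x) := by
      intro x; simp
    have hi24 : i < 24 := Fin.isLt _
    have hj24 : j < 24 := Fin.isLt _
    have hrep := rep_canon (σ : Equiv.Perm GolayPt)
    rw [← apply_idx_eq_iff hrep hi24 hi24, ← apply_idx_eq_iff hrep hi24 hj24,
      ← apply_idx_eq_iff hrep hj24 hi24, ← apply_idx_eq_iff hrep hj24 hj24, ← hki, ← hkj, key, key]
    obtain ⟨h1, h2⟩ := hstd _ hm
    constructor
    · rcases h1 with h | h <;> rw [h] <;> simp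
    · rcases h2 with h | h <;> rw [h] <;> simp
  have hpair := elem_pair
  simp only [List.all_eq_true, List.mem_range, Bool.or_eq_true, Bool.and_eq_true, beq_iff_eq,
    List.any_eq_true, Bool.not_eq_true', Bool.and_eq_false_iff, Bool.or_eq_false_iff,
    beq_eq_false_iff_ne] at hpair
  show (k : Equiv.Perm GolayPt) ∈ pairFix p q
  rw [mem_pairFix, hki, hkj]
  rcases hpair i (Fin.isLt _) j (Fin.isLt _) with
    ((((((h | h) | h) | h) | h) | ⟨a, ha, h⟩) | ⟨h1, h2⟩) | ⟨h1, h2⟩
  · exact absurd h hij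
  · exact absurd h hi'.1
  · exact absurd h hi'.2
  · exact absurd h hj'.1
  · exact absurd h hj'.2
  · obtain ⟨hA, hB⟩ := hinvar a ha
    rcases h with ⟨h1, h2⟩ | ⟨h1, h2⟩
    · rcases hA with h' | h'
      · exact absurd h' h1
      · exact absurd h' h2
    · rcases hB with h' | h'
      · exact absurd h' h1
      · exact absurd h' h2
  · left; rw [h1, h2]; exact ⟨rfl, rfl⟩
  · right; rw [h1, h2]; exact ⟨rfl, rfl⟩

/-! ### The facts -/

theorem two_pow_le {x : ↥pairGrp} {n : ℕ} (h : orderOf x = 2 ^ n) : x ^ 256 = 1 := by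
  have hd : 2 ^ n ∣ 256 * 3465 := by
    have := orderOf_dvd_natCard x
    rwa [h, card_pairGrp] at this
  rw [← orderOf_dvd_iff_pow_eq_one, h]
  exact (Nat.Coprime.pow_left n (by decide)).dvd_of_dvd_mul_right hd

theorem rep_pow256 {σ : Equiv.Perm GolayPt} {l : ℕ} (h : Rep ptEnc σ l) :
    Rep ptEnc (σ ^ 256) (pow256 l) := by
  simp only [pow256, force_eq, packMulS_eq, List.range_succ, List.range_zero, List.nil_append,
    List.cons_append, List.foldl_cons, List.foldl_nil]
  have e : σ ^ 256 = σ ^ (2 ^ 8) := by norm_num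
  rw [e]
  have step : ∀ {τ : Equiv.Perm GolayPt} {a : ℕ}, Rep ptEnc τ a →
      Rep ptEnc (τ * τ) (packMul 24 a a) := fun ha => rep_packMul ha ha
  simp only [pow_succ, pow_mul, pow_zero, pow_one, one_mul]
  simpa [pow_two] using step (step (step (step (step (step (step (step h)))))))

theorem elemGrp_facts : ElemFacts innerPair elemGrp := by
  refine ⟨?_, ?_, ?_, ?_⟩
  · intro hle
    have h := elem_outer
    simp only [List.any_eq_true, Bool.not_eq_true', beq_eq_false_iff_ne] at h
    obtain ⟨l, hl, h23⟩ := h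
    obtain ⟨σ, rfl⟩ := rep_of_mem elem_ok hl
    exact h23 ((fix_iff_app σ.2 (rep_canon _)).1 (hle hl))
  · intro k hk hc
    obtain ⟨l, hl, hr⟩ := near_list (near_of_normalizer hk)
    have h := near_center
    simp only [Bool.and_eq_true, List.all_eq_true, Bool.or_eq_true, List.any_eq_true,
      Bool.not_eq_true'] at h
    rcases h.2 l hl with h' | ⟨m, hm, h'⟩
    · exact Subtype.ext (hr.eq_one h')
    · exfalso
      have hnm := h.1 m hm
      have hmp : memPair m = true := by
        simp only [normList, Bool.and_eq_true] at hnm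
        exact hnm.1.1
      obtain ⟨μ, hμ⟩ := exists_rep_pair hmp
      rw [(commP_iff hr hμ).2 (congrArg Subtype.val (hc μ (normList_spec hμ hnm)).eq)] at h'
      exact Bool.noConfusion h'
  · intro t ht hn ho
    obtain ⟨l, hl, hr⟩ := near_list (near_of_normalizer hn)
    have h := near_moved
    simp only [Bool.and_eq_true, List.all_eq_true, Bool.or_eq_true, List.any_eq_true,
      Bool.not_eq_true', beq_iff_eq, beq_eq_false_iff_ne] at h
    rcases h.2 l hl with ((h' | h') | h') | ⟨hinv, m, hm, h'⟩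
    · exact absurd ((fix_iff_app t.2 hr).1 ht) h'
    · rw [show t = 1 from Subtype.ext (hr.eq_one h'), orderOf_one] at ho
      omega
    · exfalso
      have h3 : t * t * t = 1 := by rw [← pow_three', ← ho, pow_orderOf_eq_one]
      have hr3 : Rep ptEnc ((t * t * t : ↥pairGrp) : Equiv.Perm GolayPt)
          (packMulS 24 (packMulS 24 l l) l) := by
        rw [packMulS_eq, packMulS_eq]
        exact rep_packMul (rep_packMul hr hr) hr
      rw [h3, Subgroup.coe_one] at hr3
      rw [isId_of_rep_one hr3] at h'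
      exact Bool.noConfusion h'
    · obtain ⟨hnm, hm23⟩ := h.1 m hm
      have hnm' := hnm
      simp only [normList, Bool.and_eq_true] at hnm'
      obtain ⟨μ, hμ⟩ := exists_rep_pair hnm'.1.1
      refine ⟨μ, (fix_iff_app μ.2 hμ).2 hm23, normList_spec hμ hnm, fun n hn' => ?_⟩
      have hcomm : Rep ptEnc ((⁅t, μ⁆ : ↥pairGrp) : Equiv.Perm GolayPt)
          (packMulS 24 (conjNum l (invPack 24 l) m) (invPack 24 m)) := by
        rw [commutatorElement_def, packMulS_eq]
        exact rep_packMul (canon_conjNum hr (hr.inv_of_leftInvOK hinv) hμ)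
          (hμ.inv_of_leftInvOK hnm'.1.2)
      have h256 := rep_pow256 hcomm
      rw [← Subgroup.coe_pow, two_pow_le hn', Subgroup.coe_one] at h256
      rw [isId_of_rep_one h256] at h'
      exact Bool.noConfusion h'
  · have hm := far_moves
    have hmeet := far_meet
    have hsize := far_meet_size
    simp only [Bool.and_eq_true, List.any_eq_true, List.all_eq_true, Bool.not_eq_true',
      List.contains_iff_mem, decide_eq_true_eq] at hm hmeet hsize
    obtain ⟨⟨hmp, hinv⟩, a, ha, hna⟩ := hm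
    obtain ⟨⟨hnd, hlen⟩, b, hb, hb23⟩ := hsize
    obtain ⟨h, hh⟩ := exists_rep_pair hmp
    have hhi := hh.inv_of_leftInvOK hinv
    refine ⟨h, fun hN => ?_, ?_, ?_⟩
    · obtain ⟨σ, rfl⟩ := rep_of_mem elem_ok ha
      have h1 := (mem_normalizer_iff.1 hN σ).1 ha
      rw [mem_elemGrp, canon_of_conjNum hh hhi (rep_canon _)] at h1
      rw [List.contains_iff_mem.2 h1] at hna
      exact Bool.noConfusion hna
    · classical
      set W := elemGrp ⊓ (normalizer (elemGrp : Set ↥pairGrp)).map (MulAut.conj h).toMonoidHom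
      have hsub : ∀ x ∈ Data.farMeet, ∃ w ∈ W, canon ((w : ↥pairGrp) : Equiv.Perm GolayPt) = x := by
        intro x hx
        obtain ⟨hxA, hxn⟩ := hmeet x hx
        obtain ⟨σ, rfl⟩ := rep_of_mem elem_ok hxA
        refine ⟨σ, Subgroup.mem_inf.2 ⟨hxA, h⁻¹ * σ * h⁻¹⁻¹, normList_spec
          (canon_conjNum (g := h⁻¹) hhi (by simpa using hh) (rep_canon _)) hxn, ?_⟩, rfl⟩
        simp [mul_assoc]
      choose f hf hfc using hsub
      refine le_trans (le_trans hlen (le_of_eq (List.toFinset_card_of_nodup hnd).symm)) ?_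
      rw [← Nat.card_eq_finsetCard]
      refine Nat.card_le_card_of_injective
        (fun x : ↥Data.farMeet.toFinset =>
          (⟨f _ (List.mem_toFinset.1 x.2), hf _ (List.mem_toFinset.1 x.2)⟩ : ↥W)) fun x y hxy => ?_
      refine Subtype.ext ?_
      rw [← hfc _ (List.mem_toFinset.1 x.2), ← hfc _ (List.mem_toFinset.1 y.2)]
      exact congrArg (fun w : ↥W => canon ((w : ↥pairGrp) : Equiv.Perm GolayPt)) hxy
    · intro hle
      obtain ⟨hxA, hxn⟩ := hmeet b hb
      obtain ⟨σ, rfl⟩ := rep_of_mem elem_ok hxA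
      have hσ : σ ∈ elemGrp ⊓ (normalizer (elemGrp : Set ↥pairGrp)).map
          (MulAut.conj h).toMonoidHom :=
        Subgroup.mem_inf.2 ⟨hxA, h⁻¹ * σ * h⁻¹⁻¹, normList_spec
          (canon_conjNum (g := h⁻¹) hhi (by simpa using hh) (rep_canon _)) hxn, by simp [mul_assoc]⟩
      rw [(fix_iff_app σ.2 (rep_canon _)).1 (hle hσ)] at hb23
      exact absurd hb23 (by decide)

/-! ### The Sylow 2-subgroup -/

theorem pair_factorization {p k m : ℕ} (hp : p.Prime) (h : 887040 = p ^ k * m) (hm : ¬ p ∣ m)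
    (hm0 : m ≠ 0) : (Nat.card ↥pairGrp).factorization p = k := by
  rw [card_pairGrp, h, Nat.factorization_mul (pow_ne_zero _ hp.ne_zero) hm0,
    Nat.Prime.factorization_pow hp]
  simp [Nat.factorization_eq_zero_of_not_dvd hm]

/-- Elementary 2-subgroups have order at most 32, and those of order 32 are conjugate to `elemGrp`. -/
theorem elem_cases (U : Subgroup ↥pairGrp) (hU : ∀ u ∈ U, u * u = 1) :
    Nat.card ↥U ≤ 32 ∧ (Nat.card ↥U = 32 →
      ∃ c : ↥pairGrp, U.map (MulAut.conj c).toMonoidHom = elemGrp) := by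
  haveI : Fact (Nat.Prime 2) := ⟨Nat.prime_two⟩
  have hok := syl_ok
  simp only [List.all_eq_true, Bool.and_eq_true, beq_iff_eq] at hok
  obtain ⟨hgen, hcan⟩ := hok
  have hgens : genGroup ptEnc Data.sylGens ≤ pairGrp := genGroup_le fun σ l hl hσ =>
    memPair_sound hσ (hgen l hl)
  set S := (genGroup ptEnc Data.sylGens).subgroupOf pairGrp with hS
  have hmem : ∀ σ : ↥pairGrp, σ ∈ S ↔ canon (σ : Equiv.Perm GolayPt) ∈ sylList := by
    intro σ
    rw [hS, mem_subgroupOf, mem_genGroup_iff (by norm_num) syl_group]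
    constructor
    · rintro ⟨l, hl, hr⟩
      rw [canon_eq hr, hcan l hl]
      exact hl
    · exact fun h => ⟨_, h, rep_canon _⟩
  have hreal : ∀ l ∈ sylList, ∃ σ : ↥pairGrp, canon (σ : Equiv.Perm GolayPt) = l := by
    intro l hl
    obtain ⟨σ, hσ, hr⟩ := slpList_mem (e := ptEnc) syl_group hl
    exact ⟨⟨σ, hgens hσ⟩, by rw [← hcan l hl]; exact canon_eq hr⟩
  have hcard : Nat.card ↥S = 2 ^ (Nat.card ↥pairGrp).factorization 2 := by
    rw [card_of_canon_real hmem syl_nodup hreal, syl_length,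
      pair_factorization (k := 8) (m := 3465) Nat.prime_two (by norm_num) (by norm_num) (by norm_num)]
    norm_num
  have hP : IsPGroup 2 ↥U := fun u => ⟨1, Subtype.ext (by
    rw [pow_one, pow_two]; exact hU u u.2)⟩
  obtain ⟨P, hPle⟩ := hP.exists_le_sylow
  obtain ⟨c, hc⟩ := MulAction.exists_smul_eq ↥pairGrp P (Sylow.ofCard S hcard)
  set V := U.map (MulAut.conj c).toMonoidHom with hV
  have hVS : V ≤ S := by
    rintro _ ⟨u, hu, rfl⟩
    have : MulAut.conj c u ∈ ((c • P : Sylow 2 ↥pairGrp) : Subgroup ↥pairGrp) := by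
      rw [Sylow.coe_subgroup_smul]
      exact ⟨u, hPle hu, rfl⟩
    rw [hc] at this
    exact this
  have hV2 : ∀ v ∈ V, v * v = 1 := by
    rintro _ ⟨u, hu, rfl⟩
    rw [← map_mul, hU u hu, map_one]
  have hVc : Nat.card ↥V = Nat.card ↥U :=
    card_map_of_injective (f := (MulAut.conj c).toMonoidHom) (MulAut.conj c).injective
  have hres := elemCheck_sound hV2 7 [packId 24] _ syl_search List.mem_cons_self
    (fun u _ v _ hu' hv' => by
      rw [List.mem_singleton, ← canon_one] at hu' hv' ⊢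
      rw [Subgroup.coe_mul, canon_injective hu', canon_injective hv', one_mul])
    (fun u hu hu' => by
      rw [List.mem_filter, Bool.and_eq_true, Bool.not_eq_true', beq_eq_false_iff_ne]
      refine ⟨(hmem u).1 (hVS hu), fun h => hu' (List.mem_singleton.2 h), ?_⟩
      have h := rep_packMul (rep_canon (u : Equiv.Perm GolayPt)) (rep_canon (u : Equiv.Perm GolayPt))
      rw [← Subgroup.coe_mul, hV2 u hu, Subgroup.coe_one] at h
      rw [packMulS_eq]
      exact isId_of_rep_one h)
    (fun l hl => ⟨1, V.one_mem, by rw [List.mem_singleton.1 hl, Subgroup.coe_one, canon_one]⟩)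
  refine ⟨hVc ▸ hres.1, fun h32 => ⟨c, ?_⟩⟩
  refine eq_of_le_of_card_ge (fun v hv => mem_elemGrp.2 (hres.2 (hVc.trans h32) v hv)) ?_
  rw [card_elemGrp, hVc, h32]

theorem thirtyTwo_facts (U : Subgroup ↥pairGrp) (hU : IsThirtyTwo U) : ElemFacts innerPair U := by
  obtain ⟨c, hc⟩ := (elem_cases U hU.1).2 hU.2
  haveI : innerPair.Normal := normal_of_index_eq_two innerPair_index
  have h := elemGrp_facts.map (MulAut.conj c⁻¹)
  have hI : innerPair.map (MulAut.conj c⁻¹).toMonoidHom = innerPair := by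
    ext x
    simp only [mem_map_equiv]
    constructor
    · intro hx
      have := Subgroup.Normal.conj_mem ‹innerPair.Normal› _ hx c⁻¹
      simpa [mul_assoc] using this
    · intro hx
      have := Subgroup.Normal.conj_mem ‹innerPair.Normal› _ hx c
      simpa [mul_assoc] using this
  have hU' : elemGrp.map (MulAut.conj c⁻¹).toMonoidHom = U := by
    rw [← hc, map_map]
    ext x
    simp [mul_assoc]
  rwa [hI, hU'] at h

end Cfsg.Agent.JankoFour
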