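import Cfsg.Agent.Lib.JankoFour.PairModel
import Cfsg.Agent.Lib.Mathieu.ListGroup

/-!
# Search for elementary abelian subgroups in packed form
-/

set_option autoImplicit false

namespace Cfsg.Agent.JankoFour

open Cfsg Cfsg.Agent.Mathieu

/-- Each elementary subgroup is reached through the least new element at each stage; those of order 32
must consist of elements of `A`, and none is bigger. -/
def elemCheck (A : List ℕ) : ℕ → List ℕ → List ℕ → Bool
  | 0, _, _ => false
  | k + 1, span, cands =>
    (Nat.blt span.length 32 || (span.length == 32 && span.all A.contains)) &&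
      cands.all fun g => force g fun g =>
        span.contains g || (span.map fun x => packMulS 24 x g).any (fun c => Nat.blt c g) ||
          elemCheck A k (span ++ span.map fun x => packMulS 24 x g)
            (cands.filter fun h => Nat.blt g h && commP 24 g h)

theorem elemCheck_sound {A : List ℕ} {U : Subgroup ↥pairGrp} (hU : ∀ u ∈ U, u * u = 1) :
    ∀ (k : ℕ) (span cands : List ℕ), elemCheck A k span cands = true → packId 24 ∈ span →
      (∀ u ∈ U, ∀ v ∈ U, canon u ∈ span → canon v ∈ span → canon (u * v : ↥pairGrp) ∈ span) →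
      (∀ u ∈ U, canon u ∉ span → canon u ∈ cands) →
      (∀ l ∈ span, ∃ u ∈ U, canon u = l) →
      Nat.card ↥U ≤ 32 ∧ (Nat.card ↥U = 32 → ∀ u ∈ U, canon u ∈ A) := by
  classical
  intro k
  induction k with
  | zero => intro span cands h; exact absurd h (by simp [elemCheck])
  | succ k ih =>
    intro span cands h hone hclosed hcands hreal
    simp only [elemCheck, Bool.and_eq_true, Bool.or_eq_true, Nat.blt_eq, beq_iff_eq,
      List.all_eq_true, List.any_eq_true, List.contains_iff_mem, force_eq, List.mem_map] at h
    obtain ⟨hnode, hrec⟩ := h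
    have hcomm : ∀ u ∈ U, ∀ v ∈ U, u * v = v * u := fun u hu v hv => by
      have h1 : (u * v)⁻¹ = u * v := inv_eq_of_mul_eq_one_right (hU _ (U.mul_mem hu hv))
      rw [mul_inv_rev, inv_eq_of_mul_eq_one_right (hU u hu),
        inv_eq_of_mul_eq_one_right (hU v hv)] at h1
      exact h1.symm
    by_cases hall : ∀ u ∈ U, canon u ∈ span
    · have hle : Nat.card ↥U ≤ span.length := by
        refine le_trans ?_ (List.toFinset_card_le span)
        rw [← Nat.card_eq_finsetCard]
        refine Nat.card_le_card_of_injective
          (fun u : ↥U => (⟨canon (u : ↥pairGrp), List.mem_toFinset.2 (hall _ u.2)⟩ : ↥span.toFinset))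
          fun u v huv => ?_
        exact Subtype.ext (Subtype.ext (canon_injective (congrArg Subtype.val huv)))
      rcases hnode with hlt | ⟨heq, hA⟩
      · exact ⟨by omega, fun h32 => by omega⟩
      · exact ⟨by omega, fun _ u hu => hA _ (hall u hu)⟩
    · push Not at hall
      obtain ⟨u₀, hu₀, hu₀'⟩ := hall
      have hQ : ∃ c, ∃ u ∈ U, canon u = c ∧ c ∉ span := ⟨_, u₀, hu₀, rfl, hu₀'⟩
      obtain ⟨g, hg, hgc, hgspan⟩ := Nat.find_spec hQ
      rw [← hgc] at hgspan
      have hmin : ∀ u ∈ U, canon u ∉ span → canon g ≤ canon u := fun u hu hu' =>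
        hgc ▸ Nat.find_min' hQ ⟨u, hu, rfl, hu'⟩
      have hpack : ∀ x : ↥pairGrp, canon (x * g : ↥pairGrp) = packMulS 24 (canon x) (canon g) :=
        fun x => by rw [packMulS_eq, Subgroup.coe_mul, canon_mul]
      have hgg : ∀ x : ↥pairGrp, x * g * g = x := fun x => by rw [mul_assoc, hU g hg, mul_one]
      rcases hrec _ (hcands g hg hgspan) with (h1 | ⟨c, ⟨x, hx, rfl⟩, hlt⟩) | hsub
      · exact absurd h1 hgspan
      · exfalso
        obtain ⟨w, hw, rfl⟩ := hreal x hx
        rw [← hpack] at hlt
        by_cases hin : canon (w * g : ↥pairGrp) ∈ span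
        · have := hclosed w hw _ (U.mul_mem hw hg) hx hin
          rw [← mul_assoc, hU w hw, one_mul] at this
          exact hgspan this
        · have := hmin _ (U.mul_mem hw hg) hin
          omega
      · have hmem : ∀ u ∈ U, canon u ∈ span ++ (span.map fun x => packMulS 24 x (canon g)) ↔
            canon u ∈ span ∨ canon (u * g : ↥pairGrp) ∈ span := by
          intro u hu
          rw [List.mem_append, List.mem_map]
          refine or_congr_right ⟨?_, fun hx => ⟨_, hx, by rw [← hpack, hgg]⟩⟩
          rintro ⟨x, hx, hxu⟩
          obtain ⟨w, hw, rfl⟩ := hreal x hx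
          rw [← hpack] at hxu
          have hwu : w * g = u := Subtype.ext (canon_injective hxu)
          rwa [← hwu, hgg]
        refine ih _ _ hsub (List.mem_append_left _ hone) ?_ ?_ ?_
        · intro u hu v hv hu' hv'
          rw [hmem _ hu] at hu'
          rw [hmem _ hv] at hv'
          rw [hmem _ (U.mul_mem hu hv)]
          rcases hu' with hu' | hu' <;> rcases hv' with hv' | hv'
          · exact Or.inl (hclosed u hu v hv hu' hv')
          · exact Or.inr (by rw [mul_assoc]; exact hclosed u hu _ (U.mul_mem hv hg) hu' hv')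
          · refine Or.inr ?_
            rw [mul_assoc, hcomm v hv g hg, ← mul_assoc]
            exact hclosed _ (U.mul_mem hu hg) v hv hu' hv'
          · refine Or.inl ?_
            have := hclosed _ (U.mul_mem hu hg) _ (U.mul_mem hv hg) hu' hv'
            rwa [hcomm v hv g hg, ← mul_assoc, hgg u] at this
        · intro u hu hu'
          rw [hmem _ hu, not_or] at hu'
          refine List.mem_filter.2 ⟨hcands u hu hu'.1, ?_⟩
          rw [Bool.and_eq_true, Nat.blt_eq]
          refine ⟨lt_of_le_of_ne (hmin u hu hu'.1) fun heq => hu'.2 ?_,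
            (commP_iff (rep_canon _) (rep_canon _)).2 (congrArg Subtype.val (hcomm g hg u hu))⟩
          have hgu : g = u := Subtype.ext (canon_injective heq)
          subst hgu
          rw [hU g hg, Subgroup.coe_one, canon_one]
          exact hone
        · intro l hl
          rcases List.mem_append.1 hl with hl | hl
          · exact hreal l hl
          · obtain ⟨x, hx, rfl⟩ := List.mem_map.1 hl
            obtain ⟨w, hw, rfl⟩ := hreal x hx
            exact ⟨w * g, U.mul_mem hw hg, hpack w⟩

end Cfsg.Agent.JankoFour
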