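import Cfsg.Agent.Lib.JankoFour.AutThree

/-!
# The facts on the automorphism group of M₂₂
-/

set_option autoImplicit false

namespace Cfsg.Agent.JankoFour

open Cfsg Subgroup Cfsg.Agent.Mathieu

theorem innerPair_unique (L : Subgroup ↥pairGrp) (hL : L.index = 2) : L = innerPair := by
  haveI hn : L.Normal := normal_of_index_eq_two hL
  haveI hs : IsSimpleGroup ↥innerPair :=
    (Subgroup.subgroupOfEquivOfLe M22_le).isSimpleGroup_congr.2 isSimple_M22
  have hcard : Nat.card ↥L = 443520 := by
    have h := L.card_mul_index
    rw [hL, card_pairGrp] at h
    omega
  rcases (IsSimpleGroup.eq_bot_or_eq_top_of_normal (L.subgroupOf innerPair) inferInstance) with h | h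
  · exfalso
    rw [subgroupOf_eq_bot, disjoint_iff] at h
    have h2 := Subgroup.index_inf_le (H := L) (K := innerPair)
    rw [h, index_bot, card_pairGrp, hL, innerPair_index] at h2
    omega
  · rw [subgroupOf_eq_top] at h
    exact (eq_of_le_of_card_ge h (by rw [hcard, card_innerPair])).symm

theorem autFacts_pair : AutFacts innerPair where
  index_two := innerPair_index
  inner_unique := innerPair_unique
  simple := (Subgroup.subgroupOfEquivOfLe M22_le).isSimpleGroup_congr.2 isSimple_M22
  card_inner := card_innerPair
  invol_sq := invol_sq
  invol_triple := invol_triple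
  elem_card U hU := (elem_cases U hU).1
  elem_not_le U hU := (thirtyTwo_facts U hU).not_le
  elem_center U hU := (thirtyTwo_facts U hU).center
  elem_moved U hU := (thirtyTwo_facts U hU).moved
  elem_adjacent U hU := (thirtyTwo_facts U hU).adjacent
  three_cent := three_cent
  three_exp := three_exp
  three_inv := three_inv
  three_norm := three_norm

/-- The facts used about the automorphism group of M₂₂. -/
theorem autFacts : AutFacts innerM22 := autFacts_pair.map pairEquiv map_innerPair

end Cfsg.Agent.JankoFour
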