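import Cfsg.Agent.Lib.JankoFour.AutChecks

/-!
# Kernel computations: the normaliser of the elementary subgroup of order 32
-/

set_option autoImplicit false
set_option maxRecDepth 100000

namespace Cfsg.Agent.JankoFour

open Cfsg Cfsg.Agent.Mathieu

theorem near_center : (Data.centerProbes.all (normList Data.elemList) &&
    (prodList 24 nearLevels).all fun l =>
      isId 24 l || Data.centerProbes.any fun m => !commP 24 l m) = true := by decide +kernel

theorem near_moved : (Data.movers.all (fun m => normList Data.elemList m && app m 23 == 23) &&
    (prodList 24 nearLevels).all fun l =>
      !(app l 23 == 23) || isId 24 l || !isId 24 (packMulS 24 (packMulS 24 l l) l) ||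
        (leftInvOK 24 (invPack 24 l) l && Data.movers.any fun m =>
          !isId 24 (pow256 (packMulS 24 (conjNum l (invPack 24 l) m) (invPack 24 m))))) = true := by
  decide +kernel

end Cfsg.Agent.JankoFour
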