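import Cfsg.Agent.Lib.JankoFour.AutThreeSearch

/-!
# Kernel computations: the Sylow 3-normaliser
-/

set_option autoImplicit false
set_option maxRecDepth 100000

namespace Cfsg.Agent.JankoFour

open Cfsg Cfsg.Agent.Mathieu

theorem threeNorm_eq : threeNorm = Data.threeSolutions.flatten.filter fun g =>
    threeList.contains (conjNum g (invPack 24 g) (Data.threeGens.getD 1 0)) := by
  obtain ⟨p, q, hpq, -⟩ := three_gens
  have h := three_solutions_eq
  simp only [hpq, List.getD_cons_zero] at h
  rw [← h, List.filter_flatten, List.map_map, threeNorm, hpq]
  rfl

theorem three_norm_ok : (decide threeNorm.Nodup && threeNorm.length == 144 &&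
    threeNorm.all fun g => normList threeList g && canonNum g == g) = true := by
  rw [threeNorm_eq]
  decide +kernel

theorem three_cent_ok : (threeList.all (fun v => isId 24 v ||
      threeNorm.any fun g => conjNum g (invPack 24 g) (Data.threeGens.getD 0 0) == v) &&
    (solutions 24 (Data.threeGens.getD 0 0) (Data.threeGens.getD 0 0) pairLevels).all fun g =>
      isId 24 (pow72 g)) = true := by
  have hfirst : (threeList.filter fun v => !isId 24 v)[0]? = some (Data.threeGens.getD 0 0) := by
    decide +kernel
  have h := congrArg (fun L => L[0]?) three_solutions_eq
  simp only [List.getElem?_map, hfirst, Option.map_some] at h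
  have hd : Data.threeSolutions[0]? = some (Data.threeSolutions.headD []) := by decide +kernel
  rw [hd] at h
  rw [Option.some.inj h, threeNorm_eq]
  decide +kernel

theorem three_solutions_ok : ((threeList.filter fun v => !isId 24 v).all fun v =>
    (solutions 24 (Data.threeGens.getD 0 0) v pairLevels).all fun g =>
      leftInvOK 24 (invPack 24 g) g) = true := by
  have h : (Data.threeSolutions.all fun S => S.all fun g => leftInvOK 24 (invPack 24 g) g) = true := by
    decide +kernel
  rw [← three_solutions_eq, List.all_map] at h
  exact h

end Cfsg.Agent.JankoFour
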