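import Cfsg.Agent.Lib.JankoFour.AutElem
import Cfsg.Agent.Lib.JankoFour.AutThreeChecks

/-!
# Elements of order 3 and involutions of the automorphism group of M₂₂
-/

set_option autoImplicit false

namespace Cfsg.Agent.JankoFour

open Cfsg Subgroup Cfsg.Agent.Mathieu

theorem three_ok_spec : threeList.Nodup ∧ threeList.length = 9 ∧
    (threeList.all fun l => memPair l && canonNum l == l) = true ∧
    (∀ l ∈ threeList, isId 24 (packMulS 24 (packMulS 24 l l) l) = true) ∧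
    packId 24 ∈ threeList ∧
    (threeList.all fun a => threeList.all fun b => threeList.contains (packMulS 24 a b)) = true := by
  have h := three_ok
  simp only [Bool.and_eq_true, decide_eq_true_eq, beq_iff_eq, List.contains_iff_mem,
    List.all_eq_true] at h ⊢
  exact ⟨h.1.1.1.1, h.1.1.1.2, fun l hl => (h.1.1.2 l hl).1, fun l hl => (h.1.1.2 l hl).2,
    h.1.2, h.2⟩

/-- The standard Sylow 3-subgroup. -/
def threeGrp : Subgroup ↥pairGrp :=
  canonGrp threeList three_ok_spec.2.2.2.2.1 three_ok_spec.2.2.2.2.2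

theorem mem_threeGrp {σ : ↥pairGrp} :
    σ ∈ threeGrp ↔ canon (σ : Equiv.Perm GolayPt) ∈ threeList := Iff.rfl

theorem card_threeGrp : Nat.card ↥threeGrp = 9 := by
  rw [card_of_canon_list (fun _ => mem_threeGrp) three_ok_spec.1 three_ok_spec.2.2.1,
    three_ok_spec.2.1]

theorem three_factorization : (Nat.card ↥pairGrp).factorization 3 = 2 :=
  pair_factorization (m := 98560) (by norm_num) (by norm_num) (by norm_num) (by norm_num)

theorem exists_conj_threeGrp {Q : Subgroup ↥pairGrp} (hQ : IsPGroup 3 ↥Q) :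
    ∃ c : ↥pairGrp, Q.map (MulAut.conj c).toMonoidHom ≤ threeGrp := by
  haveI : Fact (Nat.Prime 3) := ⟨Nat.prime_three⟩
  obtain ⟨P, hP⟩ := hQ.exists_le_sylow
  obtain ⟨c, hc⟩ := MulAction.exists_smul_eq ↥pairGrp P
    (Sylow.ofCard threeGrp (by rw [card_threeGrp, three_factorization]; norm_num))
  refine ⟨c, ?_⟩
  rintro _ ⟨u, hu, rfl⟩
  have : MulAut.conj c u ∈ ((c • P : Sylow 3 ↥pairGrp) : Subgroup ↥pairGrp) := by
    rw [Sylow.coe_subgroup_smul]
    exact ⟨u, hP hu, rfl⟩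
  rwa [hc] at this

theorem exists_conj_eq_threeGrp {Q : Subgroup ↥pairGrp} (hQ : Nat.card ↥Q = 9) :
    ∃ c : ↥pairGrp, Q.map (MulAut.conj c).toMonoidHom = threeGrp := by
  obtain ⟨c, hc⟩ := exists_conj_threeGrp (Q := Q) (IsPGroup.of_card (n := 2) (by rw [hQ]; norm_num))
  refine ⟨c, eq_of_le_of_card_ge hc ?_⟩
  rw [card_threeGrp, card_map_of_injective (f := (MulAut.conj c).toMonoidHom) (MulAut.conj c).injective,
    hQ]

theorem exists_conj_mem_threeGrp {a : ↥pairGrp} {k : ℕ} (ha : a ^ 3 ^ k = 1) :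
    ∃ c : ↥pairGrp, c * a * c⁻¹ ∈ threeGrp := by
  haveI : Fact (Nat.Prime 3) := ⟨Nat.prime_three⟩
  obtain ⟨j, -, hj⟩ := (Nat.dvd_prime_pow Nat.prime_three).1 (orderOf_dvd_of_pow_eq_one ha)
  obtain ⟨c, hc⟩ := exists_conj_threeGrp (Q := zpowers a)
    (IsPGroup.of_card (n := j) (by rw [Nat.card_zpowers, hj]))
  exact ⟨c, hc ⟨a, mem_zpowers a, rfl⟩⟩

theorem three_exp (a : ↥pairGrp) (ha : a ^ 9 = 1) : a ^ 3 = 1 := by
  obtain ⟨c, hc⟩ := exists_conj_mem_threeGrp (a := a) (k := 2) (by norm_num; exact ha)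
  have h := three_ok_spec.2.2.2.1 _ hc
  have hr := rep_packMul (rep_packMul (rep_canon ((c * a * c⁻¹ : ↥pairGrp) : Equiv.Perm GolayPt))
    (rep_canon ((c * a * c⁻¹ : ↥pairGrp) : Equiv.Perm GolayPt)))
    (rep_canon ((c * a * c⁻¹ : ↥pairGrp) : Equiv.Perm GolayPt))
  rw [packMulS_eq, packMulS_eq] at h
  have h1 : c * a * c⁻¹ * (c * a * c⁻¹) * (c * a * c⁻¹) = 1 := Subtype.ext (hr.eq_one h)
  rw [show c * a * c⁻¹ * (c * a * c⁻¹) * (c * a * c⁻¹) = c * a ^ 3 * c⁻¹ by simp [pow_succ, mul_assoc]] at h1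
  simpa using conj_eq_one_iff.1 h1

theorem rep_pow72 {σ : Equiv.Perm GolayPt} {l : ℕ} (h : Rep ptEnc σ l) :
    Rep ptEnc (σ ^ 72) (pow72 l) := by
  simp only [pow72, force_eq, packMulS_eq]
  have r1 := rep_packMul h h
  have r2 := rep_packMul r1 r1
  have r3 := rep_packMul r2 r2
  have r4 := rep_packMul r3 r3
  have r5 := rep_packMul r4 r4
  have r6 := rep_packMul r5 r5
  have r7 := rep_packMul r6 r3
  have e : σ ^ 72 = σ ^ 64 * σ ^ 8 := by rw [← pow_add]
  rw [e]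
  simp only [← pow_two, ← pow_mul] at r7
  norm_num at r7
  exact r7

theorem three_cent (t a : ↥pairGrp) (ht : orderOf t = 3) (hc : Commute t a)
    (hp : Nat.Prime (orderOf a)) : orderOf a ≤ 3 := by
  obtain ⟨c, hct⟩ := exists_conj_mem_threeGrp (a := t) (k := 1)
    (by rw [pow_one, ← ht, pow_orderOf_eq_one])
  set t' := c * t * c⁻¹ with ht'
  set a' := c * a * c⁻¹ with ha'
  have ho : orderOf a' = orderOf a := MulEquiv.orderOf_eq (MulAut.conj c) a
  have hcomm : Commute t' a' := hc.map (MulAut.conj c).toMonoidHom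
  have h := three_cent_ok
  simp only [Bool.and_eq_true, List.all_eq_true, Bool.or_eq_true, List.any_eq_true, beq_iff_eq] at h
  obtain ⟨htrans, hall⟩ := h
  rcases htrans _ hct with h' | ⟨g, hg, hgv⟩
  · exfalso
    have h1 : t' = 1 := Subtype.ext ((rep_canon _).eq_one h')
    rw [ht', conj_eq_one_iff] at h1
    rw [h1, orderOf_one] at ht
    omega
  · have hnok := three_norm_ok
    simp only [Bool.and_eq_true, List.all_eq_true, normList, beq_iff_eq] at hnok
    obtain ⟨⟨⟨hgm, hgi⟩, -⟩, -⟩ := hnok.2 g hg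
    obtain ⟨γ, hγ⟩ := exists_rep_pair hgm
    obtain ⟨π, hπ⟩ := exists_rep_pair (l := Data.threeGens.getD 0 0) (by decide +kernel)
    have hγπ : γ * π * γ⁻¹ = t' := Subtype.ext (canon_injective (by
      rw [canon_of_conjNum hγ (hγ.inv_of_leftInvOK hgi) hπ]; exact hgv))
    have hcomm' : Commute π (γ⁻¹ * a' * γ) := by
      have h2 := hcomm.map (MulAut.conj γ⁻¹).toMonoidHom
      simpa [← hγπ, mul_assoc] using h2
    obtain ⟨l, hl, hr⟩ := pairStab_cert.exists_solution hπ hπ (γ⁻¹ * a' * γ).2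
      (congrArg Subtype.val hcomm'.eq.symm)
    have h1 : (γ⁻¹ * a' * γ) ^ 72 = 1 := Subtype.ext (by
      rw [Subgroup.coe_pow]
      exact (rep_pow72 hr).eq_one (hall l hl))
    have h72 : a' ^ 72 = 1 := by
      have h2 : MulAut.conj γ⁻¹ a' = γ⁻¹ * a' * γ := by simp
      rw [← h2, ← map_pow] at h1
      exact (MulAut.conj γ⁻¹).map_eq_one_iff.1 h1
    have hd : orderOf a ∣ 2 ^ 3 * 3 ^ 2 := by
      rw [← ho]; exact orderOf_dvd_of_pow_eq_one (by norm_num; exact h72)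
    rcases (Nat.Prime.dvd_mul hp).1 hd with h2 | h2
    · have := (Nat.prime_dvd_prime_iff_eq hp Nat.prime_two).1 (hp.dvd_of_dvd_pow h2); omega
    · have := (Nat.prime_dvd_prime_iff_eq hp Nat.prime_three).1 (hp.dvd_of_dvd_pow h2); omega

theorem three_inv (Q : Subgroup ↥pairGrp) (hQ : Nat.card ↥Q = 9) :
    ∃ k ∈ innerPair, ∀ a ∈ Q, k * a * k⁻¹ = a⁻¹ := by
  obtain ⟨c, hc⟩ := exists_conj_eq_threeGrp hQ
  have h := three_inverter_ok
  simp only [Bool.and_eq_true, List.all_eq_true, beq_iff_eq] at h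
  obtain ⟨⟨⟨hm, h23⟩, hinv⟩, hall⟩ := h
  obtain ⟨k, hk⟩ := exists_rep_pair hm
  haveI hn : innerPair.Normal := normal_of_index_eq_two innerPair_index
  refine ⟨c⁻¹ * k * c, ?_, fun a ha => ?_⟩
  · have := hn.conj_mem k ((fix_iff_app k.2 hk).2 h23) c⁻¹
    simpa using this
  · have hb : c * a * c⁻¹ ∈ threeGrp := hc ▸ ⟨a, ha, rfl⟩
    have hchk := hall _ hb
    rw [packMulS_eq] at hchk
    have hprod : k * (c * a * c⁻¹) * k⁻¹ * (c * a * c⁻¹) = 1 :=
      Subtype.ext ((rep_packMul (canon_conjNum hk (hk.inv_of_leftInvOK hinv) (rep_canon _))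
        (rep_canon _)).eq_one hchk)
    have h2 : k * (c * a * c⁻¹) * k⁻¹ = (c * a * c⁻¹)⁻¹ := eq_inv_of_mul_eq_one_left hprod
    calc c⁻¹ * k * c * a * (c⁻¹ * k * c)⁻¹ = c⁻¹ * (k * (c * a * c⁻¹) * k⁻¹) * c := by group
      _ = c⁻¹ * (c * a * c⁻¹)⁻¹ * c := by rw [h2]
      _ = a⁻¹ := by group

theorem mem_threeNorm_iff (σ : ↥pairGrp) :
    σ ∈ normalizer (threeGrp : Set ↥pairGrp) ↔ canon (σ : Equiv.Perm GolayPt) ∈ threeNorm := by
  have hok := three_norm_ok
  simp only [Bool.and_eq_true, decide_eq_true_eq, beq_iff_eq, List.all_eq_true] at hok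
  constructor
  · intro hσ
    obtain ⟨p, q, hpq, hp, hq, hp1⟩ := three_gens
    obtain ⟨π, rfl⟩ := rep_of_mem three_ok_spec.2.2.1 hp
    obtain ⟨ρ, rfl⟩ := rep_of_mem three_ok_spec.2.2.1 hq
    have hv : σ * π * σ⁻¹ ∈ threeGrp := (mem_normalizer_iff.1 hσ π).1 hp
    have hw : σ * ρ * σ⁻¹ ∈ threeGrp := (mem_normalizer_iff.1 hσ ρ).1 hq
    have hv1 : isId 24 (canon ((σ * π * σ⁻¹ : ↥pairGrp) : Equiv.Perm GolayPt)) = false := by
      rw [Bool.eq_false_iff]
      intro h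
      have h1 : σ * π * σ⁻¹ = 1 := Subtype.ext ((rep_canon _).eq_one h)
      rw [conj_eq_one_iff] at h1
      rw [h1, Subgroup.coe_one, isId_of_rep_one (rep_canon _)] at hp1
      exact Bool.noConfusion hp1
    obtain ⟨l, hl, hr⟩ := pairStab_cert.exists_solution (rep_canon (π : Equiv.Perm GolayPt))
      (rep_canon ((σ * π * σ⁻¹ : ↥pairGrp) : Equiv.Perm GolayPt)) σ.2 (by simp [mul_assoc])
    have hperm : leftInvOK 24 (invPack 24 l) l = true := by
      have hall := three_solutions_ok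
      simp only [List.all_eq_true, List.mem_filter, Bool.not_eq_true'] at hall
      rw [hpq] at hall
      exact hall _ ⟨hv, hv1⟩ l hl
    have hlf : l ∈ threeNorm := by
      rw [threeNorm, hpq]
      refine List.mem_flatMap.2 ⟨_, List.mem_filter.2 ⟨hv, by rw [hv1]; rfl⟩,
        List.mem_filter.2 ⟨hl, List.contains_iff_mem.2 ?_⟩⟩
      rw [← canon_of_conjNum hr (hr.inv_of_leftInvOK hperm) (rep_canon (ρ : Equiv.Perm GolayPt))]
      exact hw
    rw [canon_eq hr, (hok.2 l hlf).2]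
    exact hlf
  · intro h
    exact normList_spec (rep_canon _) (hok.2 _ h).1

theorem three_norm (Q : Subgroup ↥pairGrp) (hQ : Nat.card ↥Q = 9) :
    Nat.card ↥(normalizer (Q : Set ↥pairGrp)) = 144 := by
  obtain ⟨c, hc⟩ := exists_conj_eq_threeGrp hQ
  have hok := three_norm_ok
  simp only [Bool.and_eq_true, decide_eq_true_eq, beq_iff_eq, List.all_eq_true] at hok
  have h : Nat.card ↥(normalizer (threeGrp : Set ↥pairGrp)) = 144 := by
    rw [card_of_canon_list mem_threeNorm_iff hok.1.1 ?_, hok.1.2]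
    simp only [List.all_eq_true, Bool.and_eq_true, beq_iff_eq]
    intro l hl
    obtain ⟨h1, h2⟩ := hok.2 l hl
    simp only [normList, Bool.and_eq_true] at h1
    exact ⟨h1.1.1, h2⟩
  rw [← hc, normalizer_map_equiv (MulAut.conj c),
    card_map_of_injective (f := (MulAut.conj c).toMonoidHom) (MulAut.conj c).injective] at h
  exact h

/-! ### Involutions -/

theorem invol_cases (a : ↥pairGrp) (ha : a ∈ innerPair) (ho : orderOf a = 2) :
    ∃ c ∈ innerPair, Rep ptEnc ((c * a * c⁻¹ : ↥pairGrp) : Equiv.Perm GolayPt) invol22_8.z := by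
  obtain ⟨z, hz, c, hc⟩ := involution_cases (H := Spor.M22) (by norm_num) mem22_sound
    (C := syl22) (by decide +kernel) (k := 7) (by decide +kernel) M22_factorization_two
    (cs := involConj22) (zs := [invol22_8.z]) (by decide +kernel) (by decide +kernel)
    ⟨(a : Equiv.Perm GolayPt), ha⟩
    (by rw [← Subgroup.orderOf_coe] at ho ⊢; exact ho)
  obtain rfl := List.mem_singleton.1 hz
  exact ⟨⟨c, M22_le c.2⟩, c.2, hc⟩

theorem exists_rep_inner {l : ℕ} (h : mem22 l = true) :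
    ∃ σ : ↥pairGrp, σ ∈ innerPair ∧ Rep ptEnc (σ : Equiv.Perm GolayPt) l := by
  obtain ⟨σ, hσ⟩ := exists_rep (e := ptEnc) (perm_of_mem22 l h)
  exact ⟨⟨σ, M22_le (mem22_sound σ l hσ h)⟩, mem22_sound σ l hσ h, hσ⟩

theorem invol_sq (a : ↥pairGrp) (ha : a ∈ innerPair) (ho : orderOf a = 2) :
    ∃ b ∈ innerPair, b * b = a := by
  obtain ⟨c, hc, hr⟩ := invol_cases a ha ho
  have h := square_root_ok
  rw [Bool.and_eq_true] at h
  obtain ⟨b, hbI, hb⟩ := exists_rep_inner h.1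
  have hsq : b * b = c * a * c⁻¹ := by
    refine Subtype.ext ((Rep.of_same ?_ h.2).unique hr)
    rw [packMulS_eq]
    exact rep_packMul hb hb
  refine ⟨c⁻¹ * b * c, innerPair.mul_mem (innerPair.mul_mem (innerPair.inv_mem hc) hbI) hc, ?_⟩
  calc c⁻¹ * b * c * (c⁻¹ * b * c) = c⁻¹ * (b * b) * c := by group
    _ = a := by rw [hsq]; group

theorem invol_triple (a : ↥pairGrp) (ha : a ∈ innerPair) (ho : orderOf a = 2) :
    ∃ k ∈ innerPair, ∃ l ∈ innerPair,
      orderOf (a * (k * a * k⁻¹) * (l * a * l⁻¹)) = 11 := by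
  obtain ⟨c, hc, hr⟩ := invol_cases a ha ho
  have h := triple_ok
  simp only [force_eq, Bool.and_eq_true, Bool.not_eq_true', packPowS_eq, packMulS_eq] at h
  obtain ⟨⟨⟨⟨h1, h2⟩, h1i⟩, h2i⟩, hu1, hu11⟩ := h
  obtain ⟨k, hkI, hk⟩ := exists_rep_inner h1
  obtain ⟨l, hlI, hl⟩ := exists_rep_inner h2
  set z := c * a * c⁻¹ with hz
  have hu := rep_packMul (rep_packMul hr (canon_conjNum (x := z) hk (hk.inv_of_leftInvOK h1i) hr))
    (canon_conjNum (x := z) hl (hl.inv_of_leftInvOK h2i) hr)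
  have hord : orderOf (z * (k * z * k⁻¹) * (l * z * l⁻¹)) = 11 := by
    haveI : Fact (Nat.Prime 11) := ⟨by norm_num⟩
    refine orderOf_eq_prime (Subtype.ext ?_) fun e => ?_
    · rw [Subgroup.coe_pow]
      exact (rep_packPow (by norm_num) hu 11).eq_one hu11
    · have he := hu
      rw [← Subgroup.coe_mul, ← Subgroup.coe_mul, e, Subgroup.coe_one] at he
      rw [isId_of_rep_one he] at hu1
      exact Bool.noConfusion hu1
  refine ⟨c⁻¹ * k * c, innerPair.mul_mem (innerPair.mul_mem (innerPair.inv_mem hc) hkI) hc,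
    c⁻¹ * l * c, innerPair.mul_mem (innerPair.mul_mem (innerPair.inv_mem hc) hlI) hc, ?_⟩
  rw [← hord, ← MulEquiv.orderOf_eq (MulAut.conj c⁻¹) (z * (k * z * k⁻¹) * (l * z * l⁻¹))]
  congr 1
  simp [hz, mul_assoc]

end Cfsg.Agent.JankoFour
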