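import Cfsg.Agent.Lib.JankoFour.AutChecks
import Cfsg.Agent.Lib.JankoFour.Data.AutThreeSol

/-!
# Kernel computation: conjugating elements for the Sylow 3-normaliser
-/

set_option autoImplicit false
set_option maxRecDepth 100000

namespace Cfsg.Agent.JankoFour

open Cfsg Cfsg.Agent.Mathieu

/-- The normaliser of the Sylow 3-subgroup, in packed form. -/
def threeNorm : List ℕ :=
  match Data.threeGens with
  | [p, q] => (threeList.filter fun v => !isId 24 v).flatMap fun v =>
      (solutions 24 p v pairLevels).filter fun g => threeList.contains (conjNum g (invPack 24 g) q)
  | _ => []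

theorem three_gens : ∃ p q, Data.threeGens = [p, q] ∧ p ∈ threeList ∧ q ∈ threeList ∧
    isId 24 p = false :=
  ⟨_, _, rfl, by decide +kernel, by decide +kernel, by decide +kernel⟩

/-- The one long computation: all the searches for conjugating elements. -/
theorem three_solutions_eq : ((threeList.filter fun v => !isId 24 v).map fun v =>
    solutions 24 (Data.threeGens.getD 0 0) v pairLevels) = Data.threeSolutions := by
  decide +kernel

end Cfsg.Agent.JankoFour
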