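import Cfsg.Agent.Lib.JankoFour.Interface

/-!
# Janko-four type: first consequences of the setting
-/

set_option autoImplicit false

namespace Cfsg.Agent.JankoFour

open Subgroup LargeExtraspecial
open scoped commutatorElement Pointwise

variable {G : Type*} [Group G] {z : G} {P : Subgroup G}

theorem Setting.z_cases (S : Setting z P) {w : G} (hw : w ∈ zpowers z) : w = 1 ∨ w = z := by
  obtain ⟨n, rfl⟩ := mem_zpowers_iff.mp hw
  rcases Int.even_or_odd n with ⟨m, rfl⟩ | ⟨m, rfl⟩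
  · left; rw [← two_mul, zpow_mul, zpow_two, S.hub.sq, one_zpow]
  · right; rw [zpow_add, zpow_one, zpow_mul, zpow_two, S.hub.sq, one_zpow, one_mul]

theorem Setting.E_le (_S : Setting z P) : coreE z ≤ centralizer ({z} : Set G) := map_subtype_le _

theorem Setting.le_normalizer_E (S : Setting z P) :
    centralizer ({z} : Set G) ≤ normalizer (coreE z : Set G) := fun c hc =>
  mem_normalizer_iff.mpr fun q => by
    have hcz : Commute c z := mem_centralizer_singleton_iff.mp hc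
    refine ⟨S.hub.normalizes c hcz q, fun hq => ?_⟩
    have := S.hub.normalizes c⁻¹ hcz.inv_left _ hq
    rw [show c⁻¹ * (c * q * c⁻¹) * c⁻¹⁻¹ = q by group] at this
    exact this

theorem Setting.X_le_Y (_S : Setting z P) : cX z P ≤ cY z P :=
  inf_le_inf_left _ (centralizer_le_normalizer _)

theorem Setting.P_le_X (S : Setting z P) : P ≤ cX z P := by
  have : IsCyclic ↥P := by
    have : Fact (Nat.Prime 3) := ⟨Nat.prime_three⟩
    exact isCyclic_of_prime_card (p := 3) S.card_P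
  exact le_inf S.P_le ((le_centralizer_iff_isMulCommutative (K := P)).mpr inferInstance)

theorem Setting.z_mem_X (S : Setting z P) : z ∈ cX z P := by
  refine ⟨mem_centralizer_singleton_iff.mpr rfl, ?_⟩
  have : z ∈ zpowers z := mem_zpowers z
  rw [← S.fix] at this
  exact this.2

theorem Setting.zpowers_le_X (S : Setting z P) : zpowers z ≤ cX z P := zpowers_le.mpr S.z_mem_X

theorem Setting.E_inf_P (S : Setting z P) : coreE z ⊓ P = ⊥ :=
  (disjoint_of_coprime_natCard (by rw [S.card_E, S.card_P]; norm_num)).eq_bot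

theorem Setting.exists_mul_of_mem_sup (S : Setting z P) {v : G} (hv : v ∈ coreE z ⊔ P) :
    ∃ e ∈ coreE z, ∃ p ∈ P, v = e * p := by
  rw [← SetLike.mem_coe, coe_mul_of_right_le_normalizer_left (coreE z) P
    (S.P_le.trans S.le_normalizer_E)] at hv
  obtain ⟨e, he, p, hp, rfl⟩ := hv
  exact ⟨e, he, p, hp, rfl⟩

theorem Setting.mem_zpowers_mul_of_mem_sup (S : Setting z P) {v : G} (hv : v ∈ coreE z ⊔ P)
    (hvX : v ∈ centralizer (P : Set G)) : ∃ w ∈ zpowers z, ∃ p ∈ P, v = w * p := by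
  obtain ⟨e, he, p, hp, rfl⟩ := S.exists_mul_of_mem_sup hv
  refine ⟨e, ?_, p, hp, rfl⟩
  rw [← S.fix]
  refine ⟨he, ?_⟩
  have hpc : p ∈ centralizer (P : Set G) := (S.P_le_X hp).2
  simpa using mul_mem hvX ((centralizer (P : Set G)).inv_mem hpc)

/-- A 2-element of `EP` is in `E`. -/
theorem Setting.mem_E_of_pow (S : Setting z P) {v : G} (hv : v ∈ coreE z ⊔ P) {k : ℕ}
    (hk : v ^ 2 ^ k = 1) : v ∈ coreE z := by
  obtain ⟨e, he, p, hp, rfl⟩ := S.exists_mul_of_mem_sup hv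
  have hn : ∀ n : ℕ, ∃ e' ∈ coreE z, (e * p) ^ n = e' * p ^ n := by
    intro n
    induction n with
    | zero => exact ⟨1, one_mem _, by simp⟩
    | succ n ih =>
      obtain ⟨e', he', h⟩ := ih
      have hpn : p ^ n ∈ normalizer (coreE z : Set G) := pow_mem (S.le_normalizer_E (S.P_le hp)) n
      refine ⟨e' * (p ^ n * e * (p ^ n)⁻¹), mul_mem he' ((mem_normalizer_iff.mp hpn e).mp he), ?_⟩
      rw [pow_succ, h, pow_succ]
      group
  obtain ⟨e', he', h⟩ := hn (2 ^ k)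
  rw [hk] at h
  have hpE' : p ^ 2 ^ k ∈ coreE z := eq_inv_of_mul_eq_one_right h.symm ▸ inv_mem he'
  have hpE : p ^ 2 ^ k ∈ coreE z ⊓ P := Subgroup.mem_inf.mpr ⟨hpE', pow_mem hp _⟩
  rw [S.E_inf_P, mem_bot] at hpE
  have hp3 : p ^ 3 = 1 := by
    rw [← S.card_P]
    exact congrArg Subtype.val (pow_card_eq_one' (x := (⟨p, hp⟩ : ↥P)))
  have : p = 1 := by
    rw [← orderOf_eq_one_iff]
    exact Nat.eq_one_of_dvd_coprimes (Nat.Coprime.pow_left k (by norm_num : Nat.Coprime 2 3))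
      (orderOf_dvd_of_pow_eq_one hpE) (orderOf_dvd_of_pow_eq_one hp3)
  rwa [this, mul_one]

theorem Setting.pi_E (S : Setting z P) {c : ↥(centralizer ({z} : Set G))} (he : (c : G) ∈ coreE z) :
    S.pi c = 1 :=
  (S.pi_eq_one c).mpr (mem_sup_left he)

theorem Setting.exists_lift (S : Setting z P) {b : AutM22} (hb : b ∈ innerM22) :
    ∃ y, ∃ hy : y ∈ cX z P, S.pi ⟨y, hy.1⟩ = b := by
  obtain ⟨c, rfl⟩ := S.pi_surjective b
  obtain ⟨e, he, x, hx, hc⟩ := (S.pi_mem_inner c).mp hb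
  refine ⟨x, hx, ?_⟩
  rw [show c = ⟨e, S.E_le he⟩ * ⟨x, hx.1⟩ from Subtype.ext hc, map_mul, S.pi_E (c := ⟨e, S.E_le he⟩) he,
    one_mul]

theorem Setting.pi_X_mem (S : Setting z P) {x : G} (hx : x ∈ cX z P) :
    S.pi ⟨x, hx.1⟩ ∈ innerM22 :=
  (S.pi_mem_inner _).mpr ⟨1, one_mem _, x, hx, (one_mul x).symm⟩

end Cfsg.Agent.JankoFour
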