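import Mathlib

/-!
# Janko-four type, S5568 (b): `C(t) ≤ N(V)`

`CentTFacts z V t I` lists what is used about `V` of order `2^11`, `N(V)/V = M₂₄` acting on the cocode, and
`t` a duad: uniqueness of the member through a commuting pair, and elementary facts on the cocode
(`I` is the part of `N(V) ∩ C(t)` fixing both points of the duad).
-/

set_option autoImplicit false

namespace Cfsg.Agent.JankoFour

open Subgroup

variable {G : Type*} [Group G]

/-- What is used for `C(t) ≤ N(V)`. -/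
structure CentTFacts (z : G) (V : Subgroup G) (t : G) (I : Subgroup G) : Prop where
  sq : ∀ x ∈ V, x * x = 1
  card : Nat.card ↥V = 2 ^ 11
  t_mem : t ∈ V
  t_ne : t ≠ 1
  t_nconj : ¬ IsConj z t
  unique : ∀ d ∈ V, IsConj z d → ∀ g : G, g⁻¹ * d * g ∈ V → g⁻¹ * t * g ∈ V →
    g ∈ normalizer (V : Set G)
  le_I : V ≤ I
  index_I : ∀ a ∈ normalizer (V : Set G), Commute a t → ∀ b ∈ normalizer (V : Set G), Commute b t →
    a ∈ I ∨ b ∈ I ∨ a * b ∈ I
  I_fix : ∀ v ∈ I, v * v = 1 → v ∈ normalizer (V : Set G) →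
    2 ^ 7 ≤ Nat.card ↥(V ⊓ centralizer ({v} : Set G))
  elem_le : ∀ A : Subgroup G, (∀ a ∈ A, a * a = 1) → A ≤ normalizer (V : Set G) →
    (∀ a ∈ A, Commute a t) → Nat.card ↥A ≤ 32 * Nat.card ↥(A ⊓ V)
  elem_inner_le : ∀ A : Subgroup G, (∀ a ∈ A, a * a = 1) → A ≤ normalizer (V : Set G) →
    (∀ a ∈ A, Commute a t) → A ≤ I → Nat.card ↥A ≤ 16 * Nat.card ↥(A ⊓ V)
  fix_le_I : ∀ c ∈ V, c ≠ 1 → c ≠ t → ¬ IsConj z c → ¬ IsConj z (t * c) →
    ∀ a ∈ normalizer (V : Set G), Commute a t → Commute a c → a ∈ I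
  free_card : ∀ Y : Subgroup G, Y ≤ V → t ∈ Y → (∀ y ∈ Y, ¬ IsConj z y) → Nat.card ↥Y ≤ 4
  free_split : ∀ Y : Subgroup G, Y ≤ V → t ∈ Y → (∀ y ∈ Y, ¬ IsConj z y) →
    ∃ j ∈ V, IsConj z j ∧ (∀ y ∈ Y, y ≠ 1 → ¬ IsConj z (j * y)) ∧ ∃ d ∈ V, IsConj z d ∧
      ∀ m ∈ normalizer (V : Set G), Commute m t → m * j * m⁻¹ ≠ d

namespace CentTFacts

/-- The conjugate of a subgroup. -/
abbrev mem' (V : Subgroup G) (u : G) : Subgroup G := V.map (MulAut.conj u).toMonoidHom

theorem mem_mem' {V : Subgroup G} {u x : G} : x ∈ mem' V u ↔ u⁻¹ * x * u ∈ V := by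
  rw [mem', mem_map_equiv, MulAut.conj_symm_apply]

variable {z t : G} {V I : Subgroup G} (F : CentTFacts z V t I)
include F

theorem comm_V {x y : G} (hx : x ∈ V) (hy : y ∈ V) : Commute x y := by
  have h := F.sq _ (V.mul_mem hx hy)
  have hx' : x⁻¹ = x := inv_eq_of_mul_eq_one_right (F.sq x hx)
  have hy' : y⁻¹ = y := inv_eq_of_mul_eq_one_right (F.sq y hy)
  have h2 : (x * y)⁻¹ = x * y := inv_eq_of_mul_eq_one_right h
  rw [_root_.mul_inv_rev, hx', hy'] at h2
  exact h2.symm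

theorem t_sq : t * t = 1 := F.sq t F.t_mem

omit F in
theorem conj_t {u : G} (hu : Commute u t) : u⁻¹ * t * u = t := by
  rw [mul_assoc, ← hu.eq, inv_mul_cancel_left]

/-- An element of `C(t)` carrying a point of `V` into `V` normalises `V`. -/
theorem mem_normalizer_of_point {d u : G} (hd : d ∈ V) (hdz : IsConj z d) (hu : Commute u t)
    (h : u⁻¹ * d * u ∈ V) : u ∈ normalizer (V : Set G) :=
  F.unique d hd hdz u h (by rw [conj_t hu]; exact F.t_mem)

theorem cent_le {d u : G} (hd : d ∈ V) (hdz : IsConj z d) (hu : Commute u t) (h : Commute u d) :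
    u ∈ normalizer (V : Set G) := by
  refine F.mem_normalizer_of_point hd hdz hu ?_
  rw [mul_assoc, ← h.eq, inv_mul_cancel_left]
  exact hd

omit F in
theorem mem'_eq {u : G} (hu : u ∈ normalizer (V : Set G)) : mem' V u = V := by
  ext x
  rw [mem_mem']
  have h := mem_normalizer_iff.1 (inv_mem hu) x
  rw [inv_inv] at h
  exact h.symm

/-- The subgroup of points of `V` fixed by an involution has order at least `2^6`. -/
theorem fix_six [Finite G] {v : G} (hv : v * v = 1) (hn : v ∈ normalizer (V : Set G)) :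
    2 ^ 6 ≤ Nat.card ↥(V ⊓ centralizer ({v} : Set G)) := by
  have hconj : ∀ x ∈ V, v * x * v⁻¹ ∈ V := fun x hx => (mem_normalizer_iff.1 hn x).1 hx
  let f : ↥V →* ↥V :=
    { toFun := fun x => ⟨x * (v * x * v⁻¹), V.mul_mem x.2 (hconj x x.2)⟩
      map_one' := Subtype.ext (by simp)
      map_mul' := fun x y => Subtype.ext (by
        show (x : G) * y * (v * (x * y) * v⁻¹) = x * (v * x * v⁻¹) * (y * (v * y * v⁻¹))
        have h := (F.comm_V y.2 (hconj x x.2)).eq
        calc (x : G) * y * (v * (x * y) * v⁻¹)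
            = x * (y * (v * x * v⁻¹)) * (v * y * v⁻¹) := by group
          _ = x * ((v * x * v⁻¹) * y) * (v * y * v⁻¹) := by rw [h]
          _ = _ := by group) }
  set C := (V ⊓ centralizer ({v} : Set G)).subgroupOf V with hC
  have hv' : v⁻¹ = v := inv_eq_of_mul_eq_one_right hv
  have hker : f.ker ≤ C := fun x hx => by
    rw [hC, mem_subgroupOf, Subgroup.mem_inf]
    refine ⟨x.2, mem_centralizer_singleton_iff.2 ?_⟩
    have h : (x : G) * (v * x * v⁻¹) = 1 := congrArg Subtype.val hx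
    have h' : v * x * v⁻¹ = x := by
      rw [eq_inv_of_mul_eq_one_right h, inv_eq_of_mul_eq_one_right (F.sq x x.2)]
    exact (mul_inv_eq_iff_eq_mul.1 h').symm
  have hrange : f.range ≤ C := by
    rintro _ ⟨x, rfl⟩
    rw [hC, mem_subgroupOf, Subgroup.mem_inf]
    refine ⟨(f x).2, mem_centralizer_singleton_iff.2 ?_⟩
    have hc := (F.comm_V x.2 (hconj x x.2)).eq
    have e : v * (x * (v * x * v⁻¹)) * v⁻¹ = x * (v * x * v⁻¹) := by
      calc v * ((x : G) * (v * x * v⁻¹)) * v⁻¹ = (v * x * v⁻¹) * ((v * v) * x * (v⁻¹ * v⁻¹)) := by group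
        _ = (v * x * v⁻¹) * x := by rw [hv, hv', hv, one_mul, mul_one]
        _ = _ := hc.symm
    exact (mul_inv_eq_iff_eq_mul.1 e).symm
  have h := f.ker.index_mul_card
  rw [Subgroup.index_ker, F.card] at h
  have h1 : Nat.card ↥f.range ≤ Nat.card ↥C := card_le_of_le hrange
  have h2 : Nat.card ↥f.ker ≤ Nat.card ↥C := card_le_of_le hker
  rw [← Nat.card_congr (subgroupOfEquivOfLe (inf_le_left : V ⊓ centralizer ({v} : Set G) ≤ V)).toEquiv]
  by_contra hlt
  push Not at hlt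
  have hdvd : Nat.card ↥C ∣ 2 ^ 11 := F.card ▸ card_subgroup_dvd_card C
  obtain ⟨k, hk, hk'⟩ := (Nat.dvd_prime_pow Nat.prime_two).1 hdvd
  have hk5 : k < 6 := by
    by_contra h6
    rw [hk'] at hlt
    exact absurd hlt (not_lt.2 (Nat.pow_le_pow_right (by norm_num) (not_lt.1 h6)))
  have hle : Nat.card ↥C ≤ 2 ^ 5 := hk' ▸ Nat.pow_le_pow_right (by norm_num) (by omega)
  have : 2 ^ 11 ≤ 2 ^ 5 * 2 ^ 5 := h ▸ Nat.mul_le_mul (h1.trans hle) (h2.trans hle)
  norm_num at this

/-- A `z`-conjugate of another member which normalises `V` does not exist outside `V`. -/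
theorem other_member [Finite G] {u e : G} (hu : Commute u t) (heB : e ∈ mem' V u) (hez : IsConj z e)
    (heN : e ∈ normalizer (V : Set G)) : e ∈ V := by
  by_cases huN : u ∈ normalizer (V : Set G)
  · rwa [mem'_eq huN] at heB
  exfalso
  -- moving by `u`
  set τ := MulAut.conj u⁻¹ with hτ
  have hτt : τ t = t := by simp [hτ, conj_t hu]
  have hτz : ∀ x, IsConj z x ↔ IsConj z (τ x) := fun x => by
    have hx : IsConj x (τ x) := isConj_iff.2 ⟨u⁻¹, by simp [hτ]⟩
    exact ⟨fun h => h.trans hx, fun h => h.trans hx.symm⟩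
  have hτC : ∀ a, Commute a t → Commute (τ a) t := fun a ha => by
    have h := ha.map τ.toMonoidHom
    simp only [MulEquiv.coe_toMonoidHom, hτt] at h
    exact h
  have hτV : ∀ x, x ∈ mem' V u ↔ τ x ∈ V := fun x => by rw [mem_mem']; simp [hτ]
  have hes : τ e ∈ V := (hτV e).1 heB
  have het : Commute e t := by
    have h := (F.comm_V hes F.t_mem).map (MulAut.conj u).toMonoidHom
    have hut : u * t * u⁻¹ = t := by rw [hu.eq, mul_inv_cancel_right]
    simpa [hτ, hut, mul_assoc] using h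
  have hee : e * e = 1 := τ.injective (by rw [map_mul, map_one, F.sq _ hes])
  set C := V ⊓ centralizer ({e} : Set G) with hC
  have hCt : ∀ c ∈ C, Commute c t := fun c hc => F.comm_V hc.1 F.t_mem
  have hCe : ∀ c ∈ C, Commute c e := fun c hc => mem_centralizer_singleton_iff.1 hc.2
  have hCN : ∀ c ∈ C, τ c ∈ normalizer (V : Set G) := fun c hc =>
    F.cent_le hes ((hτz e).1 hez) (hτC c (hCt c hc)) ((hCe c hc).map τ.toMonoidHom)
  set C' := C ⊓ I.comap τ.toMonoidHom with hC'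
  have htC : t ∈ C := ⟨F.t_mem, mem_centralizer_singleton_iff.2 het.symm.eq⟩
  have htC' : t ∈ C' := ⟨htC, by
    show τ t ∈ I
    rw [hτt]; exact F.le_I F.t_mem⟩
  have hhalf : Nat.card ↥C ≤ 2 * Nat.card ↥C' := by
    have hidx : (C'.subgroupOf C).index ≤ 2 := by
      by_cases hall : C ≤ C'
      · rw [subgroupOf_eq_top.2 hall, index_top]; norm_num
      obtain ⟨a, ha, haC⟩ := SetLike.not_le_iff_exists.1 hall
      refine le_of_eq (index_eq_two_iff_exists_notMem_and.2 ⟨⟨a, ha⟩, fun h => haC h, fun b => ?_⟩)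
      have ha' : τ a ∉ I := fun h => haC ⟨ha, h⟩
      rcases F.index_I _ (hCN _ b.2) (hτC _ (hCt _ b.2)) _ (hCN a ha) (hτC a (hCt a ha)) with h | h | h
      · exact Or.inr (show (b : G) ∈ C' from ⟨b.2, h⟩)
      · exact absurd h ha'
      · refine Or.inl (show (b : G) * a ∈ C' from ⟨C.mul_mem b.2 ha, ?_⟩)
        show τ ((b : G) * a) ∈ I
        rw [map_mul]; exact h
    have h := (C'.subgroupOf C).card_mul_index
    rw [Nat.card_congr (subgroupOfEquivOfLe (inf_le_left : C' ≤ C)).toEquiv] at h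
    calc Nat.card ↥C = Nat.card ↥C' * (C'.subgroupOf C).index := h.symm
      _ ≤ Nat.card ↥C' * 2 := Nat.mul_le_mul_left _ hidx
      _ = _ := mul_comm _ _
  obtain ⟨v, hv, hvz⟩ : ∃ v ∈ C', IsConj z v := by
    by_contra hall
    push Not at hall
    have h4 := F.free_card C' (inf_le_left.trans inf_le_left) htC' hall
    have h6 : 2 ^ 6 ≤ Nat.card ↥C := F.fix_six hee heN
    omega
  -- the points of the other member fixed by `v`
  have hvI : τ v ∈ I := hv.2
  have hvV : v ∈ V := hv.1.1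
  have hfix := F.I_fix (τ v) hvI (by rw [← map_mul, F.sq v hvV, map_one]) (hCN v hv.1)
  set A := (V ⊓ centralizer ({τ v} : Set G)).map (MulAut.conj u).toMonoidHom with hA
  have hA7 : 2 ^ 7 ≤ Nat.card ↥A := by
    rw [hA, card_map_of_injective (MulAut.conj u).injective]; exact hfix
  have hAm : ∀ a ∈ A, τ a ∈ V ∧ Commute (τ a) (τ v) := by
    rintro _ ⟨x, ⟨hx, hxv⟩, rfl⟩
    have e : τ ((MulAut.conj u).toMonoidHom x) = x := by simp [hτ, mul_assoc]
    rw [e]
    exact ⟨hx, mem_centralizer_singleton_iff.1 hxv⟩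
  have hAsq : ∀ a ∈ A, a * a = 1 := fun a ha =>
    τ.injective (by rw [map_mul, map_one, F.sq _ (hAm a ha).1])
  have hAt : ∀ a ∈ A, Commute a t := fun a ha => by
    have h := (F.comm_V (hAm a ha).1 F.t_mem).map τ.symm.toMonoidHom
    simp only [MulEquiv.coe_toMonoidHom, MulEquiv.symm_apply_apply] at h
    rwa [show τ.symm t = t from τ.injective (by rw [MulEquiv.apply_symm_apply, hτt])] at h
  have hAN : A ≤ normalizer (V : Set G) := fun a ha => by
    refine F.cent_le hvV hvz (hAt a ha) ?_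
    have h := (hAm a ha).2.map τ.symm.toMonoidHom
    simpa using h
  have hYm : ∀ y ∈ A ⊓ V, ¬ IsConj z y := fun y hy hyz => huN
    (F.mem_normalizer_of_point hy.2 hyz hu (by simpa [hτ] using (hAm y hy.1).1))
  have htA : t ∈ A := by
    refine ⟨t, ⟨F.t_mem, mem_centralizer_singleton_iff.2 ?_⟩, by simp [hu.eq]⟩
    exact (hτC v (F.comm_V hvV F.t_mem)).symm.eq
  have h4 := F.free_card (A ⊓ V) inf_le_right ⟨htA, F.t_mem⟩ hYm
  have h32 := F.elem_le A hAsq hAN hAt
  by_cases hc : ∃ c ∈ A ⊓ V, c ≠ 1 ∧ c ≠ t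
  · obtain ⟨c, hc, hc1, hct⟩ := hc
    have hAI : A ≤ I := fun a ha => F.fix_le_I c hc.2 hc1 hct (hYm c hc)
      (hYm _ ⟨A.mul_mem htA hc.1, V.mul_mem F.t_mem hc.2⟩) a (hAN ha) (hAt a ha) (by
        have h := (F.comm_V (hAm a ha).1 (hAm c hc.1).1).map τ.symm.toMonoidHom
        simpa using h)
    have h16 := F.elem_inner_le A hAsq hAN hAt hAI
    omega
  · push Not at hc
    have h2 : Nat.card ↥(A ⊓ V) ≤ 2 := by
      classical
      have hsub : ((A ⊓ V : Subgroup G) : Set G) ⊆ {1, t} := fun x hx => by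
        by_cases h1 : x = 1
        · exact Or.inl h1
        · exact Or.inr (hc x hx h1)
      calc Nat.card ↥(A ⊓ V) = ((A ⊓ V : Subgroup G) : Set G).ncard := rfl
        _ ≤ ({1, t} : Set G).ncard := Set.ncard_le_ncard hsub (Set.toFinite _)
        _ ≤ 2 := (Set.ncard_insert_le _ _).trans (by simp)
    omega

/-- The same for two members. -/
theorem members [Finite G] {u w d e : G} (hu : Commute u t) (hw : Commute w t) (hd : d ∈ mem' V u)
    (hdz : IsConj z d) (he : e ∈ mem' V w) (hez : IsConj z e) (hde : Commute d e) : e ∈ mem' V u := by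
  rw [mem_mem'] at hd he ⊢
  have hconj : ∀ x, IsConj z x → IsConj z (u⁻¹ * x * u) := fun x hx =>
    hx.trans (isConj_iff.2 ⟨u⁻¹, by rw [inv_inv]⟩)
  have hut : Commute (u⁻¹ * w) t := hu.inv_left.mul_left hw
  have het : Commute e t := by
    have h := (F.comm_V he F.t_mem).map (MulAut.conj w).toMonoidHom
    have hwt : w * t * w⁻¹ = t := by rw [hw.eq, mul_inv_cancel_right]
    simpa [hwt, mul_assoc] using h
  refine F.other_member hut ?_ (hconj e hez) ?_
  · rw [mem_mem']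
    simpa [mul_assoc] using he
  · refine F.cent_le hd (hconj d hdz) ((hu.inv_left.mul_left het).mul_left hu) ?_
    have h := hde.symm.map (MulAut.conj u⁻¹).toMonoidHom
    simpa using h

omit F in
theorem refl_pow {a r : G} (ha : a * a = 1) (h : a * r * a = r⁻¹) (k : ℕ) :
    (r ^ k)⁻¹ * a * r ^ k = a * r ^ (2 * k) := by
  have ha' : a⁻¹ = a := inv_eq_of_mul_eq_one_right ha
  have h1 : a * r ^ k * a⁻¹ = (r ^ k)⁻¹ := by rw [← inv_pow, ← h, ← conj_pow, ha']
  calc (r ^ k)⁻¹ * a * r ^ k = (a * r ^ k * a⁻¹) * a * r ^ k := by rw [h1]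
    _ = a * r ^ (2 * k) := by rw [inv_mul_cancel_right, mul_assoc, ← pow_add, two_mul]

/-- `C(t) ≤ N(V)`. -/
theorem centralizer_le [Finite G] :
    centralizer ({t} : Set G) ≤ normalizer (V : Set G) := by
  intro u hu
  have hut : Commute u t := mem_centralizer_singleton_iff.1 hu
  by_contra huN
  have hYz : ∀ y ∈ V ⊓ mem' V u, ¬ IsConj z y := fun y hy hyz =>
    huN (F.mem_normalizer_of_point hy.1 hyz hut (mem_mem'.1 hy.2))
  obtain ⟨j, hj, hjz, hjY, d₀, hd₀, hd₀z, hnc⟩ := F.free_split (V ⊓ mem' V u) inf_le_left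
    ⟨F.t_mem, mem_mem'.2 (by rw [conj_t hut]; exact F.t_mem)⟩ hYz
  set d := u * d₀ * u⁻¹ with hd
  have hdB : d ∈ mem' V u := by rw [mem_mem']; simpa [hd, mul_assoc] using hd₀
  have hdz : IsConj z d := hd₀z.trans (isConj_iff.2 ⟨u, rfl⟩)
  have hj1 : j * j = 1 := F.sq j hj
  have hd1 : d * d = 1 := by rw [hd, conj_mul, F.sq d₀ hd₀, mul_one, mul_inv_cancel]
  have hjt : Commute j t := F.comm_V hj F.t_mem
  have hdt : Commute d t := by
    rw [hd]; exact (hut.mul_left (F.comm_V hd₀ F.t_mem)).mul_left hut.inv_left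
  set r := j * d with hr
  have hrt : ∀ k : ℕ, Commute (r ^ k) t := fun k => (hjt.mul_left hdt).pow_left k
  have hjr : j * r * j = r⁻¹ := by
    rw [hr, _root_.mul_inv_rev, inv_eq_of_mul_eq_one_right hd1, inv_eq_of_mul_eq_one_right hj1,
      ← mul_assoc j j d, hj1, one_mul]
  have hd' : d = j * r := by rw [hr, ← mul_assoc, hj1, one_mul]
  have hdr : d * r * d = r⁻¹ := by
    rw [hr, _root_.mul_inv_rev, inv_eq_of_mul_eq_one_right hd1, inv_eq_of_mul_eq_one_right hj1,
      mul_assoc d, mul_assoc j, hd1, mul_one]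
  -- conjugates of `j` and of `d` along the powers of `r`
  have hcj : ∀ k, j * r ^ (2 * k) = (r ^ k)⁻¹ * j * r ^ k := fun k => (refl_pow hj1 hjr k).symm
  have hcd : ∀ k, j * r ^ (2 * k + 1) = (r ^ k)⁻¹ * d * r ^ k := fun k => by
    rw [refl_pow hd1 hdr k, hd', mul_assoc, ← pow_succ']
  -- each of those is a point of some member
  have hpt : ∀ i, ∃ w, Commute w t ∧ j * r ^ i ∈ mem' V w ∧ IsConj z (j * r ^ i) := by
    intro i
    rcases Nat.even_or_odd' i with ⟨k, rfl | rfl⟩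
    · refine ⟨(r ^ k)⁻¹, (hrt k).inv_left, ?_, ?_⟩
      · rw [mem_mem', hcj]; simpa [mul_assoc] using hj
      · rw [hcj]; exact hjz.trans (isConj_iff.2 ⟨(r ^ k)⁻¹, by rw [inv_inv]⟩)
    · refine ⟨(r ^ k)⁻¹ * u, (hrt k).inv_left.mul_left hut, ?_, ?_⟩
      · rw [mem_mem', hcd, hd]; simpa [mul_assoc] using hd₀
      · rw [hcd]; exact hdz.trans (isConj_iff.2 ⟨(r ^ k)⁻¹, by rw [inv_inv]⟩)
  rcases Nat.even_or_odd' (orderOf r) with ⟨m, hm | hm⟩
  · have hpos := orderOf_pos r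
    have hrm1 : r ^ m ≠ 1 := fun h => by
      have := orderOf_le_of_pow_eq_one (by omega) h
      omega
    have hinv : (r ^ m)⁻¹ = r ^ m :=
      inv_eq_of_mul_eq_one_right (by rw [← pow_add, ← two_mul, ← hm, pow_orderOf_eq_one])
    have hcomm : ∀ a : G, a * a = 1 → a * r * a = r⁻¹ → Commute a (r ^ m) := fun a ha h => by
      have ha' : a⁻¹ = a := inv_eq_of_mul_eq_one_right ha
      have h1 : a * r ^ m * a⁻¹ = r ^ m := by
        rw [← conj_pow, ha', h, inv_pow, hinv]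
      exact mul_inv_eq_iff_eq_mul.1 h1
    obtain ⟨w, hw, hwV, hwz⟩ := hpt m
    have heV : j * r ^ m ∈ V := by
      have h := F.members (Commute.one_left t) hw (d := j) (mem_mem'.2 (by simpa using hj)) hjz hwV hwz
        ((Commute.refl j).mul_right (hcomm j hj1 hjr))
      simpa [mem_mem'] using h
    obtain ⟨w', hw', hwV', hwz'⟩ := hpt (m + 1)
    have heB : j * r ^ (m + 1) ∈ mem' V u :=
      F.members hut hw' hdB hdz hwV' hwz' (by
        rw [show j * r ^ (m + 1) = d * r ^ m by rw [hd', mul_assoc, ← pow_succ']]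
        exact (Commute.refl d).mul_right (hcomm d hd1 hdr))
    have hcV : r ^ m ∈ V := (V.mul_mem_cancel_left hj).1 heV
    have hcB : r ^ m ∈ mem' V u := by
      rw [show j * r ^ (m + 1) = d * r ^ m by rw [hd', mul_assoc, ← pow_succ']] at heB
      exact ((mem' V u).mul_mem_cancel_left hdB).1 heB
    exact hjY _ ⟨hcV, hcB⟩ hrm1 hwz
  · have hk : r ^ (2 * (m + 1)) = r := by
      rw [show 2 * (m + 1) = orderOf r + 1 by omega, pow_succ, pow_orderOf_eq_one, one_mul]
    have hdj : d = (r ^ (m + 1))⁻¹ * j * r ^ (m + 1) := by rw [← hcj, hk, ← hd']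
    set w := u⁻¹ * (r ^ (m + 1))⁻¹ with hw
    have hwt : Commute w t := hut.inv_left.mul_left (hrt _).inv_left
    have hwj : w * j * w⁻¹ = d₀ := by
      rw [hw, show u⁻¹ * (r ^ (m + 1))⁻¹ * j * (u⁻¹ * (r ^ (m + 1))⁻¹)⁻¹ =
        u⁻¹ * ((r ^ (m + 1))⁻¹ * j * r ^ (m + 1)) * u by group, ← hdj, hd]
      group
    refine hnc w (F.mem_normalizer_of_point hd₀ hd₀z hwt ?_) hwt hwj
    rw [← hwj, show w⁻¹ * (w * j * w⁻¹) * w = j by group]
    exact hj

end CentTFacts

end Cfsg.Agent.JankoFour
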