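import Cfsg.Agent.Lib.JankoFour.Interface
import Cfsg.Agent.Lib.JankoFour.Data.AutData
import Cfsg.Agent.Lib.Mathieu.OneBlockM22
import Cfsg.Agent.Lib.Mathieu.OuterAut

/-!
# The automorphism group of the Mathieu group on 22 points as a permutation group

`pairGrp` is the setwise stabiliser in M₂₄ of the two points fixed by M₂₂; conjugation identifies it
with the automorphism group of M₂₂.  `canon` is the packed form of a permutation.
-/

set_option autoImplicit false
set_option maxRecDepth 20000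

namespace Cfsg.Agent.JankoFour

open Cfsg Subgroup Cfsg.Agent.Mathieu

/-! ### Packed forms -/

/-- The packed form of a permutation. -/
def canon (σ : Equiv.Perm GolayPt) : ℕ :=
  (List.range 24).foldr (fun i acc => (ptEnc (σ (idx ptEnc i))).val + 256 * acc) 0

/-- The packed number with the same first 24 digits and no others. -/
def canonNum (l : ℕ) : ℕ := (List.range 24).foldr (fun i acc => app l i + 256 * acc) 0

theorem canon_congr {f g : ℕ → ℕ} (h : ∀ i, i < 24 → f i = g i) :
    (List.range 24).foldr (fun i acc => f i + 256 * acc) 0 =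
      (List.range 24).foldr (fun i acc => g i + 256 * acc) 0 := by
  have : ∀ L : List ℕ, (∀ i ∈ L, f i = g i) →
      L.foldr (fun i acc => f i + 256 * acc) 0 = L.foldr (fun i acc => g i + 256 * acc) 0 := by
    intro L
    induction L with
    | nil => intro _; rfl
    | cons a L ih =>
      intro hL
      rw [List.foldr_cons, List.foldr_cons, hL a List.mem_cons_self,
        ih fun i hi => hL i (List.mem_cons_of_mem _ hi)]
  exact this _ fun i hi => h i (List.mem_range.1 hi)

theorem rep_canon (σ : Equiv.Perm GolayPt) : Rep ptEnc σ (canon σ) := by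
  intro a
  rw [canon, app_packMul_aux (fun i => (ptEnc (σ (idx ptEnc i))).val) _
    (fun i _ => lt_trans (Fin.isLt _) (by norm_num)) (ptEnc a).val (by simp)]
  simp [idx_self]

theorem canon_eq {σ : Equiv.Perm GolayPt} {l : ℕ} (h : Rep ptEnc σ l) : canon σ = canonNum l :=
  canon_congr fun i hi => by rw [h (idx ptEnc i), idx_val hi]

theorem canon_mul (σ τ : Equiv.Perm GolayPt) :
    canon (σ * τ) = packMul 24 (canon σ) (canon τ) :=
  canon_congr fun i hi => by
    rw [Equiv.Perm.mul_apply, rep_canon σ, rep_canon τ, idx_val hi]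

theorem canon_one : canon 1 = packId 24 :=
  canon_congr fun i hi => by
    rw [Equiv.Perm.one_apply, idx_val hi, Nat.mod_eq_of_lt (by omega)]

theorem canon_injective : Function.Injective canon := fun σ τ (h : canon σ = canon τ) =>
  (rep_canon σ).unique (by rw [h]; exact rep_canon τ)

attribute [irreducible] canon canonNum

/-! ### The group -/

/-- The permutations mapping `{p, q}` to itself. -/
def pairFix (p q : GolayPt) : Subgroup (Equiv.Perm GolayPt) where
  carrier := {g | g p = p ∧ g q = q ∨ g p = q ∧ g q = p}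
  mul_mem' := by
    rintro g h (⟨g1, g2⟩ | ⟨g1, g2⟩) (⟨h1, h2⟩ | ⟨h1, h2⟩)
    all_goals simp only [Set.mem_ofPred_eq, Equiv.Perm.mul_apply]
    all_goals simp [g1, g2, h1, h2]
  one_mem' := Or.inl ⟨rfl, rfl⟩
  inv_mem' := by
    rintro g (⟨g1, g2⟩ | ⟨g1, g2⟩)
    · exact Or.inl ⟨by rw [Equiv.Perm.inv_eq_iff_eq, g1], by rw [Equiv.Perm.inv_eq_iff_eq, g2]⟩
    · exact Or.inr ⟨by rw [Equiv.Perm.inv_eq_iff_eq, g2], by rw [Equiv.Perm.inv_eq_iff_eq, g1]⟩

theorem mem_pairFix {p q : GolayPt} {g : Equiv.Perm GolayPt} :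
    g ∈ pairFix p q ↔ g p = p ∧ g q = q ∨ g p = q ∧ g q = p := Iff.rfl

/-- The setwise stabiliser in M₂₄ of the two points fixed by M₂₂. -/
def pairGrp : Subgroup (Equiv.Perm GolayPt) := M24 ⊓ pairFix (none : GolayPt) (some 0)

theorem mem_pairGrp {g : Equiv.Perm GolayPt} :
    g ∈ pairGrp ↔ g ∈ M24 ∧
      (g none = none ∧ g (some 0) = some 0 ∨ g none = some 0 ∧ g (some 0) = none) := Iff.rfl

theorem M22_le : Spor.M22 ≤ pairGrp := fun g hg =>
  mem_pairGrp.2 ⟨M22_le_M24 hg, Or.inl (mem_M22_iff.1 hg).2⟩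

theorem mem_M22_of_fix {g : Equiv.Perm GolayPt} (hg : g ∈ pairGrp) (h : g none = none) :
    g ∈ Spor.M22 := by
  obtain ⟨hm, h1 | h1⟩ := mem_pairGrp.1 hg
  · exact mem_M22_iff.2 ⟨hm, h1⟩
  · rw [h] at h1; exact absurd h1.1 (by simp)

theorem fix_iff {g : Equiv.Perm GolayPt} (hg : g ∈ pairGrp) : g ∈ Spor.M22 ↔ g none = none :=
  ⟨fun h => (mem_M22_iff.1 h).2.1, mem_M22_of_fix hg⟩

theorem fix_iff_app {g : Equiv.Perm GolayPt} {l : ℕ} (hg : g ∈ pairGrp) (h : Rep ptEnc g l) :
    g ∈ Spor.M22 ↔ app l 23 = 23 := by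
  rw [fix_iff hg, ← idx_none, apply_idx_eq_iff h (by norm_num) (by norm_num)]

/-- Membership test. -/
def memPair (l : ℕ) : Bool :=
  mem24 l && ((app l 23 == 23 && app l 0 == 0) || (app l 23 == 0 && app l 0 == 23))

theorem memPair_sound {σ : Equiv.Perm GolayPt} {l : ℕ} (h : Rep ptEnc σ l)
    (hl : memPair l = true) : σ ∈ pairGrp := by
  simp only [memPair, Bool.and_eq_true, Bool.or_eq_true, beq_iff_eq] at hl
  refine mem_pairGrp.2 ⟨mem24_sound σ l h hl.1, ?_⟩
  rw [← idx_none, ← idx_zero]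
  rcases hl.2 with ⟨h1, h2⟩ | ⟨h1, h2⟩
  · exact Or.inl ⟨(apply_idx_eq_iff h (by norm_num) (by norm_num)).2 h1,
      (apply_idx_eq_iff h (by norm_num) (by norm_num)).2 h2⟩
  · exact Or.inr ⟨(apply_idx_eq_iff h (by norm_num) (by norm_num)).2 h1,
      (apply_idx_eq_iff h (by norm_num) (by norm_num)).2 h2⟩

theorem exists_rep_pair {l : ℕ} (hl : memPair l = true) :
    ∃ σ : ↥pairGrp, Rep ptEnc (σ : Equiv.Perm GolayPt) l := by
  have hp : permOK 24 l = true := by
    simp only [memPair, mem24, Bool.and_eq_true] at hl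
    exact hl.1.1
  obtain ⟨σ, hσ⟩ := exists_rep (e := ptEnc) hp
  exact ⟨⟨σ, memPair_sound hσ hl⟩, hσ⟩

/-! ### Chains -/

/-- The chain for `pairGrp`. -/
def pairLevels : List CertLevel :=
  (23, [23, 0], [packId 24, Data.swapFar]) :: levels22

theorem memPair_swapFar : memPair Data.swapFar = true := by decide +kernel

theorem memPair_packId : memPair (packId 24) = true := by decide +kernel

theorem exists_rep_M22 {t : ℕ} (ht : t ∈ allReps levels22) :
    ∃ σ ∈ pairGrp, Rep ptEnc σ t :=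
  let ⟨σ, hσ, h⟩ := M22_reps t ht
  ⟨σ, M22_le hσ, h⟩

theorem pairStab_cert : Stab ptEnc pairGrp pairLevels := by
  have hle : pairGrp ⊓ MulAction.stabilizer (Equiv.Perm GolayPt) (idx ptEnc 23) ≤ Spor.M22 := by
    intro g hg
    refine mem_M22_of_fix hg.1 ?_
    have := hg.2
    rwa [idx_none] at this
  refine ⟨by norm_num, by decide +kernel, fun t ht => ?_, ⟨fun σ hσ => ?_, ?_⟩, ?_⟩
  · simp only [pairLevels, allReps, List.flatMap_cons, List.mem_append, List.mem_cons,
      List.not_mem_nil, or_false] at ht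
    rcases ht with (rfl | rfl) | ht
    · obtain ⟨σ, hσ⟩ := exists_rep_pair memPair_packId
      exact ⟨σ, σ.2, hσ⟩
    · obtain ⟨σ, hσ⟩ := exists_rep_pair memPair_swapFar
      exact ⟨σ, σ.2, hσ⟩
    · exact exists_rep_M22 ht
  · rw [idx_none]
    rcases (mem_pairGrp.1 hσ).2 with ⟨h, -⟩ | ⟨h, -⟩ <;> rw [h]
    · rw [← idx_none, idx_val (by norm_num)]; simp
    · rw [← idx_zero, idx_val (by norm_num)]; simp
  · exact upper_mono hle M22_upper.1
  · rw [eq_bot_iff]
    refine le_trans ?_ M22_upper.2.le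
    exact fixList_mono hle _

theorem card_pairGrp : Nat.card ↥pairGrp = 887040 := by
  rw [card_of_cert pairStab_cert.ok pairStab_cert.reps pairStab_cert.upper pairStab_cert.bot]
  decide +kernel

/-! ### The isomorphism with the automorphism group -/

theorem conj_mem_pair {g x : Equiv.Perm GolayPt} (hg : g ∈ pairGrp) (hx : x ∈ Spor.M22) :
    g * x * g⁻¹ ∈ Spor.M22 := by
  obtain ⟨hm, hfix | ⟨h1, h2⟩⟩ := mem_pairGrp.1 hg
  · have hg' : g ∈ Spor.M22 := mem_M22_iff.2 ⟨hm, hfix⟩
    exact Spor.M22.mul_mem (Spor.M22.mul_mem hg' hx) (Spor.M22.inv_mem hg')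
  · exact conj_mem_M22 hm h1 h2 hx

/-- Conjugation as an automorphism of M₂₂. -/
def conjAut (g : ↥pairGrp) : MulAut ↥Spor.M22 where
  toFun x := ⟨(g : Equiv.Perm GolayPt) * x * (g : Equiv.Perm GolayPt)⁻¹, conj_mem_pair g.2 x.2⟩
  invFun x := ⟨(g : Equiv.Perm GolayPt)⁻¹ * x * (g : Equiv.Perm GolayPt), by
    simpa using conj_mem_pair (pairGrp.inv_mem g.2) x.2⟩
  left_inv x := Subtype.ext (by simp [mul_assoc])
  right_inv x := Subtype.ext (by simp [mul_assoc])
  map_mul' x y := Subtype.ext (by simp [mul_assoc])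

/-- Conjugation, as a homomorphism. -/
def toAut : ↥pairGrp →* AutM22 where
  toFun := conjAut
  map_one' := by
    ext x
    simp [conjAut]
  map_mul' g h := by
    ext x
    simp [conjAut, mul_assoc]

theorem toAut_injective : Function.Injective toAut := by
  rw [injective_iff_map_eq_one]
  intro g hg
  have hcomm : ∀ x ∈ Spor.M22, (g : Equiv.Perm GolayPt) * x = x * g := by
    intro x hx
    have h := congrArg (fun f : AutM22 => ((f ⟨x, hx⟩ : ↥Spor.M22) : Equiv.Perm GolayPt)) hg
    simpa [toAut, conjAut, mul_inv_eq_iff_eq_mul] using h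
  have hchk : (gens22.all (permOK 24) && gens22.length == 2 &&
      force (gens22.getD 0 0) fun u => force (gens22.getD 1 0) fun v =>
        (solutions 24 u u pairLevels).all fun l => !commP 24 l v || isId 24 l) = true := by
    decide +kernel
  simp only [force_eq, Bool.and_eq_true, beq_iff_eq, List.all_eq_true, Bool.or_eq_true,
    Bool.not_eq_true'] at hchk
  obtain ⟨⟨hperm, hlen⟩, hsol⟩ := hchk
  have hget : ∀ i, i < 2 → gens22.getD i 0 ∈ gens22 := fun i hi => by
    rw [List.getD_eq_getElem _ _ (by omega : i < gens22.length)]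
    exact List.getElem_mem _
  have hgen : ∀ i, i < 2 → ∃ σ ∈ Spor.M22, Rep ptEnc σ (gens22.getD i 0) := fun i hi => by
    obtain ⟨σ, hσ⟩ := exists_rep (e := ptEnc) (hperm _ (hget i hi))
    exact ⟨σ, M22_cert.1 ▸ Subgroup.subset_closure ⟨_, hget i hi, hσ⟩, hσ⟩
  obtain ⟨μ, hμ, hu⟩ := hgen 0 (by norm_num)
  obtain ⟨ν, hν, hv⟩ := hgen 1 (by norm_num)
  obtain ⟨l, hl, hgl⟩ := pairStab_cert.exists_solution hu hu g.2 (hcomm μ hμ)
  rcases hsol l hl with h | h
  · rw [(commP_iff hgl hv).2 (hcomm ν hν)] at h; exact Bool.noConfusion h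
  · exact Subtype.ext (hgl.eq_one h)

theorem toAut_M22 (x : ↥Spor.M22) : toAut ⟨x, M22_le x.2⟩ = MulAut.conj x := by
  ext y
  simp [toAut, conjAut]

theorem card_autM22_pair : Nat.card AutM22 = 887040 := by
  have hinj : Function.Injective (MulAut.conj : ↥Spor.M22 →* AutM22) := by
    intro x y h
    rw [← toAut_M22, ← toAut_M22] at h
    exact Subtype.ext (congrArg (fun g : ↥pairGrp => (g : Equiv.Perm GolayPt)) (toAut_injective h))
  have hinn : Nat.card ↥(Cfsg.Inn ↥Spor.M22) = 443520 := by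
    rw [← card_M22]
    exact (Nat.card_congr (MonoidHom.ofInjective hinj).toEquiv).symm
  have hout : Nat.card (AutM22 ⧸ Cfsg.Inn ↥Spor.M22) = 2 := out_M22
  rw [Subgroup.card_eq_card_quotient_mul_card_subgroup (Cfsg.Inn ↥Spor.M22), hout, hinn]

/-- The identification. -/
noncomputable def pairEquiv : ↥pairGrp ≃* AutM22 :=
  MulEquiv.ofBijective toAut ((Nat.bijective_iff_injective_and_card toAut).2
    ⟨toAut_injective, by rw [card_pairGrp, card_autM22_pair]⟩)

/-- M₂₂ inside `pairGrp`. -/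
abbrev innerPair : Subgroup ↥pairGrp := Spor.M22.subgroupOf pairGrp

theorem map_innerPair : innerPair.map pairEquiv.toMonoidHom = innerM22 := by
  ext f
  simp only [mem_map, MonoidHom.mem_range]
  constructor
  · rintro ⟨g, hg, rfl⟩
    exact ⟨⟨g.1, hg⟩, by rw [← toAut_M22]; rfl⟩
  · rintro ⟨x, rfl⟩
    exact ⟨⟨x, M22_le x.2⟩, x.2, toAut_M22 x⟩

theorem card_innerPair : Nat.card ↥innerPair = 443520 := by
  rw [← card_M22]
  exact Nat.card_congr (Subgroup.subgroupOfEquivOfLe M22_le).toEquiv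

theorem innerPair_index : innerPair.index = 2 := by
  have h := innerPair.card_mul_index
  rw [card_innerPair, card_pairGrp] at h
  omega

/-- A subgroup given by a membership list has as many elements as the list. -/
theorem card_of_canon_list {H : Subgroup ↥pairGrp} {L : List ℕ}
    (hmem : ∀ σ : ↥pairGrp, σ ∈ H ↔ canon σ ∈ L) (hnd : L.Nodup)
    (hok : L.all (fun l => memPair l && canonNum l == l) = true) : Nat.card ↥H = L.length := by
  classical
  simp only [List.all_eq_true, Bool.and_eq_true, beq_iff_eq] at hok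
  rw [← List.toFinset_card_of_nodup hnd, ← Nat.card_eq_finsetCard]
  refine Nat.card_congr (Equiv.ofBijective
    (fun σ => ⟨canon (σ : ↥pairGrp), List.mem_toFinset.2 ((hmem _).1 σ.2)⟩) ⟨fun σ τ h => ?_, ?_⟩)
  · exact Subtype.ext (Subtype.ext (canon_injective (congrArg Subtype.val h)))
  · rintro ⟨l, hl⟩
    rw [List.mem_toFinset] at hl
    obtain ⟨σ, hσ⟩ := exists_rep_pair (hok l hl).1
    have hc : canon (σ : Equiv.Perm GolayPt) = l := by rw [canon_eq hσ, (hok l hl).2]
    exact ⟨⟨σ, (hmem σ).2 (hc ▸ hl)⟩, Subtype.ext hc⟩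

end Cfsg.Agent.JankoFour
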