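import Cfsg.Agent.Lib.JankoFour.CentT
import Cfsg.Agent.Lib.JankoFour.PairModel
import Cfsg.Agent.Lib.Mathieu.FreeClasses

/-!
# The facts used by `CentT` from the model of `N(V)/V` on the 24 points

`DuadModel z V Φ π`: `Φ` takes words to `V` without relations of weight 2, 4 or 6, `π : N(V) → M₂₄` has
kernel `V` and moves the duads, duads are not conjugate to `z` and tetrads are.
-/

set_option autoImplicit false

namespace Cfsg.Agent.JankoFour

open Cfsg Subgroup Cfsg.Agent.Mathieu

variable {G : Type*} [Group G]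

/-- The word of a set of points. -/
def wd (s : Finset GolayPt) : GolayPt → ZMod 2 := fun i => if i ∈ s then 1 else 0

theorem wd_symmDiff (s t : Finset GolayPt) : wd (symmDiff s t) = wd s + wd t := by
  funext i
  by_cases hs : i ∈ s <;> by_cases ht : i ∈ t <;> simp [wd, Finset.mem_symmDiff, hs, ht] <;> decide

theorem card_symmDiff_pts (s t : Finset GolayPt) :
    (symmDiff s t).card + 2 * (s ∩ t).card = s.card + t.card := by
  have h : symmDiff s t = (s \ t) ∪ (t \ s) := rfl
  rw [h, Finset.card_union_of_disjoint disjoint_sdiff_sdiff]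
  have h1 := Finset.card_sdiff_add_card_inter s t
  have h2 := Finset.card_sdiff_add_card_inter t s
  rw [Finset.inter_comm t s] at h2
  omega

/-- The value of a set of points. -/
def val (Φ : Multiplicative (GolayPt → ZMod 2) →* G) (s : Finset GolayPt) : G :=
  Φ (Multiplicative.ofAdd (wd s))

/-- What is used about the model of `N(V)/V`. -/
structure DuadModel (z : G) (V : Subgroup G) (Φ : Multiplicative (GolayPt → ZMod 2) →* G)
    (π : ↥(normalizer (V : Set G)) →* ↥M24) : Prop where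
  sq : ∀ x ∈ V, x * x = 1
  card : Nat.card ↥V = 2 ^ 11
  mem : ∀ s : Finset GolayPt, Even s.card → val Φ s ∈ V
  short : ∀ s : Finset GolayPt, (s.card = 2 ∨ s.card = 4 ∨ s.card = 6) → val Φ s ≠ 1
  pi_eq_one : ∀ m, π m = 1 ↔ (m : G) ∈ V
  move : ∀ (m : ↥(normalizer (V : Set G))) (x y : GolayPt), x ≠ y →
    (m : G) * val Φ {x, y} * (m : G)⁻¹ =
      val Φ {(π m : Equiv.Perm GolayPt) x, (π m : Equiv.Perm GolayPt) y}
  duad_nconj : ∀ x y : GolayPt, x ≠ y → ¬ IsConj z (val Φ {x, y})
  four_conj : ∀ s : Finset GolayPt, s.card = 4 → IsConj z (val Φ s)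
  duad_of : ∀ v ∈ V, v ≠ 1 → ¬ IsConj z v → ∃ x y, x ≠ y ∧ v = val Φ {x, y}

namespace DuadModel

variable {z : G} {V : Subgroup G} {Φ : Multiplicative (GolayPt → ZMod 2) →* G}
  {π : ↥(normalizer (V : Set G)) →* ↥M24}

theorem val_symmDiff (s t : Finset GolayPt) : val Φ (symmDiff s t) = val Φ s * val Φ t := by
  rw [val, val, val, wd_symmDiff, ofAdd_add, map_mul]

theorem val_empty : val Φ (∅ : Finset GolayPt) = 1 := by
  have : wd (∅ : Finset GolayPt) = 0 := funext fun i => by simp [wd]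
  rw [val, this, ofAdd_zero, map_one]

theorem val_sq (s : Finset GolayPt) : val Φ s * val Φ s = 1 := by
  rw [← val_symmDiff, symmDiff_self, Finset.bot_eq_empty, val_empty]

variable (M : DuadModel z V Φ π)
include M

/-- Two sets with the same value, differing in at most six points, are equal. -/
theorem eq_of_val {s t : Finset GolayPt} (h : val Φ s = val Φ t)
    (he : Even (s.card + t.card)) (h6 : (symmDiff s t).card ≤ 6) : s = t := by
  by_contra hne
  have h0 : (symmDiff s t).card ≠ 0 := fun h0 => hne (by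
    rwa [Finset.card_eq_zero, ← Finset.bot_eq_empty, symmDiff_eq_bot] at h0)
  have hc := card_symmDiff_pts s t
  obtain ⟨k, hk⟩ := he
  exact M.short (symmDiff s t) (by omega) (by rw [val_symmDiff, h, val_sq])

theorem pair_eq {x y p q : GolayPt} (hxy : x ≠ y) (hpq : p ≠ q) (h : val Φ {x, y} = val Φ {p, q}) :
    ({x, y} : Finset GolayPt) = {p, q} := by
  have hc := card_symmDiff_pts {x, y} {p, q}
  rw [Finset.card_pair hxy, Finset.card_pair hpq] at hc
  exact M.eq_of_val h (by rw [Finset.card_pair hxy, Finset.card_pair hpq]; decide) (by omega)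

theorem pair_ne_one {x y : GolayPt} (hxy : x ≠ y) : val Φ {x, y} ≠ 1 :=
  M.short _ (Or.inl (Finset.card_pair hxy))

theorem pair_mem {x y : GolayPt} (hxy : x ≠ y) : val Φ {x, y} ∈ V :=
  M.mem _ (by rw [Finset.card_pair hxy]; decide)

/-- Conjugation moves the even sets as `π` moves the points. -/
theorem move_set (m : ↥(normalizer (V : Set G))) : ∀ s : Finset GolayPt, Even s.card →
    (m : G) * val Φ s * (m : G)⁻¹ = val Φ (s.image (π m : Equiv.Perm GolayPt)) := by
  intro s
  induction s using Finset.strongInduction with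
  | _ s ih =>
    intro he
    rcases s.eq_empty_or_nonempty with rfl | ⟨x, hx⟩
    · rw [Finset.image_empty, val_empty, mul_one, mul_inv_cancel]
    · obtain ⟨k, hk⟩ := he
      obtain ⟨y, hy⟩ : (s.erase x).Nonempty := by
        rw [← Finset.card_pos, Finset.card_erase_of_mem hx]
        have := Finset.card_pos.2 ⟨x, hx⟩
        omega
      obtain ⟨hyx, hys⟩ := Finset.mem_erase.1 hy
      set r := (s.erase x).erase y with hr
      have hdis : ∀ i, i ∈ r ↔ i ∈ s ∧ i ≠ x ∧ i ≠ y := fun i => by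
        simp only [hr, Finset.mem_erase]; tauto
      have hsplit : s = symmDiff r {x, y} := by
        ext i
        by_cases h1 : i = x <;> by_cases h2 : i = y <;>
          simp [Finset.mem_symmDiff, hdis, h1, h2, hx, hys]
      have hrc : r.card = s.card - 2 := by
        rw [hr, Finset.card_erase_of_mem hy, Finset.card_erase_of_mem hx]; omega
      have hlt : r ⊂ s := Finset.ssubset_iff_of_subset (fun i hi => ((hdis i).1 hi).1) |>.2
        ⟨x, hx, fun h => ((hdis x).1 h).2.1 rfl⟩
      have ihr := ih r hlt ⟨k - 1, by omega⟩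
      conv_lhs => rw [hsplit, val_symmDiff, ← conj_mul, ihr, M.move m x y hyx.symm]
      rw [← val_symmDiff]
      congr 1
      rw [show ({(π m : Equiv.Perm GolayPt) x, (π m : Equiv.Perm GolayPt) y} : Finset GolayPt)
        = ({x, y} : Finset GolayPt).image (π m : Equiv.Perm GolayPt) by simp [Finset.image_insert]]
      conv_rhs => rw [hsplit, Finset.image_symmDiff _ _ (Equiv.injective _)]

/-- Two duads with a common point. -/
theorem pairs_share {s c d : GolayPt} (hc : c ≠ s) (hd : d ≠ s) (hcd : c ≠ d) :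
    val Φ {s, c} * val Φ {s, d} = val Φ {c, d} := by
  rw [← val_symmDiff]
  congr 1
  ext i
  simp only [Finset.mem_symmDiff, Finset.mem_insert, Finset.mem_singleton]
  constructor
  · tauto
  · rintro (rfl | rfl)
    · exact Or.inl ⟨Or.inr rfl, fun h => h.elim hc hcd⟩
    · exact Or.inr ⟨Or.inr rfl, fun h => h.elim hd hcd.symm⟩

/-- Two disjoint duads. -/
theorem pairs_disj {p q r s : GolayPt} (hpr : p ≠ r) (hps : p ≠ s) (hqr : q ≠ r) (hqs : q ≠ s)
    (hpq : p ≠ q) (hrs : r ≠ s) :
    val Φ {p, q} * val Φ {r, s} = val Φ {p, q, r, s} ∧ ({p, q, r, s} : Finset GolayPt).card = 4 := by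
  refine ⟨?_, by rw [Finset.card_insert_of_notMem (by simp [hpq, hpr, hps]),
    Finset.card_insert_of_notMem (by simp [hqr, hqs]), Finset.card_pair hrs]⟩
  rw [← val_symmDiff]
  congr 1
  ext i
  simp only [Finset.mem_symmDiff, Finset.mem_insert, Finset.mem_singleton]
  constructor
  · tauto
  · rintro (rfl | rfl | rfl | rfl)
    · exact Or.inl ⟨Or.inl rfl, fun h => h.elim hpr hps⟩
    · exact Or.inl ⟨Or.inr rfl, fun h => h.elim hqr hqs⟩
    · exact Or.inr ⟨Or.inl rfl, fun h => h.elim hpr.symm hqr.symm⟩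
    · exact Or.inr ⟨Or.inr rfl, fun h => h.elim hps.symm hqs.symm⟩

omit M in
theorem card_pts : Fintype.card GolayPt = 24 := by rw [← Finset.card_univ, card_univ_pts]

section Duad

variable {a b : GolayPt} (hab : a ≠ b)
include hab

/-- An element centralising the duad fixes or swaps its points. -/
theorem fix_or_swap {m : ↥(normalizer (V : Set G))} (hm : Commute (m : G) (val Φ {a, b})) :
    (π m : Equiv.Perm GolayPt) a = a ∧ (π m : Equiv.Perm GolayPt) b = b ∨
      (π m : Equiv.Perm GolayPt) a = b ∧ (π m : Equiv.Perm GolayPt) b = a := by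
  have h := M.move m a b hab
  rw [hm.eq, mul_inv_cancel_right] at h
  have e := M.pair_eq hab ((π m : Equiv.Perm GolayPt).injective.ne hab) h
  have h1 : (π m : Equiv.Perm GolayPt) a ∈ ({a, b} : Finset GolayPt) := by rw [e]; simp
  have h2 : (π m : Equiv.Perm GolayPt) b ∈ ({a, b} : Finset GolayPt) := by rw [e]; simp
  have hne := (π m : Equiv.Perm GolayPt).injective.ne hab
  simp only [Finset.mem_insert, Finset.mem_singleton] at h1 h2
  rcases h1 with h1 | h1 <;> rcases h2 with h2 | h2
  · exact absurd (h1.trans h2.symm) hne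
  · exact Or.inl ⟨h1, h2⟩
  · exact Or.inr ⟨h1, h2⟩
  · exact absurd (h1.trans h2.symm) hne

/-- The free subgroups through a duad lie in a triangle. -/
theorem free_shape {Y : Subgroup G} (hY : Y ≤ V) (ht : val Φ {a, b} ∈ Y) (hfree : ∀ y ∈ Y, ¬ IsConj z y) :
    ∃ c, c ≠ a ∧ c ≠ b ∧ ∀ y ∈ Y,
      y = 1 ∨ y = val Φ {a, b} ∨ y = val Φ {a, c} ∨ y = val Φ {b, c} := by
  -- a point of the triangle
  have hpt : ∀ y ∈ Y, y ≠ 1 → y ≠ val Φ {a, b} →
      ∃ c, c ≠ a ∧ c ≠ b ∧ (y = val Φ {a, c} ∨ y = val Φ {b, c}) := by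
    intro y hy hy1 hyt
    obtain ⟨p, q, hpq, rfl⟩ := M.duad_of y (hY hy) hy1 (hfree y hy)
    have hne : ({p, q} : Finset GolayPt) ≠ {a, b} := fun h => hyt (by rw [h])
    by_cases hp : p = a ∨ p = b
    · refine ⟨q, ?_, ?_, ?_⟩
      · rintro rfl
        rcases hp with rfl | rfl
        · exact hpq rfl
        · exact hne (Finset.pair_comm _ _)
      · rintro rfl
        rcases hp with rfl | rfl
        · exact hne rfl
        · exact hpq rfl
      · rcases hp with rfl | rfl <;> simp
    by_cases hq : q = a ∨ q = b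
    · rw [not_or] at hp
      refine ⟨p, hp.1, hp.2, ?_⟩
      rcases hq with rfl | rfl
      · exact Or.inl (by rw [Finset.pair_comm])
      · exact Or.inr (by rw [Finset.pair_comm])
    exfalso
    rw [not_or] at hp hq
    refine hfree _ (Y.mul_mem ht hy) ?_
    rw [← val_symmDiff]
    refine M.four_conj _ ?_
    have hc := card_symmDiff_pts {a, b} {p, q}
    have hi : ({a, b} : Finset GolayPt) ∩ {p, q} = ∅ := by
      ext i
      simp only [Finset.mem_inter, Finset.mem_insert, Finset.mem_singleton, Finset.notMem_empty,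
        iff_false, not_and, not_or]
      rintro (rfl | rfl) <;> exact ⟨by tauto, by tauto⟩
    rw [hi, Finset.card_empty, Finset.card_pair hab, Finset.card_pair hpq] at hc
    omega
  by_cases hall : ∀ y ∈ Y, y = 1 ∨ y = val Φ {a, b}
  · obtain ⟨c, -, hca, hcb⟩ : ∃ c, c ∈ (Finset.univ : Finset GolayPt) ∧ c ≠ a ∧ c ≠ b := by
      obtain ⟨c, hc⟩ : ((Finset.univ : Finset GolayPt) \ {a, b}).Nonempty := by
        rw [← Finset.card_pos]
        have := Finset.le_card_sdiff ({a, b} : Finset GolayPt) Finset.univ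
        rw [Finset.card_pair hab, card_univ_pts] at this
        omega
      simp only [Finset.mem_sdiff, Finset.mem_insert, Finset.mem_singleton, not_or] at hc
      exact ⟨c, hc.1, hc.2⟩
    exact ⟨c, hca, hcb, fun y hy => (hall y hy).imp_right Or.inl⟩
  push Not at hall
  obtain ⟨y₀, hy₀, h01, h0t⟩ := hall
  obtain ⟨c, hca, hcb, h0⟩ := hpt y₀ hy₀ h01 h0t
  refine ⟨c, hca, hcb, fun y hy => ?_⟩
  by_cases hy1 : y = 1
  · exact Or.inl hy1
  by_cases hyt : y = val Φ {a, b}
  · exact Or.inr (Or.inl hyt)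
  obtain ⟨c', hc'a, hc'b, h'⟩ := hpt y hy hy1 hyt
  have hcc : c' = c := by
    by_contra hcc
    have hm := Y.mul_mem hy₀ hy
    have h1 := M.pairs_disj (p := a) (q := b) (r := c) (s := c') hca.symm hc'a.symm hcb.symm hc'b.symm
      hab (Ne.symm hcc)
    rcases h0 with rfl | rfl <;> rcases h' with rfl | rfl
    · refine hfree _ (Y.mul_mem ht hm) ?_
      rw [M.pairs_share hca hc'a (Ne.symm hcc), h1.1]
      exact M.four_conj _ h1.2
    · refine hfree _ hm ?_
      have h2 := M.pairs_disj (p := a) (q := c) (r := b) (s := c') hab hc'a.symm hcb (Ne.symm hcc)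
        hca.symm hc'b.symm
      rw [h2.1]
      exact M.four_conj _ h2.2
    · refine hfree _ hm ?_
      have h2 := M.pairs_disj (p := b) (q := c) (r := a) (s := c') hab.symm hc'b.symm hca (Ne.symm hcc)
        hcb.symm hc'a.symm
      rw [h2.1]
      exact M.four_conj _ h2.2
    · refine hfree _ (Y.mul_mem ht hm) ?_
      rw [M.pairs_share hcb hc'b (Ne.symm hcc), h1.1]
      exact M.four_conj _ h1.2
  exact Or.inr (Or.inr (hcc ▸ h'))

theorem free_card [Finite G] {Y : Subgroup G} (hY : Y ≤ V) (ht : val Φ {a, b} ∈ Y)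
    (hfree : ∀ y ∈ Y, ¬ IsConj z y) : Nat.card ↥Y ≤ 4 := by
  obtain ⟨c, -, -, hc⟩ := M.free_shape hab hY ht hfree
  have hsub : (Y : Set G) ⊆ {1, val Φ {a, b}, val Φ {a, c}, val Φ {b, c}} := fun y hy => by
    simpa using hc y hy
  calc Nat.card ↥Y = (Y : Set G).ncard := rfl
    _ ≤ ({1, val Φ {a, b}, val Φ {a, c}, val Φ {b, c}} : Set G).ncard :=
        Set.ncard_le_ncard hsub (Set.toFinite _)
    _ ≤ 4 := by
        refine (Set.ncard_insert_le _ _).trans (Nat.succ_le_succ ?_)
        refine (Set.ncard_insert_le _ _).trans (Nat.succ_le_succ ?_)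
        exact (Set.ncard_insert_le _ _).trans (by simp)

theorem free_split {Y : Subgroup G} (hY : Y ≤ V) (ht : val Φ {a, b} ∈ Y)
    (hfree : ∀ y ∈ Y, ¬ IsConj z y) :
    ∃ j ∈ V, IsConj z j ∧ (∀ y ∈ Y, y ≠ 1 → ¬ IsConj z (j * y)) ∧ ∃ d ∈ V, IsConj z d ∧
      ∀ m ∈ normalizer (V : Set G), Commute m (val Φ {a, b}) → m * j * m⁻¹ ≠ d := by
  obtain ⟨c, hca, hcb, hc⟩ := M.free_shape hab hY ht hfree
  obtain ⟨e, e', hee, hea, heb, hec, hea', heb', hec'⟩ : ∃ e e' : GolayPt, e ≠ e' ∧ e ≠ a ∧ e ≠ b ∧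
      e ≠ c ∧ e' ≠ a ∧ e' ≠ b ∧ e' ≠ c := by
    have h := Finset.le_card_sdiff ({a, b, c} : Finset GolayPt) Finset.univ
    rw [card_univ_pts] at h
    have h3 : ({a, b, c} : Finset GolayPt).card ≤ 3 := Finset.card_le_three
    obtain ⟨e, he, e', he', hne⟩ := Finset.one_lt_card.1
      (show 1 < ((Finset.univ : Finset GolayPt) \ {a, b, c}).card by omega)
    simp only [Finset.mem_sdiff, Finset.mem_insert, Finset.mem_singleton, not_or] at he he'
    exact ⟨e, e', hne, he.2.1, he.2.2.1, he.2.2.2, he'.2.1, he'.2.2.1, he'.2.2.2⟩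
  set T : Finset GolayPt := {a, b, c, e} with hT
  set S : Finset GolayPt := {a, c, e, e'} with hS
  have hT4 : T.card = 4 := by
    rw [hT, Finset.card_insert_of_notMem (by simp [hab, hca.symm, hea.symm]),
      Finset.card_insert_of_notMem (by simp [hcb.symm, heb.symm]), Finset.card_pair hec.symm]
  have hS4 : S.card = 4 := by
    rw [hS, Finset.card_insert_of_notMem (by simp [hca.symm, hea.symm, hea'.symm]),
      Finset.card_insert_of_notMem (by simp [hec.symm, hec'.symm]), Finset.card_pair hee]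
  refine ⟨val Φ T, M.mem T (by rw [hT4]; decide), M.four_conj T hT4, fun y hy hy1 => ?_,
    val Φ S, M.mem S (by rw [hS4]; decide), M.four_conj S hS4, fun m hm hmt heq => ?_⟩
  · have hcalc : ∀ p q u v : GolayPt, val Φ T = val Φ {p, q} * val Φ {u, v} → u ≠ v →
        ¬ IsConj z (val Φ T * val Φ {p, q}) := fun p q u v h huv => by
      have hcomm : val Φ T * val Φ {p, q} = val Φ {p, q} * val Φ T := by
        rw [← val_symmDiff, ← val_symmDiff, symmDiff_comm]
      rw [hcomm, h, ← mul_assoc, val_sq, one_mul]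
      exact M.duad_nconj u v huv
    rcases hc y hy with h | h | h | h
    · exact absurd h hy1
    · rw [h]
      refine hcalc a b c e ?_ hec.symm
      rw [(M.pairs_disj (p := a) (q := b) (r := c) (s := e) hca.symm hea.symm hcb.symm heb.symm hab hec.symm).1]
    · rw [h]
      refine hcalc a c b e ?_ heb.symm
      rw [(M.pairs_disj (p := a) (q := c) (r := b) (s := e) hab hea.symm hcb hec.symm hca.symm heb.symm).1,
        hT, Finset.insert_comm b c]
    · rw [h]
      refine hcalc b c a e ?_ hea.symm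
      rw [(M.pairs_disj (p := b) (q := c) (r := a) (s := e) hab.symm heb.symm hca hec.symm hcb.symm hea.symm).1,
        hT, Finset.insert_comm a b, Finset.insert_comm a c]
  · have h := M.move_set ⟨m, hm⟩ T (by rw [hT4]; decide)
    rw [heq] at h
    set σ : Equiv.Perm GolayPt := (π ⟨m, hm⟩ : Equiv.Perm GolayPt) with hσ
    have hTc : (T.image σ).card = 4 := by rw [Finset.card_image_of_injective _ σ.injective, hT4]
    have habT : a ∈ T.image σ ∧ b ∈ T.image σ := by
      rcases M.fix_or_swap hab (m := ⟨m, hm⟩) hmt with ⟨h1, h2⟩ | ⟨h1, h2⟩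
      · exact ⟨Finset.mem_image.2 ⟨a, by simp [hT], h1⟩, Finset.mem_image.2 ⟨b, by simp [hT], h2⟩⟩
      · exact ⟨Finset.mem_image.2 ⟨b, by simp [hT], h2⟩, Finset.mem_image.2 ⟨a, by simp [hT], h1⟩⟩
    have hi : 1 ≤ (S ∩ T.image σ).card :=
      Finset.card_pos.2 ⟨a, Finset.mem_inter.2 ⟨by simp [hS], habT.1⟩⟩
    have hcd := card_symmDiff_pts S (T.image σ)
    rw [hS4, hTc] at hcd
    have he := M.eq_of_val h (by rw [hS4, hTc]; decide) (by omega)
    have hbS : b ∈ S := he ▸ habT.2
    simp [hS, hab.symm, hcb.symm, heb.symm, heb'.symm] at hbS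

theorem fix_seven [Finite G] {v : ↥(normalizer (V : Set G))} (hfix : (π v : Equiv.Perm GolayPt) a = a)
    (hv : (v : G) * v = 1) : 2 ^ 7 ≤ Nat.card ↥(V ⊓ centralizer ({(v : G)} : Set G)) := by
  classical
  set σ : Equiv.Perm GolayPt := (π v : Equiv.Perm GolayPt) with hσ
  set C := V ⊓ centralizer ({(v : G)} : Set G) with hC
  by_cases h1 : π v = 1
  · have hvV := (M.pi_eq_one v).1 h1
    have hCV : C = V := inf_eq_left.2 fun x hx => mem_centralizer_singleton_iff.2 (by
      have e := M.sq _ (V.mul_mem hx hvV)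
      have e2 := inv_eq_of_mul_eq_one_right e
      rw [_root_.mul_inv_rev, inv_eq_of_mul_eq_one_right (M.sq x hx),
        inv_eq_of_mul_eq_one_right hv] at e2
      exact e2.symm)
    rw [hCV, M.card]; norm_num
  have hσ2 : σ * σ = 1 := by
    rw [hσ, ← Subgroup.coe_mul, ← map_mul, show v * v = 1 from Subtype.ext hv, map_one, Subgroup.coe_one]
  have hσne : σ ≠ 1 := fun e => h1 (Subtype.ext e)
  have h8 : (Finset.univ.filter fun p => σ p = p).card = 8 := by
    rcases involution_fix (π v).2 hσ2 hσne with h | ⟨h, -⟩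
    · exact h
    · exact absurd h (Finset.card_pos.2 ⟨a, by simpa [hσ] using hfix⟩).ne'
  set F := Finset.univ.filter fun p => σ p = p with hF
  obtain ⟨S7, hS7F, hS7⟩ := Finset.exists_subset_card_eq (show 7 ≤ F.card by omega)
  obtain ⟨e1, he1⟩ := Finset.card_pos.1 (show 0 < S7.card by omega)
  set S6 := S7.erase e1 with hS6
  let E : Finset GolayPt → Finset GolayPt := fun s => if Even s.card then s else insert e1 s
  have hE : ∀ s, s ⊆ S6 → E s ⊆ S7 ∧ Even (E s).card ∧ (E s).erase e1 = s := by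
    intro s hs
    have hs7 : s ⊆ S7 := hs.trans (Finset.erase_subset _ _)
    have hne : e1 ∉ s := fun h => (Finset.mem_erase.1 (hs h)).1 rfl
    by_cases h : Even s.card
    · simp only [E, if_pos h]
      exact ⟨hs7, h, Finset.erase_eq_of_notMem hne⟩
    · simp only [E, if_neg h]
      refine ⟨Finset.insert_subset he1 hs7, ?_, Finset.erase_insert hne⟩
      rw [Finset.card_insert_of_notMem hne]
      exact Nat.even_add_one.2 h
  have h7 : ∀ u, u ⊆ S7 → u.card ≤ 7 := fun u hu => hS7 ▸ Finset.card_le_card hu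
  have hinj : ∀ s, s ⊆ S6 → ∀ r, r ⊆ S6 → val Φ (E s) = val Φ (E r) → s = r := by
    intro s hs r hr h
    have hsd : (symmDiff (E s) (E r)).card ≤ 7 :=
      h7 _ ((symmDiff_le_sup (a := E s) (b := E r)).trans (Finset.union_subset (hE s hs).1 (hE r hr).1))
    have hc := card_symmDiff_pts (E s) (E r)
    obtain ⟨k, hk⟩ := (hE s hs).2.1
    obtain ⟨l, hl⟩ := (hE r hr).2.1
    rw [← (hE s hs).2.2, M.eq_of_val h ⟨k + l, by omega⟩ (by omega), (hE r hr).2.2]
  -- moved pairs
  have hmoved : 16 = (Finset.univ \ F : Finset GolayPt).card := by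
    rw [Finset.card_sdiff_of_subset (Finset.subset_univ _), card_univ_pts, h8]
  obtain ⟨p, hp⟩ := Finset.card_pos.1 (show 0 < (Finset.univ \ F : Finset GolayPt).card by omega)
  obtain ⟨q, hq⟩ := Finset.card_pos.1 (show 0 < ((Finset.univ \ F) \ {p, σ p} : Finset GolayPt).card by
    have := Finset.le_card_sdiff ({p, σ p} : Finset GolayPt) (Finset.univ \ F)
    have h2 : ({p, σ p} : Finset GolayPt).card ≤ 2 := Finset.card_le_two
    omega)
  simp only [Finset.mem_sdiff, Finset.mem_univ, true_and, hF, Finset.mem_filter, Finset.mem_insert,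
    Finset.mem_singleton, not_or] at hp hq
  have hσσ : ∀ x, σ (σ x) = x := fun x => by rw [← Equiv.Perm.mul_apply, hσ2, Equiv.Perm.one_apply]
  have hout : ∀ x, σ x ≠ x → ∀ u, u ⊆ S7 → x ∉ u ∧ σ x ∉ u := fun x hx u hu => by
    constructor <;> intro h
    · exact hx (Finset.mem_filter.1 (hS7F (hu h))).2
    · have := (Finset.mem_filter.1 (hS7F (hu h))).2
      rw [hσσ] at this; exact hx this.symm
  have hsum : ∀ x, σ x ≠ x → ∀ u, u ⊆ S7 → (symmDiff {x, σ x} u).card = 2 + u.card := fun x hx u hu => by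
    have hc := card_symmDiff_pts {x, σ x} u
    have hi : ({x, σ x} : Finset GolayPt) ∩ u = ∅ := by
      ext i
      simp only [Finset.mem_inter, Finset.mem_insert, Finset.mem_singleton, Finset.notMem_empty,
        iff_false, not_and]
      rintro (rfl | rfl)
      exacts [(hout i hx u hu).1, (hout x hx u hu).2]
    rw [hi, Finset.card_empty, Finset.card_pair (Ne.symm hx)] at hc
    omega
  obtain ⟨x, hx, hxu⟩ : ∃ x, σ x ≠ x ∧ ∀ u, u ⊆ S7 → Even u.card → val Φ {x, σ x} ≠ val Φ u := by
    by_contra hall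
    push Not at hall
    obtain ⟨u, hu, hue, hu'⟩ := hall p hp
    obtain ⟨w, hw, hwe, hw'⟩ := hall q hq.1
    have h6 : ∀ x, σ x ≠ x → ∀ u, u ⊆ S7 → Even u.card → val Φ {x, σ x} = val Φ u → u.card = 6 := by
      intro x hx u hu hue h
      have := h7 u hu
      obtain ⟨k, hk⟩ := hue
      by_contra h6
      refine M.short (symmDiff {x, σ x} u) (by rw [hsum x hx u hu]; omega) ?_
      rw [val_symmDiff, h, val_sq]
    have hu6 := h6 p hp u hu hue hu'
    have hw6 := h6 q hq.1 w hw hwe hw'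
    have huw : (symmDiff u w).card ≤ 2 := by
      have hc := card_symmDiff_pts u w
      have hl : (u ∪ w).card ≤ 7 := h7 _ (Finset.union_subset hu hw)
      have := Finset.card_union_add_card_inter u w
      omega
    have hpq : ({p, σ p} : Finset GolayPt) ∩ {q, σ q} = ∅ := by
      ext i
      simp only [Finset.mem_inter, Finset.mem_insert, Finset.mem_singleton, Finset.notMem_empty,
        iff_false, not_and, not_or]
      rintro (rfl | rfl)
      · exact ⟨fun e => hq.2.1 e.symm, fun e => hq.2.2 (by rw [e, hσσ])⟩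
      · exact ⟨fun e => hq.2.2 e.symm, fun e => hq.2.1 (σ.injective e).symm⟩
    have hc := card_symmDiff_pts {p, σ p} {q, σ q}
    rw [hpq, Finset.card_empty, Finset.card_pair (Ne.symm hp), Finset.card_pair (Ne.symm hq.1)] at hc
    have hcu := card_symmDiff_pts u w
    have hc2 := card_symmDiff_pts (symmDiff {p, σ p} {q, σ q}) (symmDiff u w)
    have hi : (symmDiff ({p, σ p} : Finset GolayPt) {q, σ q}) ∩ symmDiff u w = ∅ := by
      ext i
      simp only [Finset.mem_inter, Finset.notMem_empty, iff_false, not_and]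
      intro h1 h2
      have hi7 : i ∈ S7 :=
        (symmDiff_le_sup (a := u) (b := w)).trans (Finset.union_subset hu hw) h2
      have hfi : σ i = i := (Finset.mem_filter.1 (hS7F hi7)).2
      simp only [Finset.mem_symmDiff, Finset.mem_insert, Finset.mem_singleton] at h1
      rcases h1 with ⟨rfl | rfl, -⟩ | ⟨rfl | rfl, -⟩
      · exact hp hfi
      · rw [hσσ] at hfi; exact hp hfi.symm
      · exact hq.1 hfi
      · rw [hσσ] at hfi; exact hq.1 hfi.symm
    rw [hi, Finset.card_empty] at hc2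
    refine M.short _ ?_ (show val Φ (symmDiff (symmDiff {p, σ p} {q, σ q}) (symmDiff u w)) = 1 by
      rw [val_symmDiff, val_symmDiff, val_symmDiff, hu', hw', ← val_symmDiff u w, val_sq])
    omega
  -- the count
  have hfixed : ∀ u : Finset GolayPt, Even u.card → u.image σ = u → val Φ u ∈ C := fun u hue hu => by
    refine ⟨M.mem u hue, mem_centralizer_singleton_iff.2 ?_⟩
    have h := M.move_set v u hue
    rw [hu] at h
    exact (mul_inv_eq_iff_eq_mul.1 h).symm
  have hid : ∀ u, u ⊆ S7 → u.image σ = u := fun u hu => by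
    conv_rhs => rw [← Finset.image_id (s := u)]
    exact Finset.image_congr fun i hi => (Finset.mem_filter.1 (hS7F (hu hi))).2
  set P := S6.powerset with hP
  have hP64 : P.card = 64 := by
    rw [hP, Finset.card_powerset, hS6, Finset.card_erase_of_mem he1, hS7]; norm_num
  let f : Bool × Finset GolayPt → G := fun o =>
    if o.1 then val Φ {x, σ x} * val Φ (E o.2) else val Φ (E o.2)
  have hfmem : ∀ o ∈ (Finset.univ : Finset Bool) ×ˢ P, f o ∈ C := by
    rintro ⟨o, s⟩ ho
    have hs := Finset.mem_powerset.1 (Finset.mem_product.1 ho).2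
    have h := hfixed _ (hE s hs).2.1 (hid _ (hE s hs).1)
    cases o
    · exact h
    · refine C.mul_mem (hfixed _ (by rw [Finset.card_pair (Ne.symm hx)]; decide) ?_) h
      rw [Finset.image_insert, Finset.image_singleton, hσσ, Finset.pair_comm]
  have hfinj : Set.InjOn f ↑((Finset.univ : Finset Bool) ×ˢ P) := by
    rintro ⟨o, s⟩ ho ⟨o', r⟩ ho' h
    have hs := Finset.mem_powerset.1 (Finset.mem_product.1 ho).2
    have hr := Finset.mem_powerset.1 (Finset.mem_product.1 ho').2
    have hcross : ∀ s, s ⊆ S6 → ∀ r, r ⊆ S6 → val Φ {x, σ x} * val Φ (E s) ≠ val Φ (E r) := by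
      intro s hs r hr h
      refine hxu (symmDiff (E r) (E s))
        ((symmDiff_le_sup (a := E r) (b := E s)).trans (Finset.union_subset (hE r hr).1 (hE s hs).1)) ?_ ?_
      · obtain ⟨k, hk⟩ := (hE r hr).2.1
        obtain ⟨l, hl⟩ := (hE s hs).2.1
        have := card_symmDiff_pts (E r) (E s)
        exact ⟨k + l - (E r ∩ E s).card, by omega⟩
      · rw [val_symmDiff, ← h, mul_assoc, val_sq, mul_one]
    cases o <;> cases o'
    · exact Prod.ext rfl (hinj s hs r hr h)
    · exact absurd h.symm (hcross r hr s hs)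
    · exact absurd h (hcross s hs r hr)
    · exact Prod.ext rfl (hinj s hs r hr (mul_left_cancel h))
  calc (2 : ℕ) ^ 7 = ((Finset.univ : Finset Bool) ×ˢ P).card := by
        rw [Finset.card_product, hP64, Finset.card_univ, Fintype.card_bool]; norm_num
    _ = (((Finset.univ : Finset Bool) ×ˢ P).image f).card := (Finset.card_image_of_injOn hfinj).symm
    _ ≤ Nat.card ↥C := by
        rw [← Set.ncard_coe_finset]
        refine Set.ncard_le_ncard ?_ (Set.toFinite _)
        intro g hg
        obtain ⟨o, ho, rfl⟩ := Finset.mem_image.1 hg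
        exact hfmem o ho

/-- The stabiliser of both points of the duad. -/
def fixBoth (π : ↥(normalizer (V : Set G)) →* ↥M24) (a b : GolayPt) : Subgroup G :=
  (((MulAction.stabilizer (Equiv.Perm GolayPt) a ⊓ MulAction.stabilizer (Equiv.Perm GolayPt) b).comap
    M24.subtype).comap π).map (normalizer (V : Set G)).subtype

omit M hab in
theorem mem_fixBoth {m : G} : m ∈ fixBoth π a b ↔ ∃ hm : m ∈ normalizer (V : Set G),
    (π ⟨m, hm⟩ : Equiv.Perm GolayPt) a = a ∧ (π ⟨m, hm⟩ : Equiv.Perm GolayPt) b = b := by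
  simp [fixBoth, mem_subgroupOf, Subgroup.mem_inf, MulAction.mem_stabilizer_iff, Equiv.Perm.smul_def]

/-- `A → Aut M₂₂` with kernel `A ∩ V`. -/
theorem elem_bounds [Finite G] (F : AutFacts innerM22) {A : Subgroup G} (hsq : ∀ a ∈ A, a * a = 1)
    (hN : A ≤ normalizer (V : Set G)) (ht : ∀ x ∈ A, Commute x (val Φ {a, b})) :
    Nat.card ↥A ≤ 32 * Nat.card ↥(A ⊓ V) ∧
      (A ≤ fixBoth π a b → Nat.card ↥A ≤ 16 * Nat.card ↥(A ⊓ V)) := by
  obtain ⟨g, hg, hga, hgb⟩ := M24_exists_map_pair hab (show (none : GolayPt) ≠ some 0 by simp)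
  let χ : ↥A →* Equiv.Perm GolayPt :=
    (MulAut.conj g).toMonoidHom.comp (M24.subtype.comp (π.comp (Subgroup.inclusion hN)))
  have hχ : ∀ x : ↥A, χ x = g * (π ⟨x, hN x.2⟩ : Equiv.Perm GolayPt) * g⁻¹ := fun x => rfl
  have hgi : g⁻¹ none = a ∧ g⁻¹ (some 0) = b := by
    rw [← hga, ← hgb]; simp
  have hmem : ∀ x : ↥A, χ x ∈ pairGrp := fun x => by
    rw [hχ, mem_pairGrp]
    refine ⟨M24.mul_mem (M24.mul_mem hg (π _).2) (M24.inv_mem hg), ?_⟩
    simp only [Equiv.Perm.mul_apply, hgi.1, hgi.2]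
    rcases M.fix_or_swap hab (m := ⟨x, hN x.2⟩) (ht x x.2) with ⟨h1, h2⟩ | ⟨h1, h2⟩
    · exact Or.inl ⟨by rw [h1, hga], by rw [h2, hgb]⟩
    · exact Or.inr ⟨by rw [h1, hgb], by rw [h2, hga]⟩
  let ψ : ↥A →* AutM22 := pairEquiv.toMonoidHom.comp (χ.codRestrict pairGrp hmem)
  have hker : ψ.ker = (A ⊓ V).subgroupOf A := by
    ext x
    rw [mem_subgroupOf, Subgroup.mem_inf, MonoidHom.mem_ker]
    show pairEquiv (χ.codRestrict pairGrp hmem x) = 1 ↔ _
    rw [map_eq_one_iff _ pairEquiv.injective, Subtype.ext_iff]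
    show χ x = 1 ↔ _
    rw [hχ, conj_eq_one_iff, OneMemClass.coe_eq_one, M.pi_eq_one]
    exact ⟨fun h => ⟨x.2, h⟩, fun h => h.2⟩
  have hU : ∀ u ∈ ψ.range, u * u = 1 := by
    rintro _ ⟨x, rfl⟩
    rw [← map_mul, show x * x = 1 from Subtype.ext (hsq x x.2), map_one]
  have hcard : Nat.card ↥A = Nat.card ↥ψ.range * Nat.card ↥(A ⊓ V) := by
    have h := ψ.ker.index_mul_card
    rw [Subgroup.index_ker, hker, Nat.card_congr (subgroupOfEquivOfLe inf_le_left).toEquiv] at h
    exact h.symm
  have h32 := F.elem_card ψ.range hU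
  refine ⟨by rw [hcard]; exact Nat.mul_le_mul_right _ h32, fun hAI => ?_⟩
  have hin : ψ.range ≤ innerM22 := by
    rintro _ ⟨x, rfl⟩
    rw [← map_innerPair]
    refine ⟨χ.codRestrict pairGrp hmem x, mem_subgroupOf.2 (mem_M22_of_fix (hmem x) ?_), rfl⟩
    show χ x none = none
    rw [hχ, Equiv.Perm.mul_apply, Equiv.Perm.mul_apply, hgi.1]
    obtain ⟨hm, h1, -⟩ := mem_fixBoth.1 (hAI x.2)
    rw [h1, hga]
  have hne : Nat.card ↥ψ.range ≠ 32 := fun h => F.elem_not_le _ ⟨hU, h⟩ hin
  have : Fact (Nat.Prime 2) := ⟨Nat.prime_two⟩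
  have hp : IsPGroup 2 ↥ψ.range := fun u => ⟨1, Subtype.ext (by
    rw [pow_one, pow_two]; exact hU u u.2)⟩
  obtain ⟨k, hk⟩ := hp.exists_card_eq
  have hk5 : k < 5 := by
    rcases lt_trichotomy k 5 with h | h | h
    · exact h
    · rw [hk, h] at hne; exact absurd rfl hne
    · have := Nat.pow_lt_pow_right (show 1 < 2 by norm_num) h
      omega
  rw [hcard]
  refine Nat.mul_le_mul_right _ ?_
  rw [hk]
  calc 2 ^ k ≤ 2 ^ 4 := Nat.pow_le_pow_right (by norm_num) (by omega)
    _ = 16 := by norm_num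

/-- The facts used by `CentT`. -/
theorem centTFacts [Finite G] (F : AutFacts innerM22)
    (huniq : ∀ d ∈ V, IsConj z d → ∀ g : G, g⁻¹ * d * g ∈ V → g⁻¹ * val Φ {a, b} * g ∈ V →
      g ∈ normalizer (V : Set G)) :
    CentTFacts z V (val Φ {a, b}) (fixBoth π a b) where
  sq := M.sq
  card := M.card
  t_mem := M.pair_mem hab
  t_ne := M.pair_ne_one hab
  t_nconj := M.duad_nconj a b hab
  unique := huniq
  le_I := fun v hv => mem_fixBoth.2 ⟨le_normalizer hv, by
    rw [(M.pi_eq_one ⟨v, le_normalizer hv⟩).2 hv]; exact ⟨rfl, rfl⟩⟩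
  index_I := fun m hm hmt n hn hnt => by
    rcases M.fix_or_swap hab (m := ⟨m, hm⟩) hmt with ⟨h1, h2⟩ | ⟨h1, h2⟩
    · exact Or.inl (mem_fixBoth.2 ⟨hm, h1, h2⟩)
    rcases M.fix_or_swap hab (m := ⟨n, hn⟩) hnt with ⟨k1, k2⟩ | ⟨k1, k2⟩
    · exact Or.inr (Or.inl (mem_fixBoth.2 ⟨hn, k1, k2⟩))
    refine Or.inr (Or.inr (mem_fixBoth.2 ⟨mul_mem hm hn, ?_⟩))
    rw [show (⟨m * n, mul_mem hm hn⟩ : ↥(normalizer (V : Set G))) = ⟨m, hm⟩ * ⟨n, hn⟩ from rfl,
      map_mul, Subgroup.coe_mul, Equiv.Perm.mul_apply, Equiv.Perm.mul_apply, k1, k2]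
    exact ⟨h2, h1⟩
  I_fix := fun v hv hv2 hvN => by
    obtain ⟨hm, h1, -⟩ := mem_fixBoth.1 hv
    exact M.fix_seven hab (v := ⟨v, hm⟩) h1 hv2
  elem_le := fun A hsq hN ht => (M.elem_bounds hab F hsq hN ht).1
  elem_inner_le := fun A hsq hN ht hI => (M.elem_bounds hab F hsq hN ht).2 hI
  fix_le_I := fun c hc hc1 hct hcz htc m hm hmt hmc => by
    obtain ⟨x, y, hxy, rfl⟩ := M.duad_of c hc hc1 hcz
    have h1 := M.fix_or_swap hab (m := ⟨m, hm⟩) hmt
    have h2 := M.fix_or_swap hxy (m := ⟨m, hm⟩) hmc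
    refine mem_fixBoth.2 ⟨hm, ?_⟩
    rcases h1 with h1 | ⟨h1, h1'⟩
    · exact h1
    exfalso
    -- the two duads share a point, which `m` fixes
    by_cases hmeet : x = a ∨ x = b ∨ y = a ∨ y = b
    · rcases h2 with ⟨h2, h2'⟩ | ⟨h2, h2'⟩
      · rcases hmeet with h | h | h | h
        · rw [h, h1] at h2; exact hab h2.symm
        · rw [h, h1'] at h2; exact hab h2
        · rw [h, h1] at h2'; exact hab h2'.symm
        · rw [h, h1'] at h2'; exact hab h2'
      · refine hct ?_
        rcases hmeet with h | h | h | h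
        · rw [h, h1] at h2; rw [h, ← h2]
        · rw [h, h1'] at h2; rw [h, ← h2, Finset.pair_comm]
        · rw [h, h1] at h2'; rw [h, ← h2', Finset.pair_comm]
        · rw [h, h1'] at h2'; rw [h, ← h2']
    · simp only [not_or] at hmeet
      refine htc ?_
      rw [← val_symmDiff]
      refine M.four_conj _ ?_
      have hc := card_symmDiff_pts {a, b} {x, y}
      have hi : ({a, b} : Finset GolayPt) ∩ {x, y} = ∅ := by
        ext i
        simp only [Finset.mem_inter, Finset.mem_insert, Finset.mem_singleton, Finset.notMem_empty,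
          iff_false, not_and, not_or]
        rintro (rfl | rfl) <;> exact ⟨by tauto, by tauto⟩
      rw [hi, Finset.card_empty, Finset.card_pair hab, Finset.card_pair hxy] at hc
      omega
  free_card := fun Y hY ht hf => M.free_card hab hY ht hf
  free_split := fun Y hY ht hf => M.free_split hab hY ht hf

end Duad

/-- `C(t) ≤ N(V)` for every `t` of `V` not conjugate to `z`. -/
theorem centralizer_le [Finite G] (F : AutFacts innerM22) {t : G} (ht : t ∈ V) (ht1 : t ≠ 1)
    (htz : ¬ IsConj z t)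
    (huniq : ∀ d ∈ V, IsConj z d → ∀ g : G, g⁻¹ * d * g ∈ V → g⁻¹ * t * g ∈ V →
      g ∈ normalizer (V : Set G)) :
    centralizer ({t} : Set G) ≤ normalizer (V : Set G) := by
  obtain ⟨a, b, hab, rfl⟩ := M.duad_of t ht ht1 htz
  exact (M.centTFacts hab F huniq).centralizer_le

end DuadModel

end Cfsg.Agent.JankoFour
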