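import Cfsg.Agent.Lib.JankoFour.OrbitsMain

/-!
# Janko-four type: one elementary `2^11` through a commuting pair of a `z`-point and a `t` (S5568)

`unique_member`: the field `unique` of `CentTFacts`, given that two elementary subgroups of order `2^11`
through `z` sharing a non-conjugate of `z` in `E` are equal.
-/

set_option autoImplicit false
set_option linter.unusedSectionVars false

namespace Cfsg.Agent.JankoFour

open Subgroup
open LargeExtraspecial (Hub Pair mem_conj_iff)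

variable {G : Type*} [Group G] {z : G} {P : Subgroup G}

namespace Ctx

variable [Finite G] (Γ : Ctx z P) {U₀ : Subgroup AutM22} (HF : HexFacts innerM22 U₀) {g₀ : G} (hg₀ : Pt z g₀)
  (HO : HexOrbFacts innerM22 U₀)

include Γ HF hg₀ HO

/-- Two elementary subgroups of order `2^11` through `z` with a common element outside `E` are equal. -/
theorem eq_of_common_out {V V' : Subgroup G} (hsq : ∀ v ∈ V, v * v = 1) (hc : Nat.card ↥V = 2 ^ 11)
    (hsq' : ∀ v ∈ V', v * v = 1) (hc' : Nat.card ↥V' = 2 ^ 11) (hz : z ∈ V) (hz' : z ∈ V') {t : G} (ht : t ∈ V)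
    (ht' : t ∈ V') (htE : t ∉ coreE z) : V = V' := by
  obtain ⟨gs, St⟩ := Γ.exists_star HF hg₀ 1
  rw [cj_one] at St
  obtain ⟨h, hh, D⟩ := Γ.exists_data HF St hg₀ hsq hc hz
  obtain ⟨u, hud⟩ : ∃ u, u = h * t * h⁻¹ := ⟨_, rfl⟩
  have huV : u ∈ V.map (MulAut.conj h).toMonoidHom := hud ▸ ⟨t, ht, rfl⟩
  set W' := V'.map (MulAut.conj h).toMonoidHom with hW'
  have huW : u ∈ W' := hud ▸ ⟨t, ht', rfl⟩
  have hW'H : W' ≤ centralizer ({z} : Set G) := by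
    rintro _ ⟨v, hv, rfl⟩
    exact mul_mem (mul_mem hh (mem_centralizer_singleton_iff.2 (comm_of_sq hsq' v hv z hz'))) (inv_mem hh)
  have hc'' : 2 ^ 11 ≤ Nat.card ↥W' := by rw [hW', card_map_of_injective (MulAut.conj h).injective, hc']
  obtain ⟨k, hk⟩ := Γ.img_conj HF hg₀ hW'H (conj_sq hsq' h) hc''
  have hu1 : Γ.ph u ≠ 1 := fun e => htE (by
    have hmem := Γ.mem_core_of_sq (D.le_H huV) e (by rw [D.sq u huV]; exact one_mem _)
    have := Γ.conj_core (inv_mem hh) hmem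
    rwa [hud, show h⁻¹ * (h * t * h⁻¹) * h⁻¹⁻¹ = t by group] at this)
  have hmeet := HO.meet k _ (D.img_eq ▸ Γ.ph_mem_img D.le_H huV) hu1 (hk ▸ Γ.ph_mem_img hW'H huW)
  have := Γ.eq_of_data HF D hW'H (conj_sq hsq' h) hc'' (hk.trans hmeet)
  exact (map_injective (MulAut.conj h).injective this).symm

/-- The field `unique` of `CentTFacts`. -/
theorem unique_member
    (hdisj : ∀ V V' : Subgroup G, (∀ v ∈ V, v * v = 1) → Nat.card ↥V = 2 ^ 11 → (∀ v ∈ V', v * v = 1) →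
      Nat.card ↥V' = 2 ^ 11 → z ∈ V → z ∈ V' → ∀ t ∈ coreE z, t ≠ 1 → ¬ IsConj z t → t ∈ V → t ∈ V' → V = V')
    {V : Subgroup G} (hsq : ∀ v ∈ V, v * v = 1) (hc : Nat.card ↥V = 2 ^ 11) {t : G} (htV : t ∈ V) (ht1 : t ≠ 1)
    (htc : ¬ IsConj z t) : ∀ d ∈ V, IsConj z d → ∀ g : G, g⁻¹ * d * g ∈ V → g⁻¹ * t * g ∈ V →
      g ∈ normalizer (V : Set G) := by
  intro d hd hdz g hgd hgt
  obtain ⟨j, rfl⟩ := isConj_iff.1 hdz
  set V₁ := V.map (MulAut.conj j⁻¹).toMonoidHom with hV₁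
  set V₂ := V.map (MulAut.conj (j⁻¹ * g)).toMonoidHom with hV₂
  have key : V₁ = V₂ := by
    have hz₁ : z ∈ V₁ := ⟨j * z * j⁻¹, hd, show j⁻¹ * (j * z * j⁻¹) * j⁻¹⁻¹ = z by group⟩
    have hz₂ : z ∈ V₂ := ⟨g⁻¹ * (j * z * j⁻¹) * g, hgd,
      show j⁻¹ * g * (g⁻¹ * (j * z * j⁻¹) * g) * (j⁻¹ * g)⁻¹ = z by group⟩
    obtain ⟨u, hud⟩ : ∃ u, u = j⁻¹ * t * j := ⟨_, rfl⟩
    have hu₁ : u ∈ V₁ := ⟨t, htV, show j⁻¹ * t * j⁻¹⁻¹ = u by rw [hud]; group⟩
    have hu₂ : u ∈ V₂ := ⟨g⁻¹ * t * g, hgt,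
      show j⁻¹ * g * (g⁻¹ * t * g) * (j⁻¹ * g)⁻¹ = u by rw [hud]; group⟩
    have hu1 : u ≠ 1 := fun e => ht1 (by
      calc t = j * u * j⁻¹ := by rw [hud]; group
        _ = 1 := by rw [e]; group)
    have huc : ¬ IsConj z u := fun h => htc (h.trans (isConj_iff.2 ⟨j, by rw [hud]; group⟩))
    have hc₁ : Nat.card ↥V₁ = 2 ^ 11 := by rw [hV₁, card_map_of_injective (MulAut.conj j⁻¹).injective, hc]
    have hc₂ : Nat.card ↥V₂ = 2 ^ 11 := by
      rw [hV₂, card_map_of_injective (MulAut.conj (j⁻¹ * g)).injective, hc]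
    by_cases huE : u ∈ coreE z
    · exact hdisj _ _ (conj_sq hsq _) hc₁ (conj_sq hsq _) hc₂ hz₁ hz₂ u huE hu1 huc hu₁ hu₂
    · exact Γ.eq_of_common_out HF hg₀ HO (conj_sq hsq _) hc₁ (conj_sq hsq _) hc₂ hz₁ hz₂ hu₁ hu₂ huE
  refine mem_normalizer_of_cj_eq ?_
  have h2 : cj j⁻¹ (cj g V) = cj j⁻¹ V := by
    rw [← cj_mul]; exact key.symm
  exact map_injective (MulAut.conj j⁻¹).injective h2

end Ctx

end Cfsg.Agent.JankoFour
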