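import Cfsg.Agent.Lib.JankoFour.OrbitCore

/-!
# Janko-four type: the orbits 1771 and 276 of `N(V)` on the elementary subgroup `V` of order `2^11` (S5568)

Over an involution of `U₀` the number `k` of conjugates of `z` is a multiple of 16, and the orbit of `z`
has length `91 + 15 k`, which is one of six primes unless `k = 112`.
-/

set_option autoImplicit false
set_option linter.unusedSectionVars false

namespace Cfsg.Agent.JankoFour

open Subgroup
open scoped commutatorElement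
open LargeExtraspecial (Hub Pair mem_conj_iff)

variable {G : Type*} [Group G] {z : G} {P : Subgroup G}

/-- The conjugates of `z` in `V`. -/
def vConj (z : G) (V : Subgroup G) : Set G := {v | v ∈ V ∧ IsConj z v}

/-- The other involutions of `V`. -/
def vRest (z : G) (V : Subgroup G) : Set G := {v | v ∈ V ∧ v ≠ 1 ∧ ¬ IsConj z v}

theorem vConj_conj {V : Subgroup G} {n v : G} (hn : n ∈ normalizer (V : Set G)) (hv : v ∈ vConj z V) :
    n * v * n⁻¹ ∈ vConj z V :=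
  ⟨(mem_normalizer_iff.1 hn v).1 hv.1, hv.2.trans (isConj_iff.2 ⟨n, rfl⟩)⟩

theorem vRest_conj {V : Subgroup G} {n v : G} (hn : n ∈ normalizer (V : Set G)) (hv : v ∈ vRest z V) :
    n * v * n⁻¹ ∈ vRest z V :=
  ⟨(mem_normalizer_iff.1 hn v).1 hv.1, fun e => hv.2.1 (conj_eq_one_iff.1 e),
    fun e => hv.2.2 (e.trans (isConj_iff.2 ⟨n⁻¹, by group⟩))⟩

/-- No orbit of a normaliser on an elementary group of order `2^11` has prime length `p` when `p` divides
no `2^11 - 2^f`. -/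
theorem no_prime_orbit [Finite G] {V : Subgroup G} (hV : Nat.card ↥V = 2 ^ 11) {S : Set G}
    (hS : S ⊆ (V : Set G)) (hinv : ∀ n ∈ normalizer (V : Set G), ∀ v ∈ S, n * v * n⁻¹ ∈ S) {a : G} (ha : a ∈ S)
    (htrans : ∀ v ∈ S, ∃ n ∈ normalizer (V : Set G), n * a * n⁻¹ = v) {p : ℕ} (hp : p.Prime)
    (hnd : ∀ f < 11, ¬ p ∣ 2 ^ 11 - 2 ^ f) (hcard : S.ncard = p) : False := by
  have : Fact p.Prime := ⟨hp⟩
  set φ := V.normalizerMonoidHom with hφ
  have horb : MulAction.orbit ↥φ.range (⟨a, hS ha⟩ : ↥V) = Subtype.val ⁻¹' S := by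
    ext v
    constructor
    · rintro ⟨⟨_, n, rfl⟩, rfl⟩
      exact hinv n n.2 a ha
    · intro hv
      obtain ⟨n, hn, he⟩ := htrans v hv
      exact ⟨⟨φ ⟨n, hn⟩, ⟨n, hn⟩, rfl⟩, Subtype.ext he⟩
  have hdvd : p ∣ Nat.card ↥φ.range := by
    have h := MulAction.index_stabilizer ↥φ.range (⟨a, hS ha⟩ : ↥V)
    rw [horb, Set.ncard_preimage_of_injective_subset_range Subtype.val_injective (by simpa using hS), hcard] at h
    exact h ▸ index_dvd_card _
  obtain ⟨α, hα⟩ := exists_prime_orderOf_dvd_card' (G := ↥φ.range) p hdvd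
  have hP : IsPGroup p ↥(zpowers α) := IsPGroup.of_card (n := 1) (by rw [Nat.card_zpowers, hα, pow_one])
  have hmod := hP.card_modEq_card_fixedPoints ↥V
  set F : Subgroup ↥V := ((α : MulAut ↥V).toMonoidHom).eqLocus (MonoidHom.id ↥V) with hF
  have hfix : MulAction.fixedPoints ↥(zpowers α) ↥V = (F : Set ↥V) := by
    ext v
    constructor
    · intro hv
      exact hv ⟨α, mem_zpowers α⟩
    · intro hv
      have hv' : α • v = v := hv
      rintro ⟨β, hβ⟩
      obtain ⟨n, rfl⟩ := mem_zpowers_iff.1 hβ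
      show α ^ n • v = v
      exact (MulAction.mem_stabilizer_iff.1 ((MulAction.stabilizer ↥φ.range v).zpow_mem
        (MulAction.mem_stabilizer_iff.2 hv') n))
  have : Fact (Nat.Prime 2) := ⟨Nat.prime_two⟩
  obtain ⟨f, hf11, hf⟩ := (Nat.dvd_prime_pow Nat.prime_two).1 (hV ▸ card_subgroup_dvd_card F)
  have hlt : f < 11 := by
    refine lt_of_le_of_ne hf11 fun h => ?_
    have htop : F = ⊤ := eq_top_of_card_eq _ (by rw [hf, h, hV])
    have h1 : α = 1 := Subtype.ext (MulEquiv.ext fun v => (htop ▸ mem_top v : v ∈ F))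
    rw [h1, orderOf_one] at hα
    exact hp.ne_one hα.symm
  rw [hfix, hV, SetLike.coe_sort_coe, hf] at hmod
  exact hnd f hlt ((Nat.modEq_iff_dvd' (Nat.pow_le_pow_right (by norm_num) hf11)).1 hmod.symm)

namespace Ctx

variable [Finite G] (Γ : Ctx z P) {U₀ : Subgroup AutM22} (HF : HexFacts innerM22 U₀)
  {V : Subgroup G} {gs : Fin 6 → G} (D : Γ.VData U₀ V gs)

include Γ HF D

omit HF D in
/-- The elements of `V` over `a`. -/
def fib (V : Subgroup G) (a : AutM22) : Set G := {v | v ∈ V ∧ Γ.ph v = a}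

theorem card_fib {a : AutM22} (ha : a ∈ U₀) : (Γ.fib V a).ncard = 128 := by
  obtain ⟨v0, hv0, hv0H, hva⟩ := Γ.exists_over HF D ha
  have : Γ.fib V a = (fun w => v0 * w) '' ((V ⊓ coreE z : Subgroup G) : Set G) := by
    ext v
    constructor
    · rintro ⟨hv, hvph⟩
      have hm : v0⁻¹ * v ∈ V := mul_mem (inv_mem hv0) hv
      refine ⟨v0⁻¹ * v, ⟨hm, Γ.mem_core_of_sq (D.le_H hm) ?_ ?_⟩, mul_inv_cancel_left _ _⟩
      · rw [Γ.ph_mul (inv_mem hv0H) (D.le_H hv), Γ.ph_inv hv0H, hva, hvph, inv_mul_cancel]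
      · rw [D.sq _ hm]; exact one_mem _
    · rintro ⟨w, ⟨hwV, hwE⟩, rfl⟩
      exact ⟨mul_mem hv0 hwV, by rw [Γ.ph_mul hv0H (coreE_le_H hwE), Γ.ph_core hwE, mul_one, hva]⟩
  rw [this, Set.ncard_image_of_injective _ (mul_right_injective v0), ← Nat.card_coe_set_eq,
    SetLike.coe_sort_coe, Γ.card_inf_core HF D]
  norm_num

omit HF D in
/-- The orbit of `x` under `E`. -/
def eOrb (z x : G) : Set G := {w | ∃ e ∈ coreE z, e * x * e⁻¹ = w}

theorem eOrb_facts {a : AutM22} (ha1 : a ≠ 1) {x : G} (hx : x ∈ Γ.fib V a) :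
    16 ∣ (eOrb z x).ncard ∧ eOrb z x ⊆ Γ.fib V a := by
  refine ⟨?_, ?_⟩
  · letI : MulAction ↥(coreE z) G :=
      { smul := fun e w => (e : G) * w * (e : G)⁻¹
        one_smul := fun w => show ((1 : ↥(coreE z)) : G) * w * ((1 : ↥(coreE z)) : G)⁻¹ = w by simp
        mul_smul := fun e f w => show ((e * f : ↥(coreE z)) : G) * w * ((e * f : ↥(coreE z)) : G)⁻¹ =
          (e : G) * ((f : G) * w * (f : G)⁻¹) * (e : G)⁻¹ by push_cast; group }
    have horb : MulAction.orbit ↥(coreE z) x = eOrb z x := by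
      ext w
      constructor
      · rintro ⟨⟨e, he⟩, rfl⟩; exact ⟨e, he, rfl⟩
      · rintro ⟨e, he, rfl⟩; exact ⟨⟨e, he⟩, rfl⟩
    have hidx := MulAction.index_stabilizer ↥(coreE z) x
    rw [horb] at hidx
    set K := MulAction.stabilizer ↥(coreE z) x with hK
    have hmul := K.card_mul_index
    rw [hidx, Γ.S.card_E] at hmul
    have hxE : x ∉ coreE z := fun h => ha1 (by rw [← hx.2, Γ.ph_core h])
    have hKs : 8 * Nat.card ↥K < 2 ^ 13 := by
      by_contra hge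
      push Not at hge
      refine hxE (Γ.hb x (D.le_H hx.1) (by rw [D.sq x hx.1]; exact one_mem _) (K.map (coreE z).subtype)
        (map_subtype_le _) ?_ (by rw [card_map_of_injective (coreE z).subtype_injective]; exact hge))
      rintro _ ⟨⟨e, he⟩, hek, rfl⟩
      have hce : e * x * e⁻¹ = x := hek
      show ⁅e, x⁆ ∈ zpowers z
      rw [commutatorElement_def, hce, mul_inv_cancel]
      exact one_mem _
    obtain ⟨i, -, hi⟩ := (Nat.dvd_prime_pow Nat.prime_two).1 (hmul ▸ Dvd.intro_left _ rfl :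
      (eOrb z x).ncard ∣ 2 ^ 13)
    rw [hi] at hmul ⊢
    have hi4 : 4 ≤ i := by
      by_contra h
      have h3 := Nat.mul_le_mul_left (Nat.card ↥K) (Nat.pow_le_pow_right (show 1 ≤ 2 by norm_num) (show i ≤ 3 by omega))
      rw [hmul] at h3
      omega
    exact (pow_dvd_pow 2 hi4 : 2 ^ 4 ∣ 2 ^ i)
  · rintro _ ⟨e, he, rfl⟩
    exact ⟨(mem_normalizer_iff.1 (Γ.core_le_normalizer HF D he) x).1 hx.1, by
      rw [Γ.ph_conj (coreE_le_H he) (D.le_H hx.1), Γ.ph_core he, hx.2, one_mul, inv_one, mul_one]⟩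

theorem sixteen_dvd {a : AutM22} (ha1 : a ≠ 1) (S : Set G) (hS : S ⊆ Γ.fib V a)
    (hinv : ∀ e ∈ coreE z, ∀ v ∈ S, e * v * e⁻¹ ∈ S) : 16 ∣ S.ncard := by
  induction hn : S.ncard using Nat.strong_induction_on generalizing S with
  | _ n ih =>
    subst hn
    by_cases hne : S.Nonempty
    · obtain ⟨x, hx⟩ := hne
      obtain ⟨h16, -⟩ := Γ.eOrb_facts HF D ha1 (hS hx)
      have hsub : eOrb z x ⊆ S := by rintro _ ⟨e, he, rfl⟩; exact hinv e he x hx
      have hdiff := Set.ncard_sdiff_add_ncard_of_subset hsub (Set.toFinite _)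
      have hpos : 0 < (eOrb z x).ncard :=
        (Set.ncard_pos (Set.toFinite _)).2 ⟨x, 1, one_mem _, by group⟩
      have := ih (S \ eOrb z x).ncard (by omega) (S \ eOrb z x) (Set.sdiff_subset.trans hS) (fun e he v hv =>
        ⟨hinv e he v hv.1, fun ⟨f, hf, hfe⟩ => hv.2 ⟨e⁻¹ * f, mul_mem (inv_mem he) hf, by
          calc e⁻¹ * f * x * (e⁻¹ * f)⁻¹ = e⁻¹ * (f * x * f⁻¹) * e := by group
            _ = v := by rw [hfe]; group⟩⟩) rfl
      rw [← hdiff]
      exact dvd_add this h16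
    · rw [Set.not_nonempty_iff_eq_empty.1 hne, Set.ncard_empty]
      exact dvd_zero 16

/-- An element of `N_H(V)` over the map taking `a` to `b`. -/
theorem exists_fib_map {a b : AutM22} (ha : a ∈ U₀) (ha1 : a ≠ 1) (hb : b ∈ U₀) (hb1 : b ≠ 1) :
    ∃ h ∈ centralizer ({z} : Set G), h ∈ normalizer (V : Set G) ∧
      ∀ v ∈ Γ.fib V a, h * v * h⁻¹ ∈ Γ.fib V b := by
  obtain ⟨n, -, hnU, hnab⟩ := HF.trans a ha ha1 b hb hb1
  obtain ⟨h, hh, hhn⟩ := Γ.exists_ph n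
  have hN : n ∈ normalizer (U₀ : Set AutM22) := LocalStructure.mem_normalizer_of_map_conj_le (by
    rintro _ ⟨u, hu, rfl⟩; exact hnU u hu)
  have hhN := (Γ.mem_normalizer_iff_ph HF D hh).2 (hhn ▸ hN)
  exact ⟨h, hh, hhN, fun v hv => ⟨(mem_normalizer_iff.1 hhN v).1 hv.1,
    by rw [Γ.ph_conj hh (D.le_H hv.1), hhn, hv.2, hnab]⟩⟩

/-- `W` is not invariant under `N(V)`. -/
theorem exists_move {g₀ : G} (hg₀ : Pt z g₀) :
    ∃ n ∈ normalizer (V : Set G), ∃ w ∈ wSpan z P gs, n * w * n⁻¹ ∉ wSpan z P gs := by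
  by_contra hno
  push Not at hno
  set g := gs 0 with hg
  have hgp := D.star.pt 0
  have hsV : g * z * g⁻¹ ∈ V := (Γ.pt_mem_iff HF D hgp).2 (D.star.norm 0)
  obtain ⟨n, hn, hns⟩ := Γ.exists_normalizer_conj HF D hg₀ hsV (isConj_iff.2 ⟨g, rfl⟩)
  refine Γ.not_le_conjE HF D fun w hw => ?_
  rw [← Γ.conjE_eq_of_eq hns, mem_conj_iff]
  have := hno n⁻¹ (inv_mem hn) w hw
  rw [inv_inv] at this
  exact Γ.wSpan_le D.star this

variable (HO : HexOrbFacts innerM22 U₀) {g₀ : G} (hg₀ : Pt z g₀)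

include HO hg₀

theorem fib_rest_nonempty {a : AutM22} (ha : a ∈ U₀) (ha1 : a ≠ 1) :
    ∃ v ∈ Γ.fib V a, ¬ IsConj z v := by
  obtain ⟨x, hx⟩ := Γ.exists_sqz_lift (HF.le ha) (HF.sixteen.1 a ha)
  have hxV : x ∈ V := by
    rw [Γ.eq_pullU D.star HF.le HF.sixteen D.le_H D.sq D.card.ge D.img_eq]
    exact Γ.mem_pullU.2 ⟨hx.mem.1, hx.img.symm ▸ ha, Γ.lift_cent_wSpan HF D.star ha hx⟩
  have hxz : x ≠ z := fun e => ha1 (by rw [← hx.img, e, Γ.ph_core Γ.z_mem_core])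
  by_contra hall
  push Not at hall
  refine Γ.not_both_conj (Γ.normalizer_le_of_pt hg₀) hx.mem hxz (hall x ⟨hxV, hx.img⟩)
    (hall (x * z) ⟨mul_mem hxV (Γ.z_mem_V HF D), ?_⟩)
  rw [Γ.ph_mul hx.mem.1 (coreE_le_H Γ.z_mem_core), Γ.ph_core Γ.z_mem_core, mul_one, hx.img]

/-- The conjugates of `z` in `V`: 1771; 112 over each involution of `U₀`. -/
theorem conj_counts : (vConj z V).ncard = 1771 ∧
    ∀ a ∈ U₀, a ≠ 1 → (vRest z V ∩ Γ.fib V a).ncard = 16 := by
  classical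
  let K : AutM22 → Set G := fun a => {v | v ∈ Γ.fib V a ∧ IsConj z v}
  obtain ⟨a0, ha0, ha01⟩ : ∃ a ∈ U₀, a ≠ 1 := by
    by_contra hno
    push Not at hno
    have := HF.sixteen.2
    rw [(eq_bot_iff_forall _).2 hno, card_bot] at this
    omega
  have hmono : ∀ {a b}, a ∈ U₀ → a ≠ 1 → b ∈ U₀ → b ≠ 1 → (K a).ncard ≤ (K b).ncard := by
    intro a b ha ha1 hb hb1
    obtain ⟨h, -, -, hmap⟩ := Γ.exists_fib_map HF D ha ha1 hb hb1
    refine Set.ncard_le_ncard_of_injOn (fun v => h * v * h⁻¹)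
      (fun v hv => ⟨hmap v hv.1, hv.2.trans (isConj_iff.2 ⟨h, rfl⟩)⟩) ?_ (Set.toFinite _)
    intro v _ w _ hvw
    simpa using hvw
  set k := (K a0).ncard with hk
  have hconst : ∀ a ∈ U₀, a ≠ 1 → (K a).ncard = k := fun a ha ha1 =>
    le_antisymm (hmono ha ha1 ha0 ha01) (hmono ha0 ha01 ha ha1)
  have hKinv : ∀ {a}, a ≠ 1 → ∀ e ∈ coreE z, ∀ v ∈ K a, e * v * e⁻¹ ∈ K a := fun ha1 e he v hv =>
    ⟨(Γ.eOrb_facts HF D ha1 hv.1).2 ⟨e, he, rfl⟩, hv.2.trans (isConj_iff.2 ⟨e, rfl⟩)⟩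
  have h16 : 16 ∣ k := Γ.sixteen_dvd HF D ha01 _ (fun v hv => hv.1) (hKinv ha01)
  have hrest : ∀ {a}, a ∈ U₀ → a ≠ 1 → vRest z V ∩ Γ.fib V a = Γ.fib V a \ K a := by
    intro a ha ha1
    ext v
    constructor
    · exact fun ⟨⟨_, _, h3⟩, h4⟩ => ⟨h4, fun h => h3 h.2⟩
    · rintro ⟨h1, h2⟩
      exact ⟨⟨h1.1, fun e => ha1 (by rw [← h1.2, e, Γ.ph_one]), fun h => h2 ⟨h1, h⟩⟩, h1⟩
  have hk128 : ∀ {a}, a ∈ U₀ → a ≠ 1 → (vRest z V ∩ Γ.fib V a).ncard + k = 128 := by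
    intro a ha ha1
    rw [hrest ha ha1, ← hconst a ha ha1,
      Set.ncard_sdiff_add_ncard_of_subset (fun v hv => hv.1) (Set.toFinite _), Γ.card_fib HF D ha]
  have hklt : k < 128 := by
    obtain ⟨v, hv, hvc⟩ := Γ.fib_rest_nonempty HF D HO hg₀ ha0 ha01
    have : 0 < (vRest z V ∩ Γ.fib V a0).ncard := by
      rw [hrest ha0 ha01]
      exact (Set.ncard_pos (Set.toFinite _)).2 ⟨v, hv, fun h => hvc h.2⟩
    have := hk128 ha0 ha01
    omega
  -- over the identity: 91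
  have h1 : (K 1).ncard = 91 := by
    have e : K 1 = insert z (wPts z V) := by
      ext v
      constructor
      · rintro ⟨⟨hv, hph⟩, hc⟩
        by_cases hvz : v = z
        · exact Or.inl hvz
        · exact Or.inr ⟨hv, Γ.mem_core_of_sq (D.le_H hv) hph (by rw [D.sq v hv]; exact one_mem _), hc, hvz⟩
      · rintro (rfl | ⟨hv, hvE, hc, -⟩)
        · exact ⟨⟨Γ.z_mem_V HF D, Γ.ph_core Γ.z_mem_core⟩, IsConj.refl _⟩
        · exact ⟨⟨hv, Γ.ph_core hvE⟩, hc⟩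
    rw [e, Set.ncard_insert_of_notMem (fun h => h.2.2.2 rfl) (Set.toFinite _), Γ.card_wPts HF D HO hg₀]
  have hsum : (vConj z V).ncard = 91 + 15 * k := by
    have : Fintype G := Fintype.ofFinite G
    have : Fintype ↥U₀ := Fintype.ofFinite _
    set T : Finset AutM22 := (U₀ : Set AutM22).toFinset with hT
    have hmem : ∀ {a}, a ∈ T ↔ a ∈ U₀ := by intro a; rw [hT, Set.mem_toFinset, SetLike.mem_coe]
    have hf : ∀ a : AutM22, ((vConj z V).toFinset.filter fun v => Γ.ph v = a).card = (K a).ncard := by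
      intro a
      rw [← Set.ncard_coe_finset]
      congr 1
      ext v
      rw [Finset.mem_coe, Finset.mem_filter, Set.mem_toFinset]
      exact ⟨fun ⟨⟨h1, h2⟩, h3⟩ => ⟨⟨h1, h3⟩, h2⟩, fun ⟨⟨h1, h3⟩, h2⟩ => ⟨⟨h1, h2⟩, h3⟩⟩
    rw [Set.ncard_eq_toFinset_card' (vConj z V), Finset.card_eq_sum_card_fiberwise (f := Γ.ph) (t := T)
      (fun v hv => hmem.2 (D.img_eq ▸ Γ.ph_mem_img D.le_H (Set.mem_toFinset.1 hv).1)),
      ← Finset.add_sum_erase _ _ (hmem.2 (one_mem U₀)), hf, h1,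
      Finset.sum_const_nat (m := k) (fun a ha => by
        rw [hf]
        obtain ⟨ha1, haT⟩ := Finset.mem_erase.1 ha
        exact hconst a (hmem.1 haT) ha1),
      Finset.card_erase_of_mem (hmem.2 (one_mem U₀)), hT, ← Set.ncard_eq_toFinset_card',
      ← Nat.card_coe_set_eq, SetLike.coe_sort_coe, HF.sixteen.2]
  have hk0 : k ≠ 0 := by
    intro hk0
    -- then the conjugates of `z` lie in `E` and generate `W`
    obtain ⟨n, hn, w, hw, hnw⟩ := Γ.exists_move HF D hg₀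
    refine hnw ?_
    have hsub : ∀ v ∈ vConj z V, v ∈ wSpan z P gs := by
      intro v hv
      rw [← Γ.closure_wConj HF D HO hg₀]
      refine Subgroup.subset_closure ?_
      by_cases hvz : v = z
      · exact Or.inl hvz
      refine Or.inr ⟨hv.1, ?_, hv.2, hvz⟩
      by_contra hvE
      have ha1 : Γ.ph v ≠ 1 := fun h => hvE (Γ.mem_core_of_sq (D.le_H hv.1) h (by rw [D.sq v hv.1]; exact one_mem _))
      have hpos : 0 < (K (Γ.ph v)).ncard := (Set.ncard_pos (Set.toFinite _)).2 ⟨v, ⟨hv.1, rfl⟩, hv.2⟩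
      rw [hconst _ (D.img_eq ▸ Γ.ph_mem_img D.le_H hv.1) ha1, hk0] at hpos
      exact lt_irrefl 0 hpos
    rw [← Γ.closure_wConj HF D HO hg₀] at hw
    clear hnw
    induction hw using Subgroup.closure_induction with
    | mem u hu =>
      refine hsub _ (vConj_conj hn ?_)
      rcases hu with hu | hu
      · rw [hu]; exact ⟨Γ.z_mem_V HF D, IsConj.refl _⟩
      · exact ⟨hu.1, hu.2.2.1⟩
    | one => rw [mul_one, mul_inv_cancel]; exact one_mem _
    | mul a b _ _ ha hb =>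
      rw [show n * (a * b) * n⁻¹ = (n * a * n⁻¹) * (n * b * n⁻¹) by group]
      exact mul_mem ha hb
    | inv a _ ha =>
      rw [show n * a⁻¹ * n⁻¹ = (n * a * n⁻¹)⁻¹ by group]
      exact inv_mem ha
  have hk112 : k = 112 := by
    by_contra hne
    obtain ⟨l, hl⟩ := h16
    have key : ∀ p : ℕ, p.Prime → (∀ f < 11, ¬ p ∣ 2 ^ 11 - 2 ^ f) → (vConj z V).ncard ≠ p := fun p hp hnd hc =>
      no_prime_orbit D.card (fun v hv => hv.1) (fun n hn v hv => vConj_conj hn hv)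
        (⟨Γ.z_mem_V HF D, IsConj.refl _⟩ : z ∈ vConj z V)
        (fun v hv => Γ.exists_normalizer_conj HF D hg₀ hv.1 hv.2) hp hnd hc
    rw [hl] at hsum hklt hk0 hne
    have hl8 : l < 8 := by omega
    interval_cases l
    · exact hk0 rfl
    · exact key 331 (by norm_num) (by decide) hsum
    · exact key 571 (by norm_num) (by decide) hsum
    · exact key 811 (by norm_num) (by decide) hsum
    · exact key 1051 (by norm_num) (by decide) hsum
    · exact key 1291 (by norm_num) (by decide) hsum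
    · exact key 1531 (by norm_num) (by decide) hsum
    · exact hne rfl
  refine ⟨by rw [hsum, hk112], fun a ha ha1 => ?_⟩
  have := hk128 ha ha1
  omega

theorem card_vRest : (vRest z V).ncard = 276 := by
  have h := (Γ.conj_counts HF D HO hg₀).1
  have e : (V : Set G) = insert 1 (vConj z V ∪ vRest z V) := by
    ext v
    constructor
    · intro hv
      by_cases hv1 : v = 1
      · exact Or.inl hv1
      by_cases hc : IsConj z v
      · exact Or.inr (Or.inl ⟨hv, hc⟩)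
      · exact Or.inr (Or.inr ⟨hv, hv1, hc⟩)
    · rintro (rfl | hv | hv)
      exacts [one_mem V, hv.1, hv.1]
  have hd : Disjoint (vConj z V) (vRest z V) := Set.disjoint_left.2 fun v h1 h2 => h2.2.2 h1.2
  have h1 : (1 : G) ∉ vConj z V ∪ vRest z V := by
    rintro (⟨-, hc⟩ | ⟨-, h1, -⟩)
    · obtain ⟨g, hg⟩ := isConj_iff.1 hc
      exact Γ.S.hub.ne_one (conj_eq_one_iff.1 hg)
    · exact h1 rfl
  have hc := D.card
  rw [← SetLike.coe_sort_coe, Nat.card_coe_set_eq, e, Set.ncard_insert_of_notMem h1 (Set.toFinite _),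
    Set.ncard_union_eq hd (Set.toFinite _) (Set.toFinite _), h] at hc
  omega

/-- `N(V)` is transitive on the involutions of `V` not conjugate to `z`. -/
theorem vRest_transitive {t t' : G} (ht : t ∈ vRest z V) (ht' : t' ∈ vRest z V) :
    ∃ n ∈ normalizer (V : Set G), n * t * n⁻¹ = t' := by
  obtain ⟨-, h16⟩ := Γ.conj_counts HF D HO hg₀
  have hph : ∀ {v}, v ∈ V → Γ.ph v ∈ U₀ := fun hv => D.img_eq ▸ Γ.ph_mem_img D.le_H hv
  -- outside `E`
  have hout : ∀ {u v}, u ∈ vRest z V → v ∈ vRest z V → Γ.ph u ≠ 1 → Γ.ph v ≠ 1 →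
      ∃ n ∈ normalizer (V : Set G), n * u * n⁻¹ = v := by
    intro u v hu hv hu1 hv1
    obtain ⟨h, -, hhN, hmap⟩ := Γ.exists_fib_map HF D (hph hu.1) hu1 (hph hv.1) hv1
    have hu' := hmap u ⟨hu.1, rfl⟩
    obtain ⟨h16d, hsub⟩ := Γ.eOrb_facts HF D hv1 hu'
    have hsub' : eOrb z (h * u * h⁻¹) ⊆ vRest z V ∩ Γ.fib V (Γ.ph v) := by
      rintro _ ⟨e, he, rfl⟩
      exact ⟨vRest_conj (Γ.core_le_normalizer HF D he) (vRest_conj hhN hu), hsub ⟨e, he, rfl⟩⟩
    have heq := Set.eq_of_subset_of_ncard_le hsub' (by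
      rw [h16 _ (hph hv.1) hv1]
      exact Nat.le_of_dvd ((Set.ncard_pos (Set.toFinite _)).2 ⟨h * u * h⁻¹, 1, one_mem _, by group⟩) h16d)
      (Set.toFinite _)
    have hv' : v ∈ eOrb z (h * u * h⁻¹) := heq ▸ ⟨hv, hv.1, rfl⟩
    obtain ⟨e, he, hev⟩ := hv'
    exact ⟨e * h, mul_mem (Γ.core_le_normalizer HF D he) hhN, by rw [← hev]; group⟩
  have hmemW : ∀ {v}, v ∈ vRest z V → Γ.ph v = 1 → v ∈ wRest z V := fun hv h1 =>
    ⟨hv.1, Γ.mem_core_of_sq (D.le_H hv.1) h1 (by rw [D.sq _ hv.1]; exact one_mem _), hv.2.1, hv.2.2⟩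
  have hin : ∀ {u v}, u ∈ vRest z V → v ∈ vRest z V → Γ.ph u = 1 → Γ.ph v = 1 →
      ∃ n ∈ normalizer (V : Set G), n * u * n⁻¹ = v := by
    intro u v hu hv hu1 hv1
    obtain ⟨h, -, hN, he⟩ := Γ.wRest_transitive HF D HO hg₀ (hmemW hu hu1) (hmemW hv hv1)
    exact ⟨h, hN, he⟩
  -- one element of `W` moved out of `E`
  obtain ⟨t0, ht0, ht01, n0, hn0, hn01⟩ : ∃ t0 ∈ vRest z V, Γ.ph t0 = 1 ∧
      ∃ n0 ∈ normalizer (V : Set G), Γ.ph (n0 * t0 * n0⁻¹) ≠ 1 := by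
    by_contra hno
    push Not at hno
    obtain ⟨n, hn, w, hw, hnw⟩ := Γ.exists_move HF D hg₀
    refine hnw ?_
    rw [← Γ.closure_wRest HF D HO hg₀] at hw
    clear hnw
    induction hw using Subgroup.closure_induction with
    | mem u hu =>
      have hu' : u ∈ vRest z V := ⟨hu.1, hu.2.2.1, hu.2.2.2⟩
      rw [← Γ.closure_wRest HF D HO hg₀]
      exact Subgroup.subset_closure (hmemW (vRest_conj hn hu') (hno u hu' (Γ.ph_core hu.2.1) n hn))
    | one => rw [mul_one, mul_inv_cancel]; exact one_mem _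
    | mul a b _ _ ha hb =>
      rw [show n * (a * b) * n⁻¹ = (n * a * n⁻¹) * (n * b * n⁻¹) by group]
      exact mul_mem ha hb
    | inv a _ ha =>
      rw [show n * a⁻¹ * n⁻¹ = (n * a * n⁻¹)⁻¹ by group]
      exact inv_mem ha
  have hto : ∀ {u}, u ∈ vRest z V → ∃ n ∈ normalizer (V : Set G), n * t0 * n⁻¹ = u := by
    intro u hu
    by_cases h : Γ.ph u = 1
    · exact hin ht0 hu ht01 h
    · obtain ⟨n, hn, e⟩ := hout (vRest_conj hn0 ht0) hu hn01 h
      exact ⟨n * n0, mul_mem hn hn0, by rw [← e]; group⟩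
  obtain ⟨n, hn, e⟩ := hto ht
  obtain ⟨n', hn', e'⟩ := hto ht'
  exact ⟨n' * n⁻¹, mul_mem hn' (inv_mem hn), by rw [← e, ← e']; group⟩

theorem orbit_conj {z' : G} (hz' : z' ∈ vConj z V) :
    {v : G | ∃ n ∈ normalizer (V : Set G), n * z' * n⁻¹ = v} = vConj z V := by
  ext v
  constructor
  · rintro ⟨n, hn, rfl⟩; exact vConj_conj hn hz'
  · intro hv
    obtain ⟨n, hn, e⟩ := Γ.exists_normalizer_conj HF D hg₀ hz'.1 hz'.2
    obtain ⟨n', hn', e'⟩ := Γ.exists_normalizer_conj HF D hg₀ hv.1 hv.2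
    exact ⟨n' * n⁻¹, mul_mem hn' (inv_mem hn), by rw [← e, ← e']; group⟩

theorem orbit_rest {t : G} (ht : t ∈ vRest z V) :
    {v : G | ∃ n ∈ normalizer (V : Set G), n * t * n⁻¹ = v} = vRest z V := by
  ext v
  exact ⟨by rintro ⟨n, hn, rfl⟩; exact vRest_conj hn ht, Γ.vRest_transitive HF D HO hg₀ ht⟩

end Ctx

end Cfsg.Agent.JankoFour
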