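import Cfsg.Agent.Lib.JankoFour.DuadSpace
import Cfsg.Agent.Lib.JankoFour.Orbits

/-!
# Janko-four type: `N(V)` on `V` gives a `DuadSpace` (S5567)

`vAdd`, `vMod`: the vector space `Additive ↥V` over `ZMod 2`; `vRep`: conjugation by `N(V)`;
`vW`: the subspace `V ∩ E`.  `exists_duadSpace`: these form a `DuadSpace` with `T = vRest z V` and
core `E`.
-/

set_option autoImplicit false
set_option linter.unusedSectionVars false
set_option linter.style.haveILetI false

namespace Cfsg.Agent.JankoFour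

open Subgroup
open scoped commutatorElement

/-- An odd-order element sending `a` to `a c`, `c` a fixed involution or 1, fixes `a`. -/
theorem eq_one_of_conj_mul {G : Type*} [Group G] {t a c : G} {n : ℕ} (hn : Odd n) (ht : t ^ n = 1)
    (hc : t * c * t⁻¹ = c) (hcc : c * c = 1) (h : t * a * t⁻¹ = a * c) : c = 1 := by
  have hi : ∀ i : ℕ, t ^ i * a * (t ^ i)⁻¹ = a * c ^ i := by
    intro i
    induction i with
    | zero => simp
    | succ i ih =>
      rw [pow_succ', show t * t ^ i * a * (t * t ^ i)⁻¹ = t * (t ^ i * a * (t ^ i)⁻¹) * t⁻¹ by group,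
        ih, show t * (a * c ^ i) * t⁻¹ = (t * a * t⁻¹) * (t * c ^ i * t⁻¹) by group, h,
        show t * c ^ i * t⁻¹ = c ^ i by rw [← conj_pow, hc], mul_assoc, ← pow_succ']
  have h1 := hi n
  obtain ⟨l, rfl⟩ := hn
  rw [ht, one_mul, inv_one, mul_one, pow_succ, pow_mul, pow_two c, hcc, one_pow, one_mul] at h1
  exact mul_left_cancel (h1.symm.trans (mul_one a).symm)

variable {G : Type*} [Group G] {z : G} {P : Subgroup G}

/-! ### The vector space `Additive ↥V` -/

section Space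

variable {V : Subgroup G} (hs : ∀ v ∈ V, v * v = 1)

/-- `Additive ↥V` as an additive commutative group. -/
@[reducible] def vAdd : AddCommGroup (Additive ↥V) :=
  @Additive.addCommGroup ↥V
    { (inferInstance : Group ↥V) with
      mul_comm := fun a b => Subtype.ext (comm_of_sq hs a a.2 b b.2) }

/-- `Additive ↥V` as a vector space over `ZMod 2`. -/
@[reducible] def vMod : @Module (ZMod 2) (Additive ↥V) _ (vAdd hs).toAddCommMonoid :=
  letI := vAdd hs
  AddCommGroup.zmodModule (n := 2) fun x => by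
    rw [two_nsmul]
    exact congrArg Additive.ofMul (Subtype.ext (hs (Additive.toMul x : ↥V) (Additive.toMul x).2) :
      (Additive.toMul x * Additive.toMul x : ↥V) = 1)

/-- Conjugation by `N(V)` on `V`. -/
def vRep : letI := vAdd hs; letI := vMod hs
    Representation (ZMod 2) ↥(normalizer (V : Set G)) (Additive ↥V) :=
  letI := vAdd hs
  letI := vMod hs
  { toFun := fun n => (MonoidHom.toAdditive (V.normalizerMonoidHom n).toMonoidHom).toZModLinearMap 2
    map_one' := LinearMap.ext fun x => by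
      show Additive.ofMul (V.normalizerMonoidHom 1 (Additive.toMul x)) = x
      rw [map_one]; rfl
    map_mul' := fun m n => LinearMap.ext fun x => by
      show Additive.ofMul (V.normalizerMonoidHom (m * n) (Additive.toMul x)) = _
      rw [map_mul]; rfl }

theorem vRep_apply (n : ↥(normalizer (V : Set G))) (x : Additive ↥V) :
    (letI := vAdd hs; letI := vMod hs;
      ((Additive.toMul (vRep hs n x) : ↥V) : G)) = n * (Additive.toMul x : ↥V) * (n : G)⁻¹ := rfl

/-- The subspace `V ∩ E`. -/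
def vW (z : G) : letI := vAdd hs; letI := vMod hs
    Submodule (ZMod 2) (Additive ↥V) :=
  letI := vAdd hs
  letI := vMod hs
  { carrier := {x | ((Additive.toMul x : ↥V) : G) ∈ coreE z}
    zero_mem' := (coreE z).one_mem
    add_mem' := fun ha hb => (coreE z).mul_mem ha hb
    smul_mem' := fun c x hx => by
      rcases zmod_two_cases c with rfl | rfl
      · rw [zero_smul]; exact (coreE z).one_mem
      · rwa [one_smul] }

end Space

namespace Ctx

variable [Finite G] (Γ : Ctx z P) {U₀ : Subgroup AutM22} (HF : HexFacts innerM22 U₀)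
  {V : Subgroup G} {gs : Fin 6 → G} (D : Γ.VData U₀ V gs)

include Γ

theorem eqz_iff_mul {V : Subgroup G} (hs : ∀ v ∈ V, v * v = 1) {a b : G} (hb : b ∈ V) :
    (a * b = 1 ∨ a * b = z) ↔ Eqz z a b := by
  have e : ∀ c, a * b = c ↔ a = c * b := fun c => by
    constructor
    · rintro rfl; rw [mul_assoc, hs b hb, mul_one]
    · rintro rfl; rw [mul_assoc, hs b hb, mul_one]
  rw [e 1, e z, one_mul]
  exact Iff.rfl

include HF D

/-- An element of `V` is in `E` exactly when its image is trivial. -/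
theorem mem_core_iff_ph {v : G} (hv : v ∈ V) : v ∈ coreE z ↔ Γ.ph v = 1 :=
  ⟨Γ.ph_core, fun h => Γ.mem_core_of_sq (D.le_H hv) h (by rw [D.sq v hv]; exact one_mem _)⟩

/-- `N_H(V)` is transitive on the cosets of `V ∩ E` outside it. -/
theorem exists_coset_map {v v' : G} (hv : v ∈ V) (hvE : v ∉ coreE z) (hv' : v' ∈ V)
    (hvE' : v' ∉ coreE z) : ∃ h ∈ centralizer ({z} : Set G), h ∈ normalizer (V : Set G) ∧
      h * v * h⁻¹ * v' ∈ coreE z := by
  have hU : ∀ {w}, w ∈ V → Γ.ph w ∈ U₀ := fun hw => D.img_eq ▸ Γ.ph_mem_img D.le_H hw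
  obtain ⟨h, hh, hN, hmap⟩ := Γ.exists_fib_map HF D (hU hv)
    (fun e => hvE ((Γ.mem_core_iff_ph HF D hv).2 e)) (hU hv')
    (fun e => hvE' ((Γ.mem_core_iff_ph HF D hv').2 e))
  obtain ⟨h1, h2⟩ := hmap v ⟨hv, rfl⟩
  refine ⟨h, hh, hN, (Γ.mem_core_iff_ph HF D (mul_mem h1 hv')).2 ?_⟩
  rw [Γ.ph_mul (D.le_H h1) (D.le_H hv'), h2]
  exact HF.sixteen.1 _ (hU hv')

/-- An element of order 5 of `N_H(V)` moving a coset of `V ∩ E`. -/
theorem exists_five (HO : HexOrbFacts innerM22 U₀) :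
    ∃ y ∈ centralizer ({z} : Set G), y ∈ normalizer (V : Set G) ∧ y ^ 5 = 1 ∧
      ∃ x ∈ V, x ∉ coreE z ∧ y * x * y⁻¹ * x ∉ coreE z := by
  obtain ⟨d, -, hdU, hd5⟩ := HO.five
  have hdN : d ∈ normalizer (U₀ : Set AutM22) := LocalStructure.mem_normalizer_of_map_conj_le (by
    rintro _ ⟨u, hu, rfl⟩; exact hdU u hu)
  obtain ⟨x, hxH, hxd⟩ := Γ.exists_ph d
  obtain ⟨j, m, hm5, hxo⟩ := Nat.exists_eq_pow_mul_and_not_dvd (orderOf_pos x).ne' 5 (by norm_num)
  have hph : ∀ n : ℕ, Γ.ph (x ^ n) = d ^ n := by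
    intro n
    induction n with
    | zero => rw [pow_zero, pow_zero]; exact Γ.ph_one
    | succ n ih => rw [pow_succ, pow_succ, Γ.ph_mul (pow_mem hxH n) hxH, ih, hxd]
  obtain ⟨y, hy⟩ : ∃ y, y = x ^ m := ⟨_, rfl⟩
  have hyH : y ∈ centralizer ({z} : Set G) := hy ▸ pow_mem hxH m
  have hyph : Γ.ph y = d ^ m := hy ▸ hph m
  have hd : (Γ.ph y) ^ 5 = 1 := by
    rw [hyph, ← pow_mul, mul_comm, pow_mul, ← hd5, pow_orderOf_eq_one, one_pow]
  have hy1 : Γ.ph y ≠ 1 := fun e => hm5 (hd5 ▸ orderOf_dvd_of_pow_eq_one (hyph ▸ e))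
  have hy5 : y ^ 5 = 1 := by
    have hk : y ^ 5 ∈ coreE z ⊔ P := by
      refine (Γ.S.pi_eq_one ⟨y ^ 5, pow_mem hyH 5⟩).1 ?_
      rw [← Γ.ph_eq, hy, ← pow_mul, hph, pow_mul, ← hyph, hd]
    have h1 := Γ.S.pow_ker hk
    have h2 : (y ^ 5) ^ 5 ^ j = 1 := by
      rw [hy, ← pow_mul, ← pow_mul, show m * (5 * 5 ^ j) = (5 ^ j * m) * 5 by ring, pow_mul, ← hxo,
        pow_orderOf_eq_one, one_pow]
    refine orderOf_eq_one_iff.1 (Nat.eq_one_of_dvd_coprimes
      (Nat.Coprime.pow_left j (by norm_num : Nat.Coprime 5 (3 * 2 ^ 13)))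
      (orderOf_dvd_of_pow_eq_one h2) (orderOf_dvd_of_pow_eq_one h1))
  obtain ⟨u, hu, hyu⟩ : ∃ u ∈ U₀, Γ.ph y * u ≠ u * Γ.ph y := by
    by_contra hno
    push Not at hno
    have h2 := HF.sixteen.1 _ (HO.self _ hno)
    refine hy1 ?_
    calc Γ.ph y = (Γ.ph y * Γ.ph y) * (Γ.ph y * Γ.ph y) * Γ.ph y := by rw [h2, one_mul, one_mul]
      _ = (Γ.ph y) ^ 5 := by simp [pow_succ, mul_assoc]
      _ = 1 := hd
  obtain ⟨v, hv, hvH, rfl⟩ := Γ.exists_over HF D hu
  refine ⟨y, hyH, (Γ.mem_normalizer_iff_ph HF D hyH).2 (hyph ▸ pow_mem hdN m), hy5, v, hv,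
    fun h => hyu (by rw [Γ.ph_core h, mul_one, one_mul]), fun h => hyu ?_⟩
  have e := Γ.ph_core h
  rw [Γ.ph_mul (mul_mem (mul_mem hyH hvH) (inv_mem hyH)) hvH, Γ.ph_conj hyH hvH] at e
  have h2 := HF.sixteen.1 _ hu
  calc Γ.ph y * Γ.ph v = (Γ.ph y * Γ.ph v * (Γ.ph y)⁻¹) * Γ.ph y := by group
    _ = (Γ.ph v)⁻¹ * Γ.ph y := by rw [eq_inv_of_mul_eq_one_left e]
    _ = Γ.ph v * Γ.ph y := by rw [inv_eq_of_mul_eq_one_right h2]

/-- A Sylow 3-subgroup `R` of order 27 of `N_H(V)` through `P`: inner, and an element inducing on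
`W/⟨z⟩` an element of `P` lies in `P`. -/
theorem exists_twentySeven (HO : HexOrbFacts innerM22 U₀) :
    ∃ R : Subgroup G, R ≤ centralizer ({z} : Set G) ⊓ normalizer (V : Set G) ∧ Nat.card ↥R = 27 ∧
      ∀ s ∈ R, Γ.ph s ∈ innerM22 ∧ ∀ q ∈ P,
        (∀ w ∈ V ⊓ coreE z, Eqz z (s * w * s⁻¹) (q * w * q⁻¹)) → s ∈ P := by
  set H := centralizer ({z} : Set G) with hH
  set M := H ⊓ normalizer (V : Set G) with hM
  have : Fact (Nat.Prime 3) := ⟨Nat.prime_three⟩
  have hMc : Nat.card ↥M = 2 ^ 21 * 3 ^ 3 * 5 := by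
    have e : M.subgroupOf H = (normalizer (U₀ : Set AutM22)).comap Γ.S.pi := by
      ext h
      rw [mem_subgroupOf, mem_comap, ← Γ.ph_eq, hM, Subgroup.mem_inf]
      exact ⟨fun k => (Γ.mem_normalizer_iff_ph HF D h.2).1 k.2,
        fun k => ⟨h.2, (Γ.mem_normalizer_iff_ph HF D h.2).2 k⟩⟩
    have hm := (M.subgroupOf H).card_mul_index
    rw [Nat.card_congr (subgroupOfEquivOfLe inf_le_left).toEquiv, e,
      index_comap_of_surjective _ Γ.S.pi_surjective, Γ.S.card_H] at hm
    have hn := (normalizer (U₀ : Set AutM22)).card_mul_index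
    rw [HO.card_norm, card_autM22_of_facts Γ.F] at hn
    have : (normalizer (U₀ : Set AutM22)).index = 77 := by omega
    rw [this] at hm
    have hm' : Nat.card ↥M * 77 = 2 ^ 13 * 3 * 887040 := hm
    simp only [Nat.reducePow, Nat.reduceMul] at hm' ⊢
    omega
  have hPM : P ≤ M := le_inf Γ.S.P_le (Γ.P_le_normalizer_V HF D)
  have hP3 : IsPGroup 3 ↥(P.subgroupOf M) := IsPGroup.of_card (n := 1) (by
    rw [Nat.card_congr (subgroupOfEquivOfLe hPM).toEquiv, Γ.S.card_P, pow_one])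
  obtain ⟨T, hT⟩ := hP3.exists_le_sylow
  have hTc : Nat.card ↥(T : Subgroup ↥M) = 27 := by
    have hne : ∀ a b c : ℕ, 2 ^ a * 3 ^ b * 5 ^ c ≠ 0 := fun a b c => by positivity
    rw [Sylow.card_eq_multiplicity, hMc, Nat.factorization_mul (by norm_num) (by norm_num),
      Nat.factorization_mul (by norm_num) (by norm_num), Finsupp.add_apply, Finsupp.add_apply,
      Nat.factorization_pow, Finsupp.smul_apply, Nat.Prime.factorization Nat.prime_two,
      Nat.Prime.factorization_pow Nat.prime_three, Nat.Prime.factorization Nat.prime_five]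
    simp
  refine ⟨(T : Subgroup ↥M).map M.subtype, map_subtype_le _, by
    rw [card_map_of_injective M.subtype_injective, hTc], fun s hs => ?_⟩
  have hPR : P ≤ (T : Subgroup ↥M).map M.subtype := fun q hq => ⟨⟨q, hPM hq⟩, hT hq, rfl⟩
  have h27 : ∀ {t}, t ∈ (T : Subgroup ↥M).map M.subtype → t ^ 27 = 1 := by
    rintro _ ⟨t, ht, rfl⟩
    have h := congrArg Subtype.val (pow_card_eq_one' (x := (⟨t, ht⟩ : ↥(T : Subgroup ↥M))))
    rw [hTc] at h
    exact congrArg Subtype.val h
  have hsH : s ∈ H := (map_subtype_le _ hs).1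
  refine ⟨?_, fun q hq hagree => ?_⟩
  · by_contra hni
    have hp : ∀ n : ℕ, (Γ.ph (s ^ n) ∈ innerM22 ↔ Even n) := by
      intro n
      induction n with
      | zero => simp [Γ.ph_one, one_mem]
      | succ n ih =>
        rw [pow_succ, Γ.ph_mul (pow_mem hsH n) hsH, mul_mem_iff_of_index_two Γ.F.index_two, ih,
          Nat.even_add_one]
        simp [hni]
    have := (hp 27).1 (by rw [h27 hs, Γ.ph_one]; exact one_mem _)
    exact absurd this (by decide)
  · set t := q⁻¹ * s with ht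
    have htR : t ∈ (T : Subgroup ↥M).map M.subtype := mul_mem (inv_mem (hPR hq)) hs
    have htH : t ∈ H := (map_subtype_le _ htR).1
    have hodd : Odd 27 := by decide
    have htz : t * z * t⁻¹ = z := by rw [(mem_H.1 htH).eq, mul_inv_cancel_right]
    have htW : ∀ w ∈ V ⊓ coreE z, t * w * t⁻¹ = w := by
      intro w hw
      have h1 : Eqz z (t * w * t⁻¹) w := by
        have := (hagree w hw).conj (mem_H.1 (inv_mem (Γ.S.P_le hq)))
        rwa [show q⁻¹ * (s * w * s⁻¹) * q⁻¹⁻¹ = t * w * t⁻¹ by rw [ht]; group,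
          show q⁻¹ * (q * w * q⁻¹) * q⁻¹⁻¹ = w by group] at this
      rcases h1 with h | h
      · exact h
      · have := eq_one_of_conj_mul hodd (h27 htR) htz Γ.S.hub.sq
          (a := w) (by rw [h, (Γ.S.hub.central w hw.2).eq])
        exact absurd this Γ.S.hub.ne_one
    have hE : ∀ e ∈ coreE z, Commute t e := by
      intro e he
      set c := e⁻¹ * (t * e * t⁻¹) with hc
      have hcE : c ∈ coreE z := mul_mem (inv_mem he) (Γ.conj_core htH he)
      have hcW : c ∈ V ⊓ coreE z := by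
        refine (Γ.inf_core HF D).symm ▸ Γ.mem_wSpan_of_commute D.star hcE fun w hw => ?_
        rw [← Γ.inf_core HF D] at hw
        have hew : e * w * e⁻¹ ∈ V ⊓ coreE z :=
          ⟨(mem_normalizer_iff.1 (Γ.core_le_normalizer HF D he) w).1 hw.1,
            Γ.conj_core (coreE_le_H he) hw.2⟩
        have h2 : t * e * t⁻¹ * w * (t * e * t⁻¹)⁻¹ = e * w * e⁻¹ := by
          calc t * e * t⁻¹ * w * (t * e * t⁻¹)⁻¹ = t * (e * (t⁻¹ * w * t) * e⁻¹) * t⁻¹ := by group
            _ = t * (e * w * e⁻¹) * t⁻¹ := by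
              rw [show t⁻¹ * w * t = w by
                conv_lhs => rw [← htW w hw]
                group]
            _ = e * w * e⁻¹ := htW _ hew
        calc c * w = e⁻¹ * (t * e * t⁻¹ * w * (t * e * t⁻¹)⁻¹) * (t * e * t⁻¹) := by rw [hc]; group
          _ = w * c := by rw [h2, hc]; group
      have hc1 := eq_one_of_conj_mul hodd (h27 htR) (htW c hcW) (D.sq c hcW.1) (a := e)
        (by rw [hc]; group)
      rw [hc, inv_mul_eq_one] at hc1
      exact mul_inv_eq_iff_eq_mul.1 hc1.symm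
    rcases Γ.S.hub.self t hE with e | e
    · rw [ht, inv_mul_eq_one] at e; exact e ▸ hq
    · have := h27 htR
      rw [e, pow_succ, show (26 : ℕ) = 2 * 13 from rfl, pow_mul, pow_two, Γ.S.hub.sq, one_pow,
        one_mul] at this
      exact absurd this Γ.S.hub.ne_one

/-- Each functional on `W` killing `z` is induced by an element of `E`. -/
theorem exists_core_dual : letI := vAdd D.sq; letI := vMod D.sq
    ∀ φ : Module.Dual (ZMod 2) (Additive ↥V), φ (Additive.ofMul ⟨z, Γ.z_mem_V HF D⟩) = 0 →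
      ∃ e, ∃ he : e ∈ coreE z, ∀ w ∈ vW D.sq z,
        vRep D.sq ⟨e, Γ.core_le_normalizer HF D he⟩ w =
          w + φ w • Additive.ofMul ⟨z, Γ.z_mem_V HF D⟩ := by
  letI := vAdd D.sq
  letI := vMod D.sq
  intro φ hφ
  set zz : (Additive ↥V) := Additive.ofMul ⟨z, Γ.z_mem_V HF D⟩ with hzz
  set W := vW D.sq z with hW
  have hzW : zz ∈ W := Γ.z_mem_core
  have hz0 : zz ≠ 0 := fun h => Γ.S.hub.ne_one
    (congrArg (fun a : (Additive ↥V) => ((Additive.toMul a : ↥V) : G)) h)
  set zW : ↥W := ⟨zz, hzW⟩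
  let r : ↥(coreE z) → ((Additive ↥V) →ₗ[ZMod 2] (Additive ↥V)) := fun e => vRep D.sq ⟨e, Γ.core_le_normalizer HF D e.2⟩
  have hr : ∀ e, ∀ w ∈ W, r e w + w = 0 ∨ r e w + w = zz := by
    intro e w hw
    have := (Γ.eqz_iff_mul (z := z) D.sq (a := (e : G) * (Additive.toMul w : ↥V) * (e : G)⁻¹)
      (Additive.toMul w).2).2 (Γ.comm_core e.2 hw)
    exact this.imp (fun h => Subtype.ext h) fun h => Subtype.ext h
  obtain ⟨χ, hχ⟩ := Submodule.exists_dual_map_eq_bot_of_notMem
    (p := (⊥ : Submodule (ZMod 2) (Additive ↥V))) (x := zz) (by simpa using hz0) inferInstance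
  have h1 : χ zz = 1 := (zmod_two_cases _).resolve_left hχ.1
  let ψ : ↥(coreE z) → Module.Dual (ZMod 2) ↥W :=
    fun e => (χ.comp (r e + LinearMap.id)).comp W.subtype
  have hψ : ∀ e (w : ↥W), r e w = w + ψ e w • zz := by
    intro e w
    show r e w = w + χ (r e w + w) • zz
    rcases hr e w w.2 with h | h
    · rw [h, map_zero, zero_smul, add_zero]; exact vadd_eq_zero.1 h
    · rw [h, h1, one_smul, ← h, add_comm (r e w), vadd_cancel]
  set W' := (V ⊓ coreE z).subgroupOf (coreE z) with hW'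
  have hinj : ∀ a b : ↥(coreE z), ψ a = ψ b → a⁻¹ * b ∈ W' := by
    intro a b hab
    rw [hW', mem_subgroupOf, Γ.inf_core HF D]
    refine Γ.mem_wSpan_of_commute D.star (a⁻¹ * b : ↥(coreE z)).2 fun w hw => ?_
    rw [← Γ.inf_core HF D] at hw
    let w' : ↥W := ⟨Additive.ofMul ⟨w, hw.1⟩, hw.2⟩
    have h2 : r a w' = r b w' := by rw [hψ, hψ, hab]
    have h3 : (a : G) * w * (a : G)⁻¹ = b * w * (b : G)⁻¹ :=
      congrArg (fun x : (Additive ↥V) => ((Additive.toMul x : ↥V) : G)) h2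
    show (a : G)⁻¹ * b * w = w * ((a : G)⁻¹ * b)
    calc (a : G)⁻¹ * b * w = (a : G)⁻¹ * ((b : G) * w * (b : G)⁻¹) * b := by group
      _ = w * ((a : G)⁻¹ * b) := by rw [← h3]; group
  let Ψ : ↥(coreE z) ⧸ W' → {f : Module.Dual (ZMod 2) ↥W // f zW = 0} :=
    fun c => ⟨ψ c.out, by
      show χ (r c.out zz + zz) = 0
      have : r c.out zz = zz := Additive.toMul.injective (Subtype.ext (by
        show (c.out : G) * z * (c.out : G)⁻¹ = z
        rw [(mem_H.1 (coreE_le_H c.out.2)).eq, mul_inv_cancel_right]))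
      rw [this, vadd_self, map_zero]⟩
  have hΨ : Function.Injective Ψ := fun a b hab => by
    rw [← QuotientGroup.out_eq' a, ← QuotientGroup.out_eq' b, QuotientGroup.eq]
    exact hinj _ _ (congrArg Subtype.val hab)
  have hcW : Nat.card ↥W = 2 ^ 7 := by
    rw [← Γ.card_inf_core HF D]
    exact Nat.card_congr ⟨fun w => ⟨((Additive.toMul (w : (Additive ↥V)) : ↥V) : G), (Additive.toMul (w : (Additive ↥V))).2, w.2⟩,
      fun w => ⟨Additive.ofMul ⟨w, w.2.1⟩, w.2.2⟩, fun _ => rfl, fun _ => rfl⟩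
  let eqd := (Module.finBasis (ZMod 2) ↥W).toDualEquiv.toEquiv
  have : Finite (Module.Dual (ZMod 2) ↥W) := Finite.of_equiv _ eqd
  have hK : 2 * Nat.card {f : Module.Dual (ZMod 2) ↥W // f zW = 0} ≤ 2 ^ 7 := by
    have h2 : Nat.card {f : Module.Dual (ZMod 2) ↥W // f zW = 0} * Nat.card (ZMod 2) =
        2 * Nat.card {f : Module.Dual (ZMod 2) ↥W // f zW = 0} := by rw [Nat.card_zmod, mul_comm]
    rw [← hcW, Nat.card_congr eqd, ← h2, ← Nat.card_prod]
    refine Nat.card_le_card_of_injective (fun x => x.1.1 + x.2 • χ.comp W.subtype) ?_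
    rintro ⟨⟨f, hf⟩, c⟩ ⟨⟨f', hf'⟩, c'⟩ h
    have hc : c = c' := by simpa [hf, hf', zW, h1] using LinearMap.congr_fun h zW
    subst hc
    simpa using h
  have hidx : W'.index = 64 := by
    have := W'.card_mul_index
    rw [Nat.card_congr (subgroupOfEquivOfLe inf_le_right).toEquiv, Γ.card_inf_core HF D,
      Γ.S.card_E] at this
    omega
  have hsurj : Function.Surjective Ψ := by
    refine ((Nat.bijective_iff_injective_and_card Ψ).2 ⟨hΨ, le_antisymm
      (Nat.card_le_card_of_injective Ψ hΨ) ?_⟩).2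
    rw [← index_eq_card, hidx]
    omega
  obtain ⟨c, hc⟩ := hsurj ⟨φ.comp W.subtype, by simpa [zW] using hφ⟩
  refine ⟨c.out, c.out.2, fun w hw => ?_⟩
  have hfin : r c.out w = w + ψ c.out ⟨w, hw⟩ • zz := hψ c.out ⟨w, hw⟩
  rw [show ψ c.out = φ.comp W.subtype from congrArg Subtype.val hc] at hfin
  exact hfin

/-- The commutators of `E` with an element of `V \ E` span, with `z`, at least 32 elements. -/
theorem core_rank_le {x : G} (hx : x ∈ V) (hxE : x ∉ coreE z) (X : Subgroup G) (hz : z ∈ X)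
    (h : ∀ e ∈ coreE z, e * x * e⁻¹ * x ∈ X) : 32 ≤ Nat.card ↥X := by
  set K := (Γ.fixZ x).subgroupOf (coreE z) with hK
  have hle : Γ.fixZ x ≤ coreE z := fixMod_le _ _
  have hcard := K.card_mul_index
  rw [Nat.card_congr (subgroupOfEquivOfLe hle).toEquiv, Γ.S.card_E] at hcard
  have hK8 : 8 * Nat.card ↥(Γ.fixZ x) < 2 ^ 13 := by
    by_contra hge
    push Not at hge
    refine hxE (Γ.hb x (D.le_H hx) (by rw [D.sq x hx]; exact one_mem _) _ hle (fun d hd => ?_) hge)
    have := inv_mem (hd : d ∈ coreE z ∧ x * d * x⁻¹ * d⁻¹ ∈ zpowers z).2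
    rwa [← commutatorElement_def, commutatorElement_inv] at this
  have hi16 : 16 ≤ K.index := by
    obtain ⟨i, -, hi⟩ := (Nat.dvd_prime_pow Nat.prime_two).1
      (Dvd.intro_left _ hcard : K.index ∣ 2 ^ 13)
    rw [hi] at hcard ⊢
    have hi4 : 4 ≤ i := by
      by_contra h4
      have := Nat.mul_le_mul_left (Nat.card ↥(Γ.fixZ x))
        (Nat.pow_le_pow_right (show 1 ≤ 2 by norm_num) (show i ≤ 3 by omega))
      rw [hcard] at this
      omega
    exact le_trans (by norm_num) (Nat.pow_le_pow_right (by norm_num) hi4)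
  let f : (↥(coreE z) ⧸ K) × Bool → ↥X := fun a =>
    ⟨(if a.2 then z else 1) * ((a.1.out : G) * x * (a.1.out : G)⁻¹ * x), by
      split
      · exact mul_mem hz (h _ a.1.out.2)
      · rw [one_mul]; exact h _ a.1.out.2⟩
  have hinj : Function.Injective f := by
    rintro ⟨a, i⟩ ⟨b, j⟩ hab
    have hab' := congrArg Subtype.val hab
    simp only [f, ← mul_assoc] at hab'
    have heq : Eqz z ((a.out : G) * x * (a.out : G)⁻¹) ((b.out : G) * x * (b.out : G)⁻¹) := by
      have e := mul_right_cancel hab'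
      rcases i <;> rcases j <;> simp only [Bool.false_eq_true, if_false, if_true, one_mul] at e
      · exact Or.inl e
      · exact Or.inr (by rw [e]; group)
      · exact Γ.eqz_symm (Or.inr (by rw [← e]; group))
      · simp only [mul_assoc] at e ⊢
        exact Or.inl (mul_left_cancel e)
    obtain rfl : a = b := by
      rw [← QuotientGroup.out_eq' a, ← QuotientGroup.out_eq' b, QuotientGroup.eq]
      have hu := (inv_mem (mem_H.2 (Γ.S.hub.central _ a.out.2)) :
        (a.out : G)⁻¹ ∈ centralizer ({z} : Set G))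
      have h2 := heq.conj (mem_H.1 hu)
      set d := (a.out : G)⁻¹ * b.out with hd
      rw [show (a.out : G)⁻¹ * ((a.out : G) * x * (a.out : G)⁻¹) * (a.out : G)⁻¹⁻¹ = x by group,
        show (a.out : G)⁻¹ * ((b.out : G) * x * (b.out : G)⁻¹) * (a.out : G)⁻¹⁻¹ =
          d * x * d⁻¹ by rw [hd]; group] at h2
      have hdz : ⁅d, x⁆ ∈ zpowers z :=
        (commutator_mem_iff Γ.S.hub.sq).2 ((Γ.eqz_symm h2).imp id id)
      have := inv_mem hdz
      rw [commutatorElement_inv, commutatorElement_def] at this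
      exact ⟨mul_mem (inv_mem a.out.2) b.out.2, this⟩
    have hb : (if i then z else (1 : G)) = if j then z else 1 := by
      simp only [mul_assoc] at hab'
      exact mul_right_cancel hab'
    rcases i <;> rcases j <;> simp at hb <;> first | rfl | skip
    · exact absurd hb.symm Γ.S.hub.ne_one
    · exact absurd hb Γ.S.hub.ne_one
  have := Nat.card_le_card_of_injective f hinj
  rw [Nat.card_prod, ← index_eq_card, Nat.card_eq_fintype_card (α := Bool), Fintype.card_bool] at this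
  omega

variable (HO : HexOrbFacts innerM22 U₀) {g₀ : G} (hg₀ : Pt z g₀)

include HO hg₀

/-- The duad space of `N(V)` on `V`. -/
theorem exists_duadSpace : letI := vAdd D.sq; letI := vMod D.sq
    ∃ S : DuadSpace ↥(normalizer (V : Set G)) (Additive ↥V),
      S.ρ = vRep D.sq ∧ S.z = Additive.ofMul ⟨z, Γ.z_mem_V HF D⟩ ∧ S.W = vW D.sq z ∧
      S.T = {x | ((Additive.toMul x : ↥V) : G) ∈ vRest z V} ∧
      S.core = (coreE z).subgroupOf (normalizer (V : Set G)) := by
  letI := vAdd D.sq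
  letI := vMod D.sq
  set N := ↥(normalizer (V : Set G))
  let c : (Additive ↥V) → G := fun x => ((Additive.toMul x : ↥V) : G)
  have hci : Function.Injective c := fun a b h => Additive.toMul.injective (Subtype.ext h)
  have hrange : ∀ {S : Set G}, (∀ v ∈ S, v ∈ V) → S ⊆ Set.range c :=
    fun h v hv => ⟨Additive.ofMul ⟨v, h v hv⟩, rfl⟩
  set zz : (Additive ↥V) := Additive.ofMul ⟨z, Γ.z_mem_V HF D⟩ with hzz
  have hzero : ∀ a b : (Additive ↥V), (a + b = 0 ∨ a + b = zz) ↔ Eqz z (c a) (c b) := fun a b =>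
    (or_congr ⟨fun h => congrArg c h, fun h => hci h⟩ ⟨fun h => congrArg c h, fun h => hci h⟩).trans
      (Γ.eqz_iff_mul D.sq (Additive.toMul b).2)
  have hfix : ∀ g : N, vRep D.sq g zz = zz → (g : G) ∈ centralizer ({z} : Set G) := fun g hg =>
    mem_H.2 (mul_inv_eq_iff_eq_mul.1 (congrArg c hg))
  have hfix' : ∀ g : N, (g : G) ∈ centralizer ({z} : Set G) → vRep D.sq g zz = zz := fun g hg =>
    hci (show (g : G) * z * (g : G)⁻¹ = z by rw [(mem_H.1 hg).eq, mul_inv_cancel_right])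
  obtain ⟨p, hp, hp1⟩ := Γ.exists_generator
  set pN : N := ⟨p, Γ.P_le_normalizer_V HF D hp⟩
  have hp3 : p ^ 3 = 1 := by rw [pow_three]; exact Γ.p_cube hp
  obtain ⟨R, hRM, hR27, hR⟩ := Γ.exists_twentySeven HF D HO
  obtain ⟨y, hyH, hyN, hy5, x5, hx5, hx5E, hy5E⟩ := Γ.exists_five HF D HO
  refine ⟨{
    ρ := vRep D.sq
    z := zz
    W := vW D.sq z
    T := {x | c x ∈ vRest z V}
    core := (coreE z).subgroupOf (normalizer (V : Set G))
    p := pN
    card_V := by rw [← D.card]; exact Nat.card_congr Additive.toMul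
    card_W := by
      rw [← Γ.card_inf_core HF D]
      exact Nat.card_congr ⟨fun w => ⟨c w, (Additive.toMul (w : (Additive ↥V))).2, w.2⟩,
        fun w => ⟨Additive.ofMul ⟨w, w.2.1⟩, w.2.2⟩, fun _ => rfl, fun _ => rfl⟩
    z_mem := Γ.z_mem_core
    z_ne := fun h => Γ.S.hub.ne_one (congrArg c h)
    zero_nmem := fun h => h.2.1 rfl
    z_nmem := fun h => h.2.2 (IsConj.refl _)
    add_z_mem := fun t ht htW => by
      have h := Γ.z_mul_mem_wRest HF D (t := c t) ⟨ht.1, htW, ht.2.1, ht.2.2⟩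
      rw [(Γ.S.hub.central _ htW).eq.symm] at h
      exact ⟨h.1, h.2.2.1, h.2.2.2⟩
    card_T := by
      rw [← Γ.card_vRest HF D HO hg₀]
      exact Set.ncard_preimage_of_injective_subset_range hci (hrange fun v hv => hv.1)
    card_TW := by
      rw [← Γ.card_wRest HF D HO hg₀, ← Set.ncard_preimage_of_injective_subset_range hci
        (hrange (S := wRest z V) fun v hv => hv.1)]
      congr 1
      ext x
      exact ⟨fun ⟨h, hE⟩ => ⟨h.1, hE, h.2.1, h.2.2⟩, fun h => ⟨⟨h.1, h.2.2.1, h.2.2.2⟩, h.2.1⟩⟩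
    map_T := fun g t ht => vRest_conj g.2 ht
    trans_T := fun t ht t' ht' => by
      obtain ⟨n, hn, e⟩ := Γ.vRest_transitive HF D HO hg₀ ht ht'
      exact ⟨⟨n, hn⟩, hci e⟩
    orbit_z := by
      have hzc : z ∈ vConj z V := ⟨Γ.z_mem_V HF D, IsConj.refl _⟩
      have e : c '' Set.range (fun g => vRep D.sq g zz) = vConj z V := by
        rw [← Γ.orbit_conj HF D HO hg₀ hzc]
        ext v
        constructor
        · rintro ⟨_, ⟨g, rfl⟩, rfl⟩; exact ⟨g, g.2, rfl⟩
        · rintro ⟨n, hn, rfl⟩; exact ⟨_, ⟨⟨n, hn⟩, rfl⟩, rfl⟩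
      rw [← Set.ncard_image_of_injective _ hci, e, (Γ.conj_counts HF D HO hg₀).1]
      norm_num
    stab_W := fun g hg w hw => Γ.conj_core (hfix g hg) hw
    trans_TW := fun t ht htW t' ht' htW' => by
      obtain ⟨h, hh, hN, e⟩ := Γ.wRest_transitive HF D HO hg₀ (t := c t) (t' := c t')
        ⟨ht.1, htW, ht.2.1, ht.2.2⟩ ⟨ht'.1, htW', ht'.2.1, ht'.2.2⟩
      exact ⟨⟨h, hN⟩, hfix' _ hh, hci e⟩
    trans_U := fun v hv v' hv' => by
      obtain ⟨h, hh, hN, e⟩ := Γ.exists_coset_map HF D (Additive.toMul v).2 hv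
        (Additive.toMul v').2 hv'
      exact ⟨⟨h, hN⟩, hfix' _ hh, e⟩
    core_z := fun e he => hfix' e (coreE_le_H he)
    core_sub := fun e he x => by
      have hx := D.le_H (Additive.toMul x).2
      show (e : G) * c x * (e : G)⁻¹ * c x ∈ coreE z
      have h1 := mul_mem (show (e : G) ∈ coreE z from he) (Γ.conj_core hx (inv_mem he))
      simp only [Subgroup.subtype_apply, ← mul_assoc,
        inv_eq_of_mul_eq_one_right (D.sq _ (Additive.toMul x).2)] at h1
      exact h1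
    core_W := fun e he w hw => (hzero _ _).2 (Γ.comm_core he hw)
    core_conj := fun g hg e he => Γ.conj_core (hfix g hg) he
    core_rigid := fun e he hew x => by
      have hcW : (e : G) ∈ V ⊓ coreE z := by
        refine (Γ.inf_core HF D).symm ▸ Γ.mem_wSpan_of_commute D.star he fun w hw => ?_
        rw [← Γ.inf_core HF D] at hw
        exact mul_inv_eq_iff_eq_mul.1 (congrArg c (hew (Additive.ofMul ⟨w, hw.1⟩) hw.2))
      exact hci (show (e : G) * c x * (e : G)⁻¹ = c x by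
        rw [comm_of_sq D.sq _ hcW.1 _ (Additive.toMul x).2, mul_inv_cancel_right])
    core_dual := fun φ hφ => by
      obtain ⟨e, he, h⟩ := Γ.exists_core_dual HF D φ hφ
      exact ⟨⟨e, Γ.core_le_normalizer HF D he⟩, he, h⟩
    core_rank := fun x hx X hz hX => by
      let X' : Subgroup G :=
        { carrier := c '' (X : Set (Additive ↥V))
          one_mem' := ⟨0, X.zero_mem, rfl⟩
          mul_mem' := by rintro _ _ ⟨a, ha, rfl⟩ ⟨b, hb, rfl⟩; exact ⟨a + b, X.add_mem ha hb, rfl⟩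
          inv_mem' := by rintro _ ⟨a, ha, rfl⟩; exact ⟨-a, X.neg_mem ha, rfl⟩ }
      have h := Γ.core_rank_le HF D (x := c x) (Additive.toMul x).2 hx X' ⟨zz, hz, rfl⟩
        fun e he => ⟨_, hX ⟨e, Γ.core_le_normalizer HF D he⟩ he, rfl⟩
      rwa [← SetLike.coe_sort_coe X', Nat.card_coe_set_eq, show (X' : Set G) = c '' (X : Set (Additive ↥V)) from rfl,
        Set.ncard_image_of_injective _ hci, ← Nat.card_coe_set_eq, SetLike.coe_sort_coe] at h
    p_z := hfix' pN (Γ.S.P_le hp)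
    p_cube := fun x => by
      have : pN ^ 3 = 1 := Subtype.ext (by rw [SubmonoidClass.coe_pow]; exact hp3)
      rw [this, map_one]; rfl
    p_sub := fun x => by
      have hx := D.le_H (Additive.toMul x).2
      have hm : p * c x * p⁻¹ ∈ V :=
        (mem_normalizer_iff.1 (Γ.P_le_normalizer_V HF D hp) _).1 (Additive.toMul x).2
      refine (Γ.mem_core_iff_ph HF D (mul_mem hm (Additive.toMul x).2)).2 ?_
      rw [Γ.ph_mul (D.le_H hm) hx, Γ.ph_conj (Γ.S.P_le hp) hx, Γ.ph_P hp]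
      simpa using HF.sixteen.1 _ (D.img_eq ▸ Γ.ph_mem_img D.le_H (Additive.toMul x).2)
    p_fpf := fun w hw h => (Γ.eq_one_or_z_of_fixed hp hp1 hw ((hzero _ _).1 h)).imp
      (fun e => hci e) fun e => hci e
    p_conj := fun g hg w hw => by
      have hgH := hfix g hg
      by_cases hi : Γ.ph (g : G) ∈ innerM22
      · refine ⟨1, (hzero _ _).2 ?_⟩
        rw [pow_one]
        exact Γ.inner_conj hgH hi hp hw
      · refine ⟨2, (hzero _ _).2 ?_⟩
        have e : pN ^ 2 = pN⁻¹ := (inv_eq_of_mul_eq_one_right (Subtype.ext (by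
          show p * (p ^ 2) = 1
          rw [← pow_succ', hp3]))).symm
        rw [e]
        have := Γ.outer_conj hgH hi hp hw
        show Eqz z ((g : G) * (p * c w * p⁻¹) * (g : G)⁻¹) (p⁻¹ * ((g : G) * c w * (g : G)⁻¹) * p⁻¹⁻¹)
        rwa [inv_inv]
    five := ⟨⟨y, hyN⟩, hfix' _ hyH, fun x => by
      rw [show (⟨y, hyN⟩ : N) ^ 5 = 1 from Subtype.ext (by rw [SubmonoidClass.coe_pow]; exact hy5),
        map_one]
      rfl, Additive.ofMul ⟨x5, hx5⟩, hx5E, hy5E⟩
    nine := by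
      have hPN : P ≤ normalizer (V : Set G) := Γ.P_le_normalizer_V HF D
      have hfin : (P.subgroupOf (normalizer (V : Set G)) : Set N).Finite := Set.toFinite _
      refine ⟨R.subgroupOf (normalizer (V : Set G)), hfin.toFinset, ?_, ?_, fun s hs => ?_⟩
      · rw [Nat.card_congr (subgroupOfEquivOfLe (hRM.trans inf_le_right)).toEquiv, hR27]
      · rw [← Set.ncard_eq_toFinset_card _ hfin, ← Nat.card_coe_set_eq, SetLike.coe_sort_coe,
          Nat.card_congr (subgroupOfEquivOfLe hPN).toEquiv, Γ.S.card_P]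
      · obtain ⟨hsi, hker⟩ := hR s hs
        have hsH := (hRM hs).1
        refine ⟨hfix' s hsH, fun w hw => (hzero _ _).2 (Γ.inner_conj hsH hsi hp hw),
          fun k hk => ?_⟩
        rw [Set.Finite.mem_toFinset]
        refine hker _ (pow_mem hp k) fun w hw => ?_
        have := (hzero _ _).1 (hk (Additive.ofMul ⟨w, hw.1⟩) hw.2)
        rwa [show c (vRep D.sq (pN ^ k) (Additive.ofMul ⟨w, hw.1⟩)) = p ^ k * w * (p ^ k)⁻¹ from rfl]
          at this }, rfl, rfl, rfl, rfl, rfl⟩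

end Ctx

end Cfsg.Agent.JankoFour
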