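import Cfsg.Agent.Lib.JankoFour.Orbits

/-!
# Janko-four type: the orbits on an arbitrary elementary subgroup of order `2^11` (S5568)

* `exists_conj_data`: every elementary subgroup of order `2^11` of `G` is conjugate to one over `U₀`.
* `orbits_general`: conjugates of `z` (1771) and the others (276) are the orbits of `N(V)`.
-/

set_option autoImplicit false
set_option linter.unusedSectionVars false

namespace Cfsg.Agent.JankoFour

open Subgroup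
open LargeExtraspecial (Hub Pair mem_conj_iff)

variable {G : Type*} [Group G] {z : G} {P : Subgroup G}

theorem elementary_of_sq [Finite G] {V : Subgroup G} (h : ∀ v ∈ V, v * v = 1) :
    Cfsg.IsElementaryAbelian 2 V :=
  ⟨⟨⟨fun a b => Subtype.ext (comm_of_sq h a a.2 b b.2)⟩⟩, fun v hv => by rw [pow_two]; exact h v hv⟩

theorem sq_of_elementary {V : Subgroup G} (h : Cfsg.IsElementaryAbelian 2 V) : ∀ v ∈ V, v * v = 1 :=
  fun v hv => by rw [← pow_two]; exact h.2 v hv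

theorem conj_sq {V : Subgroup G} (h : ∀ v ∈ V, v * v = 1) (g : G) :
    ∀ v ∈ V.map (MulAut.conj g).toMonoidHom, v * v = 1 := by
  rintro _ ⟨v, hv, rfl⟩
  rw [← map_mul, h v hv, map_one]

namespace Ctx

variable [Finite G] (Γ : Ctx z P) {U₀ : Subgroup AutM22} (HF : HexFacts innerM22 U₀) {g₀ : G} (hg₀ : Pt z g₀)

include Γ HF hg₀

/-- An elementary subgroup of order `2^11` of `H` contains `z`. -/
theorem z_mem_elementary {V : Subgroup G} (hV : V ≤ centralizer ({z} : Set G)) (hsq : ∀ v ∈ V, v * v = 1)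
    (h11 : 2 ^ 11 ≤ Nat.card ↥V) : z ∈ V := by
  obtain ⟨k, hk⟩ := Γ.img_conj HF hg₀ hV hsq h11
  obtain ⟨gs, St⟩ := Γ.exists_star HF hg₀ k
  have hU : cj k U₀ ≤ innerM22 := by
    rintro _ ⟨u, hu, rfl⟩
    exact Γ.inner_normal.conj_mem u (HF.le hu) k
  rw [Γ.eq_pullU St hU (hk ▸ (Γ.img_facts hV hsq h11).2.1) hV hsq h11 hk]
  refine Γ.mem_pullU.2 ⟨coreE_le_H Γ.z_mem_core, ?_, fun w hw => ?_⟩
  · rw [Γ.ph_core Γ.z_mem_core]; exact one_mem _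
  · exact (Γ.S.hub.central w (Γ.wSpan_le St hw)).eq

theorem exists_conj_data {V : Subgroup G} (hsq : ∀ v ∈ V, v * v = 1) (hc : Nat.card ↥V = 2 ^ 11) :
    ∃ (g : G) (gs : Fin 6 → G), Γ.VData U₀ (V.map (MulAut.conj g).toMonoidHom) gs := by
  have : Fact (Nat.Prime 2) := ⟨Nat.prime_two⟩
  obtain ⟨V₀, hV₀H, hsq₀, hc₀⟩ := Γ.exists_elementary_H HF hg₀
  obtain ⟨T, hT⟩ := (IsPGroup.of_card hc : IsPGroup 2 ↥V).exists_le_sylow
  obtain ⟨T₀, hT₀⟩ := (IsPGroup.of_card hc₀ : IsPGroup 2 ↥V₀).exists_le_sylow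
  obtain ⟨x, hx⟩ := MulAction.exists_smul_eq G T T₀
  have hle : V.map (MulAut.conj x).toMonoidHom ≤ (T₀ : Subgroup G) := by
    rw [← hx, Sylow.coe_subgroup_smul]
    rintro _ ⟨v, hv, rfl⟩
    exact ⟨v, hT hv, rfl⟩
  have heq : V.map (MulAut.conj x).toMonoidHom = V₀ := (Γ.unique_in_sylow HF hg₀ T₀).unique
    ⟨hle, elementary_of_sq (conj_sq hsq x), by rw [card_map_of_injective (MulAut.conj x).injective, hc]⟩
    ⟨hT₀, elementary_of_sq hsq₀, hc₀⟩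
  obtain ⟨gs, St⟩ := Γ.exists_star HF hg₀ 1
  rw [cj_one] at St
  obtain ⟨h, hh, D⟩ := Γ.exists_data HF St hg₀ hsq₀ hc₀ (Γ.z_mem_elementary HF hg₀ hV₀H hsq₀ hc₀.ge)
  refine ⟨h * x, gs, ?_⟩
  have e : cj (h * x) V = cj h (cj x V) := cj_mul h x V
  show Γ.VData U₀ (cj (h * x) V) gs
  rw [e, show cj x V = V₀ from heq]
  exact D

/-- The two orbits of `N(V)` on the involutions of `V`. -/
theorem orbits_general (HO : HexOrbFacts innerM22 U₀) {V : Subgroup G} (hsq : ∀ v ∈ V, v * v = 1)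
    (hc : Nat.card ↥V = 2 ^ 11) :
    (vConj z V).ncard = 1771 ∧ (vRest z V).ncard = 276 ∧
      (∀ z' ∈ vConj z V, {v : G | ∃ n ∈ normalizer (V : Set G), n * z' * n⁻¹ = v} = vConj z V) ∧
      (∀ t ∈ vRest z V, {v : G | ∃ n ∈ normalizer (V : Set G), n * t * n⁻¹ = v} = vRest z V) := by
  obtain ⟨g, gs, D⟩ := Γ.exists_conj_data HF hg₀ hsq hc
  set V₁ := V.map (MulAut.conj g).toMonoidHom with hV₁
  have hmem : ∀ v, v ∈ V ↔ g * v * g⁻¹ ∈ V₁ := fun v => by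
    rw [hV₁, mem_conj_iff, show g⁻¹ * (g * v * g⁻¹) * g = v by group]
  have hcj : ∀ v, IsConj z v ↔ IsConj z (g * v * g⁻¹) := fun v =>
    ⟨fun h => h.trans (isConj_iff.2 ⟨g, rfl⟩), fun h => h.trans (isConj_iff.2 ⟨g⁻¹, by group⟩)⟩
  have hinj : Function.Injective (fun v => g * v * g⁻¹) := (MulAut.conj g).injective
  have hsurj : ∀ w : G, g * (g⁻¹ * w * g) * g⁻¹ = w := fun w => by group
  have eC : (fun v => g * v * g⁻¹) '' vConj z V = vConj z V₁ := by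
    ext w
    constructor
    · rintro ⟨v, ⟨h1, h2⟩, rfl⟩; exact ⟨(hmem v).1 h1, (hcj v).1 h2⟩
    · rintro ⟨h1, h2⟩
      exact ⟨g⁻¹ * w * g, ⟨(hmem _).2 (by rw [hsurj]; exact h1), (hcj _).2 (by rw [hsurj]; exact h2)⟩, hsurj w⟩
  have eR : (fun v => g * v * g⁻¹) '' vRest z V = vRest z V₁ := by
    ext w
    constructor
    · rintro ⟨v, ⟨h1, h2, h3⟩, rfl⟩
      exact ⟨(hmem v).1 h1, fun e => h2 (conj_eq_one_iff.1 e), fun h => h3 ((hcj v).2 h)⟩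
    · rintro ⟨h1, h2, h3⟩
      refine ⟨g⁻¹ * w * g, ⟨(hmem _).2 (by rw [hsurj]; exact h1), fun e => h2 ?_, fun h => h3 ?_⟩, hsurj w⟩
      · rw [← hsurj w, e, mul_one, mul_inv_cancel]
      · rw [← hsurj w]; exact (hcj _).1 h
  have hN : ∀ {n}, n ∈ normalizer (V₁ : Set G) → g⁻¹ * n * g ∈ normalizer (V : Set G) := by
    intro n hn
    have h := mem_normalizer_cj (k := g⁻¹) hn
    rwa [inv_inv, show cj g⁻¹ V₁ = V by
      show cj g⁻¹ (cj g V) = V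
      rw [← cj_mul, inv_mul_cancel, cj_one]] at h
  refine ⟨?_, ?_, fun z' hz' => ?_, fun t ht => ?_⟩
  · rw [← Set.ncard_image_of_injective _ hinj, eC]; exact (Γ.conj_counts HF D HO hg₀).1
  · rw [← Set.ncard_image_of_injective _ hinj, eR]; exact Γ.card_vRest HF D HO hg₀
  · ext v
    refine ⟨fun ⟨n, hn, e⟩ => e ▸ vConj_conj hn hz', fun hv => ?_⟩
    have h1 : g * v * g⁻¹ ∈ {w : G | ∃ n ∈ normalizer (V₁ : Set G), n * (g * z' * g⁻¹) * n⁻¹ = w} := by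
      rw [Γ.orbit_conj HF D HO hg₀ (eC ▸ ⟨z', hz', rfl⟩)]
      exact eC ▸ ⟨v, hv, rfl⟩
    obtain ⟨n, hn, e⟩ := h1
    refine ⟨g⁻¹ * n * g, hN hn, ?_⟩
    calc g⁻¹ * n * g * z' * (g⁻¹ * n * g)⁻¹ = g⁻¹ * (n * (g * z' * g⁻¹) * n⁻¹) * g := by group
      _ = v := by rw [e]; group
  · ext v
    refine ⟨fun ⟨n, hn, e⟩ => e ▸ vRest_conj hn ht, fun hv => ?_⟩
    obtain ⟨n, hn, e⟩ := Γ.vRest_transitive HF D HO hg₀
      (eR ▸ ⟨t, ht, rfl⟩ : g * t * g⁻¹ ∈ vRest z V₁) (eR ▸ ⟨v, hv, rfl⟩ : g * v * g⁻¹ ∈ vRest z V₁)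
    refine ⟨g⁻¹ * n * g, hN hn, ?_⟩
    calc g⁻¹ * n * g * t * (g⁻¹ * n * g)⁻¹ = g⁻¹ * (n * (g * t * g⁻¹) * n⁻¹) * g := by group
      _ = v := by rw [e]; group

end Ctx

end Cfsg.Agent.JankoFour
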