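import Cfsg.Agent.Lib.JankoFour.HexInterface

/-!
# Janko-four type: what is used about the automorphism group of M₂₂ to split `N(V)` over `V` (S5567)

`h` moves the hexad of `U₀` to a disjoint one; `a, b, c, d` are the lifts of `(12), (34), (56), (13)(24)`
generating a Sylow 2-subgroup `D₈ × 2` of their common stabiliser `S₆`.
-/

set_option autoImplicit false

namespace Cfsg.Agent.JankoFour

open Subgroup

/-- Two sixteens generating the inner part, and a `D₈ × 2` normalising both, disjoint from the first. -/
structure SplitFacts {K : Type*} [Group K] (I U₀ : Subgroup K) : Prop where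
  data : ∃ h a b c d : K, closure ((U₀ : Set K) ∪ (cj h U₀ : Subgroup K)) = I ∧
    (∀ x ∈ ({a, b, c, d} : Set K), orderOf x = 2 ∧ x ∈ normalizer (U₀ : Set K) ∧
      x ∈ normalizer (cj h U₀ : Set K)) ∧
    Commute a b ∧ Commute a c ∧ Commute b c ∧ Commute d c ∧ d * a * d = b ∧
    Nat.card ↥(closure ({a, b, c, d} : Set K)) = 16 ∧ closure ({a, b, c, d} : Set K) ⊓ U₀ = ⊥

end Cfsg.Agent.JankoFour
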