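import Cfsg.Agent.Lib.JankoFour.SplitLifts
import Cfsg.Agent.Lib.JankoFour.Orbits
import Cfsg.Agent.Lib.JankoFour.SplitInterface
import Cfsg.Agent.Lib.Coprime.Gaschutz

/-!
# Janko-four type: `N(V)` splits over `V` (S5567)

`card_normalizer`: `|N(V)| = 2^11 · |M₂₄|`.  `exists_complement`: with `V₂` the conjugate of `V` over
a disjoint hexad, `[V₂ ∩ E, P]` and involution lifts of a `D₈ × 2` form a complement of `V` in a
Sylow 2-subgroup of `N(V)`, and Gaschütz applies.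
-/

set_option autoImplicit false
set_option linter.unusedSectionVars false

namespace Cfsg.Agent.JankoFour

open Subgroup
open scoped commutatorElement
open LargeExtraspecial (Hub Pair mem_conj_iff)

variable {G : Type*} [Group G] {z : G} {P : Subgroup G}

theorem zpowers_le_normalizer_of_commute {x : G} {A : Subgroup G} (h : ∀ a ∈ A, Commute x a) :
    zpowers x ≤ normalizer (A : Set G) := zpowers_le.2 (mem_normalizer_iff.2 fun a => by
  constructor
  · intro ha; rwa [(h a ha).eq, mul_inv_cancel_right]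
  · intro ha
    have e := (h _ ha).eq
    have : a = x * a * x⁻¹ := by
      calc a = x⁻¹ * (x * a * x⁻¹ * x) := by group
        _ = x⁻¹ * (x * (x * a * x⁻¹)) := by rw [e]
        _ = x * a * x⁻¹ := by group
    exact this ▸ ha)

theorem card_sup_le [Finite G] {A B : Subgroup G} (h : A ≤ normalizer (B : Set G)) :
    Nat.card ↥(A ⊔ B) ≤ Nat.card ↥A * Nat.card ↥B := by
  rw [← card_sup_mul_card_inf h]
  exact Nat.le_mul_of_pos_right _ Nat.card_pos

theorem card_zpowers_le_two {x : G} (h : x * x = 1) : Nat.card ↥(zpowers x) ≤ 2 := by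
  rw [Nat.card_zpowers]; exact orderOf_le_of_pow_eq_one (by norm_num) (by rw [pow_two, h])

theorem commute_of_zpow {x y a : G} (ha : a ∈ zpowers y) (h : Commute x y) : Commute x a := by
  obtain ⟨n, rfl⟩ := mem_zpowers_iff.1 ha
  exact h.zpow_right n

namespace Ctx

variable [Finite G] (Γ : Ctx z P) {U₀ : Subgroup AutM22} (HF : HexFacts innerM22 U₀)
  {V : Subgroup G} {gs : Fin 6 → G} (D : Γ.VData U₀ V gs)

include Γ

theorem card_autM22 : Nat.card AutM22 = 887040 := by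
  rw [← innerM22.index_mul_card, Γ.F.index_two, Γ.F.card_inner]

include HF D

theorem card_H_normalizer (HO : HexOrbFacts innerM22 U₀) :
    Nat.card ↥(centralizer ({z} : Set G) ⊓ normalizer (V : Set G)) = 2 ^ 13 * 3 * 11520 := by
  set K := (normalizer (U₀ : Set AutM22)).comap Γ.S.pi with hK
  have h1 := K.index_mul_card
  rw [hK, index_comap_of_surjective _ Γ.S.pi_surjective, Γ.S.card_H] at h1
  have h2 := (normalizer (U₀ : Set AutM22)).index_mul_card
  rw [HO.card_norm, Γ.card_autM22] at h2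
  have e : centralizer ({z} : Set G) ⊓ normalizer (V : Set G) =
      K.map (centralizer ({z} : Set G)).subtype := by
    ext h
    constructor
    · rintro ⟨hh, hn⟩
      refine ⟨⟨h, hh⟩, ?_, rfl⟩
      rw [SetLike.mem_coe, hK, mem_comap, ← Γ.ph_eq hh]
      exact (Γ.mem_normalizer_iff_ph HF D hh).1 hn
    · rintro ⟨⟨h, hh⟩, hk, rfl⟩
      refine ⟨hh, (Γ.mem_normalizer_iff_ph HF D hh).2 ?_⟩
      rw [Γ.ph_eq hh]; exact hk
  rw [e, card_map_of_injective (centralizer ({z} : Set G)).subtype_injective, hK]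
  have hi : (normalizer (U₀ : Set AutM22)).index = 77 := by omega
  rw [hi] at h1
  norm_num at h1 ⊢
  omega

theorem card_normalizer (HO : HexOrbFacts innerM22 U₀) {g₀ : G} (hg₀ : Pt z g₀) :
    Nat.card ↥(normalizer (V : Set G)) = 2 ^ 11 * 244823040 := by
  set N := normalizer (V : Set G) with hN
  set S := (centralizer ({z} : Set G) ⊓ N).subgroupOf N with hS
  have hzV : z ∈ vConj z V := ⟨Γ.z_mem_V HF D, IsConj.refl z⟩
  let f : ↥N → vConj z V := fun n => ⟨(n : G) * z * (n : G)⁻¹, vConj_conj n.2 hzV⟩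
  have hsurj : Function.Surjective f := by
    rintro ⟨v, hv⟩
    rw [← Γ.orbit_conj HF D HO hg₀ hzV] at hv
    obtain ⟨n, hn, e⟩ := hv
    exact ⟨⟨n, hn⟩, Subtype.ext e⟩
  have hfib : ∀ a b : ↥N, f a = f b ↔ a⁻¹ * b ∈ S := by
    intro a b
    rw [hS, mem_subgroupOf, Subgroup.mem_inf, and_iff_left (Subtype.prop _), mem_H]
    show _ ↔ ((a : G)⁻¹ * b) * z = z * ((a : G)⁻¹ * b)
    constructor
    · intro h
      have h' : (a : G) * z * (a : G)⁻¹ = b * z * (b : G)⁻¹ := congrArg Subtype.val h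
      calc (a : G)⁻¹ * b * z = (a : G)⁻¹ * (b * z * (b : G)⁻¹) * b := by group
        _ = (a : G)⁻¹ * (a * z * (a : G)⁻¹) * b := by rw [h']
        _ = z * ((a : G)⁻¹ * b) := by group
    · intro h
      refine Subtype.ext ?_
      show (a : G) * z * (a : G)⁻¹ = b * z * (b : G)⁻¹
      calc (a : G) * z * (a : G)⁻¹ = a * (z * ((a : G)⁻¹ * b)) * (b : G)⁻¹ := by group
        _ = a * ((a : G)⁻¹ * b * z) * (b : G)⁻¹ := by rw [h]
        _ = b * z * (b : G)⁻¹ := by group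
  let g : ↥N ⧸ S → vConj z V := fun q => f q.out
  have hg : Function.Bijective g := by
    refine ⟨fun p q h => ?_, fun v => ?_⟩
    · rw [← QuotientGroup.out_eq' p, ← QuotientGroup.out_eq' q, QuotientGroup.eq]
      exact (hfib _ _).1 h
    · obtain ⟨n, rfl⟩ := hsurj v
      refine ⟨(n : ↥N ⧸ S), (hfib _ _).2 ?_⟩
      rw [← QuotientGroup.eq, QuotientGroup.out_eq']
  have hidx : S.index = 1771 := by
    rw [Subgroup.index, Nat.card_congr (Equiv.ofBijective g hg), Nat.card_coe_set_eq,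
      (Γ.conj_counts HF D HO hg₀).1]
  have h := S.index_mul_card
  rw [hidx, hS, Nat.card_congr (subgroupOfEquivOfLe inf_le_right).toEquiv,
    Γ.card_H_normalizer HF D HO] at h
  rw [← h]
  norm_num

/-- A point fixed modulo `z` by all of `V` and of a conjugate generating the inner part is trivial. -/
theorem fixed_of_two {h₀ : G} (hh₀ : h₀ ∈ centralizer ({z} : Set G))
    (hgen : closure ((U₀ : Set AutM22) ∪ (cj (Γ.ph h₀) U₀ : Subgroup AutM22)) = innerM22)
    {e : G} (he : e ∈ coreE z) (heV : e ∈ V) (he2 : e ∈ V.map (MulAut.conj h₀).toMonoidHom) :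
    e ∈ zpowers z := by
  let F : Subgroup G :=
    { carrier := {h | h ∈ centralizer ({z} : Set G) ∧ Eqz z (h * e * h⁻¹) e}
      one_mem' := ⟨one_mem _, Or.inl (by group)⟩
      mul_mem' := fun {a b} ha hb => ⟨mul_mem ha.1 hb.1, by
        have h1 := hb.2.conj (mem_H.1 ha.1)
        rw [show a * (b * e * b⁻¹) * a⁻¹ = a * b * e * (a * b)⁻¹ by group] at h1
        exact Γ.eqz_trans h1 ha.2⟩
      inv_mem' := fun {a} ha => ⟨inv_mem ha.1, by
        have h1 := ha.2.conj (mem_H.1 (inv_mem ha.1))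
        rw [show a⁻¹ * (a * e * a⁻¹) * a⁻¹⁻¹ = e by group] at h1
        exact Γ.eqz_symm h1⟩ }
  have hsq2 : ∀ v ∈ V.map (MulAut.conj h₀).toMonoidHom, v * v = 1 := by
    rintro _ ⟨v, hv, rfl⟩
    rw [← map_mul, D.sq v hv, map_one]
  have hle2 : V.map (MulAut.conj h₀).toMonoidHom ≤ centralizer ({z} : Set G) := by
    rintro _ ⟨v, hv, rfl⟩
    exact mul_mem (mul_mem hh₀ (D.le_H hv)) (inv_mem hh₀)
  have hVF : V ≤ F := fun v hv =>
    ⟨D.le_H hv, Or.inl (by rw [comm_of_sq D.sq v hv e heV, mul_inv_cancel_right])⟩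
  have hV2F : V.map (MulAut.conj h₀).toMonoidHom ≤ F := fun v hv =>
    ⟨hle2 hv, Or.inl (by rw [comm_of_sq hsq2 v hv e he2, mul_inv_cancel_right])⟩
  -- the image contains the inner part
  have himg : ∀ a ∈ innerM22, ∃ f ∈ F, Γ.ph f = a := by
    intro a ha
    rw [← hgen] at ha
    induction ha using Subgroup.closure_induction with
    | mem a ha =>
      rcases ha with ha | ha
      · obtain ⟨v, hv, -, hva⟩ := Γ.exists_over HF D ha
        exact ⟨v, hVF hv, hva⟩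
      · obtain ⟨u, hu, rfl⟩ := ha
        obtain ⟨v, hv, hvH, hva⟩ := Γ.exists_over HF D hu
        refine ⟨h₀ * v * h₀⁻¹, hV2F ⟨v, hv, rfl⟩, ?_⟩
        rw [Γ.ph_conj hh₀ hvH, hva]
        rfl
    | one => exact ⟨1, one_mem _, Γ.ph_one⟩
    | mul a b _ _ ha hb =>
      obtain ⟨f, hf, rfl⟩ := ha
      obtain ⟨g, hg, rfl⟩ := hb
      exact ⟨f * g, mul_mem hf hg, Γ.ph_mul hf.1 hg.1⟩
    | inv a _ ha =>
      obtain ⟨f, hf, rfl⟩ := ha
      exact ⟨f⁻¹, inv_mem hf, Γ.ph_inv hf.1⟩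
  have hEF : coreE z ≤ F := fun f hf => ⟨coreE_le_H hf, Γ.eqz_core hf he⟩
  have hmod : ∀ x ∈ cX z P, ∃ f ∈ F, ∃ q ∈ P, x = f * q ∧ f ∈ cX z P := by
    intro x hx
    have hxi : Γ.ph x ∈ innerM22 := by
      rw [Γ.ph_eq hx.1, Γ.S.pi_mem_inner]
      exact ⟨1, one_mem _, x, hx, (one_mul x).symm⟩
    obtain ⟨f, hf, hfx⟩ := himg _ hxi
    obtain ⟨c, hc, q, hq, hcq⟩ := Γ.exists_ep (mul_mem (inv_mem hf.1) hx.1)
      (by rw [Γ.ph_mul (inv_mem hf.1) hx.1, Γ.ph_inv hf.1, hfx, inv_mul_cancel])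
    have hxe : x = f * c * q := by rw [mul_assoc, ← hcq, mul_inv_cancel_left]
    refine ⟨f * c, mul_mem hf (hEF hc), q, hq, hxe, ?_⟩
    have : f * c = x * q⁻¹ := by rw [hxe, mul_inv_cancel_right]
    rw [this]
    exact Subgroup.mul_mem _ hx (Subgroup.inv_mem _ (Γ.S.P_le_X hq))
  have hP : P ≤ F := by
    refine Γ.S.P_le_derived.trans (commutator_le.2 fun x hx y hy => ?_)
    obtain ⟨f, hf, q, hq, rfl, hfX⟩ := hmod x hx
    obtain ⟨g, hg, r, hr, rfl, hgX⟩ := hmod y hy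
    have c1 : Commute f r := Γ.P_comm_X hfX hr
    have c2 : Commute g q := Γ.P_comm_X hgX hq
    have c3 : Commute q r := Γ.P_comm_X (Γ.S.P_le_X hq) hr
    have hgr : Commute g r := Γ.P_comm_X hgX hr
    have e1 : ⁅f * q, g * r⁆ = ⁅f, g⁆ := by
      have h1 : q * (g * r) * q⁻¹ = g * r := by
        rw [← mul_assoc, ← c2.eq, mul_assoc g, c3.eq, ← mul_assoc, mul_inv_cancel_right]
      have h2 : r * f⁻¹ * r⁻¹ = f⁻¹ := by
        rw [← c1.inv_left.eq, mul_inv_cancel_right]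
      calc ⁅f * q, g * r⁆ = f * (q * (g * r) * q⁻¹) * f⁻¹ * r⁻¹ * g⁻¹ := by
            rw [commutatorElement_def]; group
        _ = f * g * (r * f⁻¹ * r⁻¹) * g⁻¹ := by rw [h1]; group
        _ = ⁅f, g⁆ := by rw [h2, commutatorElement_def]
    rw [e1, commutatorElement_def]
    exact mul_mem (mul_mem (mul_mem hf hg) (inv_mem hf)) (inv_mem hg)
  obtain ⟨p, hp, hp1⟩ := Γ.exists_generator
  rcases Γ.eq_one_or_z_of_fixed hp hp1 he (hP hp).2 with rfl | rfl
  exacts [one_mem _, mem_zpowers _]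

/-- A complement of `V` in its normaliser. -/
theorem exists_complement (HO : HexOrbFacts innerM22 U₀) (HI : InvFacts innerM22 U₀)
    (SF : SplitFacts innerM22 U₀) {g₀ : G} (hg₀ : Pt z g₀) :
    ∃ K : Subgroup G, K ≤ normalizer (V : Set G) ∧ K ⊓ V = ⊥ ∧ K ⊔ V = normalizer (V : Set G) ∧
      Nat.card ↥K = 244823040 := by
  classical
  have : Fact (Nat.Prime 2) := ⟨Nat.prime_two⟩
  obtain ⟨k, a, b, c, d, hgen, hinv, hab, hac, hbc, hdc, hdab, h16, hdisj⟩ := SF.data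
  obtain ⟨h₀, hh₀, rfl⟩ := Γ.exists_ph k
  obtain ⟨p, hp, hp1⟩ := Γ.exists_generator
  set H := centralizer ({z} : Set G) with hH
  set N := normalizer (V : Set G) with hN
  set V2 := V.map (MulAut.conj h₀).toMonoidHom with hV2
  -- an element of `H` over the common normaliser normalises `V` and `V2`
  have hnorm : ∀ y ∈ H, Γ.ph y ∈ normalizer (U₀ : Set AutM22) →
      Γ.ph y ∈ normalizer (cj (Γ.ph h₀) U₀ : Set AutM22) →
      y ∈ N ∧ ∀ v ∈ V2, y * v * y⁻¹ ∈ V2 := by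
    intro y hy h1 h2
    refine ⟨(Γ.mem_normalizer_iff_ph HF D hy).2 h1, ?_⟩
    have hy' : h₀⁻¹ * y * h₀ ∈ H := mul_mem (mul_mem (inv_mem hh₀) hy) hh₀
    have hn : h₀⁻¹ * y * h₀ ∈ N := by
      refine (Γ.mem_normalizer_iff_ph HF D hy').2 (mem_normalizer_of_cj_eq ?_)
      rw [Γ.ph_mul (mul_mem (inv_mem hh₀) hy) hh₀, Γ.ph_mul (inv_mem hh₀) hy, Γ.ph_inv hh₀,
        cj_mul, cj_mul, cj_eq_of_mem_normalizer h2, ← cj_mul, inv_mul_cancel, cj_one]
    rintro _ ⟨v, hv, rfl⟩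
    refine ⟨_, (mem_normalizer_iff.1 hn v).1 hv, ?_⟩
    show h₀ * (h₀⁻¹ * y * h₀ * v * (h₀⁻¹ * y * h₀)⁻¹) * h₀⁻¹ = y * (h₀ * v * h₀⁻¹) * y⁻¹
    group
  have hsq2 : ∀ v ∈ V2, v * v = 1 := by
    rintro _ ⟨v, hv, rfl⟩
    rw [← map_mul, D.sq v hv, map_one]
  set W2 := V2 ⊓ coreE z with hW2
  have hW2c : Nat.card ↥W2 = 2 ^ 7 := by
    have e : W2 = (V ⊓ coreE z).map (MulAut.conj h₀).toMonoidHom := by
      refine le_antisymm ?_ (le_inf (map_mono inf_le_left) ?_)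
      · rintro _ ⟨⟨v, hv, rfl⟩, hE⟩
        refine ⟨v, ⟨hv, ?_⟩, rfl⟩
        have := Γ.conj_core (inv_mem hh₀) hE
        rwa [show h₀⁻¹ * (MulAut.conj h₀).toMonoidHom v * h₀⁻¹⁻¹ = v by
          simp [MulAut.conj_apply]; group] at this
      · rintro _ ⟨v, hv, rfl⟩
        exact Γ.conj_core hh₀ hv.2
    rw [e, card_map_of_injective (MulAut.conj h₀).injective, Γ.card_inf_core HF D]
  have hzW2 : z ∈ W2 := ⟨⟨z, Γ.z_mem_V HF D, by
    show h₀ * z * h₀⁻¹ = z
    rw [(mem_H.1 hh₀).eq, mul_inv_cancel_right]⟩, Γ.z_mem_core⟩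
  have hcomm2 : ∀ x ∈ W2, ∀ y ∈ W2, x * y = y * x := fun x hx y hy =>
    comm_of_sq hsq2 x hx.1 y hy.1
  have hW2conj : ∀ y ∈ H, Γ.ph y ∈ normalizer (U₀ : Set AutM22) →
      Γ.ph y ∈ normalizer (cj (Γ.ph h₀) U₀ : Set AutM22) → ∀ w ∈ W2, y * w * y⁻¹ ∈ W2 :=
    fun y hy h1 h2 w hw => ⟨(hnorm y hy h1 h2).2 w hw.1, Γ.conj_core hy hw.2⟩
  have hpH := Γ.S.P_le hp
  have hpW2 : ∀ w ∈ W2, p * w * p⁻¹ ∈ W2 :=
    hW2conj p hpH (by rw [Γ.ph_P hp]; exact one_mem _) (by rw [Γ.ph_P hp]; exact one_mem _)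
  -- `W₀ = [W₂, P]`
  let ψ : ↥W2 →* ↥W2 :=
    { toFun := fun w => ⟨w * (p * w * p⁻¹), mul_mem w.2 (hpW2 w w.2)⟩
      map_one' := Subtype.ext (by simp)
      map_mul' := fun x y => Subtype.ext (by
        show (x : G) * y * (p * (x * y) * p⁻¹) = x * (p * x * p⁻¹) * (y * (p * y * p⁻¹))
        have h := hcomm2 y y.2 _ (hpW2 x x.2)
        calc (x : G) * y * (p * (x * y) * p⁻¹)
            = x * (y * (p * x * p⁻¹)) * (p * y * p⁻¹) := by group
          _ = x * ((p * x * p⁻¹) * y) * (p * y * p⁻¹) := by rw [h]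
          _ = _ := by group) }
  have hfix : ∀ w : ↥W2, ((ψ w : ↥W2) : G) ∈ zpowers z → (w : G) = 1 ∨ (w : G) = z := by
    intro w hw
    refine Γ.eq_one_or_z_of_fixed hp hp1 w.2.2 ?_
    have hwi : (w : G)⁻¹ = w := inv_eq_of_mul_eq_one_right (hsq2 _ w.2.1)
    have hw' : (w : G) * (p * w * p⁻¹) ∈ zpowers z := hw
    rcases Γ.S.z_cases hw' with h | h
    · exact Or.inl (by rw [eq_inv_of_mul_eq_one_right h, hwi])
    · exact Or.inr (by
        rw [show p * (w : G) * p⁻¹ = (w : G)⁻¹ * ((w : G) * (p * w * p⁻¹)) by group, h, hwi,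
          (Γ.S.hub.central _ w.2.2).eq])
  have hker : ψ.ker = (zpowers z).subgroupOf W2 := by
    ext w
    rw [MonoidHom.mem_ker, mem_subgroupOf]
    refine ⟨fun h => ?_, fun h => ?_⟩
    · rcases hfix w (by rw [h]; exact one_mem _) with e | e <;> rw [e]
      exacts [one_mem _, mem_zpowers _]
    · refine Subtype.ext ?_
      show (w : G) * (p * w * p⁻¹) = 1
      rcases Γ.S.z_cases h with e | e <;> rw [e]
      · group
      · rw [(mem_H.1 hpH).eq, mul_inv_cancel_right, Γ.S.hub.sq]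
  set W0 := ψ.range.map W2.subtype with hW0
  have hW0le : W0 ≤ W2 := map_subtype_le _
  have hW0c : Nat.card ↥W0 = 2 ^ 6 := by
    rw [hW0, card_map_of_injective W2.subtype_injective]
    have h := ψ.ker.index_mul_card
    rw [index_ker, hker, Nat.card_congr (subgroupOfEquivOfLe (zpowers_le.2 hzW2)).toEquiv,
      Nat.card_zpowers, orderOf_eq_prime_iff.2 ⟨by rw [pow_two, Γ.S.hub.sq], Γ.S.hub.ne_one⟩,
      hW2c] at h
    omega
  have hW0z : ∀ w ∈ W0, w ∈ zpowers z → w = 1 := by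
    rintro _ ⟨_, ⟨w, rfl⟩, rfl⟩ hw
    have hw1 : (ψ w) = 1 := by
      rw [← MonoidHom.mem_ker, hker, mem_subgroupOf]
      rcases hfix w hw with e | e <;> rw [e]
      exacts [one_mem _, mem_zpowers _]
    rw [hw1]; rfl
  -- elements of `Y` normalising both normalise `W₀`
  have hW0conj : ∀ y ∈ cY z P, Γ.ph y ∈ normalizer (U₀ : Set AutM22) →
      Γ.ph y ∈ normalizer (cj (Γ.ph h₀) U₀ : Set AutM22) → ∀ w ∈ W0, y * w * y⁻¹ ∈ W0 := by
    intro y hy h1 h2 _ hw
    obtain ⟨_, ⟨w, rfl⟩, rfl⟩ := hw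
    have hw' := hW2conj y hy.1 h1 h2 w w.2
    set u : ↥W2 := ⟨y * w * y⁻¹, hw'⟩
    have hq : y * p * y⁻¹ = p ∨ y * p * y⁻¹ = p⁻¹ := by
      by_cases hX : y ∈ cX z P
      · exact Or.inl (by rw [(Γ.P_comm_X hX hp).eq, mul_inv_cancel_right])
      · exact Or.inr (Γ.S.inverts y hy hX p hp)
    have e : y * ((ψ w : ↥W2) : G) * y⁻¹ = (u : G) * ((y * p * y⁻¹) * u * (y * p * y⁻¹)⁻¹) := by
      show y * ((w : G) * (p * w * p⁻¹)) * y⁻¹ =
        y * w * y⁻¹ * ((y * p * y⁻¹) * (y * w * y⁻¹) * (y * p * y⁻¹)⁻¹)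
      group
    rcases hq with h | h
    · exact ⟨ψ u, ⟨u, rfl⟩, by rw [h] at e; exact e.symm⟩
    · rw [h, inv_inv] at e
      have hp2 : p⁻¹ = p * p := inv_eq_of_mul_eq_one_right (Γ.p_cube hp)
      have hu : p⁻¹ * u * p ∈ W2 := by
        have := hpW2 _ (hpW2 _ u.2)
        rwa [show p * (p * (u : G) * p⁻¹) * p⁻¹ = p * p * u * (p * p)⁻¹ by group, ← hp2, inv_inv]
          at this
      refine ⟨ψ ⟨_, hu⟩, ⟨_, rfl⟩, ?_⟩
      show p⁻¹ * (u : G) * p * (p * (p⁻¹ * u * p) * p⁻¹) = y * ((ψ w : ↥W2) : G) * y⁻¹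
      rw [e, show p * (p⁻¹ * (u : G) * p) * p⁻¹ = u by group, hcomm2 _ hu _ u.2]
  -- the lifts
  set S16 := closure ({a, b, c, d} : Set AutM22) with hS16
  obtain ⟨Q, hQY, -, hQsurj, hQmem, hQker⟩ := Γ.exists_sylow_lift
    (S := S16) (IsPGroup.of_card (n := 4) (by rw [h16]; norm_num))
  have hmemS : ∀ x ∈ ({a, b, c, d} : Set AutM22), x ∈ S16 := fun x hx => subset_closure hx
  obtain ⟨A, hAQ, hA⟩ := hQsurj a (hmemS a (by simp))
  obtain ⟨C, hCQ, hC⟩ := hQsurj c (hmemS c (by simp))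
  obtain ⟨T, hTQ, hT⟩ := hQsurj d (hmemS d (by simp))
  have hQH : ∀ {y}, y ∈ Q → y ∈ H := fun hy => (hQY hy).1
  have hphm : ∀ {x y}, x ∈ Q → y ∈ Q → Γ.ph (x * y) = Γ.ph x * Γ.ph y := fun hx hy =>
    Γ.ph_mul (hQH hx) (hQH hy)
  have hsq : ∀ {y}, y ∈ Q → Γ.ph y * Γ.ph y = 1 → Γ.ph y ≠ 1 → y * y = 1 := fun {y} hy h2 h1 =>
    Γ.sq_eq_one_of_lift HF HI hg₀ (hQY hy) (hQker _ (mul_mem hy hy) (by rw [hphm hy hy, h2]))
      (orderOf_eq_prime_iff.2 ⟨by rw [pow_two, h2], h1⟩)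
  have hord : ∀ x ∈ ({a, b, c, d} : Set AutM22), x * x = 1 ∧ x ≠ 1 := fun x hx => by
    have h := orderOf_eq_prime_iff.1 (hinv x hx).1
    exact ⟨by rw [← pow_two]; exact h.1, h.2⟩
  obtain ⟨ha2, ha1⟩ := hord a (by simp)
  obtain ⟨hb2, hb1⟩ := hord b (by simp)
  obtain ⟨hc2, hc1⟩ := hord c (by simp)
  obtain ⟨hd2, hd1⟩ := hord d (by simp)
  set B := T * A * T with hBdef
  have hBQ : B ∈ Q := mul_mem (mul_mem hTQ hAQ) hTQ
  have hB : Γ.ph B = b := by rw [hBdef, hphm (mul_mem hTQ hAQ) hTQ, hphm hTQ hAQ, hT, hA, hdab]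
  have sA : A * A = 1 := hsq hAQ (by rw [hA, ha2]) (by rw [hA]; exact ha1)
  have sB : B * B = 1 := hsq hBQ (by rw [hB, hb2]) (by rw [hB]; exact hb1)
  have sC : C * C = 1 := hsq hCQ (by rw [hC, hc2]) (by rw [hC]; exact hc1)
  have sT : T * T = 1 := hsq hTQ (by rw [hT, hd2]) (by rw [hT]; exact hd1)
  -- commuting lifts
  have hcard16 : ∀ x y : AutM22, x * y = 1 → y * y = 1 → x = y := fun x y h h2 => by
    calc x = x * (y * y) := by rw [h2, mul_one]
      _ = y := by rw [← mul_assoc, h, one_mul]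
  have hcm : ∀ {x y : G}, x ∈ Q → y ∈ Q → x * x = 1 → y * y = 1 → Commute (Γ.ph x) (Γ.ph y) →
      Commute x y := by
    intro x y hx hy x2 y2 hxy
    have x2' : Γ.ph x * Γ.ph x = 1 := by rw [← hphm hx hx, x2, Γ.ph_one]
    have y2' : Γ.ph y * Γ.ph y = 1 := by rw [← hphm hy hy, y2, Γ.ph_one]
    refine commute_of_invol x2 y2 ?_
    by_cases hone : Γ.ph (x * y) = 1
    · rcases Γ.S.z_cases (hQker _ (mul_mem hx hy) hone) with e | e <;> rw [e]
      exacts [one_mul _, Γ.S.hub.sq]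
    · refine hsq (mul_mem hx hy) ?_ hone
      rw [hphm hx hy]
      calc Γ.ph x * Γ.ph y * (Γ.ph x * Γ.ph y)
          = Γ.ph x * (Γ.ph y * Γ.ph x) * Γ.ph y := by group
        _ = (Γ.ph x * Γ.ph x) * (Γ.ph y * Γ.ph y) := by rw [← hxy.eq]; group
        _ = 1 := by rw [x2', y2', one_mul]
  have cAB : Commute A B := hcm hAQ hBQ sA sB (by rw [hA, hB]; exact hab)
  have cAC : Commute A C := hcm hAQ hCQ sA sC (by rw [hA, hC]; exact hac)
  have cBC : Commute B C := hcm hBQ hCQ sB sC (by rw [hB, hC]; exact hbc)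
  have cTC : Commute T C := hcm hTQ hCQ sT sC (by rw [hT, hC]; exact hdc)
  set L1 := zpowers A ⊔ zpowers B with hL1
  set L2 := zpowers C ⊔ L1 with hL2
  set L := zpowers T ⊔ L2 with hL
  have n1 : zpowers A ≤ normalizer (zpowers B : Set G) :=
    zpowers_le_normalizer_of_commute fun x hx => commute_of_zpow hx cAB
  have hcC : ∀ x ∈ L1, Commute C x := fun x hx => by
    have : L1 ≤ centralizer ({C} : Set G) := sup_le
      (zpowers_le.2 (mem_centralizer_singleton_iff.2 cAC.eq))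
      (zpowers_le.2 (mem_centralizer_singleton_iff.2 cBC.eq))
    exact (mem_centralizer_singleton_iff.1 (this hx)).symm
  have n2 : zpowers C ≤ normalizer (L1 : Set G) := zpowers_le_normalizer_of_commute hcC
  have n3 : zpowers T ≤ normalizer (L2 : Set G) := by
    have hinvT : T⁻¹ = T := inv_eq_of_mul_eq_one_right sT
    have hle : L2 ≤ L2.comap (MulAut.conj T).toMonoidHom := by
      refine sup_le (zpowers_le.2 ?_) (sup_le (zpowers_le.2 ?_) (zpowers_le.2 ?_))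
      · show T * C * T⁻¹ ∈ L2
        rw [cTC.eq, mul_inv_cancel_right]
        exact mem_sup_left (mem_zpowers C)
      · show T * A * T⁻¹ ∈ L2
        rw [hinvT]
        exact mem_sup_right (mem_sup_right (mem_zpowers B))
      · show T * B * T⁻¹ ∈ L2
        rw [hinvT, hBdef, show T * (T * A * T) * T = (T * T) * A * (T * T) by group, sT, one_mul,
          mul_one]
        exact mem_sup_right (mem_sup_left (mem_zpowers A))
    refine zpowers_le.2 (mem_normalizer_iff.2 fun x => ⟨fun hx => hle hx, fun hx => ?_⟩)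
    have := hle hx
    simp only [mem_comap, MulEquiv.coe_toMonoidHom, MulAut.conj_apply] at this
    rwa [hinvT, show T * (T * x * T) * T = (T * T) * x * (T * T) by group, sT, one_mul, mul_one]
      at this
  have hLc : Nat.card ↥L ≤ 16 := by
    refine (card_sup_le n3).trans ?_
    have h2 := (card_sup_le n2).trans (Nat.mul_le_mul (card_zpowers_le_two sC) ((card_sup_le n1).trans
      (Nat.mul_le_mul (card_zpowers_le_two sA) (card_zpowers_le_two sB))))
    exact (Nat.mul_le_mul (card_zpowers_le_two sT) h2).trans (by norm_num)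
  have hLQ : L ≤ Q := sup_le (zpowers_le.2 hTQ)
    (sup_le (zpowers_le.2 hCQ) (sup_le (zpowers_le.2 hAQ) (zpowers_le.2 hBQ)))
  let f : ↥L →* AutM22 :=
    { toFun := fun l => Γ.ph l
      map_one' := Γ.ph_one
      map_mul' := fun l m => hphm (hLQ l.2) (hLQ m.2) }
  have hfr : S16 ≤ f.range := by
    rw [hS16, closure_le]
    rintro x (rfl | rfl | rfl | rfl)
    · exact ⟨⟨A, mem_sup_right (mem_sup_right (mem_sup_left (mem_zpowers A)))⟩, hA⟩
    · exact ⟨⟨B, mem_sup_right (mem_sup_right (mem_sup_right (mem_zpowers B)))⟩, hB⟩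
    · exact ⟨⟨C, mem_sup_right (mem_sup_left (mem_zpowers C))⟩, hC⟩
    · exact ⟨⟨T, mem_sup_left (mem_zpowers T)⟩, hT⟩
  have hinj : Function.Injective f := by
    rw [← MonoidHom.ker_eq_bot_iff, ← Subgroup.card_eq_one]
    have h := f.ker.index_mul_card
    rw [index_ker] at h
    have h1 : 16 ≤ Nat.card ↥f.range := h16 ▸ card_le_of_le hfr
    have h2 : 0 < Nat.card ↥f.ker := Nat.card_pos
    by_contra hne
    have := Nat.mul_le_mul h1 (show 2 ≤ Nat.card ↥f.ker by omega)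
    omega
  have hL1' : ∀ l ∈ L, Γ.ph l = 1 → l = 1 := fun l hl h => by
    have := hinj (a₁ := ⟨l, hl⟩) (a₂ := 1) (by rw [map_one]; exact h)
    exact congrArg Subtype.val this
  have hL16 : Nat.card ↥L = 16 := le_antisymm hLc
    ((h16 ▸ card_le_of_le hfr : 16 ≤ Nat.card ↥f.range).trans
      (Nat.card_le_card_of_surjective _ f.rangeRestrict_surjective))
  have hnormS : ∀ x ∈ S16, x ∈ normalizer (U₀ : Set AutM22) ∧
      x ∈ normalizer (cj (Γ.ph h₀) U₀ : Set AutM22) := fun x hx =>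
    ⟨(closure_le _).2 (fun y hy => (hinv y hy).2.1) hx,
      (closure_le _).2 (fun y hy => (hinv y hy).2.2) hx⟩
  have hLW0 : L ≤ normalizer (W0 : Set G) := fun l hl => by
    obtain ⟨k1, k2⟩ := hnormS _ (hQmem l (hLQ hl))
    obtain ⟨k1', k2'⟩ := hnormS _ (hQmem l⁻¹ (hLQ (inv_mem hl)))
    refine mem_normalizer_iff.2 fun w => ⟨hW0conj l (hQY (hLQ hl)) k1 k2 w, fun hw => ?_⟩
    have := hW0conj l⁻¹ (hQY (hLQ (inv_mem hl))) k1' k2' _ hw
    rwa [show l⁻¹ * (l * w * l⁻¹) * l⁻¹⁻¹ = w by group] at this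
  -- the complement in a Sylow subgroup
  set K2 := L ⊔ W0 with hK2
  have hK2c : Nat.card ↥K2 = 2 ^ 10 := by
    have hinf : L ⊓ W0 = ⊥ := (Subgroup.eq_bot_iff_forall _).2 fun x hx =>
      hL1' x hx.1 (Γ.ph_core (hW0le hx.2).2)
    have h := card_sup_mul_card_inf hLW0
    rw [hinf, card_bot, mul_one, hL16, hW0c] at h
    rw [hK2, h]; norm_num
  have hK2N : K2 ≤ N := sup_le
    (fun l hl => (Γ.mem_normalizer_iff_ph HF D (hQH (hLQ hl))).2 (hnormS _ (hQmem l (hLQ hl))).1)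
    ((hW0le.trans inf_le_right).trans (Γ.core_le_normalizer HF D))
  have hK2V : K2 ⊓ V = ⊥ := by
    refine (Subgroup.eq_bot_iff_forall _).2 fun x hx => ?_
    obtain ⟨hxK, hxV⟩ := Subgroup.mem_inf.1 hx
    rw [hK2, ← SetLike.mem_coe, coe_mul_of_left_le_normalizer_right L W0 hLW0] at hxK
    obtain ⟨l, hl, w, hw, rfl⟩ := hxK
    have hwE : w ∈ coreE z := (hW0le hw).2
    have hph : Γ.ph (l * w) = Γ.ph l := by
      rw [Γ.ph_mul (hQH (hLQ hl)) (coreE_le_H hwE), Γ.ph_core hwE, mul_one]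
    have h1 : Γ.ph l = 1 := by
      have hmem : Γ.ph l ∈ S16 ⊓ U₀ :=
        ⟨hQmem l (hLQ hl), hph ▸ D.img_eq ▸ Γ.ph_mem_img D.le_H hxV⟩
      rwa [hdisj, mem_bot] at hmem
    have hl1 : l = 1 := hL1' l hl h1
    rw [hl1] at hxV ⊢
    simp only [one_mul] at hxV ⊢
    exact hW0z w hw (Γ.fixed_of_two HF D hh₀ hgen hwE hxV (hW0le hw).1)
  set R := K2 ⊔ V with hR
  have hRc : Nat.card ↥R = 2 ^ 21 := by
    have h := card_sup_mul_card_inf hK2N
    rw [hK2V, card_bot, mul_one, hK2c, D.card] at h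
    rw [hR, h]; norm_num
  -- Gaschütz
  have hVN : V ≤ N := le_normalizer
  have hRN : R ≤ N := sup_le hK2N hVN
  have hNc := Γ.card_normalizer HF D HO hg₀
  let V' := V.subgroupOf N
  have : V'.Normal := normal_in_normalizer
  have : IsMulCommutative ↥V' := ⟨⟨fun x y =>
    Subtype.ext (Subtype.ext (comm_of_sq D.sq _ x.2 _ y.2))⟩⟩
  have hcop : (Nat.card ↥V').Coprime (R.subgroupOf N).index := by
    have h := (R.subgroupOf N).index_mul_card
    rw [Nat.card_congr (subgroupOfEquivOfLe hRN).toEquiv, hRc, hNc] at h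
    rw [Nat.card_congr (subgroupOfEquivOfLe hVN).toEquiv, D.card,
      show (R.subgroupOf N).index = 239085 by omega]
    exact Nat.Coprime.pow_left _ (by norm_num)
  obtain ⟨C', hC'⟩ := Coprime.exists_complement_of_gaschutz V' (R.subgroupOf N)
    (fun x hx => le_sup_right (a := K2) hx) hcop (K2.subgroupOf N)
    (fun x hx => le_sup_left (b := V) hx)
    (by
      refine (Subgroup.eq_bot_iff_forall _).2 fun x hx => Subtype.ext ?_
      have hm : (x : G) ∈ K2 ⊓ V := ⟨hx.1, hx.2⟩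
      rwa [hK2V, mem_bot] at hm)
    (by
      apply map_injective N.subtype_injective
      rw [Subgroup.map_sup, subgroupOf_map_subtype, subgroupOf_map_subtype, subgroupOf_map_subtype,
        inf_eq_left.2 hVN, inf_eq_left.2 hK2N, inf_eq_left.2 hRN, hR, sup_comm])
  refine ⟨C'.map N.subtype, map_subtype_le _, ?_, ?_, ?_⟩
  · refine (Subgroup.eq_bot_iff_forall _).2 fun x hx => ?_
    obtain ⟨⟨c, hc, rfl⟩, hxV⟩ := hx
    have hm : c ∈ V' ⊓ C' := ⟨hxV, hc⟩
    rw [hC'.disjoint.eq_bot, mem_bot] at hm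
    rw [hm]; rfl
  · refine le_antisymm (sup_le (map_subtype_le _) hVN) fun x hx => ?_
    have h : (⟨x, hx⟩ : ↥N) ∈ V' ⊔ C' := by rw [hC'.sup_eq_top]; trivial
    have h2 := mem_map_of_mem N.subtype h
    rw [Subgroup.map_sup, subgroupOf_map_subtype, inf_eq_left.2 hVN, sup_comm] at h2
    exact h2
  · have h := hC'.card_mul
    rw [Nat.card_congr (subgroupOfEquivOfLe hVN).toEquiv, D.card, hNc] at h
    rw [card_map_of_injective N.subtype_injective]
    omega

end Ctx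

end Cfsg.Agent.JankoFour
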