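import Cfsg.Agent.Lib.JankoFour.DuadPoints
import Cfsg.Agent.Lib.JankoFour.DuadInstance
import Cfsg.Agent.Lib.JankoFour.SplitV
import Cfsg.Agent.Lib.JankoFour.CentTModel
import Cfsg.Agent.Lib.JankoFour.OrbitsMain

/-!
# Janko-four type: `N(V) = V : M₂₄` (S5567)

* `exists_duadModel`: the 24 points, `N(V)` acting with kernel `V` as M₂₄ on them.
* `exists_complement_model`: a complement, isomorphic to M₂₄ (with the model).
* `normalizer_split`: the same for every elementary subgroup of order `2^11`.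
-/

set_option autoImplicit false
set_option linter.unusedSectionVars false
set_option linter.style.haveILetI false

namespace Cfsg.Agent.JankoFour

open Cfsg Subgroup

variable {G : Type*} [Group G] {z : G} {P : Subgroup G}

namespace Ctx

variable [Finite G] (Γ : Ctx z P) {U₀ : Subgroup AutM22} (HF : HexFacts innerM22 U₀)
  {V : Subgroup G} {gs : Fin 6 → G} (HO : HexOrbFacts innerM22 U₀) {g₀ : G} (hg₀ : Pt z g₀)

include Γ HF HO hg₀

/-- `N(V)` acts on 24 points, with kernel `V`, as a subgroup of M₂₄; duads are the others. -/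
theorem exists_duadModel (D : Γ.VData U₀ V gs) :
    ∃ (Φ : Multiplicative (GolayPt → ZMod 2) →* G)
      (π : ↥(normalizer (V : Set G)) →* ↥M24), DuadModel z V Φ π := by
  classical
  letI := vAdd D.sq
  letI := vMod D.sq
  obtain ⟨S, hρ, hz, -, hT, -⟩ := Γ.exists_duadSpace HF D HO hg₀
  obtain ⟨f, hnr, hspan, hfT, hTf⟩ := DuadSpace.exists_points (S := S)
  let ρ : ↥(normalizer (V : Set G)) →* AddMonoid.End (Additive ↥V) :=
    { toFun := fun m => (S.ρ m).toAddMonoidHom
      map_one' := by rw [map_one]; rfl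
      map_mul' := fun m n => by rw [map_mul]; rfl }
  have hρG : ∀ m x, ((Additive.toMul (ρ m x) : ↥V) : G) = m * (Additive.toMul x : ↥V) * (m : G)⁻¹ :=
    fun m x => by
      show ((Additive.toMul (S.ρ m x) : ↥V) : G) = _
      rw [hρ]; exact vRep_apply D.sq m x
  have hperm : ∀ m, ∀ x y, x ≠ y → ∃ p q, p ≠ q ∧ ρ m (f x + f y) = f p + f q := fun m x y h =>
    hTf _ (S.map_T m _ (hfT x y h))
  have hcardV : Nat.card (Additive ↥V) = 2 ^ 11 :=
    (Nat.card_congr Additive.toMul).trans D.card
  obtain ⟨e, π, hker, hmove⟩ := AbstractGolay.exists_hom_M24 ρ hperm hcardV hspan hnr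
  let ω : (GolayPt → ZMod 2) →+ Additive ↥V :=
    { toFun := fun w => ∑ i, w (e i) • f i
      map_zero' := by simp
      map_add' := fun a b => by simp [add_smul, Finset.sum_add_distrib] }
  let Φ : Multiplicative (GolayPt → ZMod 2) →* G :=
    { toFun := fun w => ((Additive.toMul (ω (Multiplicative.toAdd w)) : ↥V) : G)
      map_one' := by rw [toAdd_one, map_zero, toMul_zero, OneMemClass.coe_one]
      map_mul' := fun a b => by rw [toAdd_mul, map_add, toMul_add, Subgroup.coe_mul] }
  have hval : ∀ s : Finset GolayPt, val Φ s =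
      ((Additive.toMul (AbstractGolay.fsum f (s.map e.symm.toEmbedding)) : ↥V) : G) := by
    intro s
    have hω : ω (wd s) = AbstractGolay.fsum f (s.map e.symm.toEmbedding) := by
      show ∑ i, wd s (e i) • f i = _
      simp only [wd, ite_smul, one_smul, zero_smul]
      rw [← Finset.sum_filter]
      refine Finset.sum_congr ?_ fun i _ => rfl
      ext i
      simp [Finset.mem_map_equiv]
    show ((Additive.toMul (ω (wd s)) : ↥V) : G) = _
    rw [hω]
  have hpair : ∀ x y, x ≠ y → val Φ {x, y} =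
      ((Additive.toMul (f (e.symm x) + f (e.symm y)) : ↥V) : G) := by
    intro x y h
    rw [hval]
    congr 3
    rw [Finset.map_insert, Finset.map_singleton]
    exact Finset.sum_pair (e.symm.injective.ne h)
  have hmemT : ∀ x : Additive ↥V, x ∈ S.T ↔ ((Additive.toMul x : ↥V) : G) ∈ vRest z V := fun x => by
    rw [hT]; exact Iff.rfl
  have hne : ∀ x : Additive ↥V, x ≠ 0 → ((Additive.toMul x : ↥V) : G) ≠ 1 := fun x hx h =>
    hx (Additive.toMul.injective (Subtype.ext h))
  refine ⟨Φ, π, ⟨D.sq, D.card, fun s _ => ?_, fun s hs => ?_, fun m => ?_, fun m x y h => ?_,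
    fun x y h => ?_, fun s hs => ?_, fun v hv hv1 hvz => ?_⟩⟩
  · rw [hval]; exact SetLike.coe_mem _
  · rw [hval]
    exact hne _ (hnr _ (by rwa [Finset.card_map]))
  · rw [hker]
    constructor
    · intro h
      refine Γ.centralizer_le_of_data HF D HO (mem_centralizer_iff.2 fun v hv => ?_)
      have h' := hρG m (Additive.ofMul ⟨v, hv⟩)
      rw [h, toMul_ofMul] at h'
      calc v * (m : G) = (m : G) * v * (m : G)⁻¹ * m := by rw [← h']
        _ = m * v := by group
    · intro h x
      refine Additive.toMul.injective (Subtype.ext ?_)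
      rw [hρG, comm_of_sq D.sq _ h _ (Additive.toMul x : ↥V).2, mul_inv_cancel_right]
  · have hne' : (π m : Equiv.Perm GolayPt) x ≠ (π m : Equiv.Perm GolayPt) y :=
      (π m : Equiv.Perm GolayPt).injective.ne h
    rw [hpair x y h, hpair _ _ hne', ← hρG, hmove, Equiv.apply_symm_apply,
      Equiv.apply_symm_apply]
  · rw [hpair x y h]
    exact ((hmemT _).1 (hfT _ _ (e.symm.injective.ne h))).2.2
  · rw [hval]
    set v := AbstractGolay.fsum f (s.map e.symm.toEmbedding) with hv
    have hc4 : (s.map e.symm.toEmbedding).card = 4 := by rw [Finset.card_map, hs]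
    by_contra hnc
    have hvT : v ∈ S.T := (hmemT _).2
      ⟨SetLike.coe_mem _, hne _ (hnr _ (Or.inr (Or.inl hc4))), hnc⟩
    obtain ⟨p, q, hpq, hvpq⟩ := hTf v hvT
    have h0 : AbstractGolay.fsum f (symmDiff (s.map e.symm.toEmbedding) {p, q}) = 0 := by
      rw [AbstractGolay.fsum_symmDiff, AbstractGolay.fsum_pair hpq, ← hvpq, ← hv]
      exact AbstractGolay.two_vec v
    refine hnr _ ?_ h0
    have hc := AbstractGolay.card_symmDiff_add (s.map e.symm.toEmbedding) {p, q}
    have hle : (s.map e.symm.toEmbedding ∩ {p, q}).card ≤ ({p, q} : Finset (Fin 24)).card :=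
      Finset.card_le_card Finset.inter_subset_right
    rw [Finset.card_pair hpq] at hc hle
    rw [hc4] at hc
    omega
  · obtain ⟨p, q, hpq, hvpq⟩ := hTf (Additive.ofMul ⟨v, hv⟩)
      ((hmemT _).2 ⟨hv, hv1, hvz⟩)
    refine ⟨e p, e q, e.injective.ne hpq, ?_⟩
    rw [hpair _ _ (e.injective.ne hpq), Equiv.symm_apply_apply, Equiv.symm_apply_apply, ← hvpq]
    rfl

variable (HI : InvFacts innerM22 U₀) (SF : SplitFacts innerM22 U₀)

include HI SF

/-- A complement, isomorphic to M₂₄. -/
theorem exists_complement_model (D : Γ.VData U₀ V gs) :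
    ∃ (K : Subgroup G) (Φ : Multiplicative (GolayPt → ZMod 2) →* G)
      (π : ↥(normalizer (V : Set G)) →* ↥M24), DuadModel z V Φ π ∧
      K ⊓ V = ⊥ ∧ K ⊔ V = normalizer (V : Set G) ∧ Nat.card ↥K = Nat.card ↥M24 ∧
      Nonempty (↥K ≃* ↥M24) := by
  obtain ⟨Φ, π, M⟩ := Γ.exists_duadModel HF HO hg₀ D
  obtain ⟨K, hKN, hinf, hsup, hcard⟩ := Γ.exists_complement HF D HO HI SF hg₀
  refine ⟨K, Φ, π, M, hinf, hsup, by rw [hcard, Mathieu.card_M24], ?_⟩
  let f := π.comp (inclusion hKN)
  have hinj : Function.Injective f := by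
    rw [injective_iff_map_eq_one]
    intro k hk
    have hmem : (k : G) ∈ K ⊓ V := ⟨k.2, (M.pi_eq_one (inclusion hKN k)).1 hk⟩
    rw [hinf, mem_bot] at hmem
    exact Subtype.ext hmem
  exact ⟨MulEquiv.ofBijective f (hinj.bijective_of_nat_card_le (by rw [hcard, Mathieu.card_M24]))⟩

/-- Every elementary subgroup of order `2^11` is self-centralising and split in its normaliser. -/
theorem normalizer_split {V : Subgroup G} (hsq : ∀ v ∈ V, v * v = 1)
    (hc : Nat.card ↥V = 2 ^ 11) :
    centralizer (V : Set G) ≤ V ∧ ∃ K : Subgroup G, K ≤ normalizer (V : Set G) ∧ K ⊓ V = ⊥ ∧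
      K ⊔ V = normalizer (V : Set G) ∧ Cfsg.Spor.IsoM24 ↥K := by
  obtain ⟨g, gs, D⟩ := Γ.exists_conj_data HF hg₀ hsq hc
  obtain ⟨K, -, -, -, hinf, hsup, -, ⟨iso⟩⟩ :=
    Γ.exists_complement_model HF HO hg₀ HI SF D
  set φ := (MulAut.conj g : G ≃* G) with hφ
  have hN : (normalizer (V : Set G)).map φ.toMonoidHom =
      normalizer (V.map φ.toMonoidHom : Set G) := Subgroup.map_equiv_normalizer_eq V φ
  have hKN : K ≤ normalizer (V.map φ.toMonoidHom : Set G) := hsup ▸ le_sup_left
  set K' := K.map φ.symm.toMonoidHom with hK'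
  have hback : ∀ A : Subgroup G, (A.map φ.toMonoidHom).map φ.symm.toMonoidHom = A := fun A => by
    rw [Subgroup.map_map, show φ.symm.toMonoidHom.comp φ.toMonoidHom = MonoidHom.id G from
      MonoidHom.ext φ.symm_apply_apply, Subgroup.map_id]
  refine ⟨fun x hx => ?_, K', ?_, ?_, ?_, ?_⟩
  · have h : φ x ∈ V.map φ.toMonoidHom := Γ.centralizer_le_of_data HF D HO (by
      refine mem_centralizer_iff.2 ?_
      rintro _ ⟨v, hv, rfl⟩
      show φ v * φ x = φ x * φ v
      rw [← map_mul, ← map_mul, hx v hv])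
    obtain ⟨v, hv, he⟩ := h
    rwa [φ.injective he] at hv
  · rw [← hback (normalizer (V : Set G)), hN]
    exact map_mono hKN
  · rw [← hback V, hK', ← Subgroup.map_inf _ _ _ φ.symm.injective, hinf, Subgroup.map_bot]
  · rw [← hback V, hK', ← Subgroup.map_sup, hsup, ← hN, hback, hback]
  · exact ⟨(K.equivMapOfInjective _ φ.symm.injective).symm.trans iso⟩

end Ctx

end Cfsg.Agent.JankoFour
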