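import Cfsg.Agent.Lib.JankoFour.HexInterface

/-!
# Facts on the automorphism group of the Mathieu group on 22 points used for the classes of involutions (S5569)
-/

set_option autoImplicit false

namespace Cfsg.Agent.JankoFour

open Subgroup

/-- What is used besides `AutFacts`, `HexFacts`, `HexOrbFacts`. -/
structure InvFacts {K : Type*} [Group K] (I U₀ : Subgroup K) : Prop where
  cover : ∀ a : K, orderOf a = 2 → ∃ U : Subgroup K, IsThirtyTwo U ∧ a ∈ U
  norm32 : ∀ A : Subgroup K, IsThirtyTwo A → Nat.card ↥(normalizer (A : Set K)) ≤ 3840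
  two_hexads : ∀ k : K, cj k U₀ ≠ U₀ → ∃ A : Subgroup K, IsThirtyTwo A ∧ A ⊓ I ≤ U₀ ⊔ cj k U₀

end Cfsg.Agent.JankoFour
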