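import Cfsg.Agent.Lib.JankoFour.PairTriple

/-!
# Janko-four type: `z` in the derived group of `X`, a conjugate of `z` in `X`

* `z_mem_derived`: `z ∈ ⁅X, X⁆`.
* `exists_conj_mem_cX`: some conjugate of `z` other than `z` lies in `X`.
-/

set_option autoImplicit false
set_option linter.unusedSectionVars false

namespace Cfsg.Agent.JankoFour

open Subgroup
open scoped commutatorElement
open LargeExtraspecial (Hub Pair mem_conj_iff mem_four)

variable {G : Type*} [Group G] {z : G} {P : Subgroup G}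

/-- An element of order 3 of `E E^g`, conjugate to an element of `P` under `trM`, free on `⟨z, s⟩`. -/
structure Rot (z : G) (P : Subgroup G) (g q k r : G) : Prop where
  q_mem : q ∈ coreE z ⊔ conjE z g
  k_mem : k ∈ trM z P g
  q3 : q ^ 3 = 1
  q1 : q ≠ 1
  free : ∀ v ∈ closure ({z, g * z * g⁻¹} : Set G), Commute q v → v = 1
  r_mem : r ∈ P
  r_ne : r ≠ 1
  conj : k * r * k⁻¹ = q

/-- An element commuting with `q` commutes with all powers of `q`. -/
theorem commute_of_mem_zpowers {q x y : G} (hy : y ∈ zpowers q) (h : Commute q x) : Commute y x := by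
  obtain ⟨n, rfl⟩ := mem_zpowers_iff.1 hy
  exact h.zpow_left n

namespace Ctx

variable [Finite G] (Γ : Ctx z P)

include Γ

theorem exists_Rot {g p : G} (ht : Tri z P g p) : ∃ q k r, Rot z P g q k r := by
  obtain ⟨q, hq, k, hk, h3, h1, hf, r, hr, hr1, hc⟩ := Γ.exists_rot ht
  exact ⟨q, k, r, hq, hk, h3, h1, hf, hr, hr1, hc⟩

theorem exists_generator : ∃ p ∈ P, p ≠ 1 := by
  by_contra h
  push Not at h
  have : P = ⊥ := (eq_bot_iff_forall _).2 h
  have hc := Γ.S.card_P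
  rw [this, card_bot] at hc
  omega

theorem eq_conjE_one : conjE z 1 = coreE z := by
  ext x
  rw [mem_conj_iff]
  simp

/-- Every element of `X` is in `X'` or in `z X'`, when `z ∉ X'`. -/
theorem derived_cases (x : G) (hx : x ∈ cX z P) :
    x ∈ ⁅cX z P, cX z P⁆ ∨ z * x ∈ ⁅cX z P, cX z P⁆ := by
  set X := cX z P with hX
  let φ : ↥X →* AutM22 := Γ.S.pi.comp (Subgroup.inclusion inf_le_left)
  have hrange : φ.range = innerM22 := by
    refine le_antisymm ?_ fun b hb => ?_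
    · rintro _ ⟨y, rfl⟩
      exact Γ.S.pi_X_mem y.2
    · obtain ⟨y, hy, hyb⟩ := Γ.S.exists_lift hb
      exact ⟨⟨y, hy⟩, hyb⟩
  have hperf : ⁅innerM22, innerM22⁆ = innerM22 := by
    have hs := Γ.F.simple
    rw [← map_subtype_commutator]
    have htop : _root_.commutator ↥innerM22 = ⊤ := by
      refine (IsSimpleGroup.eq_bot_or_eq_top_of_normal _ inferInstance).resolve_left fun h => ?_
      have hcomm : ∀ a b : ↥innerM22, a * b = b * a := fun a b => by
        have hm : ⁅a, b⁆ ∈ _root_.commutator ↥innerM22 := commutator_mem_commutator (mem_top a) (mem_top b)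
        rw [h, mem_bot] at hm
        exact commutatorElement_eq_one_iff_mul_comm.1 hm
      have : Fact (Nat.Prime 2) := ⟨Nat.prime_two⟩
      obtain ⟨a, ha⟩ := exists_prime_orderOf_dvd_card' (G := ↥innerM22) 2 (by rw [Γ.F.card_inner]; norm_num)
      have hn : (zpowers a).Normal := ⟨fun x hx b => by rwa [hcomm b x, mul_inv_cancel_right]⟩
      rcases IsSimpleGroup.eq_bot_or_eq_top_of_normal _ hn with h' | h'
      · rw [zpowers_eq_bot] at h'
        rw [h', orderOf_one] at ha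
        omega
      · have hc := Nat.card_zpowers a
        rw [h', card_top, Γ.F.card_inner, ha] at hc
        omega
    rw [htop, ← MonoidHom.range_eq_map, range_subtype]
  have hmap : (_root_.commutator ↥X).map φ = innerM22 := by
    rw [commutator_def, map_commutator, ← MonoidHom.range_eq_map, hrange, hperf]
  obtain ⟨y, hy, hyx⟩ : φ ⟨x, hx⟩ ∈ (_root_.commutator ↥X).map φ := by
    rw [hmap, ← hrange]; exact ⟨_, rfl⟩
  have hy' : (y : G) ∈ ⁅X, X⁆ := by
    rw [← map_subtype_commutator]; exact ⟨y, hy, rfl⟩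
  have h1 : φ (⟨x, hx⟩ * y⁻¹) = 1 := by rw [map_mul, map_inv, hyx, mul_inv_cancel]
  obtain ⟨w, hw, r, hr, hwr⟩ := Γ.S.mem_zpowers_mul_of_mem_sup ((Γ.S.pi_eq_one _).1 h1)
    ((⟨x, hx⟩ * y⁻¹ : ↥X)).2.2
  have hxe : x = w * (r * y) := by
    have : x * (y : G)⁻¹ = w * r := hwr
    rw [← mul_assoc, ← this, inv_mul_cancel_right]
  have hry : r * (y : G) ∈ ⁅X, X⁆ := mul_mem (Γ.S.P_le_derived hr) hy'
  rcases Γ.S.z_cases hw with rfl | rfl
  · left; rw [hxe, one_mul]; exact hry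
  · right; rw [hxe, ← mul_assoc, Γ.S.hub.sq, one_mul]; exact hry

variable {g p : G} (ht : Tri z P g p)
include ht

theorem W_commute {a b : G} (ha : a ∈ coreE z ⊓ conjE z g) (hb : b ∈ coreE z ⊓ conjE z g) :
    Commute a b :=
  (Γ.pair ht.pt).E_commute ha hb

theorem four_le_W : closure ({z, g * z * g⁻¹} : Set G) ≤ coreE z ⊓ conjE z g := (Γ.pair ht.pt).V_le_E

theorem four_le_trB : closure ({z, g * z * g⁻¹} : Set G) ≤ trB z g p := by
  rw [closure_le]
  intro x hx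
  simp only [Set.mem_insert_iff, Set.mem_singleton_iff] at hx
  rcases hx with rfl | rfl
  exacts [z_mem_trB, s_mem_trB]

/-- `[E ∩ E^g, E E^g] ≤ ⟨z, s⟩`. -/
theorem move {u w : G} (hu : u ∈ coreE z ⊔ conjE z g) (hw : w ∈ coreE z ⊓ conjE z g) :
    u * w * u⁻¹ * w⁻¹ ∈ closure ({z, g * z * g⁻¹} : Set G) := by
  rw [sup_eq_closure] at hu
  refine closure_induction_finite
    (p := fun v => ∀ w ∈ coreE z ⊓ conjE z g, v * w * v⁻¹ * w⁻¹ ∈ closure ({z, g * z * g⁻¹} : Set G))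
    ?_ ?_ ?_ hu w hw
  · intro v hv w hw
    rcases hv with hv | hv
    · rcases Γ.S.hub.comm v hv w hw.1 with e | e <;> rw [e]
      · rw [mul_inv_cancel]; exact one_mem _
      · rw [(Γ.S.hub.central w hw.1).eq, mul_inv_cancel_right]
        exact subset_closure (Set.mem_insert _ _)
    · rcases (Γ.hub_pt g).comm v hv w hw.2 with e | e <;> rw [e]
      · rw [mul_inv_cancel]; exact one_mem _
      · rw [((Γ.hub_pt g).central w hw.2).eq, mul_inv_cancel_right]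
        exact subset_closure (Set.mem_insert_of_mem _ rfl)
  · intro w _
    simp
  · intro a b ha hb w hw
    have h1 := hb w hw
    have hw' : b * w * b⁻¹ ∈ coreE z ⊓ conjE z g := by
      have := mul_mem (Γ.four_le_W ht h1) hw
      rwa [inv_mul_cancel_right] at this
    have h2 := mul_mem (ha _ hw') h1
    rwa [show a * (b * w * b⁻¹) * a⁻¹ * (b * w * b⁻¹)⁻¹ * (b * w * b⁻¹ * w⁻¹) =
      a * b * w * (a * b)⁻¹ * w⁻¹ by group] at h2

theorem conj_W {u w : G} (hu : u ∈ coreE z ⊔ conjE z g) (hw : w ∈ coreE z ⊓ conjE z g) :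
    u * w * u⁻¹ ∈ coreE z ⊓ conjE z g := by
  have := mul_mem (Γ.four_le_W ht (Γ.move ht hu hw)) hw
  rwa [inv_mul_cancel_right] at this

theorem conj_four {u w : G} (hu : u ∈ coreE z ⊔ conjE z g) (hw : w ∈ closure ({z, g * z * g⁻¹} : Set G)) :
    u * w * u⁻¹ ∈ closure ({z, g * z * g⁻¹} : Set G) := by
  have := mul_mem (Γ.move ht hu (Γ.four_le_W ht hw)) hw
  rwa [inv_mul_cancel_right] at this

variable {q k r : G} (R : Rot z P g q k r)
include R

theorem c_mem : k * z * k⁻¹ ∈ trB z g p :=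
  (mem_normalizer_iff.1 (Γ.trM_normalizes_trB ht R.k_mem) z).1 z_mem_trB

theorem c_comm : Commute q (k * z * k⁻¹) := by
  rw [← R.conj]
  exact (Γ.P_comm R.r_mem).map (MulAut.conj k).toMonoidHom

theorem trB_fix {b : G} (hb : b ∈ trB z g p) (hc : Commute q b) : b = 1 ∨ b = k * z * k⁻¹ := by
  have hb' : k⁻¹ * b * k ∈ trB z g p := by
    have := (mem_normalizer_iff.1 (inv_mem (Γ.trM_normalizes_trB ht R.k_mem)) b).1 hb
    rwa [inv_inv] at this
  have hc' : r * (k⁻¹ * b * k) * r⁻¹ = k⁻¹ * b * k := by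
    calc r * (k⁻¹ * b * k) * r⁻¹ = k⁻¹ * ((k * r * k⁻¹) * b * (k * r * k⁻¹)⁻¹) * k := by group
      _ = k⁻¹ * b * k := by rw [R.conj, hc.eq, mul_inv_cancel_right]
  rcases Γ.eq_one_or_z_of_fixed R.r_mem R.r_ne (Γ.trB_le_core ht hb') (Or.inl hc') with e | e
  · left
    calc b = k * (k⁻¹ * b * k) * k⁻¹ := by group
      _ = 1 := by rw [e]; group
  · right
    calc b = k * (k⁻¹ * b * k) * k⁻¹ := by group
      _ = k * z * k⁻¹ := by rw [e]

theorem c_not_four : k * z * k⁻¹ ∉ closure ({z, g * z * g⁻¹} : Set G) := fun h =>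
  Γ.S.hub.ne_one (conj_eq_one_iff.1 (R.free _ h (Γ.c_comm ht R)))

/-- `E ∩ E^g = ⟨z, s⟩ C(q)`. -/
theorem split {w : G} (hw : w ∈ coreE z ⊓ conjE z g) :
    ∃ v ∈ closure ({z, g * z * g⁻¹} : Set G), Commute q (v * w) := by
  have hE := Γ.pair ht.pt
  set a := q * w * q⁻¹ * w⁻¹ with ha
  set b := q * a * q⁻¹ with hb
  set c := q * b * q⁻¹ with hc
  have haV := Γ.move ht R.q_mem hw
  have hbV := Γ.conj_four ht R.q_mem haV
  have hcV := Γ.conj_four ht R.q_mem hbV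
  have hqa : q * c * q⁻¹ = a := by
    rw [hc, hb, show q * (q * (q * a * q⁻¹) * q⁻¹) * q⁻¹ = q ^ 3 * a * (q ^ 3)⁻¹ by rw [pow_three]; group,
      R.q3]
    group
  have hcom : ∀ x ∈ closure ({z, g * z * g⁻¹} : Set G), ∀ y ∈ closure ({z, g * z * g⁻¹} : Set G),
      Commute x y := fun x hx y hy => hE.E_commute (Γ.four_le_W ht hx) (Γ.four_le_W ht hy)
  have h1 : a * b * c = 1 := by
    refine R.free _ (mul_mem (mul_mem haV hbV) hcV) (mul_inv_eq_iff_eq_mul.1 ?_)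
    rw [show q * (a * b * c) * q⁻¹ = (q * a * q⁻¹) * (q * b * q⁻¹) * (q * c * q⁻¹) by group, hqa, ← hb, ← hc]
    exact (hcom a haV _ (mul_mem hbV hcV)).eq.symm.trans (mul_assoc _ _ _).symm
  have hbb : b⁻¹ = b := inv_eq_of_mul_eq_one_right (hE.E_sq (Γ.four_le_W ht hbV))
  have hca : c * a = b := by
    calc c * a = b⁻¹ * a⁻¹ * (a * b * c) * a := by group
      _ = b⁻¹ := by rw [h1]; group
      _ = b := hbb
  refine ⟨b, hbV, mul_inv_eq_iff_eq_mul.1 ?_⟩
  rw [show q * (b * w) * q⁻¹ = q * b * q⁻¹ * (q * w * q⁻¹ * w⁻¹ * w) by group, ← hc, ← ha, ← mul_assoc, hca]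

/-- `x = i z i⁻¹ ∈ X` such that `x z` is conjugate to an element of `E ∩ E^g` outside `trB`. -/
theorem conj_pair_of_point {e : G} (he : e ∈ coreE z ⊓ conjE z g) (heB : e ∉ trB z g p)
    (hconj : ∃ j, e = j * z * j⁻¹) : ∃ i, i * z * i⁻¹ ∈ cX z P ∧ i * z * i⁻¹ ≠ z ∧
      k * (i * z * i⁻¹ * z) * k⁻¹ ∈ coreE z ⊓ conjE z g ∧ k * (i * z * i⁻¹ * z) * k⁻¹ ∉ trB z g p := by
  have hE := Γ.pair ht.pt
  obtain ⟨v, hv, hvc⟩ := Γ.split ht R he
  have hfour : ∀ x ∈ closure ({z, g * z * g⁻¹} : Set G), x * e ∉ trB z g p := fun x hx hm =>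
    heB (((trB z g p).mul_mem_cancel_left (Γ.four_le_trB ht hx)).1 hm)
  have hflip : ∀ j, (j * z * j⁻¹ ∈ coreE z ⊓ conjE z g → j * z * j⁻¹ ∉ trB z g p →
      (∃ i, i * z * i⁻¹ = z * (j * z * j⁻¹)) ∧ ∃ i, i * z * i⁻¹ = g * z * g⁻¹ * (j * z * j⁻¹)) := by
    intro j hjW hjB
    have n1 : j * z * j⁻¹ ≠ 1 := fun h => hjB (h ▸ one_mem _)
    obtain ⟨f, -, hf⟩ := LargeFischer.Loc.exists_flip Γ.S.hub hjW.1 n1
      fun h => hjB (by rw [h]; exact z_mem_trB)
    obtain ⟨f', -, hf'⟩ := LargeFischer.Loc.exists_flip (Γ.hub_pt g) hjW.2 n1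
      fun h => hjB (by rw [h]; exact s_mem_trB)
    refine ⟨⟨f * j, ?_⟩, ⟨f' * j, ?_⟩⟩
    · rw [show f * j * z * (f * j)⁻¹ = f * (j * z * j⁻¹) * f⁻¹ by group, hf,
        (Γ.S.hub.central _ hjW.1).eq]
    · rw [show f' * j * z * (f' * j)⁻¹ = f' * (j * z * j⁻¹) * f'⁻¹ by group, hf',
        ((Γ.hub_pt g).central _ hjW.2).eq]
  have hall : ∃ i, i * z * i⁻¹ = v * e := by
    obtain ⟨j, rfl⟩ := hconj
    obtain ⟨hz', hs'⟩ := hflip j he heB
    rcases hE.mem_V_iff.1 hv with rfl | rfl | rfl | rfl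
    · exact ⟨j, (one_mul _).symm⟩
    · exact hz'
    · exact hs'
    · obtain ⟨i, hi⟩ := hs'
      have hiW : i * z * i⁻¹ ∈ coreE z ⊓ conjE z g :=
        hi ▸ mul_mem (Γ.four_le_W ht (subset_closure (Set.mem_insert_of_mem _ rfl))) he
      obtain ⟨⟨l, hl⟩, -⟩ := hflip i hiW
        (hi ▸ hfour _ (subset_closure (Set.mem_insert_of_mem _ rfl)))
      exact ⟨l, by rw [hl, hi]; simp only [mul_assoc]⟩
  obtain ⟨i, hi⟩ := hall
  have hkk : k * (k⁻¹ * i * z * (k⁻¹ * i)⁻¹ * z) * k⁻¹ = v * e * (k * z * k⁻¹) := by rw [← hi]; group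
  refine ⟨k⁻¹ * i, ?_, fun h => hfour v hv ?_, ?_, fun h => hfour v hv ?_⟩
  · have hx : k⁻¹ * i * z * (k⁻¹ * i)⁻¹ = k⁻¹ * (v * e) * k⁻¹⁻¹ := by rw [← hi]; group
    rw [hx]
    refine Subgroup.mem_inf.2 ⟨mem_H.2 ?_, ?_⟩
    · have h := (Γ.W_commute ht (mul_mem (Γ.four_le_W ht hv) he) (Γ.trB_le ht (Γ.c_mem ht R))).map
        (MulAut.conj k⁻¹).toMonoidHom
      simpa [mul_assoc] using h
    · rw [← Γ.zpowers_eq R.r_mem R.r_ne, mem_centralizer_iff]
      intro r' hr'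
      refine (commute_of_mem_zpowers hr' ?_).eq
      have hvc' : Commute (k * r * k⁻¹) (v * e) := by rw [R.conj]; exact hvc
      have h := hvc'.map (MulAut.conj k⁻¹).toMonoidHom
      simpa [mul_assoc] using h
  · have hve : v * e = k * z * k⁻¹ := by
      rw [← hi]
      calc i * z * i⁻¹ = k * (k⁻¹ * i * z * (k⁻¹ * i)⁻¹) * k⁻¹ := by group
        _ = k * z * k⁻¹ := by rw [h]
    rw [hve]; exact Γ.c_mem ht R
  · rw [hkk]
    exact mul_mem (mul_mem (Γ.four_le_W ht hv) he) (Γ.trB_le ht (Γ.c_mem ht R))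
  · rw [hkk] at h
    exact ((trB z g p).mul_mem_cancel_right (Γ.c_mem ht R)).1 h

/-- A conjugate of `z` in `X` other than `z`, given a point of `E ∩ E^g` outside `trB`. -/
theorem conj_mem_of_point {e : G} (he : e ∈ coreE z ⊓ conjE z g) (heB : e ∉ trB z g p)
    (hconj : ∃ j, e = j * z * j⁻¹) : ∃ j, j * z * j⁻¹ ∈ cX z P ∧ j * z * j⁻¹ ≠ z :=
  let ⟨i, h1, h2, _⟩ := Γ.conj_pair_of_point ht R he heB hconj
  ⟨i, h1, h2⟩

omit R in
/-- `C_H(s)` normalises `trB`. -/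
theorem stab_normalizes_trB {y : G} (hy : y ∈ centralizer ({z} : Set G)) (hys : Commute y (g * z * g⁻¹)) :
    y ∈ normalizer (trB z g p : Set G) := by
  obtain ⟨e, he, y1, hy1, rfl⟩ := Γ.S.factor y hy
  have heB := Γ.core_normalizes_trB ht he
  have hs1 : y1 * (g * z * g⁻¹) * y1⁻¹ ∈ trB z g p := by
    have : y1 * (g * z * g⁻¹) * y1⁻¹ = e⁻¹ * (g * z * g⁻¹) * e⁻¹⁻¹ := by
      rw [show y1 * (g * z * g⁻¹) * y1⁻¹ = e⁻¹ * (e * y1 * (g * z * g⁻¹) * (e * y1)⁻¹) * e⁻¹⁻¹ by group,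
        hys.eq, mul_inv_cancel_right]
    rw [this]
    exact (mem_normalizer_iff.1 (inv_mem heB) _).1 s_mem_trB
  refine mul_mem heB (mem_normalizer_closure fun x hx => ?_)
  simp only [Set.mem_insert_iff, Set.mem_singleton_iff] at hx
  rcases hx with rfl | rfl | rfl
  · rw [(mem_H.1 hy1.1).eq, mul_inv_cancel_right]; exact z_mem_trB
  · exact hs1
  · have hp' : y1 * p * y1⁻¹ ∈ P := (mem_normalizer_iff.1 hy1.2 p).1 ht.mem
    rw [show y1 * (p * (g * z * g⁻¹) * p⁻¹) * y1⁻¹ =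
      (y1 * p * y1⁻¹) * (y1 * (g * z * g⁻¹) * y1⁻¹) * (y1 * p * y1⁻¹)⁻¹ by group]
    exact (mem_normalizer_iff.1 (Γ.P_normalizes_trB ht hp') _).1 hs1

theorem z_mem_derived_of_rot : z ∈ ⁅cX z P, cX z P⁆ := by
  by_contra hzX
  set c := k * z * k⁻¹ with hc
  set V := closure ({z, g * z * g⁻¹} : Set G) with hV
  set W := coreE z ⊓ conjE z g with hW
  set Xq := centralizer ({c} : Set G) ⊓ centralizer (zpowers q : Set G) with hXq
  set J := ⁅Xq, Xq⁆ with hJ
  have hcB := Γ.c_mem ht R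
  have hcW : c ∈ W := Γ.trB_le ht hcB
  have memXq : ∀ x, x ∈ Xq ↔ Commute x c ∧ Commute x q := by
    intro x
    constructor
    · intro hx
      exact ⟨mem_centralizer_singleton_iff.1 hx.1, ((mem_centralizer_iff.1 hx.2) q (mem_zpowers q)).symm⟩
    · rintro ⟨h1, h2⟩
      exact Subgroup.mem_inf.2 ⟨mem_centralizer_singleton_iff.2 h1.eq,
        mem_centralizer_iff.2 fun y hy => (commute_of_mem_zpowers hy h2.symm).eq⟩
  -- `Xq` is the conjugate of `X` by `k`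
  have hXk : (cX z P).map (MulAut.conj k).toMonoidHom = Xq := by
    ext x
    rw [mem_conj_iff, memXq]
    constructor
    · intro hx
      have h1 := (mem_H.1 hx.1).map (MulAut.conj k).toMonoidHom
      have h2 := (show Commute (k⁻¹ * x * k) r from
        (mem_centralizer_iff.1 hx.2 r R.r_mem).symm).map (MulAut.conj k).toMonoidHom
      simp only [MulEquiv.coe_toMonoidHom, MulAut.conj_apply] at h1 h2
      rw [show k * (k⁻¹ * x * k) * k⁻¹ = x by group] at h1 h2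
      rw [R.conj] at h2
      exact ⟨h1, h2⟩
    · rintro ⟨h1, h2⟩
      have h1' := h1.map (MulAut.conj k⁻¹).toMonoidHom
      have h2' := (show Commute x (k * r * k⁻¹) by rw [R.conj]; exact h2).map (MulAut.conj k⁻¹).toMonoidHom
      refine Subgroup.mem_inf.2 ⟨mem_H.2 (by simpa [hc, mul_assoc] using h1'), ?_⟩
      rw [← Γ.zpowers_eq R.r_mem R.r_ne, mem_centralizer_iff]
      intro r' hr'
      exact (commute_of_mem_zpowers hr' (by simpa [mul_assoc] using h2'.symm)).eq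
  have hJk : ⁅cX z P, cX z P⁆.map (MulAut.conj k).toMonoidHom = J := by rw [map_commutator, hXk]
  have hcJ : c ∉ J := by
    rw [← hJk, mem_conj_iff]
    have : k⁻¹ * c * k = z := by rw [hc]; group
    rwa [this]
  have hJcases : ∀ x ∈ Xq, x ∈ J ∨ c * x ∈ J := by
    intro x hx
    rw [← hXk, mem_conj_iff] at hx
    rw [← hJk, mem_conj_iff, mem_conj_iff]
    rcases Γ.derived_cases _ hx with h | h
    · exact Or.inl h
    · right
      rwa [show k⁻¹ * (c * x) * k = z * (k⁻¹ * x * k) by rw [hc]; group]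
  have hWc : ∀ {a b : G}, a ∈ W → b ∈ W → Commute a b := fun ha hb => Γ.W_commute ht ha hb
  have hVW : V ≤ W := Γ.four_le_W ht
  set S' := V ⊔ W ⊓ J with hS'
  have hS'W : S' ≤ W := sup_le hVW inf_le_left
  have hmemS : ∀ x ∈ S', ∃ v ∈ V, ∃ t ∈ W ⊓ J, x = v * t := by
    intro x hx
    rw [hS', sup_eq_closure] at hx
    refine closure_induction_finite (p := fun x => ∃ v ∈ V, ∃ t ∈ W ⊓ J, x = v * t) ?_ ?_ ?_ hx
    · rintro x (hx | hx)
      · exact ⟨x, hx, 1, one_mem _, (mul_one x).symm⟩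
      · exact ⟨1, one_mem _, x, hx, (one_mul x).symm⟩
    · exact ⟨1, one_mem _, 1, one_mem _, (one_mul 1).symm⟩
    · rintro a b ⟨v, hv, t, ht', rfl⟩ ⟨v', hv', t', ht'', rfl⟩
      exact ⟨v * v', mul_mem hv hv', t * t', mul_mem ht' ht'',
        (hWc ht'.1 (hVW hv')).mul_mul_mul_comm _ _⟩
  have hcS : c ∉ S' := by
    intro h
    obtain ⟨v, hv, t, ht', hvt⟩ := hmemS c h
    have htq : Commute t q := ((memXq t).1 (commutator_le_self Xq ht'.2)).2
    have hvq : Commute q v := by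
      rw [show v = c * t⁻¹ by rw [hvt, mul_inv_cancel_right]]
      exact (Γ.c_comm ht R).mul_right htq.symm.inv_right
    rw [R.free v hv hvq, one_mul] at hvt
    exact hcJ (hvt ▸ ht'.2)
  have hcover : ∀ w ∈ W, w ∈ S' ∨ c * w ∈ S' := by
    intro w hw
    obtain ⟨v, hv, hvq⟩ := Γ.split ht R hw
    have hvw : v * w ∈ W := mul_mem (hVW hv) hw
    rcases hJcases _ ((memXq _).2 ⟨hWc hvw hcW, hvq.symm⟩) with h | h
    · left
      rw [show w = v⁻¹ * (v * w) by group]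
      exact mul_mem (mem_sup_left (inv_mem hv)) (mem_sup_right ⟨hvw, h⟩)
    · right
      rw [show c * w = v⁻¹ * (c * (v * w)) by
        rw [← mul_assoc c, (hWc hcW (hVW hv)).eq]; group]
      exact mul_mem (mem_sup_left (inv_mem hv)) (mem_sup_right ⟨mul_mem hcW hvw, h⟩)
  have hLS : ∀ {u x : G}, u ∈ coreE z ⊔ conjE z g → x ∈ S' → u * x * u⁻¹ ∈ S' := by
    intro u x hu hx
    have := mul_mem (mem_sup_left (Γ.move ht hu (hS'W hx)) : u * x * u⁻¹ * x⁻¹ ∈ S') hx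
    rwa [inv_mul_cancel_right] at this
  -- `C_H(s)` normalises `S'`
  have hstab : ∀ y : G, y ∈ centralizer ({z} : Set G) → Commute y (g * z * g⁻¹) →
      ∀ x ∈ S', y * x * y⁻¹ ∈ S' := by
    intro y hy hys x hx
    have hyL : ∀ u ∈ coreE z ⊔ conjE z g, y * u * y⁻¹ ∈ coreE z ⊔ conjE z g := by
      intro u hu
      have hle : (coreE z ⊔ conjE z g).map (MulAut.conj y).toMonoidHom ≤ coreE z ⊔ conjE z g := by
        rw [Subgroup.map_sup]
        refine sup_le_sup ?_ ?_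
        · rintro _ ⟨e, he, rfl⟩; exact Γ.conj_core hy he
        · rintro _ ⟨e, he, rfl⟩; exact (Γ.hub_pt g).normalizes y hys e he
      exact hle ⟨u, hu, rfl⟩
    have hL9 : ¬ 9 ∣ Nat.card ↥(coreE z ⊔ conjE z g) := fun h =>
      Γ.three_card ht (h.trans (card_dvd_of_le le_sup_left))
    have : Fact (Nat.Prime 3) := ⟨Nat.prime_three⟩
    have hq1 : orderOf q = 3 := orderOf_eq_prime R.q3 R.q1
    have hyq : orderOf (y * q * y⁻¹) = 3 := by
      rw [show y * q * y⁻¹ = MulAut.conj y q from rfl, MulEquiv.orderOf_eq, hq1]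
    obtain ⟨l, hl, hlq⟩ := exists_conj_zpowers hL9 (hyL q R.q_mem) R.q_mem hyq hq1
    set y0 := l * y with hy0
    have hy0q : y0 * q * y0⁻¹ ∈ zpowers q := by
      rwa [show y0 * q * y0⁻¹ = l * (y * q * y⁻¹) * l⁻¹ by rw [hy0]; group]
    have hqy0 : q ∈ zpowers (y0 * q * y0⁻¹) := by
      rcases cases_zpowers_three R.q3 hy0q with e | e | e
      · exact absurd (conj_eq_one_iff.1 e) R.q1
      · rw [e]; exact mem_zpowers q
      · rw [e, zpowers_inv]; exact mem_zpowers q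
    have hy0B : y0 ∈ normalizer (trB z g p : Set G) :=
      mul_mem (Γ.trM_normalizes_trB ht (mem_sup_left hl)) (Γ.stab_normalizes_trB ht hy hys)
    have hy0c : y0 * c * y0⁻¹ = c := by
      refine (Γ.trB_fix ht R ((mem_normalizer_iff.1 hy0B c).1 hcB)
        (commute_of_mem_zpowers hqy0 ((Γ.c_comm ht R).map (MulAut.conj y0).toMonoidHom))).resolve_left ?_
      exact fun e => Γ.S.hub.ne_one (conj_eq_one_iff.1 (conj_eq_one_iff.1 e))
    have hXy : Xq.map (MulAut.conj y0).toMonoidHom ≤ Xq := by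
      rintro _ ⟨a, ha, rfl⟩
      obtain ⟨h1, h2⟩ := (memXq a).1 ha
      have h1' := h1.map (MulAut.conj y0).toMonoidHom
      have h2' := h2.map (MulAut.conj y0).toMonoidHom
      simp only [MulEquiv.coe_toMonoidHom, MulAut.conj_apply] at h1' h2' ⊢
      rw [hy0c] at h1'
      exact (memXq _).2 ⟨h1', (commute_of_mem_zpowers hqy0 h2'.symm).symm⟩
    have hJy : J.map (MulAut.conj y0).toMonoidHom ≤ J := by
      rw [hJ, map_commutator]; exact commutator_mono hXy hXy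
    obtain ⟨v, hv, t, ht', rfl⟩ := hmemS x hx
    have hv' : y * v * y⁻¹ = v := by
      have hle : V ≤ centralizer ({y} : Set G) := by
        rw [hV, closure_le]
        rintro a (rfl | rfl)
        exacts [mem_centralizer_singleton_iff.2 (mem_H.1 hy).eq.symm,
          mem_centralizer_singleton_iff.2 hys.eq.symm]
      rw [← (mem_centralizer_singleton_iff.1 (hle hv) : v * y = y * v), mul_inv_cancel_right]
    have ht'' : y0 * t * y0⁻¹ ∈ W ⊓ J := by
      refine Subgroup.mem_inf.2 ⟨?_, hJy ⟨t, ht'.2, rfl⟩⟩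
      rw [show y0 * t * y0⁻¹ = l * (y * t * y⁻¹) * l⁻¹ by rw [hy0]; group]
      exact Γ.conj_W ht hl (Subgroup.mem_inf.2 ⟨Γ.conj_core hy ht'.1.1, (Γ.hub_pt g).normalizes y hys t ht'.1.2⟩)
    have hyv : y0 * (v * t) * y0⁻¹ ∈ S' := by
      rw [show y0 * (v * t) * y0⁻¹ = l * (y * v * y⁻¹) * l⁻¹ * (y0 * t * y0⁻¹) by rw [hy0]; group, hv']
      exact mul_mem (mem_sup_left (Γ.conj_four ht hl hv)) (mem_sup_right ht'')
    have := hLS (inv_mem hl) hyv
    rwa [show l⁻¹ * (y0 * (v * t) * y0⁻¹) * l⁻¹⁻¹ = y * (v * t) * y⁻¹ by rw [hy0]; group] at this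
  -- an element of `E` centralising `S'` and moving `c`
  obtain ⟨w, hwE, hwS, hwc⟩ : ∃ w ∈ coreE z, (∀ d ∈ S', Commute w d) ∧ ¬ Commute c w := by
    by_contra hno
    push Not at hno
    exact hcS (Γ.S.hub.dcc S' (hS'W.trans inf_le_left)
      (mem_sup_left (subset_closure (Set.mem_insert _ _))) c hcW.1 hno)
  have hwW : w ∉ W := fun h => hwc (hWc hcW h)
  have hws : Commute w (g * z * g⁻¹) :=
    hwS _ (mem_sup_left (subset_closure (Set.mem_insert_of_mem _ rfl)))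
  have hwg : w ∉ conjE z g := fun h => hwW ⟨hwE, h⟩
  -- commutators with `w` fall into `W`
  have hcomm : ∀ y : G, y ∈ centralizer ({z} : Set G) → Commute y (g * z * g⁻¹) →
      w⁻¹ * (y * w * y⁻¹) ∈ W := by
    intro y hy hys
    set w' := y * w * y⁻¹ with hw'
    have hw'E : w' ∈ coreE z := Γ.conj_core hy hwE
    have hw'S : ∀ d ∈ S', Commute w' d := by
      intro d hd
      have hd' := hstab y⁻¹ (inv_mem hy) hys.inv_left d hd
      have := (hwS _ hd').map (MulAut.conj y).toMonoidHom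
      simpa [hw', mul_assoc] using this
    have hw'c : ¬ Commute w' c := by
      intro h
      have hall : ∀ a ∈ W, Commute w' a := by
        intro a ha
        rcases hcover a ha with h1 | h1
        · exact hw'S a h1
        · rw [show a = c⁻¹ * (c * a) by group]
          exact h.inv_right.mul_right (hw'S _ h1)
      have hcy : y * c * y⁻¹ ∈ W := Subgroup.mem_inf.2
        ⟨Γ.conj_core hy hcW.1, (Γ.hub_pt g).normalizes y hys c hcW.2⟩
      have := ((hall _ hcy).map (MulAut.conj y⁻¹).toMonoidHom).symm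
      exact hwc (by simpa [hw', mul_assoc] using this)
    have e1 := (Γ.S.hub.comm w hwE c hcW.1).resolve_left fun e => hwc (mul_inv_eq_iff_eq_mul.1 e).symm
    have e2 := (Γ.S.hub.comm w' hw'E c hcW.1).resolve_left fun e => hw'c (mul_inv_eq_iff_eq_mul.1 e)
    set t := w⁻¹ * w' with ht0
    have htc : Commute t c := by
      refine mul_inv_eq_iff_eq_mul.1 ?_
      rw [show t * c * t⁻¹ = w⁻¹ * (w' * c * w'⁻¹) * w by rw [ht0]; group, e2, ← e1]
      group
    have htE : t ∈ coreE z := mul_mem (inv_mem hwE) hw'E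
    have htS : ∀ d ∈ S', Commute t d := fun d hd => (hwS d hd).inv_left.mul_left (hw'S d hd)
    have htW : ∀ a ∈ W, Commute t a := by
      intro a ha
      rcases hcover a ha with h1 | h1
      · exact htS a h1
      · rw [show a = c⁻¹ * (c * a) by group]
        exact htc.inv_right.mul_right (htS _ h1)
    set U := closure (insert t (W : Set G)) with hU
    have hWU : W ≤ U := fun a ha => subset_closure (Set.mem_insert_of_mem _ ha)
    have hUE : U ≤ conjE z 1 := by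
      rw [Γ.eq_conjE_one, hU, closure_le]
      exact Set.insert_subset_iff.2 ⟨htE, fun a ha => ha.1⟩
    have hgen : ∀ a ∈ insert t (W : Set G), ∀ b ∈ insert t (W : Set G), Commute a b := by
      intro a ha b hb
      rcases ha with rfl | ha <;> rcases hb with rfl | hb
      exacts [Commute.refl _, htW b hb, (htW a ha).symm, hWc ha hb]
    have hUc : ∀ a ∈ U, ∀ b ∈ U, a * b = b * a := by
      intro a ha b hb
      have h1 : U ≤ centralizer (insert t (W : Set G)) := by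
        rw [hU, closure_le]
        exact fun x hx => mem_centralizer_iff.2 fun y hy => (hgen y hy x hx).eq
      have h2 : U ≤ centralizer ({a} : Set G) := by
        rw [hU, closure_le]
        exact fun x hx => mem_centralizer_singleton_iff.2 ((mem_centralizer_iff.1 (h1 ha)) x hx)
      exact (mem_centralizer_singleton_iff.1 (h2 hb)).symm
    have hle := Γ.abelian_card_le hUE hUc
    have heq : W = U := eq_of_le_of_card_ge hWU (by rw [(Γ.card_facts ht.pt).1]; exact hle)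
    rw [heq]
    exact subset_closure (Set.mem_insert _ _)
  -- move to the point `g⁻¹`
  have hg1 := Γ.pt_inv ht.pt
  set k0 := g⁻¹ * w * g with hk0
  have hk0D : k0 ∈ conjE z g⁻¹ ⊓ centralizer ({z} : Set G) := by
    refine Subgroup.mem_inf.2 ⟨⟨w, hwE, by simp [hk0]⟩, mem_H.2 ?_⟩
    have := hws.map (MulAut.conj g⁻¹).toMonoidHom
    simpa [hk0, mul_assoc] using this
  have hk0A := Γ.ph_mem_imgA hg1 hk0D
  have hk1 : Γ.ph k0 ≠ 1 := fun h => hwg (mem_conj_iff.2 (Γ.mem_core_of_ph hg1 hk0D h))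
  refine hk1 (Γ.F.elem_center _ (Γ.card_facts hg1).2.2 _ (le_normalizer hk0A) fun a ha => ?_)
  obtain ⟨y1, hy1, hy1s, hy1a⟩ := Γ.exists_lift_normalizer hg1 ha
  rw [inv_inv] at hy1s
  have hyz : g * y1 * g⁻¹ ∈ centralizer ({z} : Set G) := by
    refine mem_H.2 ?_
    have := hy1s.map (MulAut.conj g).toMonoidHom
    simpa [mul_assoc] using this
  have hys : Commute (g * y1 * g⁻¹) (g * z * g⁻¹) := (mem_H.1 hy1).map (MulAut.conj g).toMonoidHom
  have hmem : k0⁻¹ * (y1 * k0 * y1⁻¹) ∈ coreE z := by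
    have h := mem_conj_iff.1 (hcomm _ hyz hys).2
    rwa [show g⁻¹ * (w⁻¹ * (g * y1 * g⁻¹ * w * (g * y1 * g⁻¹)⁻¹)) * g = k0⁻¹ * (y1 * k0 * y1⁻¹) by
      rw [hk0]; group] at h
  have h1 := Γ.ph_core hmem
  rw [Γ.ph_mul (inv_mem hk0D.2) (mul_mem (mul_mem hy1 hk0D.2) (inv_mem hy1)), Γ.ph_conj hy1 hk0D.2,
    Γ.ph_inv hk0D.2, hy1a, inv_mul_eq_one] at h1
  exact (mul_inv_eq_iff_eq_mul.1 h1.symm : a * Γ.ph k0 = Γ.ph k0 * a).symm

omit ht R in
/-- A point of `E ∩ E^g` outside `trB` which is a conjugate of `z`. -/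
theorem exists_point (hg : Pt z g) : ∃ e, (∃ j, e = j * z * j⁻¹) ∧ e ∈ coreE z ⊓ conjE z g ∧
    ∀ p, Tri z P g p → e ∉ trB z g p := by
  have hz := Γ.S.hub.sq
  set A := Γ.imgA g with hA
  obtain ⟨h, hh, hM16, hMo⟩ := Γ.F.elem_adjacent A (Γ.card_facts hg).2.2
  set Mi := A ⊓ (normalizer (A : Set AutM22)).map (MulAut.conj h).toMonoidHom with hMi
  obtain ⟨y, hy, hyh⟩ := Γ.exists_ph h
  set e := y * (g * z * g⁻¹) * y⁻¹ with he
  have heE : e ∈ coreE z := Γ.conj_core hy hg.mem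
  have he1 : e ≠ 1 := fun h' => (Γ.hub_pt g).ne_one (conj_eq_one_iff.1 h')
  have hez : e ≠ z := fun h' => hg.ne (by
    calc g * z * g⁻¹ = y⁻¹ * (y * (g * z * g⁻¹) * y⁻¹) * y := by group
      _ = z := by rw [← he, h', (mem_H.1 (inv_mem hy)).eq, inv_mul_cancel_right])
  set D := conjE z g ⊓ centralizer ({z} : Set G) with hD
  -- action of a lift of an element of `Mi` on `e`
  have hact : ∀ m ∈ D, Γ.ph m ∈ Mi → ∃ r ∈ P, Eqz z (m * e * m⁻¹) (r⁻¹ * e * r) := by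
    intro m hm hmM
    obtain ⟨b, hb, hba⟩ := hmM.2
    obtain ⟨cb, hcb, hcbs, hcbb⟩ := Γ.exists_lift_normalizer hg hb
    set c := y * cb * y⁻¹ with hc
    have hcH : c ∈ centralizer ({z} : Set G) := mul_mem (mul_mem hy hcb) (inv_mem hy)
    have hce : Commute c e := hcbs.map (MulAut.conj y).toMonoidHom
    have hcm : Γ.ph (c * m⁻¹) = 1 := by
      rw [Γ.ph_mul hcH (inv_mem hm.2), Γ.ph_inv hm.2, hc, Γ.ph_conj hy hcb, hyh, hcbb,
        mul_inv_eq_one]
      exact hba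
    obtain ⟨f, hf, r, hr, hfr⟩ := Γ.exists_ep (mul_mem hcH (inv_mem hm.2)) hcm
    refine ⟨r, hr, ?_⟩
    have hme : m * e * m⁻¹ ∈ coreE z := Γ.conj_core hm.2 heE
    have hfix : f * (r * (m * e * m⁻¹) * r⁻¹) * f⁻¹ = e := by
      rw [show f * (r * (m * e * m⁻¹) * r⁻¹) * f⁻¹ = (f * r * m) * e * (f * r * m)⁻¹ by group,
        ← hfr, inv_mul_cancel_right, hce.eq, mul_inv_cancel_right]
    have h1 := ((Γ.eqz_core hf (Γ.conj_core (Γ.S.P_le hr) hme)).symm hz).conj (Γ.P_comm (inv_mem hr))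
    rw [hfix, show r⁻¹ * (r * (m * e * m⁻¹) * r⁻¹) * r⁻¹⁻¹ = m * e * m⁻¹ by group, inv_inv] at h1
    exact h1
  obtain ⟨a0, ha0, ha0o⟩ := SetLike.not_le_iff_exists.1 hMo
  obtain ⟨⟨m0, hm0⟩, hm0a⟩ := ha0.1
  rw [Γ.homD_apply] at hm0a
  have hm0M : Γ.ph m0 ∈ Mi := hm0a.symm ▸ ha0
  have hm0o : Γ.ph m0 ∉ innerM22 := hm0a.symm ▸ ha0o
  have hm0E : m0 ∉ coreE z := fun h' => hm0o (Γ.ph_core h' ▸ one_mem _)
  obtain ⟨r0, hr0, hr0e⟩ := hact m0 hm0 hm0M
  have hrr : ∀ {r : G}, r ∈ P → r⁻¹ * r⁻¹ = r := fun {r} hr => by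
    rw [← mul_inv_rev, inv_eq_of_mul_eq_one_left (Γ.p_cube hr)]
  set e' := r0 * e * r0⁻¹ with he'
  have he'E : e' ∈ coreE z := Γ.conj_core (Γ.S.P_le hr0) heE
  have hfix0 : Eqz z (m0 * e' * m0⁻¹) e' := by
    have h1 := hr0e.conj (Γ.P_comm (inv_mem hr0))
    rw [inv_inv, show r0⁻¹ * (r0⁻¹ * e * r0) * r0 = (r0⁻¹ * r0⁻¹) * e * (r0⁻¹ * r0⁻¹)⁻¹ by simp [mul_assoc],
      hrr hr0] at h1
    exact (Γ.outer_conj hm0.2 hm0o hr0 heE).trans hz h1
  have hfixI : ∀ m ∈ D, Γ.ph m ∈ Mi → Γ.ph m ∈ innerM22 → Eqz z (m * e' * m⁻¹) e' := by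
    intro m hm hmM hmi
    obtain ⟨r, hr, hre⟩ := hact m hm hmM
    have hr1 : r = 1 := by
      by_contra hne
      have h1 := (hre.conj (mem_H.1 hm.2))
      have h2 := Γ.inner_conj hm.2 hmi (inv_mem hr) heE
      rw [inv_inv] at h2
      have h3 := hre.conj (Γ.P_comm (inv_mem hr))
      rw [inv_inv] at h3
      have h4 := (h1.trans hz h2).trans hz h3
      rw [show r⁻¹ * (r⁻¹ * e * r) * r = (r⁻¹ * r⁻¹) * e * (r⁻¹ * r⁻¹)⁻¹ by simp [mul_assoc], hrr hr,
        show m * (m * e * m⁻¹) * m⁻¹ = m * m * e * (m * m)⁻¹ by group] at h4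
      exact (Γ.eq_one_or_z_of_fixed hr hne heE
        ((h4.symm hz).trans hz (Γ.eqz_core (Γ.sq_mem_core hg hm.1) heE))).elim he1 hez
    subst hr1
    have h1 : Eqz z (m * e * m⁻¹) e := by simpa using hre
    exact (Γ.inner_conj hm.2 hmi hr0 heE).trans hz (h1.conj (Γ.P_comm hr0))
  have hfix : ∀ m ∈ D, Γ.ph m ∈ Mi → Eqz z (m * e' * m⁻¹) e' := by
    intro m hm hmM
    by_cases hmi : Γ.ph m ∈ innerM22
    · exact hfixI m hm hmM hmi
    have hmm : m * m0⁻¹ ∈ D := mul_mem hm (inv_mem hm0)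
    have hph : Γ.ph (m * m0⁻¹) = Γ.ph m * (Γ.ph m0)⁻¹ := by
      rw [Γ.ph_mul hm.2 (inv_mem hm0.2), Γ.ph_inv hm0.2]
    have h1 := hfixI _ hmm (hph ▸ mul_mem hmM (inv_mem hm0M)) (hph ▸
      (mul_mem_iff_of_index_two Γ.F.index_two).2 (iff_of_false hmi fun h' => hm0o ((inv_mem_iff).1 h')))
    have h2 := hfix0.conj (mem_H.1 hmm.2)
    rw [show m * m0⁻¹ * (m0 * e' * m0⁻¹) * (m * m0⁻¹)⁻¹ = m * e' * m⁻¹ by group] at h2
    exact h2.trans hz h1
  have hes := Γ.orth hg hm0 hm0E he'E hfix0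
  have heg : e' ∈ conjE z g := by
    refine Γ.mem_conjE_of_fix hg he'E hes ((Mi.comap (Γ.homD g)).map D.subtype) (map_subtype_le _) ?_ ?_
    · rw [card_map_of_injective D.subtype_injective, ← (Γ.card_facts hg).2.1]
      have hh := (Mi.comap (Γ.homD g)).card_mul_index
      rw [index_comap] at hh
      have h2 := (Mi.subgroupOf A).card_mul_index
      rw [Nat.card_congr (subgroupOfEquivOfLe (inf_le_left : Mi ≤ A)).toEquiv,
        (Γ.card_facts hg).2.2.2] at h2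
      have h3 : Mi.relIndex (Γ.homD g).range ≤ 2 := by
        show (Mi.subgroupOf A).index ≤ 2
        by_contra h'
        rw [← hMi] at h2
        have h'' := Nat.mul_le_mul hM16 (Nat.lt_of_not_le h')
        omega
      rw [← hh, mul_comm]
      exact Nat.mul_le_mul_right _ h3
    · rintro _ ⟨m, hm, rfl⟩
      exact hfix m m.2 (by rw [← Γ.homD_apply]; exact hm)
  refine ⟨e', ⟨r0 * y * g, by rw [he', he]; group⟩, Subgroup.mem_inf.2 ⟨he'E, heg⟩, fun p ht hB => hh ?_⟩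
  have he'1 : e' ≠ 1 := fun h' => he1 (conj_eq_one_iff.1 h')
  have he'z : e' ≠ z := fun h' => hez (by
    calc e = r0⁻¹ * (r0 * e * r0⁻¹) * r0 := by group
      _ = z := by rw [← he', h', (Γ.P_comm (inv_mem hr0)).eq, inv_mul_cancel_right])
  obtain ⟨r1, hr1, hr1e⟩ := Γ.exists_rotate ht hB he'1 he'z
  rw [show r1 * e' * r1⁻¹ = r1 * r0 * y * (g * z * g⁻¹) * (r1 * r0 * y)⁻¹ by rw [he', he]; group] at hr1e
  have hrH : r1 * r0 ∈ centralizer ({z} : Set G) := mul_mem (Γ.S.P_le hr1) (Γ.S.P_le hr0)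
  have hy2 : r1 * r0 * y ∈ centralizer ({z} : Set G) := mul_mem hrH hy
  obtain ⟨f, hf, hfc⟩ : ∃ f ∈ coreE z, Commute (f * (r1 * r0 * y)) (g * z * g⁻¹) := by
    rcases hr1e with e1 | e1
    · exact ⟨1, one_mem _, by rw [one_mul]; exact mul_inv_eq_iff_eq_mul.1 e1⟩
    · obtain ⟨f, hf, hff⟩ := LargeFischer.Loc.exists_flip Γ.S.hub hg.mem (Γ.hub_pt g).ne_one hg.ne
      refine ⟨f, hf, mul_inv_eq_iff_eq_mul.1 ?_⟩
      rw [show f * (r1 * r0 * y) * (g * z * g⁻¹) * (f * (r1 * r0 * y))⁻¹ =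
          f * (r1 * r0 * y * (g * z * g⁻¹) * (r1 * r0 * y)⁻¹) * f⁻¹ by group, e1,
        show f * (z * (g * z * g⁻¹)) * f⁻¹ = (f * z * f⁻¹) * (f * (g * z * g⁻¹) * f⁻¹) by group, hff,
        (Γ.S.hub.central f hf).eq, mul_inv_cancel_right, (Γ.S.hub.central _ hg.mem).eq, ← mul_assoc, hz,
        one_mul]
  have hN := Γ.ph_mem_normalizer hg (mul_mem (coreE_le_H hf) hy2) hfc
  rwa [Γ.ph_mul (coreE_le_H hf) hy2, Γ.ph_core hf, one_mul, Γ.ph_mul hrH hy,
    Γ.ph_mul (Γ.S.P_le hr1) (Γ.S.P_le hr0), Γ.ph_P hr1, Γ.ph_P hr0, one_mul, one_mul, hyh] at hN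

end Ctx

/-- `z` is in the derived group of `X`. -/
theorem z_mem_derived [Finite G] (S : Setting z P) (F : AutFacts innerM22) (hb : FixBound z) {g : G}
    (hs : g * z * g⁻¹ ∈ coreE z) (hne : g * z * g⁻¹ ≠ z) : z ∈ ⁅cX z P, cX z P⁆ := by
  obtain ⟨p, hp, hp1⟩ := (Ctx.mk S F hb).exists_generator
  obtain ⟨q, k, r, R⟩ := (Ctx.mk S F hb).exists_Rot ⟨⟨hs, hne⟩, hp, hp1⟩
  exact (Ctx.mk S F hb).z_mem_derived_of_rot ⟨⟨hs, hne⟩, hp, hp1⟩ R

/-- A conjugate of `z` other than `z` lies in `X`. -/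
theorem exists_conj_mem_cX [Finite G] (S : Setting z P) (F : AutFacts innerM22) (hb : FixBound z) {g : G}
    (hs : g * z * g⁻¹ ∈ coreE z) (hne : g * z * g⁻¹ ≠ z) :
    ∃ j, j * z * j⁻¹ ∈ cX z P ∧ j * z * j⁻¹ ≠ z := by
  obtain ⟨p, hp, hp1⟩ := (Ctx.mk S F hb).exists_generator
  have ht : Tri z P g p := ⟨⟨hs, hne⟩, hp, hp1⟩
  obtain ⟨q, k, r, R⟩ := (Ctx.mk S F hb).exists_Rot ht
  obtain ⟨e, hj, he, heB⟩ := (Ctx.mk S F hb).exists_point ht.pt
  exact (Ctx.mk S F hb).conj_mem_of_point ht R he (heB p ht) hj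

end Cfsg.Agent.JankoFour
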