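import Cfsg.Agent.Lib.JankoFour.Three
import Cfsg.Agent.Lib.TI.Extraspecial

/-!
# Janko-four type: a Sylow 3-subgroup of the group, given `N(P) ≤ H`
-/

set_option autoImplicit false

namespace Cfsg.Agent.JankoFour

open Subgroup LargeExtraspecial

variable {G : Type*} [Group G] {z : G} {P : Subgroup G}

theorem sylow_structure [Finite G] (S : Setting z P) (F : AutFacts innerM22)
    (hN : normalizer (P : Set G) ≤ centralizer ({z} : Set G)) (R : Sylow 3 G)
    (hR : (R : Subgroup G) ≤ centralizer ({z} : Set G)) :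
    Cfsg.IsExtraspecial 3 ↥(R : Subgroup G) ∧ Nat.card ↥(R : Subgroup G) = 27 ∧
      Monoid.exponent ↥(R : Subgroup G) = 3 ∧
      normalizer ((R : Subgroup G) : Set G) ≤ centralizer ({z} : Set G) ∧
      Nat.card ↥(normalizer ((R : Subgroup G) : Set G)) = 864 := by
  have : Fact (Nat.Prime 3) := ⟨Nat.prime_three⟩
  obtain ⟨n, hn⟩ := R.isPGroup'.exists_card_eq
  have hcard : Nat.card ↥(R : Subgroup G) = 27 := by
    have h1 : 3 ^ n ∣ Nat.card ↥(centralizer ({z} : Set G)) := hn ▸ card_dvd_of_le hR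
    have hn3 := (Nat.Prime.pow_dvd_iff_le_factorization Nat.prime_three Nat.card_pos.ne').mp h1
    rw [S.three_part_H] at hn3
    obtain ⟨T, hT, hTc⟩ := S.exists_R F
    have h27 : 3 ^ 3 ∣ Nat.card ↥(R : Subgroup G) := by
      refine R.pow_dvd_card_of_pow_dvd_card ?_
      rw [show 3 ^ 3 = Nat.card ↥T by rw [hTc]; norm_num]
      exact card_subgroup_dvd_card T
    rw [hn] at h27 ⊢
    have := (Nat.pow_dvd_pow_iff_le_right (by norm_num)).mp h27
    rw [show n = 3 by omega]
    norm_num
  obtain ⟨c, hc, hcX⟩ := S.exists_conj_le_X F hR hcard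
  set R' := (R : Subgroup G).map (MulAut.conj c).toMonoidHom with hR'
  have hR'c : Nat.card ↥R' = 27 := by
    rw [hR', card_map_of_injective (MulAut.conj c).injective, hcard]
  let e : ↥(R : Subgroup G) ≃* ↥R' := (R : Subgroup G).equivMapOfInjective _ (MulAut.conj c).injective
  obtain ⟨-, hex⟩ := S.R_center F hcX hR'c
  have hexp : ∀ r : ↥(R : Subgroup G), r ^ 3 = 1 := fun r => e.injective (by
    rw [map_pow, map_one]
    exact Subtype.ext (S.R_exponent F hcX hR'c _ (e r).2))
  have hmap : (normalizer ((R : Subgroup G) : Set G)).map (MulAut.conj c).toMonoidHom =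
      normalizer (R' : Set G) := (R : Subgroup G).map_equiv_normalizer_eq (MulAut.conj c)
  have hle' : normalizer (R' : Set G) ≤ centralizer ({z} : Set G) :=
    (S.normalizer_R_le F hcX hR'c).trans hN
  have hcardN : Nat.card ↥(normalizer (R' : Set G)) = 864 := by
    rw [← S.card_normalizer_R F hcX hR'c, inf_eq_left.mpr hle']
  refine ⟨TI.isExtraspecial_congr e.symm hex, hcard, ?_, fun y hy => ?_, ?_⟩
  · rcases (Nat.dvd_prime Nat.prime_three).mp (Monoid.exponent_dvd_of_forall_pow_eq_one hexp) with h | h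
    · have := Monoid.exp_eq_one_iff.mp h
      have h1 := Nat.card_of_subsingleton (1 : ↥(R : Subgroup G))
      rw [hcard] at h1
      norm_num at h1
    · exact h
  · have h1 : c * y * c⁻¹ ∈ centralizer ({z} : Set G) := hle' (hmap ▸ mem_map_of_mem _ hy)
    have h2 := mul_mem (mul_mem (inv_mem hc) h1) hc
    rwa [show c⁻¹ * (c * y * c⁻¹) * c = y by group] at h2
  · rw [← card_map_of_injective (f := (MulAut.conj c).toMonoidHom) (MulAut.conj c).injective, hmap, hcardN]

end Cfsg.Agent.JankoFour
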