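import Cfsg.Agent.Lib.JankoFour.Assemble
import Cfsg.Agent.Lib.JankoFour.Sylow
import Cfsg.Agent.Lib.JankoFour.Pair

/-!
# Janko-four type: the centraliser and the normaliser of `P`, the Sylow 3-subgroup
-/

set_option autoImplicit false

namespace Cfsg.Agent.JankoFour

open Subgroup
open scoped commutatorElement

variable {G : Type*} [Group G] [Finite G] [IsSimpleGroup G] {z : G} {P : Subgroup G}

theorem normalizer_le (F : AutFacts innerM22) (S : Setting z P) :
    z ∈ ⁅cX z P, cX z P⁆ ∧ normalizer (P : Set G) ≤ centralizer ({z} : Set G) := by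
  obtain ⟨g, hs, hne⟩ := exists_conj_mem_core S F
  have hb := fixBound S F
  have hz := z_mem_derived S F hb hs hne
  obtain ⟨j, hj, hjne⟩ := exists_conj_mem_cX S F hb hs hne
  exact ⟨hz, normalizer_le_of_conj S F hz hj hjne⟩

/-- The centraliser of `P` in `H` is a perfect sixfold cover of M₂₂ and `N(P) ≤ H`. -/
theorem cover_structure (F : AutFacts innerM22) (h : Cfsg.IsOfJankoFourTypeWith z P) :
    ⁅cX z P, cX z P⁆ = cX z P ∧ IsCyclic ↥(center ↥(cX z P)) ∧ Nat.card ↥(center ↥(cX z P)) = 6 ∧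
      Cfsg.Spor.IsoM22 (↥(cX z P) ⧸ center ↥(cX z P)) ∧
      normalizer (P : Set G) ≤ centralizer ({z} : Set G) := by
  obtain ⟨S⟩ := exists_setting F h
  obtain ⟨hz, hN⟩ := normalizer_le F S
  obtain ⟨h1, h2, h3⟩ := S.cover F
  exact ⟨S.derived_eq F hz, h1, h2, h3, hN⟩

/-- A Sylow 3-subgroup of `G` inside `H`. -/
theorem sylow_three (F : AutFacts innerM22) (h : Cfsg.IsOfJankoFourTypeAt z) (R : Sylow 3 G)
    (hR : (R : Subgroup G) ≤ centralizer ({z} : Set G)) :
    Cfsg.IsExtraspecial 3 ↥(R : Subgroup G) ∧ Nat.card ↥(R : Subgroup G) = 27 ∧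
      Monoid.exponent ↥(R : Subgroup G) = 3 ∧
      normalizer ((R : Subgroup G) : Set G) ≤ centralizer ({z} : Set G) ∧
      Nat.card ↥(normalizer ((R : Subgroup G) : Set G)) = 864 := by
  obtain ⟨P, hP⟩ := h
  obtain ⟨S⟩ := exists_setting F hP
  exact sylow_structure S F (normalizer_le F S).2 R hR

end Cfsg.Agent.JankoFour
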