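import Cfsg.Agent.Lib.JankoFour.Pair
import Cfsg.Agent.Lib.JankoFour.Main
import Mathlib.GroupTheory.NoncommCoprod

/-!
# Janko-four type: fusion of `z` in `E` and in `X`

* `not_both_conj`: for an involution `x ≠ z` of `X`, `x` and `x z` are not both conjugate to `z`.
* `exists_not_conj_core`: an involution of `E` other than `z` is not conjugate to `z`.
* `isConj_in_centralizer`: two conjugates of `z` in `E` other than `z` are conjugate in `H`.
-/

set_option autoImplicit false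
set_option linter.unusedSectionVars false

namespace Cfsg.Agent.JankoFour

open Subgroup
open scoped commutatorElement
open LargeExtraspecial (Hub Pair mem_conj_iff mem_four)

variable {G : Type*} [Group G] {z : G} {P : Subgroup G}

/-- Conjugacy of the elementary subgroups of order 32. -/
def ThirtyTwoConj (K : Type*) [Group K] : Prop :=
  ∀ U V : Subgroup K, IsThirtyTwo U → IsThirtyTwo V → ∃ k, ∀ a ∈ U, k * a * k⁻¹ ∈ V

/-- An element of order three fixing `N` modulo `z` fixes it. -/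
theorem commute_of_eqz (hz : z * z = 1) (hz1 : z ≠ 1) {a N : G} (ha : a ^ 3 = 1) (hc : Commute a z)
    (h : Eqz z (a * N * a⁻¹) N) : Commute a N := by
  rcases h with e | e
  · exact mul_inv_eq_iff_eq_mul.1 e
  · exfalso
    have hzc : a * z * a⁻¹ = z := by rw [hc.eq, mul_inv_cancel_right]
    have h2 : a * (a * N * a⁻¹) * a⁻¹ = N := by
      rw [e, show a * (z * N) * a⁻¹ = (a * z * a⁻¹) * (a * N * a⁻¹) by group, e, hzc, ← mul_assoc, hz,
        one_mul]
    have e2 : a * (a * (a * N * a⁻¹) * a⁻¹) * a⁻¹ = z * N := by rw [h2, e]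
    rw [show a * (a * (a * N * a⁻¹) * a⁻¹) * a⁻¹ = a ^ 3 * N * (a ^ 3)⁻¹ by rw [pow_three]; group, ha,
      one_mul, inv_one, mul_one] at e2
    exact hz1 (mul_eq_right.1 e2.symm)

/-- The product over the orbit of `a`. -/
def orbProd (a e : G) : G := e * (a * e * a⁻¹) * (a * a * e * (a * a)⁻¹)

namespace Ctx

variable [Finite G] (Γ : Ctx z P)

include Γ

theorem orbProd_mem {a e : G} (hc : Commute a z) (he : e ∈ coreE z) : orbProd a e ∈ coreE z :=
  mul_mem (mul_mem he (Γ.conj_core (mem_H.2 hc) he)) (Γ.conj_core (mem_H.2 (hc.mul_left hc)) he)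

theorem orbProd_commute {a e : G} (ha : a ^ 3 = 1) (hc : Commute a z) (he : e ∈ coreE z) :
    Commute a (orbProd a e) := by
  refine commute_of_eqz Γ.S.hub.sq Γ.S.hub.ne_one ha hc ?_
  have h3 : a * (a * a) = 1 := by rw [← pow_three]; exact ha
  have e1 : a * orbProd a e * a⁻¹ = e⁻¹ * orbProd a e * e⁻¹⁻¹ := by
    simp only [orbProd]
    rw [show a * (e * (a * e * a⁻¹) * (a * a * e * (a * a)⁻¹)) * a⁻¹ =
      (a * e * a⁻¹) * (a * a * e * (a * a)⁻¹) * ((a * (a * a)) * e * (a * (a * a))⁻¹) by group, h3]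
    group
  rw [e1]
  exact Γ.eqz_core (inv_mem he) (Γ.orbProd_mem hc he)

/-- An element of order 3 of `X` outside `P` fixes at least 32 elements of `E`. -/
theorem fix_three {t r p : G} (hp : p ∈ P) (hp1 : p ≠ 1) (ht : t ∈ cX z P) (ht3 : t ^ 3 = 1)
    (hr : r ∈ cX z P) (hrt : r * t * r⁻¹ = p * t) :
    32 ≤ Nat.card ↥(coreE z ⊓ centralizer ({t} : Set G)) := by
  classical
  have : Fact (Nat.Prime 2) := ⟨Nat.prime_two⟩
  have hz := Γ.S.hub.sq
  have hnZ : (cZ z).Normal := Γ.S.cZ_normal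
  have hpr : Commute p r := mem_centralizer_iff.1 hr.2 p hp
  have hpt : Commute p t := mem_centralizer_iff.1 ht.2 p hp
  have htz : Commute t z := mem_H.1 ht.1
  have hpz : Commute p z := Γ.P_comm hp
  have hrz : Commute r z := mem_H.1 hr.1
  have hp3 : p ^ 3 = 1 := by rw [pow_three]; exact Γ.p_cube hp
  have ha3 : (p * t) ^ 3 = 1 := by rw [hpt.mul_pow, hp3, ht3, one_mul]
  have hb3 : (p * p * t) ^ 3 = 1 := by
    rw [(hpt.mul_left hpt).mul_pow, (Commute.refl p).mul_pow, hp3, ht3, one_mul, one_mul]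
  have hrb : r * (p * t) * r⁻¹ = p * p * t := by
    rw [show r * (p * t) * r⁻¹ = (r * p * r⁻¹) * (r * t * r⁻¹) by group, hrt, ← hpr.eq, mul_inv_cancel_right,
      mul_assoc]
  set C : G → Subgroup G := fun a => coreE z ⊓ centralizer ({a} : Set G) with hC
  have hcard : ∀ a, Nat.card ↥(C (r * a * r⁻¹)) = Nat.card ↥(C a) := by
    intro a
    have e : C (r * a * r⁻¹) = (C a).map (MulAut.conj r).toMonoidHom := by
      ext w
      rw [mem_conj_iff]
      simp only [hC, Subgroup.mem_inf, mem_centralizer_singleton_iff]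
      constructor
      · rintro ⟨h1, h2⟩
        refine ⟨by simpa using Γ.conj_core (inv_mem hr.1) h1, ?_⟩
        calc r⁻¹ * w * r * a = r⁻¹ * (w * (r * a * r⁻¹)) * r := by group
          _ = r⁻¹ * (r * a * r⁻¹ * w) * r := by rw [h2]
          _ = a * (r⁻¹ * w * r) := by group
      · rintro ⟨h1, h2⟩
        refine ⟨?_, ?_⟩
        · have := Γ.conj_core hr.1 h1
          rwa [show r * (r⁻¹ * w * r) * r⁻¹ = w by group] at this
        · calc w * (r * a * r⁻¹) = r * (r⁻¹ * w * r * a) * r⁻¹ := by group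
            _ = r * (a * (r⁻¹ * w * r)) * r⁻¹ := by rw [h2]
            _ = r * a * r⁻¹ * w := by group
    rw [e, card_map_of_injective (MulAut.conj r).injective]
  have c1 : Nat.card ↥(C (p * t)) = Nat.card ↥(C t) := hrt ▸ hcard t
  have c2 : Nat.card ↥(C (p * p * t)) = Nat.card ↥(C t) := by rw [← hrb, hcard, c1]
  -- `E` is the product of the three centralisers
  let κ : ↥(coreE z) → ↥(coreE z) ⧸ cZ z := QuotientGroup.mk
  letI : CommGroup (↥(coreE z) ⧸ cZ z) :=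
    { (inferInstance : Group (↥(coreE z) ⧸ cZ z)) with mul_comm := Γ.S.quot_comm }
  have hsurj : Function.Surjective (fun u : ↥(C t) × ↥(C (p * t)) × ↥(C (p * p * t)) =>
      (⟨u.1.1 * u.2.1.1 * u.2.2.1, mul_mem (mul_mem u.1.2.1 u.2.1.2.1) u.2.2.2.1⟩ : ↥(coreE z))) := by
    rintro ⟨e, he⟩
    have m1 := Γ.orbProd_mem htz he
    have m2 := Γ.orbProd_mem (hpz.mul_left htz) he
    have m3 := Γ.orbProd_mem ((hpz.mul_left hpz).mul_left htz) he
    have k1 := Γ.orbProd_commute ht3 htz he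
    have k2 := Γ.orbProd_commute ha3 (hpz.mul_left htz) he
    have k3 := Γ.orbProd_commute hb3 ((hpz.mul_left hpz).mul_left htz) he
    let U : ↥(coreE z) := ⟨orbProd t e, m1⟩ * ⟨orbProd (p * t) e, m2⟩ * ⟨orbProd (p * p * t) e, m3⟩
    have key : κ U = κ ⟨e, he⟩ := by
      -- the orbit of `t e t⁻¹` under `P` has trivial product
      have orb : ∀ (w : G) (hw : w ∈ coreE z), κ ⟨w, hw⟩ * κ ⟨p * w * p⁻¹, Γ.conj_core (Γ.S.P_le hp) hw⟩ *
          κ ⟨p * p * w * (p * p)⁻¹, Γ.conj_core (Γ.S.P_le (mul_mem hp hp)) hw⟩ = 1 := by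
        intro w hw
        show κ ⟨orbProd p w, Γ.orbProd_mem hpz hw⟩ = 1
        rw [QuotientGroup.eq_one_iff]
        show orbProd p w ∈ zpowers z
        rcases Γ.eq_one_or_z_of_fixed hp hp1 (Γ.orbProd_mem hpz hw)
          (Or.inl (mul_inv_eq_iff_eq_mul.2 (Γ.orbProd_commute hp3 hpz hw).eq)) with h | h <;> rw [h]
        exacts [one_mem _, mem_zpowers z]
      have tH := ht.1
      have e1 : t * e * t⁻¹ ∈ coreE z := Γ.conj_core tH he
      have e2 : t * t * e * (t * t)⁻¹ ∈ coreE z := Γ.conj_core (mul_mem tH tH) he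
      have h2 : κ ⟨orbProd (p * t) e, m2⟩ = κ ⟨e, he⟩ * κ ⟨_, Γ.conj_core (Γ.S.P_le hp) e1⟩ *
          κ ⟨_, Γ.conj_core (Γ.S.P_le (mul_mem hp hp)) e2⟩ := by
        show κ _ = κ (⟨e, he⟩ * ⟨_, _⟩ * ⟨_, _⟩)
        congr 1
        refine Subtype.ext ?_
        show orbProd (p * t) e = e * (p * (t * e * t⁻¹) * p⁻¹) * (p * p * (t * t * e * (t * t)⁻¹) * (p * p)⁻¹)
        rw [orbProd, show p * t * (p * t) = p * p * (t * t) from hpt.symm.mul_mul_mul_comm p t]
        group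
      have h3 : κ ⟨orbProd (p * p * t) e, m3⟩ = κ ⟨e, he⟩ *
          κ ⟨_, Γ.conj_core (Γ.S.P_le (mul_mem hp hp)) e1⟩ *
          κ ⟨_, Γ.conj_core (Γ.S.P_le hp) e2⟩ := by
        show κ _ = κ (⟨e, he⟩ * ⟨_, _⟩ * ⟨_, _⟩)
        congr 1
        refine Subtype.ext ?_
        show orbProd (p * p * t) e =
          e * (p * p * (t * e * t⁻¹) * (p * p)⁻¹) * (p * (t * t * e * (t * t)⁻¹) * p⁻¹)
        rw [orbProd, show p * p * t * (p * p * t) = p * (t * t) by
          rw [(hpt.mul_left hpt).symm.mul_mul_mul_comm (p * p) t,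
            show p * p * (p * p) = (p * (p * p)) * p by group, Γ.p_cube hp, one_mul]]
        group
      calc κ U = κ ⟨orbProd t e, m1⟩ * κ ⟨orbProd (p * t) e, m2⟩ * κ ⟨orbProd (p * p * t) e, m3⟩ := rfl
        _ = (κ ⟨e, he⟩ * κ ⟨_, e1⟩ * κ ⟨_, e2⟩) * κ ⟨orbProd (p * t) e, m2⟩ *
            κ ⟨orbProd (p * p * t) e, m3⟩ := rfl
        _ = κ ⟨e, he⟩ * (κ ⟨e, he⟩ * κ ⟨e, he⟩) *
            ((κ ⟨_, e1⟩ * κ ⟨_, Γ.conj_core (Γ.S.P_le hp) e1⟩ *
              κ ⟨_, Γ.conj_core (Γ.S.P_le (mul_mem hp hp)) e1⟩) *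
            (κ ⟨_, e2⟩ * κ ⟨_, Γ.conj_core (Γ.S.P_le hp) e2⟩ *
              κ ⟨_, Γ.conj_core (Γ.S.P_le (mul_mem hp hp)) e2⟩)) := by rw [h2, h3]; ac_rfl
        _ = κ ⟨e, he⟩ := by rw [orb _ e1, orb _ e2, Γ.S.quot_sq, mul_one, mul_one, mul_one]
    have hd := QuotientGroup.eq.1 key
    change (U : G)⁻¹ * e ∈ zpowers z at hd
    have hUe : e = (U : G) * ((U : G)⁻¹ * e) := by group
    have mC : ∀ {a u : G}, u ∈ coreE z → Commute a u → u ∈ C a := fun hu hc =>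
      Subgroup.mem_inf.2 ⟨hu, mem_centralizer_singleton_iff.2 hc.eq.symm⟩
    have hU : (U : G) = orbProd t e * orbProd (p * t) e * orbProd (p * p * t) e := rfl
    rcases Γ.S.z_cases hd with h | h <;> rw [h] at hUe
    · refine ⟨(⟨_, mC m1 k1⟩, ⟨_, mC m2 k2⟩, ⟨_, mC m3 k3⟩), Subtype.ext ?_⟩
      rw [mul_one, hU] at hUe
      exact hUe.symm
    · refine ⟨(⟨z * orbProd t e, mC (mul_mem Γ.S.hub.mem m1) (htz.mul_right k1)⟩, ⟨_, mC m2 k2⟩,
        ⟨_, mC m3 k3⟩), Subtype.ext ?_⟩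
      show z * orbProd t e * orbProd (p * t) e * orbProd (p * p * t) e = e
      conv_rhs => rw [hUe, (Γ.S.hub.central _ U.2).eq, hU]
      simp only [mul_assoc]
  have hle := Nat.card_le_card_of_surjective _ hsurj
  rw [Γ.S.card_E, Nat.card_prod, Nat.card_prod, c1, c2] at hle
  obtain ⟨k, hk⟩ := IsPGroup.iff_card.1 (Γ.core_two.to_le (inf_le_left : C t ≤ coreE z))
  show 32 ≤ Nat.card ↥(C t)
  rw [hk] at hle ⊢
  by_contra hlt
  have : 2 ^ k ≤ 16 := by
    have hk4 : k ≤ 4 := by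
      by_contra h5
      exact hlt ((show 32 = 2 ^ 5 by norm_num) ▸ Nat.pow_le_pow_right (by norm_num) (by omega))
    exact (Nat.pow_le_pow_right (by norm_num) hk4).trans (by norm_num)
  have h := Nat.mul_le_mul this (Nat.mul_le_mul this this)
  norm_num at hle h
  omega

/-- A conjugate of `z` in `X` other than `z` has a large 2-group in `X` attached to it. -/
theorem exists_attached (hN : normalizer (P : Set G) ≤ centralizer ({z} : Set G)) {g x : G}
    (hx : g * z * g⁻¹ = x) (hxX : x ∈ cX z P) (hxz : x ≠ z) :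
    ∃ F : Subgroup G, ∃ g' : G, g' * z * g'⁻¹ = x ∧ F ≤ conjE z g' ∧ F ≤ cX z P ⊓ centralizer ({x} : Set G) ∧
      IsPGroup 2 ↥F ∧ 32 ≤ Nat.card ↥F ∧
      (∀ u ∈ F, u ≠ 1 → u ≠ x → ∃ v ∈ F, v * u * v⁻¹ = u * x) ∧
      (∀ c ∈ cX z P, Commute c x → ∀ u ∈ F, c * u * c⁻¹ ∈ F) := by
  have : Fact (Nat.Prime 3) := ⟨Nat.prime_three⟩
  obtain ⟨p, hp, hp1⟩ := Γ.exists_generator
  have hp3 : p ^ 3 = 1 := by rw [pow_three]; exact Γ.p_cube hp
  set H := centralizer ({z} : Set G) with hH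
  set t0 := g⁻¹ * p * g with ht0
  have ht0H : t0 ∈ H := by
    refine mem_H.2 ?_
    have hpx : Commute p (g * z * g⁻¹) := hx ▸ mem_centralizer_iff.1 hxX.2 p hp
    have := hpx.map (MulAut.conj g⁻¹).toMonoidHom
    simpa [ht0, mul_assoc] using this
  have ht03 : t0 ^ 3 = 1 := by
    rw [show t0 = g⁻¹ * p * g⁻¹⁻¹ by rw [inv_inv], conj_pow, hp3]; group
  -- a subgroup of order 27 containing `t0`
  obtain ⟨T, hTH, hTc, ht0T⟩ : ∃ T : Subgroup G, T ≤ H ∧ Nat.card ↥T = 27 ∧ t0 ∈ T := by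
    have hpg : IsPGroup 3 ↥(zpowers (⟨t0, ht0H⟩ : ↥H)) := by
      rintro ⟨a, ha⟩
      obtain ⟨n, rfl⟩ := mem_zpowers_iff.1 ha
      refine ⟨1, Subtype.ext ?_⟩
      show ((⟨t0, ht0H⟩ : ↥H) ^ n) ^ 3 ^ 1 = 1
      rw [pow_one, ← zpow_natCast, zpow_comm, zpow_natCast,
        show (⟨t0, ht0H⟩ : ↥H) ^ 3 = 1 from Subtype.ext ht03, one_zpow]
    obtain ⟨T, hT⟩ := hpg.exists_le_sylow
    refine ⟨(T : Subgroup ↥H).map H.subtype, map_subtype_le _, ?_, ⟨_, hT (mem_zpowers _), rfl⟩⟩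
    rw [card_map_of_injective H.subtype_injective, T.card_eq_multiplicity, Γ.S.three_part_H]
    norm_num
  obtain ⟨c, hc, hcX⟩ := Γ.S.exists_conj_le_X Γ.F hTH hTc
  set R := T.map (MulAut.conj c).toMonoidHom with hR
  have hRc : Nat.card ↥R = 27 := by rw [card_map_of_injective (MulAut.conj c).injective, hTc]
  set g1 := g * c⁻¹ with hg1
  set t := c * t0 * c⁻¹ with ht
  have htR : t ∈ R := ⟨t0, ht0T, rfl⟩
  have hgt : g1 * t * g1⁻¹ = p := by rw [hg1, ht, ht0]; group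
  have hx1 : g1 * z * g1⁻¹ = x := by
    have hcz : c⁻¹ * z * c = z := by rw [(mem_H.1 (inv_mem hc)).eq, inv_mul_cancel_right]
    rw [hg1, ← hx, show g * c⁻¹ * z * (g * c⁻¹)⁻¹ = g * (c⁻¹ * z * c) * g⁻¹ by group, hcz]
  have htP : t ∉ P := by
    intro htP
    have ht1 : t ≠ 1 := fun h => hp1 (by rw [← hgt, h]; group)
    have hgN : g1 ∈ normalizer (P : Set G) := by
      refine LocalStructure.mem_normalizer_of_map_conj_le ?_
      rw [← Γ.zpowers_eq htP ht1, MonoidHom.map_zpowers, zpowers_le]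
      show g1 * t * g1⁻¹ ∈ zpowers t
      rw [hgt, Γ.zpowers_eq htP ht1]; exact hp
    exact hxz (by rw [← hx1, (mem_H.1 (hN hgN)).eq, mul_inv_cancel_right])
  have ht3 : t ^ 3 = 1 := Γ.S.R_exponent Γ.F hcX hRc t htR
  obtain ⟨hcen, hex⟩ := Γ.S.R_center Γ.F hcX hRc
  obtain ⟨r, hrR, hrt⟩ : ∃ r ∈ R, ¬ Commute r t := by
    by_contra hall
    push Not at hall
    have : (⟨t, htR⟩ : ↥R) ∈ center ↥R := mem_center_iff.2 fun r => Subtype.ext (hall r r.2).eq
    rw [hcen] at this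
    exact htP this
  have hpm : r * t * r⁻¹ * t⁻¹ ∈ P := by
    have := PGroup.special_commutator_mem_center hex.1 ⟨r, hrR⟩ ⟨t, htR⟩
    rw [hcen] at this
    exact this
  have hpm1 : r * t * r⁻¹ * t⁻¹ ≠ 1 := fun h => hrt (mul_inv_eq_iff_eq_mul.1 (mul_inv_eq_one.1 h))
  have h32 := Γ.fix_three hpm hpm1 (hcX htR) ht3 (hcX hrR) (by group)
  have hPz : zpowers p = P := Γ.zpowers_eq hp hp1
  set F := conjE z g1 ⊓ centralizer (P : Set G) with hF
  have hFmap : (coreE z ⊓ centralizer ({t} : Set G)).map (MulAut.conj g1).toMonoidHom = F := by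
    ext w
    rw [mem_conj_iff, hF]
    simp only [Subgroup.mem_inf, mem_centralizer_singleton_iff, mem_conj_iff]
    refine and_congr_right fun _ => ⟨fun h => mem_centralizer_iff.2 fun q hq => ?_, fun h => ?_⟩
    · rw [← hPz] at hq
      refine (commute_of_mem_zpowers hq ?_).eq
      show Commute p w
      have h' := (show Commute t (g1⁻¹ * w * g1) from h.symm).map (MulAut.conj g1).toMonoidHom
      simp only [MulEquiv.coe_toMonoidHom, MulAut.conj_apply] at h'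
      rwa [hgt, show g1 * (g1⁻¹ * w * g1) * g1⁻¹ = w by group] at h'
    · have hpw : Commute p w := mem_centralizer_iff.1 h p hp
      have := hpw.map (MulAut.conj g1⁻¹).toMonoidHom
      rw [show t = g1⁻¹ * p * g1 by rw [← hgt]; group]
      simpa [mul_assoc] using this.eq.symm
  have hFX : F ≤ cX z P ⊓ centralizer ({x} : Set G) := by
    intro u hu
    refine Subgroup.mem_inf.2 ⟨Subgroup.mem_inf.2 ⟨hN (centralizer_le_normalizer _ hu.2), hu.2⟩, ?_⟩
    have := (Γ.hub_pt g1).central u hu.1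
    rw [hx1] at this
    exact mem_centralizer_singleton_iff.2 this.eq
  have hF2 : IsPGroup 2 ↥(conjE z g1) := Γ.core_two.map _
  refine ⟨F, g1, hx1, inf_le_left, hFX, hF2.to_le inf_le_left, ?_, ?_, ?_⟩
  · rw [← hFmap, card_map_of_injective (MulAut.conj g1).injective]; exact h32
  · intro u hu h1 h2
    have hPx : P ≤ centralizer ({g1 * z * g1⁻¹} : Set G) := fun q hq => by
      rw [hx1]
      exact mem_centralizer_singleton_iff.2 (mem_centralizer_iff.1 hxX.2 q hq)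
    obtain ⟨v, hv, hvP, hvu⟩ := (Γ.hub_pt g1).exists_mem_centralizer_not_commute hF2 hPx
      (by rw [Γ.S.card_P]; decide) hu.1 (fun a ha => mem_centralizer_iff.1 hu.2 a ha) h1 (hx1.symm ▸ h2)
    refine ⟨v, Subgroup.mem_inf.2 ⟨hv, mem_centralizer_iff.2 fun a ha => (hvP a ha).eq⟩, ?_⟩
    rw [← hx1]
    exact ((Γ.hub_pt g1).comm v hv u hu.1).resolve_left fun e => hvu (mul_inv_eq_iff_eq_mul.1 e).symm
  · intro c hc hcx u hu
    exact Subgroup.mem_inf.2 ⟨(Γ.hub_pt g1).normalizes c (hx1.symm ▸ hcx) u hu.1,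
      mul_mem (mul_mem hc.2 hu.2) (inv_mem hc.2)⟩

/-- For an involution `x ≠ z` of `X`, not both `x` and `x z` are conjugate to `z`. -/
theorem not_both_conj (hN : normalizer (P : Set G) ≤ centralizer ({z} : Set G)) {x : G} (hxX : x ∈ cX z P)
    (hxz : x ≠ z) (h1 : IsConj z x) (h2 : IsConj z (x * z)) : False := by
  have hz := Γ.S.hub.sq
  have hx1 : x ≠ 1 := fun e => by
    obtain ⟨g, hg⟩ := isConj_iff.1 h1
    rw [e] at hg
    exact Γ.S.hub.ne_one (conj_eq_one_iff.1 hg)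
  have hcxz : Commute x z := mem_H.1 hxX.1
  obtain ⟨g, hg⟩ := isConj_iff.1 h1
  obtain ⟨g', hg'⟩ := isConj_iff.1 h2
  have hx'X : x * z ∈ cX z P := mul_mem hxX Γ.S.z_mem_X
  have hx'z : x * z ≠ z := fun e => hx1 (mul_eq_right.1 e)
  obtain ⟨F, g1, hg1, hFE, hFX, hF2, hF32, hFc, hFn⟩ := Γ.exists_attached hN hg hxX hxz
  obtain ⟨F', g2, hg2, hF'E, hF'X, hF'2, hF'32, -, hF'n⟩ := Γ.exists_attached hN hg' hx'X hx'z
  have hFcx : ∀ u ∈ F, u ∈ cX z P ∧ Commute u (x * z) := fun u hu =>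
    ⟨(hFX hu).1, (show Commute u x from mem_centralizer_singleton_iff.1 (hFX hu).2).mul_right
      (mem_H.1 (hFX hu).1.1)⟩
  have hF'cx : ∀ u ∈ F', u ∈ cX z P ∧ Commute u x := fun u hu => ⟨(hF'X hu).1, by
    have := (show Commute u (x * z) from mem_centralizer_singleton_iff.1 (hF'X hu).2).mul_right
      (mem_H.1 (hF'X hu).1.1)
    rwa [mul_assoc, hz, mul_one] at this⟩
  -- `x` is not in `F'`
  have hxF' : x ∉ F' := by
    intro hxF'
    have hxg : x ∈ conjE z g2 := hF'E hxF'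
    have hzg : z ∈ conjE z g2 := by
      have hm : x * z ∈ conjE z g2 := hg2 ▸ (Γ.hub_pt g2).mem
      exact ((conjE z g2).mul_mem_cancel_left hxg).1 hm
    have hpt : Pt z g2⁻¹ := by
      refine ⟨by rw [inv_inv]; exact mem_conj_iff.1 hzg, fun e => hx'z ?_⟩
      rw [inv_inv] at e
      calc x * z = g2 * z * g2⁻¹ := hg2.symm
        _ = g2 * (g2⁻¹ * z * g2) * g2⁻¹ := by rw [e]
        _ = z := by group
    have hxzE : x * z ∈ coreE z := by
      have := mem_conj_iff.1 (Γ.z_mem hpt)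
      rwa [inv_inv, hg2] at this
    have hxE : x ∈ coreE z ⊓ centralizer (P : Set G) :=
      Subgroup.mem_inf.2 ⟨((coreE z).mul_mem_cancel_right Γ.S.hub.mem).1 hxzE, hxX.2⟩
    rw [Γ.S.fix] at hxE
    exact (Γ.S.z_cases hxE).elim hx1 hxz
  have hint : ∀ u ∈ F, u ∈ F' → u = 1 := by
    intro u hu hu'
    by_contra hu1
    by_cases hux : u = x
    · exact hxF' (hux ▸ hu')
    obtain ⟨v, hv, hvu⟩ := hFc u hu hu1 hux
    refine hxF' ?_
    have := hF'n v (hFcx v hv).1 (hFcx v hv).2 u hu'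
    rw [hvu] at this
    exact (F'.mul_mem_cancel_left hu').1 this
  have hcomm : ∀ u ∈ F, ∀ v ∈ F', Commute u v := by
    intro u hu v hv
    have ha := hFn v (hF'cx v hv).1 (hF'cx v hv).2 u⁻¹ (inv_mem hu)
    have hb := hF'n u (hFcx u hu).1 (hFcx u hu).2 v hv
    have h := hint (u * v * u⁻¹ * v⁻¹) (by
      rw [show u * v * u⁻¹ * v⁻¹ = u * (v * u⁻¹ * v⁻¹) by group]; exact mul_mem hu ha)
      (mul_mem hb (inv_mem hv))
    exact mul_inv_eq_iff_eq_mul.1 (mul_inv_eq_one.1 h)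
  let ψ : ↥F × ↥F' →* G := MonoidHom.noncommCoprod F.subtype F'.subtype fun u v => hcomm u u.2 v v.2
  have hψ : Function.Injective ψ := by
    refine (injective_iff_map_eq_one ψ).2 fun ⟨u, v⟩ huv => ?_
    have hu : (u : G) = (v : G)⁻¹ := eq_inv_of_mul_eq_one_left huv
    have hu1 : (u : G) = 1 := hint u u.2 (hu ▸ inv_mem v.2)
    have hv1 : (v : G) = 1 := by
      have := huv
      change (u : G) * v = 1 at this
      rwa [hu1, one_mul] at this
    exact Prod.ext (Subtype.ext hu1) (Subtype.ext hv1)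
  have hle : ψ.range ≤ cX z P := by
    rintro _ ⟨⟨u, v⟩, rfl⟩
    exact mul_mem (hFX u.2).1 (hF'X v.2).1
  have hdvd := card_dvd_of_le hle
  rw [← Nat.card_congr (MonoidHom.ofInjective hψ).toEquiv, Nat.card_prod, Γ.S.card_X Γ.F] at hdvd
  have : Fact (Nat.Prime 2) := ⟨Nat.prime_two⟩
  obtain ⟨i, hi⟩ := IsPGroup.iff_card.1 hF2
  obtain ⟨j, hj⟩ := IsPGroup.iff_card.1 hF'2
  rw [hi, hj, ← pow_add] at hdvd
  have key : ∀ n, 32 ≤ 2 ^ n → 5 ≤ n := by
    intro n hn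
    by_contra h
    have := Nat.pow_le_pow_right (n := 2) (by norm_num) (show n ≤ 4 by omega)
    omega
  rw [hi] at hF32
  rw [hj] at hF'32
  have h10 := (pow_dvd_pow 2 (show 10 ≤ i + j by have := key i hF32; have := key j hF'32; omega)).trans hdvd
  norm_num at h10

theorem normalizer_le_of_pt {g : G} (hg : Pt z g) :
    normalizer (P : Set G) ≤ centralizer ({z} : Set G) := by
  obtain ⟨j, hj, hne⟩ := exists_conj_mem_cX Γ.S Γ.F Γ.hb hg.mem hg.ne
  exact normalizer_le_of_conj Γ.S Γ.F (z_mem_derived Γ.S Γ.F Γ.hb hg.mem hg.ne) hj hne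

/-- An involution of `E`, other than `z`, which is not conjugate to `z`. -/
theorem exists_not_conj {g : G} (hg : Pt z g) :
    ∃ t ∈ coreE z, t * t = 1 ∧ t ≠ 1 ∧ t ≠ z ∧ ¬ IsConj z t := by
  obtain ⟨p, hp, hp1⟩ := Γ.exists_generator
  have ht : Tri z P g p := ⟨hg, hp, hp1⟩
  obtain ⟨q, k, r, R⟩ := Γ.exists_Rot ht
  obtain ⟨e, hj, he, heB⟩ := Γ.exists_point hg
  obtain ⟨i, hiX, hiz, hiW, hiB⟩ := Γ.conj_pair_of_point ht R he (heB p ht) hj
  set x := i * z * i⁻¹ with hx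
  refine ⟨k * (x * z) * k⁻¹, hiW.1, (Γ.pair hg).E_sq hiW, fun h => hiB (by rw [h]; exact one_mem _),
    fun h => hiB (by rw [h]; exact z_mem_trB), fun h => ?_⟩
  exact Γ.not_both_conj (Γ.normalizer_le_of_pt hg) hiX hiz (isConj_iff.2 ⟨i, rfl⟩)
    (h.trans (isConj_iff.2 ⟨k⁻¹, by group⟩))

/-- Points with the same image differ, modulo `z`, by an element of `P`. -/
theorem point_of_imgA {g g' : G} (hg : Pt z g) (hg' : Pt z g') (hle : Γ.imgA g ≤ Γ.imgA g') :
    ∃ r ∈ P, Eqz z (g' * z * g'⁻¹) (r * (g * z * g⁻¹) * r⁻¹) := by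
  have hz := Γ.S.hub.sq
  set e := g' * z * g'⁻¹ with he
  have he1 : e ≠ 1 := (Γ.hub_pt (g')).ne_one
  set D := conjE z g ⊓ centralizer ({z} : Set G) with hD
  -- how `D` acts on `e`
  have hact : ∀ m ∈ D, ∃ r ∈ P, Eqz z (m * e * m⁻¹) (r * e * r⁻¹) ∧ (Γ.ph m ∈ innerM22 → r = 1) := by
    intro m hm
    obtain ⟨⟨d, hd⟩, hdm⟩ := hle (Γ.ph_mem_imgA hg hm)
    rw [Γ.homD_apply] at hdm
    obtain ⟨f, hf, r, hr, hfr⟩ := Γ.exists_ep (mul_mem hm.2 (inv_mem hd.2))
      (by rw [Γ.ph_mul hm.2 (inv_mem hd.2), Γ.ph_inv hd.2, hdm, mul_inv_cancel])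
    have hme : m = f * r * d := by rw [← hfr]; group
    have hde : d * e * d⁻¹ = e := by
      rw [he, ((Γ.hub_pt (g')).central d hd.1).eq, mul_inv_cancel_right]
    refine ⟨r, hr, ?_, fun hi => ?_⟩
    · rw [hme, show f * r * d * e * (f * r * d)⁻¹ = f * (r * (d * e * d⁻¹) * r⁻¹) * f⁻¹ by group, hde]
      exact Γ.eqz_core hf (Γ.conj_core (Γ.S.P_le hr) hg'.mem)
    · have hdi : Γ.ph d ∈ innerM22 := hdm.symm ▸ hi
      rw [Γ.ph_eq hd.2] at hdi
      obtain ⟨a, ha, xx, hxx, hdx⟩ := (Γ.S.pi_mem_inner _).1 hdi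
      have hxr : Commute r xx := mem_centralizer_iff.1 hxx.2 r hr
      have hdx' : d = a * xx := hdx
      have hN := Γ.S.le_normalizer_E
      -- `m = f a' r xx`, so `r r` is trivial modulo `E`
      set a' := r * a * r⁻¹ with ha'
      have ha'E : a' ∈ coreE z := Γ.conj_core (Γ.S.P_le hr) ha
      have hm' : m = f * a' * (r * xx) := by rw [hme, hdx', ha']; group
      have hrxH : r * xx ∈ centralizer ({z} : Set G) := mul_mem (Γ.S.P_le hr) hxx.1
      have h1 : (r * xx) * (r * xx) ∈ coreE z := by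
        have hmm := Γ.sq_mem_core hg hm.1
        rw [hm', show f * a' * (r * xx) * (f * a' * (r * xx)) =
          f * a' * ((r * xx) * (f * a') * (r * xx)⁻¹) * ((r * xx) * (r * xx)) by group] at hmm
        exact ((coreE z).mul_mem_cancel_left
          (mul_mem (mul_mem hf ha'E) (Γ.conj_core hrxH (mul_mem hf ha'E)))).1 hmm
      have h2 : xx * xx ∈ coreE z := by
        have hdd := Γ.sq_mem_core hg' hd.1
        rw [hdx', show a * xx * (a * xx) = a * (xx * a * xx⁻¹) * (xx * xx) by group] at hdd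
        exact ((coreE z).mul_mem_cancel_left (mul_mem ha (Γ.conj_core hxx.1 ha))).1 hdd
      have h3 : r * r ∈ coreE z := by
        rw [hxr.symm.mul_mul_mul_comm r xx] at h1
        exact ((coreE z).mul_mem_cancel_right h2).1 h1
      have hrr : r * r = 1 := Γ.eq_one_of_mem_core (mul_mem hr hr) h3
      have := Γ.p_cube hr
      rwa [hrr, mul_one] at this
  obtain ⟨m0, hm0, hm0o⟩ := Γ.exists_outer hg
  obtain ⟨r0, hr0, hr0e, -⟩ := hact m0 hm0
  set e' := r0⁻¹ * e * r0 with he'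
  have he'E : e' ∈ coreE z := by
    have := Γ.conj_core (Γ.S.P_le (inv_mem hr0)) hg'.mem
    rwa [inv_inv, ← he, ← he'] at this
  have hrr : r0⁻¹ = r0 * r0 := inv_eq_of_mul_eq_one_right (Γ.p_cube hr0)
  have hfix0 : Eqz z (m0 * e' * m0⁻¹) e' := by
    have h1 := Γ.outer_conj hm0.2 hm0o (inv_mem hr0) hg'.mem
    rw [inv_inv] at h1
    have h2 := h1.trans hz (hr0e.conj (Γ.P_comm hr0))
    rw [show r0 * (r0 * e * r0⁻¹) * r0⁻¹ = (r0 * r0) * e * (r0 * r0)⁻¹ by group, ← hrr, inv_inv] at h2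
    exact h2
  have hfix : ∀ m ∈ D, Eqz z (m * e' * m⁻¹) e' := by
    have hI : ∀ m ∈ D, Γ.ph m ∈ innerM22 → Eqz z (m * e' * m⁻¹) e' := by
      intro m hm hmi
      obtain ⟨r, hr, hre, hr1⟩ := hact m hm
      have hr' := hr1 hmi
      rw [hr', one_mul, inv_one, mul_one] at hre
      have h1 := Γ.inner_conj hm.2 hmi (inv_mem hr0) hg'.mem
      rw [inv_inv] at h1
      have h2 := h1.trans hz (hre.conj (Γ.P_comm (inv_mem hr0)) |> fun h => by rwa [inv_inv] at h)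
      exact h2
    intro m hm
    by_cases hmi : Γ.ph m ∈ innerM22
    · exact hI m hm hmi
    have hmm : m * m0⁻¹ ∈ D := mul_mem hm (inv_mem hm0)
    have h1 := hI _ hmm (by
      rw [Γ.ph_mul hm.2 (inv_mem hm0.2), Γ.ph_inv hm0.2]
      exact (mul_mem_iff_of_index_two Γ.F.index_two).2
        (iff_of_false hmi fun h' => hm0o ((inv_mem_iff).1 h')))
    have h2 := hfix0.conj (mem_H.1 hmm.2)
    rw [show m * m0⁻¹ * (m0 * e' * m0⁻¹) * (m * m0⁻¹)⁻¹ = m * e' * m⁻¹ by group] at h2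
    exact h2.trans hz h1
  refine ⟨r0, hr0, ?_⟩
  have he1' : e' ≠ 1 := fun h => he1 (by
    rw [show e = r0 * e' * r0⁻¹ by rw [he']; group, h]; group)
  have hez : e' ≠ z := fun h => hg'.ne (by
    rw [← he, show e = r0 * e' * r0⁻¹ by rw [he']; group, h, (Γ.P_comm hr0).eq, mul_inv_cancel_right])
  have key : Eqz z e' (g * z * g⁻¹) := by
    rcases Γ.fixed_four hg he'E hfix with h | h | h | h
    exacts [absurd h he1', absurd h hez, Or.inl h, Or.inr h]
  have h2 := key.conj (Γ.P_comm hr0)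
  rwa [show r0 * e' * r0⁻¹ = e by rw [he']; group] at h2

/-- A point with the same image as `g` lies in `trB`. -/
theorem mem_trB_of_imgA {g g' p : G} (ht : Tri z P g p) (hg' : Pt z g') (hle : Γ.imgA g ≤ Γ.imgA g') :
    g' * z * g'⁻¹ ∈ trB z g p := by
  obtain ⟨r, hr, h⟩ := Γ.point_of_imgA ht.pt hg' hle
  have hm := (mem_normalizer_iff.1 (Γ.P_normalizes_trB ht hr) _).1 (s_mem_trB (z := z) (g := g) (p := p))
  rcases h with e | e <;> rw [e]
  exacts [hm, mul_mem z_mem_trB hm]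

/-- Two conjugates of `z` in `E` other than `z` are conjugate in `H`. -/
theorem conj_pt (hc32 : ThirtyTwoConj AutM22) {g g' : G} (hg : Pt z g) (hg' : Pt z g') :
    ∃ h ∈ centralizer ({z} : Set G), h * (g' * z * g'⁻¹) * h⁻¹ = g * z * g⁻¹ := by
  have hz := Γ.S.hub.sq
  obtain ⟨k, hk⟩ := hc32 _ _ (Γ.card_facts hg').2.2 (Γ.card_facts hg).2.2
  obtain ⟨y, hy, hyk⟩ := Γ.exists_ph k
  have hpt : Pt z (y * g') := by
    refine ⟨?_, fun e => hg'.ne ?_⟩
    · rw [show y * g' * z * (y * g')⁻¹ = y * (g' * z * g'⁻¹) * y⁻¹ by group]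
      exact Γ.conj_core hy hg'.mem
    · calc g' * z * g'⁻¹ = y⁻¹ * (y * g' * z * (y * g')⁻¹) * y := by group
        _ = z := by rw [e, (mem_H.1 (inv_mem hy)).eq, inv_mul_cancel_right]
  -- the two images are equal
  have hle : Γ.imgA g ≤ Γ.imgA (y * g') := by
    refine (eq_of_le_of_card_ge (H := (Γ.imgA g').map (MulAut.conj k).toMonoidHom) (K := Γ.imgA g) ?_ ?_).ge.trans ?_
    · rintro _ ⟨a, ha, rfl⟩; exact hk a ha
    · rw [card_map_of_injective (MulAut.conj k).injective, (Γ.card_facts hg').2.2.2, (Γ.card_facts hg).2.2.2]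
    · rintro _ ⟨_, ⟨m, rfl⟩, rfl⟩
      have hm : y * m * y⁻¹ ∈ conjE z (y * g') ⊓ centralizer ({z} : Set G) := by
        refine Subgroup.mem_inf.2 ⟨?_, mul_mem (mul_mem hy m.2.2) (inv_mem hy)⟩
        rw [mem_conj_iff, show (y * g')⁻¹ * (y * m * y⁻¹) * (y * g') = g'⁻¹ * m * g' by group]
        exact mem_conj_iff.1 m.2.1
      have := Γ.ph_mem_imgA hpt hm
      rw [Γ.ph_conj hy m.2.2, hyk] at this
      show k * Γ.homD g' m * k⁻¹ ∈ _
      rw [Γ.homD_apply]; exact this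
  obtain ⟨r0, hr0, h⟩ := Γ.point_of_imgA hg hpt hle
  have hy' : r0⁻¹ * y ∈ centralizer ({z} : Set G) := mul_mem (Γ.S.P_le (inv_mem hr0)) hy
  have h' := h.conj (Γ.P_comm (inv_mem hr0))
  rw [inv_inv, show r0⁻¹ * (r0 * (g * z * g⁻¹) * r0⁻¹) * r0 = g * z * g⁻¹ by group,
    show r0⁻¹ * (y * g' * z * (y * g')⁻¹) * r0 = r0⁻¹ * y * (g' * z * g'⁻¹) * (r0⁻¹ * y)⁻¹ by group] at h'
  rcases h' with h' | h'
  · exact ⟨_, hy', h'⟩
  · obtain ⟨f, hf, hff⟩ := LargeFischer.Loc.exists_flip Γ.S.hub hg.mem (Γ.hub_pt g).ne_one hg.ne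
    refine ⟨f * (r0⁻¹ * y), mul_mem (coreE_le_H hf) hy', ?_⟩
    rw [show f * (r0⁻¹ * y) * (g' * z * g'⁻¹) * (f * (r0⁻¹ * y))⁻¹ =
      f * (r0⁻¹ * y * (g' * z * g'⁻¹) * (r0⁻¹ * y)⁻¹) * f⁻¹ by group, h',
      show f * (z * (g * z * g⁻¹)) * f⁻¹ = (f * z * f⁻¹) * (f * (g * z * g⁻¹) * f⁻¹) by group, hff,
      (Γ.S.hub.central f hf).eq, mul_inv_cancel_right, (Γ.S.hub.central _ hg.mem).eq, ← mul_assoc, hz,
      one_mul]

end Ctx

/-- For an involution `x ≠ z` of `X`, not both `x` and `x z` are conjugate to `z`. -/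
theorem not_both_conj [Finite G] (S : Setting z P) (F : AutFacts innerM22) (hb : FixBound z)
    (hN : normalizer (P : Set G) ≤ centralizer ({z} : Set G)) {x : G} (hxX : x ∈ cX z P) (_hx2 : x * x = 1)
    (hxz : x ≠ z) : ¬ (IsConj z x ∧ IsConj z (x * z)) := fun h =>
  (Ctx.mk S F hb).not_both_conj hN hxX hxz h.1 h.2

/-- An involution of `E`, other than `z`, which is not conjugate to `z`. -/
theorem exists_not_conj_core [Finite G] (S : Setting z P) (F : AutFacts innerM22) (hb : FixBound z) {g : G}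
    (hs : g * z * g⁻¹ ∈ coreE z) (hne : g * z * g⁻¹ ≠ z) :
    ∃ t ∈ coreE z, orderOf t = 2 ∧ t ≠ z ∧ ¬ IsConj z t := by
  obtain ⟨t, ht, ht2, ht1, htz, htc⟩ := (Ctx.mk S F hb).exists_not_conj ⟨hs, hne⟩
  exact ⟨t, ht, orderOf_eq_prime (hp := ⟨Nat.prime_two⟩) (by rw [pow_two]; exact ht2) ht1, htz, htc⟩

/-- Two conjugates of `z` in `E` other than `z` are conjugate in `H`. -/
theorem isConj_in_centralizer [Finite G] (S : Setting z P) (F : AutFacts innerM22) (hb : FixBound z)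
    (hc32 : ThirtyTwoConj AutM22) {a b : G} (ha : a ∈ coreE z) (hb' : b ∈ coreE z) (haz : a ≠ z) (hbz : b ≠ z)
    (hca : IsConj z a) (hcb : IsConj z b) :
    ∃ h ∈ centralizer ({z} : Set G), h * a * h⁻¹ = b := by
  obtain ⟨g', rfl⟩ := isConj_iff.1 hca
  obtain ⟨g, rfl⟩ := isConj_iff.1 hcb
  exact (Ctx.mk S F hb).conj_pt hc32 ⟨hb', hbz⟩ ⟨ha, haz⟩

/-- `not_both_conj` with the normaliser hypothesis supplied by a conjugate of `z` in `E`. -/
theorem not_both_conj_of_core [Finite G] (S : Setting z P) (F : AutFacts innerM22) (hb : FixBound z) {g : G}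
    (hs : g * z * g⁻¹ ∈ coreE z) (hne : g * z * g⁻¹ ≠ z) {x : G} (hxX : x ∈ cX z P) (hxz : x ≠ z) :
    ¬ (IsConj z x ∧ IsConj z (x * z)) := fun h =>
  (Ctx.mk S F hb).not_both_conj ((Ctx.mk S F hb).normalizer_le_of_pt ⟨hs, hne⟩) hxX hxz h.1 h.2

end Cfsg.Agent.JankoFour
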