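import Cfsg.Agent.Lib.JankoFour.HexVData
import Cfsg.Agent.Lib.JankoFour.FusionE

/-!
# Janko-four type: the classes in `W = V ∩ E` (S5568)

* `card_wPts`: `W` contains 90 conjugates of `z` other than `z`; `card_wRest`: 36 further involutions.
* `closure_wConj`, `closure_wRest`: both sets generate `W`.
* `not_le_conjE`: `W` lies in no conjugate of `E` attached to its star.
* `wRest_transitive`: `N_H(V)` is transitive on the 36.
-/

set_option autoImplicit false
set_option linter.unusedSectionVars false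

namespace Cfsg.Agent.JankoFour

open Subgroup
open scoped commutatorElement
open LargeExtraspecial (Hub Pair mem_conj_iff)

theorem two_cases {K : Type*} [Group K] {I : Subgroup K} (hI : I.index = 2) {a b : K} (ha : a ∉ I)
    (hb : b ∉ I) : a⁻¹ * b ∈ I :=
  (mul_mem_iff_of_index_two hI).2 (iff_of_false (fun h => ha (inv_mem_iff.1 h)) hb)

variable {G : Type*} [Group G] {z : G} {P : Subgroup G}

/-- The conjugates of `z` other than `z` in `V ∩ E`. -/
def wPts (z : G) (V : Subgroup G) : Set G := {e | e ∈ V ∧ e ∈ coreE z ∧ IsConj z e ∧ e ≠ z}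

/-- The other involutions of `V ∩ E`. -/
def wRest (z : G) (V : Subgroup G) : Set G := {e | e ∈ V ∧ e ∈ coreE z ∧ e ≠ 1 ∧ ¬ IsConj z e}

namespace Ctx

variable [Finite G] (Γ : Ctx z P)

include Γ

theorem conjE_eq_of_eq {g g' : G} (h : g * z * g⁻¹ = g' * z * g'⁻¹) : conjE z g = conjE z g' := by
  have key : ∀ {g g' : G}, g * z * g⁻¹ = g' * z * g'⁻¹ → conjE z g' ≤ conjE z g := by
    intro g g' h x hx
    have hc : Commute (g⁻¹ * g') z := by
      show g⁻¹ * g' * z = z * (g⁻¹ * g')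
      calc g⁻¹ * g' * z = g⁻¹ * (g' * z * g'⁻¹) * g' := by group
        _ = g⁻¹ * (g * z * g⁻¹) * g' := by rw [h]
        _ = z * (g⁻¹ * g') := by group
    rw [mem_conj_iff] at hx ⊢
    have := Γ.conj_core (mem_H.2 hc) hx
    rwa [show g⁻¹ * g' * (g'⁻¹ * x * g') * (g⁻¹ * g')⁻¹ = g⁻¹ * x * g by group] at this
  exact le_antisymm (key h.symm) (key h)

/-- An element of `E` other than `1` and `z` is conjugate under `E` to its product with `z`. -/
theorem exists_conj_z {u : G} (hu : u ∈ coreE z) (h1 : u ≠ 1) (hz : u ≠ z) :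
    ∃ e ∈ coreE z, e * u * e⁻¹ = z * u := by
  by_contra hno
  push Not at hno
  rcases Γ.S.hub.self u (fun e he =>
    ((mul_inv_eq_iff_eq_mul.1 ((Γ.comm_core he hu).resolve_right (hno e he)) : Commute e u)).symm) with e | e
  exacts [h1 e, hz e]

theorem isConj_z_mul {u : G} (hu : u ∈ coreE z) (h1 : u ≠ 1) (hz : u ≠ z) : IsConj u (z * u) := by
  obtain ⟨e, -, he⟩ := Γ.exists_conj_z hu h1 hz
  exact isConj_iff.2 ⟨e, he⟩

theorem exists_pt_imgA {U₀ : Subgroup AutM22} (HF : HexFacts innerM22 U₀) {g₀ : G} (hg₀ : Pt z g₀)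
    {A : Subgroup AutM22} (hA : IsThirtyTwo A) : ∃ g, Pt z g ∧ Γ.imgA g = A := by
  obtain ⟨k, hk⟩ := HF.conj32 _ A (Γ.thirtyTwo_imgA hg₀) hA
  obtain ⟨h, hh, hhk⟩ := Γ.exists_ph k
  obtain ⟨hg, hA'⟩ := Γ.imgA_conj hg₀ hh
  exact ⟨h * g₀, hg, by rw [hA', hhk, ← hk]⟩

variable {U₀ : Subgroup AutM22} (HF : HexFacts innerM22 U₀) {V : Subgroup G} {gs : Fin 6 → G}
  (D : Γ.VData U₀ V gs)

include HF D

omit HF in
/-- A subgroup of `W` through `z` of order more than 32 invariant under `P` is `W`. -/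
theorem eq_wSpan_of_invariant {Y : Subgroup G} (hY : Y ≤ wSpan z P gs) (hz : z ∈ Y)
    (hP : ∀ p ∈ P, ∀ y ∈ Y, p * y * p⁻¹ ∈ Y) (h32 : 32 < Nat.card ↥Y) : Y = wSpan z P gs := by
  have : Fact (Nat.Prime 2) := ⟨Nat.prime_two⟩
  have : Fact (Nat.Prime 3) := ⟨Nat.prime_three⟩
  have h7 := Γ.card_wSpan D.star
  refine eq_of_le_of_card_ge hY ?_
  have hle := (Subgroup.card_le_of_le hY).trans_eq h7
  obtain ⟨n, hn⟩ := IsPGroup.iff_card.1 (Γ.core_two.to_le (hY.trans (Γ.wSpan_le D.star)))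
  rw [hn] at hle h32
  rw [h7, hn]
  have hn6 : 6 ≤ n := (Nat.pow_lt_pow_iff_right (by norm_num)).1 (show 2 ^ 5 < 2 ^ n by omega)
  have hn7 : n ≤ 7 := (Nat.pow_le_pow_iff_right (by norm_num)).1 hle
  suffices n ≠ 6 by rw [show n = 7 by omega]
  rintro rfl
  letI : MulAction ↥P ↥Y :=
    { smul := fun p w => ⟨(p : G) * w * (p : G)⁻¹, hP p p.2 w w.2⟩
      one_smul := fun w => Subtype.ext (show ((1 : ↥P) : G) * w * ((1 : ↥P) : G)⁻¹ = w by simp)
      mul_smul := fun a b w => Subtype.ext (show ((a * b : ↥P) : G) * w * ((a * b : ↥P) : G)⁻¹ =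
        (a : G) * ((b : G) * w * (b : G)⁻¹) * (a : G)⁻¹ by push_cast; group) }
  have hmod := (IsPGroup.of_card (n := 1) (by rw [Γ.S.card_P, pow_one]) : IsPGroup 3 ↥P)
    |>.card_modEq_card_fixedPoints ↥Y
  obtain ⟨p, hp, hp1⟩ := Γ.exists_generator
  have hfix : MulAction.fixedPoints ↥P ↥Y = {1, ⟨z, hz⟩} := by
    ext w
    simp only [MulAction.mem_fixedPoints, Set.mem_insert_iff, Set.mem_singleton_iff]
    constructor
    · intro hw
      exact (Γ.eq_one_or_z_of_fixed hp hp1 (Γ.wSpan_le D.star (hY w.2))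
        (Or.inl (congrArg Subtype.val (hw ⟨p, hp⟩)))).imp (fun e => Subtype.ext e) fun e => Subtype.ext e
    · rintro (rfl | rfl) q <;> refine Subtype.ext ?_
      · show (q : G) * 1 * (q : G)⁻¹ = 1; group
      · show (q : G) * z * (q : G)⁻¹ = z; rw [(Γ.P_comm q.2).eq, mul_inv_cancel_right]
  rw [hfix, hn, Nat.card_coe_set_eq, Set.ncard_pair
    (fun e => Γ.S.hub.ne_one (congrArg Subtype.val e).symm)] at hmod
  exact absurd hmod (by decide)

theorem card_wPts (HO : HexOrbFacts innerM22 U₀) {g₀ : G} (hg₀ : Pt z g₀) :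
    (wPts z V).ncard = 90 := by
  classical
  choose gA hgA hgAi using fun A : {A : Subgroup AutM22 // IsThirtyTwo A ∧ U₀ ≤ normalizer (A : Set AutM22)} =>
    Γ.exists_pt_imgA HF hg₀ A.2.1
  let f : {A : Subgroup AutM22 // IsThirtyTwo A ∧ U₀ ≤ normalizer (A : Set AutM22)} × ↥P × Bool → G :=
    fun x => (if x.2.2 then z else 1) * ((x.2.1 : G) * (gA x.1 * z * (gA x.1)⁻¹) * (x.2.1 : G)⁻¹)
  have hs : ∀ A : {A : Subgroup AutM22 // IsThirtyTwo A ∧ U₀ ≤ normalizer (A : Set AutM22)}, ∀ q ∈ P,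
      Pt z (q * gA A) ∧ Γ.imgA (q * gA A) = A ∧
        q * gA A * z * (q * gA A)⁻¹ = q * (gA A * z * (gA A)⁻¹) * q⁻¹ := fun A q hq =>
    ⟨(Γ.imgA_P (hgA A) hq).1, (Γ.imgA_P (hgA A) hq).2.trans (hgAi A), by group⟩
  have hinj : Function.Injective f := by
    rintro ⟨A, ⟨q, hq⟩, b⟩ ⟨B, ⟨q', hq'⟩, b'⟩ h
    simp only [f] at h
    have hEq : Eqz z (q * (gA A * z * (gA A)⁻¹) * q⁻¹) (q' * (gA B * z * (gA B)⁻¹) * q'⁻¹) := by
      rcases b <;> rcases b' <;> simp only [Bool.false_eq_true, if_false, if_true, one_mul] at h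
      · exact Or.inl h
      · exact Or.inr h
      · exact Γ.eqz_symm (Or.inr h.symm)
      · exact Or.inl (mul_left_cancel h)
    obtain rfl : A = B := by
      obtain ⟨h1, h2, h3⟩ := hs A q hq
      obtain ⟨h1', h2', h3'⟩ := hs B q' hq'
      refine Subtype.ext ?_
      rw [← h2, ← h2']
      exact Γ.imgA_eq_of_eqz h1' h1 (by rw [h3, h3']; exact hEq)
    have hqq : q = q' := by
      by_contra hne
      have hc := hEq.conj (Γ.P_comm (inv_mem hq'))
      rw [show q'⁻¹ * (q * (gA A * z * (gA A)⁻¹) * q⁻¹) * q'⁻¹⁻¹ =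
          q'⁻¹ * q * (gA A * z * (gA A)⁻¹) * (q'⁻¹ * q)⁻¹ by group,
        show q'⁻¹ * (q' * (gA A * z * (gA A)⁻¹) * q'⁻¹) * q'⁻¹⁻¹ = gA A * z * (gA A)⁻¹ by group] at hc
      rcases Γ.eq_one_or_z_of_fixed (mul_mem (inv_mem hq') hq)
        (fun e => hne (inv_mul_eq_one.1 e).symm) (hgA A).mem hc with e | e
      exacts [(Γ.hub_pt (gA A)).ne_one e, (hgA A).ne e]
    subst hqq
    have hb : (if b then z else (1 : G)) = if b' then z else 1 := mul_right_cancel h
    rcases b <;> rcases b' <;> first | rfl | (exfalso; simp at hb)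
    · exact Γ.S.hub.ne_one hb.symm
    · exact Γ.S.hub.ne_one hb
  have hrange : Set.range f = wPts z V := by
    ext e
    constructor
    · rintro ⟨⟨A, ⟨q, hq⟩, b⟩, rfl⟩
      obtain ⟨h1, h2, h3⟩ := hs A q hq
      have hmem : q * gA A * z * (q * gA A)⁻¹ ∈ V := (Γ.pt_mem_iff HF D h1).2 (h2.symm ▸ A.2.2)
      have hne1 : q * gA A * z * (q * gA A)⁻¹ ≠ 1 := (Γ.hub_pt _).ne_one
      have hc : IsConj z (q * gA A * z * (q * gA A)⁻¹) := isConj_iff.2 ⟨_, rfl⟩
      simp only [f, ← h3]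
      rcases b <;> simp only [Bool.false_eq_true, if_false, if_true, one_mul]
      · exact ⟨hmem, h1.mem, hc, h1.ne⟩
      · exact ⟨mul_mem (Γ.z_mem_V HF D) hmem, mul_mem Γ.z_mem_core h1.mem,
          hc.trans (Γ.isConj_z_mul h1.mem hne1 h1.ne), fun e => hne1 (mul_eq_left.1 e)⟩
    · rintro ⟨heV, heE, hc, hne⟩
      obtain ⟨g, rfl⟩ := isConj_iff.1 hc
      have hg : Pt z g := ⟨heE, hne⟩
      set A : {A : Subgroup AutM22 // IsThirtyTwo A ∧ U₀ ≤ normalizer (A : Set AutM22)} :=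
        ⟨Γ.imgA g, Γ.thirtyTwo_imgA hg, (Γ.pt_mem_iff HF D hg).1 heV⟩ with hA
      obtain ⟨r, hr, h⟩ := Γ.point_of_imgA (hgA A) hg (hgAi A).le
      rcases h with h | h
      · exact ⟨(A, ⟨r, hr⟩, false), by simp [f, h]⟩
      · exact ⟨(A, ⟨r, hr⟩, true), by simp [f, h]⟩
  rw [← hrange, Set.ncard_range_of_injective hinj, Nat.card_prod, Nat.card_prod, HO.duads, Γ.S.card_P,
    Nat.card_eq_fintype_card (α := Bool), Fintype.card_bool]

theorem card_wRest (HO : HexOrbFacts innerM22 U₀) {g₀ : G} (hg₀ : Pt z g₀) :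
    (wRest z V).ncard = 36 := by
  classical
  have h : ((V ⊓ coreE z : Subgroup G) : Set G) = {1, z} ∪ (wPts z V ∪ wRest z V) := by
    ext e
    constructor
    · rintro ⟨h1, h2⟩
      by_cases he1 : e = 1
      · exact Or.inl (Or.inl he1)
      by_cases hez : e = z
      · exact Or.inl (Or.inr hez)
      by_cases hc : IsConj z e
      · exact Or.inr (Or.inl ⟨h1, h2, hc, hez⟩)
      · exact Or.inr (Or.inr ⟨h1, h2, he1, hc⟩)
    · rintro ((rfl | rfl) | ⟨h1, h2, -⟩ | ⟨h1, h2, -⟩)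
      · exact one_mem (V ⊓ coreE z)
      · exact ⟨Γ.z_mem_V HF D, Γ.z_mem_core⟩
      · exact ⟨h1, h2⟩
      · exact ⟨h1, h2⟩
  have hd1 : Disjoint ({1, z} : Set G) (wPts z V ∪ wRest z V) := by
    rw [Set.disjoint_left]
    rintro e (rfl | rfl) (⟨-, -, hc, hne⟩ | ⟨-, -, h1, hc⟩)
    · obtain ⟨g, hg⟩ := isConj_iff.1 hc
      exact Γ.S.hub.ne_one (conj_eq_one_iff.1 hg)
    · exact h1 rfl
    · exact hne rfl
    · exact hc (IsConj.refl _)
  have hd2 : Disjoint (wPts z V) (wRest z V) := by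
    rw [Set.disjoint_left]
    exact fun e h1 h2 => h2.2.2.2 h1.2.2.1
  have hc := Γ.card_inf_core HF D
  rw [← SetLike.coe_sort_coe, Nat.card_coe_set_eq, h,
    Set.ncard_union_eq hd1 (Set.toFinite _) (Set.toFinite _),
    Set.ncard_union_eq hd2 (Set.toFinite _) (Set.toFinite _), Γ.card_wPts HF D HO hg₀,
    Set.ncard_pair Γ.S.hub.ne_one.symm] at hc
  omega

theorem closure_wConj (HO : HexOrbFacts innerM22 U₀) {g₀ : G} (hg₀ : Pt z g₀) :
    Subgroup.closure (insert z (wPts z V)) = wSpan z P gs := by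
  have hle : Subgroup.closure (insert z (wPts z V)) ≤ wSpan z P gs := by
    rw [closure_le, ← Γ.inf_core HF D]
    rintro e (rfl | ⟨h1, h2, -⟩)
    exacts [⟨Γ.z_mem_V HF D, Γ.z_mem_core⟩, ⟨h1, h2⟩]
  refine eq_of_le_of_card_ge hle ?_
  rw [Γ.card_wSpan D.star]
  have : Fact (Nat.Prime 2) := ⟨Nat.prime_two⟩
  obtain ⟨n, hn⟩ := IsPGroup.iff_card.1 (Γ.core_two.to_le (hle.trans (Γ.wSpan_le D.star)))
  have h90 : 90 ≤ Nat.card ↥(Subgroup.closure (insert z (wPts z V))) := by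
    rw [← Γ.card_wPts HF D HO hg₀, ← SetLike.coe_sort_coe, Nat.card_coe_set_eq]
    exact Set.ncard_le_ncard (fun e he => Subgroup.subset_closure (Or.inr he)) (Set.toFinite _)
  rw [hn] at h90 ⊢
  exact Nat.pow_le_pow_right (by norm_num)
    ((Nat.pow_lt_pow_iff_right (by norm_num)).1 (show 2 ^ 6 < 2 ^ n by omega))

theorem z_mul_mem_wRest {t : G} (ht : t ∈ wRest z V) : z * t ∈ wRest z V := by
  obtain ⟨h1, h2, h3, h4⟩ := ht
  have htz : t ≠ z := fun e => h4 (e ▸ IsConj.refl _)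
  refine ⟨mul_mem (Γ.z_mem_V HF D) h1, mul_mem Γ.z_mem_core h2, fun e => htz ?_, fun h => h4 ?_⟩
  · calc t = (z * z) * t := by rw [Γ.S.hub.sq, one_mul]
      _ = z * (z * t) := by group
      _ = z := by rw [e, mul_one]
  · exact h.trans (Γ.isConj_z_mul h2 h3 htz).symm

theorem P_conj_mem_wRest {t q : G} (hq : q ∈ P) (ht : t ∈ wRest z V) : q * t * q⁻¹ ∈ wRest z V := by
  obtain ⟨h1, h2, h3, h4⟩ := ht
  refine ⟨(mem_normalizer_iff.1 (Γ.P_le_normalizer_V HF D hq) t).1 h1, Γ.conj_core (Γ.S.P_le hq) h2,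
    fun e => h3 (conj_eq_one_iff.1 e), fun h => h4 (h.trans (isConj_iff.2 ⟨q⁻¹, by group⟩))⟩

theorem closure_wRest (HO : HexOrbFacts innerM22 U₀) {g₀ : G} (hg₀ : Pt z g₀) :
    Subgroup.closure (wRest z V) = wSpan z P gs := by
  have hne : (wRest z V).Nonempty := Set.nonempty_of_ncard_ne_zero (by
    rw [Γ.card_wRest HF D HO hg₀]; norm_num)
  obtain ⟨t, ht⟩ := hne
  refine Γ.eq_wSpan_of_invariant D ?_ ?_ ?_ ?_
  · rw [closure_le, ← Γ.inf_core HF D]
    exact fun e he => ⟨he.1, he.2.1⟩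
  · have := mul_mem (Subgroup.subset_closure (Γ.z_mul_mem_wRest HF D ht)) (inv_mem (Subgroup.subset_closure ht))
    rwa [mul_inv_cancel_right] at this
  · intro p hp y hy
    have hle : (Subgroup.closure (wRest z V)).map (MulAut.conj p).toMonoidHom ≤
        Subgroup.closure (wRest z V) := by
      rw [MonoidHom.map_closure, closure_le]
      rintro _ ⟨x, hx, rfl⟩
      exact Subgroup.subset_closure (Γ.P_conj_mem_wRest HF D hp hx)
    exact hle ⟨y, hy, rfl⟩
  · refine lt_of_lt_of_le (show 32 < 36 by norm_num) ?_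
    rw [← Γ.card_wRest HF D HO hg₀, ← SetLike.coe_sort_coe, Nat.card_coe_set_eq]
    exact Set.ncard_le_ncard Subgroup.subset_closure (Set.toFinite _)

/-- `W` is in no conjugate of `E` at a point of its star. -/
theorem not_le_conjE : ¬ wSpan z P gs ≤ conjE z (gs 0) := by
  intro hle
  obtain ⟨a, haU, ha1, haA⟩ := D.star.meets 0
  obtain ⟨m, hm, hma, hm2⟩ := Γ.exists_imgA_lift (D.star.pt 0) haA
  obtain ⟨v, hv, hvH, hva⟩ := Γ.exists_over HF D haU
  have hmW : m ∈ wSpan z P gs := by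
    refine Γ.mem_of_commute_seven hle (Γ.wSpan_comm D.star) (Γ.card_wSpan D.star).ge hm.1 fun e he => ?_
    have heV : e ∈ V ⊓ coreE z := (Γ.inf_core HF D).symm ▸ he
    have hfix : Eqz z (m * e * m⁻¹) e := Γ.eqz_of_same hm.2 hvH (hma ▸ HF.le haU) hm2 (hma.trans hva.symm)
      heV.2 (Or.inl (by rw [comm_of_sq D.sq v hv e heV.1, mul_inv_cancel_right]))
    have hcz := Γ.hub_pt (gs 0)
    rcases hcz.comm m hm.1 e (hle he) with e1 | e1
    · exact mul_inv_eq_iff_eq_mul.1 e1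
    exfalso
    rcases hfix with e2 | e2
    · rw [e1] at e2
      exact hcz.ne_one (mul_eq_left.1 e2)
    · rw [e1, ← (Γ.S.hub.central e heV.2).eq] at e2
      exact (D.star.pt 0).ne (mul_left_cancel e2)
  exact ha1 (by rw [← hma, Γ.ph_core (Γ.wSpan_le D.star hmW)])

/-- An element of `W` fixed modulo `z` by the inner part of `E^g ∩ H` for a point `g` of `W` is central
or conjugate to `z`. -/
theorem isConj_of_inner_fix {g t : G} (hg : Pt z g) (ht : t ∈ coreE z) (ht1 : t ≠ 1)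
    (hfix : ∀ m ∈ conjE z g ⊓ centralizer ({z} : Set G), Γ.ph m ∈ innerM22 → Eqz z (m * t * m⁻¹) t) :
    IsConj z t := by
  obtain ⟨p, hp, hp1⟩ := Γ.exists_generator
  have htr : Tri z P g p := ⟨hg, hp, hp1⟩
  have hsc := (Γ.hub_pt g).central
  have hscomm := (Γ.hub_pt g).comm
  set s := g * z * g⁻¹ with hs
  have hs1 : s ≠ 1 := (Γ.hub_pt g).ne_one
  have hss : s * s = 1 := (Γ.hub_pt g).sq
  have hcz : IsConj z s := isConj_iff.2 ⟨g, rfl⟩
  have hnz : ∀ {u : G}, u ≠ z → u = s ∨ u = z * s → IsConj z u := by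
    rintro u - (rfl | rfl)
    exacts [hcz, hcz.trans (Γ.isConj_z_mul hg.mem hs1 hg.ne)]
  obtain ⟨s', hs'd⟩ : ∃ u, u = p * s * p⁻¹ := ⟨_, rfl⟩
  have hs'E : s' ∈ coreE z := hs'd ▸ Γ.conj_core (Γ.S.P_le hp) hg.mem
  have hfix' : ∀ m ∈ conjE z g ⊓ centralizer ({z} : Set G), Γ.ph m ∈ innerM22 → Eqz z (m * s' * m⁻¹) s' :=
    fun m hm hmi => hs'd ▸ Γ.inner_fix htr hm.2 hmi
      (Or.inl (by rw [(hsc m hm.1).eq, mul_inv_cancel_right]))
  have hexact : ∀ {u : G}, u ∈ coreE z → (∀ m ∈ conjE z g ⊓ centralizer ({z} : Set G), Γ.ph m ∈ innerM22 →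
      Eqz z (m * u * m⁻¹) u) → u ∈ conjE z g ∧
      ∀ m ∈ conjE z g ⊓ centralizer ({z} : Set G), Γ.ph m ∈ innerM22 → m * u * m⁻¹ = u := by
    intro u hu hf
    have hug := Γ.mem_conjE_of_inner hg hu hf
    refine ⟨hug, fun m hm hmi => ?_⟩
    rcases hscomm m hm.1 u hug with e1 | e1
    · exact e1
    exfalso
    rcases hf m hm hmi with e2 | e2
    · rw [e1] at e2
      exact hs1 (mul_eq_left.1 e2)
    · rw [e1, ← (Γ.S.hub.central u hu).eq] at e2
      exact hg.ne (mul_left_cancel e2)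
  obtain ⟨htg, htf⟩ := hexact ht hfix
  obtain ⟨hs'g, hs'f⟩ := hexact hs'E hfix'
  obtain ⟨m0, hm0, hm0i⟩ := Γ.exists_outer hg
  have hall : ∀ {u : G}, (∀ m ∈ conjE z g ⊓ centralizer ({z} : Set G), Γ.ph m ∈ innerM22 → m * u * m⁻¹ = u) →
      m0 * u * m0⁻¹ = u → ∀ m ∈ conjE z g ⊓ centralizer ({z} : Set G), m * u * m⁻¹ = u ∨ m * u * m⁻¹ = z * u := by
    intro u hf h0 m hm
    left
    by_cases hmi : Γ.ph m ∈ innerM22
    · exact hf m hm hmi
    · have h1 := hf (m0⁻¹ * m) (mul_mem (inv_mem hm0) hm) (by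
        rw [Γ.ph_mul (inv_mem hm0.2) hm.2, Γ.ph_inv hm0.2]
        exact two_cases Γ.F.index_two hm0i hmi)
      calc m * u * m⁻¹ = m0 * (m0⁻¹ * m * u * (m0⁻¹ * m)⁻¹) * m0⁻¹ := by group
        _ = u := by rw [h1, h0]
  have hfour : ∀ {u : G}, u ∈ coreE z → (∀ m ∈ conjE z g ⊓ centralizer ({z} : Set G), m * u * m⁻¹ = u ∨
      m * u * m⁻¹ = z * u) → u = 1 ∨ u = z ∨ u = s ∨ u = z * s := fun hu h => Γ.fixed_four hg hu h
  rcases hscomm m0 hm0.1 t htg with e1 | e1
  · rcases hfour ht (hall htf e1) with e | e | e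
    · exact absurd e ht1
    · exact e ▸ IsConj.refl _
    · by_cases htz : t = z
      · exact htz ▸ IsConj.refl _
      · exact hnz htz e
  · obtain ⟨hne1, hnez, hnes, hnezs⟩ := Γ.s'_ne htr
    rw [← hs, ← hs'd] at hne1 hnez hnes hnezs
    rcases hscomm m0 hm0.1 s' hs'g with e2 | e2
    · rcases hfour hs'E (hall hs'f e2) with e | e | e | e
      exacts [absurd e hne1, absurd e hnez, absurd e hnes, absurd e hnezs]
    have hf2 : ∀ m ∈ conjE z g ⊓ centralizer ({z} : Set G), Γ.ph m ∈ innerM22 →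
        m * (t * s') * m⁻¹ = t * s' := fun m hm hmi => by
      rw [show m * (t * s') * m⁻¹ = (m * t * m⁻¹) * (m * s' * m⁻¹) by group, htf m hm hmi, hs'f m hm hmi]
    have e3 : m0 * (t * s') * m0⁻¹ = t * s' := by
      calc m0 * (t * s') * m0⁻¹ = (m0 * t * m0⁻¹) * (m0 * s' * m0⁻¹) := by group
        _ = t * (s * s') * s := by rw [e1, e2]; group
        _ = t * (s' * s) * s := by rw [(hsc s' hs'g).eq]
        _ = t * s' := by rw [mul_assoc, mul_assoc, hss, mul_one]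
    have hs2 : s' * s' = 1 := by
      rw [hs'd, show p * s * p⁻¹ * (p * s * p⁻¹) = p * (s * s) * p⁻¹ by group, hss]; group
    have ht_eq : t = t * s' * s' := by rw [mul_assoc, hs2, mul_one]
    have hs'c : IsConj z s' := hcz.trans (isConj_iff.2 ⟨p, hs'd.symm⟩)
    rcases hfour (mul_mem ht hs'E) (hall hf2 e3) with e | e | e
    · rw [ht_eq, e, one_mul]; exact hs'c
    · rw [ht_eq, e]; exact hs'c.trans (Γ.isConj_z_mul hs'E hne1 hnez)
    · -- `s s'` is `z` times a conjugate of `s`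
      obtain ⟨s2, hs2d⟩ : ∃ u, u = p * s' * p⁻¹ := ⟨_, rfl⟩
      have hs2E : s2 ∈ coreE z := hs2d ▸ Γ.conj_core (Γ.S.P_le hp) hs'E
      have hs'sq : s * s' = s' * s := (hsc s' hs'g).eq.symm
      have hs3 : p * s2 * p⁻¹ = s := by
        rw [hs2d, hs'd, show p * (p * (p * s * p⁻¹) * p⁻¹) * p⁻¹ = p * (p * p) * s * (p * (p * p))⁻¹ by group,
          Γ.p_cube hp]
        group
      have hs'2 : s2 * s' = s' * s2 := by
        have : p * (s * s') * p⁻¹ = p * (s' * s) * p⁻¹ := by rw [hs'sq]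
        rw [show p * (s * s') * p⁻¹ = (p * s * p⁻¹) * (p * s' * p⁻¹) by group,
          show p * (s' * s) * p⁻¹ = (p * s' * p⁻¹) * (p * s * p⁻¹) by group, ← hs'd, ← hs2d] at this
        exact this.symm
      have hss2 : s * s2 = s2 * s := by
        have : p * (s2 * s') * p⁻¹ = p * (s' * s2) * p⁻¹ := by rw [hs'2]
        rw [show p * (s2 * s') * p⁻¹ = (p * s2 * p⁻¹) * (p * s' * p⁻¹) by group,
          show p * (s' * s2) * p⁻¹ = (p * s' * p⁻¹) * (p * s2 * p⁻¹) by group, hs3, ← hs2d] at this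
        exact this
      have hfixp : p * (s * s' * s2) * p⁻¹ = s * s' * s2 := by
        rw [show p * (s * s' * s2) * p⁻¹ = (p * s * p⁻¹) * (p * s' * p⁻¹) * (p * s2 * p⁻¹) by group,
          ← hs'd, ← hs2d, hs3]
        calc s' * s2 * s = s' * (s * s2) := by rw [hss2, mul_assoc]
          _ = s * s' * s2 := by rw [← mul_assoc, ← hs'sq]
      have hs22 : s2 * s2 = 1 := by
        rw [hs2d, show p * s' * p⁻¹ * (p * s' * p⁻¹) = p * (s' * s') * p⁻¹ by group, hs2]; group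
      have hne2 : s2 ≠ 1 ∧ s2 ≠ z := by
        refine ⟨fun h => hne1 (conj_eq_one_iff.1 (hs2d ▸ h)), fun h => hnez ?_⟩
        calc s' = p⁻¹ * s2 * p := by rw [hs2d]; group
          _ = z := by rw [h, (Γ.P_comm (inv_mem hp)).eq, inv_mul_cancel_right]
      have hs2c : IsConj z s2 := hs'c.trans (isConj_iff.2 ⟨p, hs2d.symm⟩)
      have hprod : IsConj z (s * s') ∧ IsConj z (z * (s * s')) := by
        have e' : ∀ {w : G}, s * s' * s2 = w → s * s' = w * s2 := fun h => by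
          rw [← h, mul_assoc (s * s'), hs22, mul_one]
        have hz2 : IsConj z (z * s2) := hs2c.trans (Γ.isConj_z_mul hs2E hne2.1 hne2.2)
        rcases Γ.eq_one_or_z_of_fixed hp hp1 (mul_mem (mul_mem hg.mem hs'E) hs2E) (Or.inl hfixp) with h | h
        · rw [e' h, one_mul]; exact ⟨hs2c, hz2⟩
        · rw [e' h, ← mul_assoc, Γ.S.hub.sq, one_mul]; exact ⟨hz2, hs2c⟩
      rw [ht_eq]
      rcases e with e | e <;> rw [e]
      · exact hprod.1
      · rw [mul_assoc]; exact hprod.2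

/-- `N_H(V)` is transitive on the 36 involutions of `W` not conjugate to `z`. -/
theorem wRest_transitive (HO : HexOrbFacts innerM22 U₀) {g₀ : G} (hg₀ : Pt z g₀) {t t' : G}
    (ht : t ∈ wRest z V) (ht' : t' ∈ wRest z V) :
    ∃ h ∈ centralizer ({z} : Set G), h ∈ normalizer (V : Set G) ∧ h * t * h⁻¹ = t' := by
  classical
  set H := centralizer ({z} : Set G) with hH
  set K := H ⊓ normalizer (V : Set G) with hK
  let Orb : G → Set G := fun u => {v | ∃ h ∈ K, h * u * h⁻¹ = v}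
  have hOrb_le : ∀ {u}, u ∈ wRest z V → Orb u ⊆ wRest z V := by
    rintro u ⟨h1, h2, h3, h4⟩ _ ⟨h, hh, rfl⟩
    exact ⟨(mem_normalizer_iff.1 hh.2 u).1 h1, Γ.conj_core hh.1 h2, fun e => h3 (conj_eq_one_iff.1 e),
      fun e => h4 (e.trans (isConj_iff.2 ⟨h⁻¹, by group⟩))⟩
  have hzP : ∀ {u : G}, u ∈ wRest z V → ∀ (q : ↥P) (b : Bool),
      (if b then z else 1) * ((q : G) * u * (q : G)⁻¹) ∈ Orb u := by
    intro u hu q b
    have hqK : (q : G) ∈ K := ⟨Γ.S.P_le q.2, Γ.P_le_normalizer_V HF D q.2⟩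
    rcases b <;> simp only [Bool.false_eq_true, if_false, if_true, one_mul]
    · exact ⟨q, hqK, rfl⟩
    · obtain ⟨h1, h2, h3, h4⟩ := hu
      obtain ⟨e, he, hee⟩ := Γ.exists_conj_z (Γ.conj_core hqK.1 h2) (fun h => h3 (conj_eq_one_iff.1 h))
        (fun h => h4 (isConj_iff.2 ⟨(q : G)⁻¹, by rw [← h]; group⟩))
      exact ⟨e * q, mul_mem ⟨coreE_le_H he, Γ.core_le_normalizer HF D he⟩ hqK, by
        rw [← hee]; group⟩
  have hblock : ∀ {u : G}, u ∈ wRest z V → ∀ {q q' : ↥P},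
      Eqz z ((q : G) * u * (q : G)⁻¹) ((q' : G) * u * (q' : G)⁻¹) → q = q' := by
    intro u hu q q' h
    by_contra hne
    have hc := h.conj (Γ.P_comm (inv_mem q'.2))
    rw [show (q' : G)⁻¹ * ((q : G) * u * (q : G)⁻¹) * (q' : G)⁻¹⁻¹ =
        (q' : G)⁻¹ * q * u * ((q' : G)⁻¹ * q)⁻¹ by group,
      show (q' : G)⁻¹ * ((q' : G) * u * (q' : G)⁻¹) * (q' : G)⁻¹⁻¹ = u by group] at hc
    rcases Γ.eq_one_or_z_of_fixed (mul_mem (inv_mem q'.2) q.2)
      (fun e => hne (Subtype.ext (inv_mul_eq_one.1 e).symm)) hu.2.1 hc with e | e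
    exacts [hu.2.2.1 e, hu.2.2.2 (e ▸ IsConj.refl _)]
  -- an element of 5-power order over an element of order 5 of `N(U₀)`
  obtain ⟨d, hdI, hdU, hd5⟩ := HO.five
  have hdN : d ∈ normalizer (U₀ : Set AutM22) := LocalStructure.mem_normalizer_of_map_conj_le (by
    rintro _ ⟨u, hu, rfl⟩; exact hdU u hu)
  obtain ⟨x, hxH, hxd⟩ := Γ.exists_ph d
  have : Fact (Nat.Prime 5) := ⟨Nat.prime_five⟩
  obtain ⟨j, m, hm5, hxo⟩ := Nat.exists_eq_pow_mul_and_not_dvd (orderOf_pos x).ne' 5 (by norm_num)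
  obtain ⟨y, hy⟩ : ∃ y, y = x ^ m := ⟨_, rfl⟩
  have hyH : y ∈ H := hy ▸ pow_mem hxH m
  have hyo : y ^ 5 ^ j = 1 := by rw [hy, ← pow_mul, mul_comm, ← hxo, pow_orderOf_eq_one]
  have hph_pow : ∀ n : ℕ, Γ.ph (x ^ n) = d ^ n := by
    intro n
    induction n with
    | zero => rw [pow_zero, pow_zero]; exact Γ.ph_one
    | succ n ih => rw [pow_succ, pow_succ, Γ.ph_mul (pow_mem hxH n) hxH, ih, hxd]
  have hyph : Γ.ph y = d ^ m := hy ▸ hph_pow m
  have hyI : Γ.ph y ∈ innerM22 := hyph ▸ pow_mem hdI m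
  have hyK : y ∈ K := ⟨hyH, (Γ.mem_normalizer_iff_ph HF D hyH).2 (hyph ▸ pow_mem hdN m)⟩
  have hy1 : Γ.ph y ≠ 1 := fun e => hm5 (hd5 ▸ orderOf_dvd_of_pow_eq_one (hyph ▸ e))
  -- powers of `y` fixing a block fix its points
  have hfixpt : ∀ {u : G}, u ∈ wRest z V → ∀ (n : ℕ) (q : ↥P),
      Eqz z (y ^ n * u * (y ^ n)⁻¹) ((q : G) * u * (q : G)⁻¹) → Commute (y ^ n) u := by
    intro u hu n q h
    set w := y ^ n with hw
    have hwH : w ∈ H := pow_mem hyH n
    have hwI : Γ.ph w ∈ innerM22 := by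
      rw [hw, hy, ← pow_mul, hph_pow]; exact pow_mem hdI _
    have hw5 : w ^ 5 ^ j = 1 := by rw [hw, ← pow_mul, mul_comm, pow_mul, hyo, one_pow]
    have hpow : ∀ i : ℕ, Eqz z (w ^ i * u * (w ^ i)⁻¹) ((q : G) ^ i * u * ((q : G) ^ i)⁻¹) := by
      intro i
      induction i with
      | zero => exact Or.inl (by simp)
      | succ i ih =>
        have a1 := ih.conj (mem_H.1 hwH)
        have a2 := Γ.inner_conj hwH hwI (pow_mem q.2 i) hu.2.1
        have a3 := h.conj (Γ.P_comm (pow_mem q.2 i))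
        have := Γ.eqz_trans a1 (Γ.eqz_trans a2 a3)
        rwa [show w * (w ^ i * u * (w ^ i)⁻¹) * w⁻¹ = w ^ (i + 1) * u * (w ^ (i + 1))⁻¹ by
            rw [pow_succ']; group,
          show (q : G) ^ i * ((q : G) * u * (q : G)⁻¹) * ((q : G) ^ i)⁻¹ =
            (q : G) ^ (i + 1) * u * ((q : G) ^ (i + 1))⁻¹ by rw [pow_succ]; group] at this
    have hq : (q : G) ^ 5 ^ j = 1 := by
      have := hpow (5 ^ j)
      rw [hw5, one_mul, inv_one, mul_one] at this
      have h' := hblock hu (q := 1) (q' := q ^ 5 ^ j) (by simpa using this)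
      exact congrArg Subtype.val h'.symm
    have hq1 : q = 1 := by
      have h3 : q ^ 3 = 1 := Subtype.ext (by rw [SubmonoidClass.coe_pow, pow_three]; exact Γ.p_cube q.2)
      have h5 : q ^ 5 ^ j = 1 := Subtype.ext hq
      exact orderOf_eq_one_iff.1 (Nat.eq_one_of_dvd_coprimes
        (Nat.Coprime.pow_left j (by norm_num : Nat.Coprime 5 3))
        (orderOf_dvd_of_pow_eq_one h5) (orderOf_dvd_of_pow_eq_one h3))
    subst hq1
    simp only [OneMemClass.coe_one, one_mul, inv_one, mul_one] at h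
    rcases h with e | e
    · exact mul_inv_eq_iff_eq_mul.1 e
    · exfalso
      have hodd : ∀ i : ℕ, w ^ i * u * (w ^ i)⁻¹ = z ^ i * u := by
        intro i
        induction i with
        | zero => simp
        | succ i ih =>
          rw [pow_succ', show w * w ^ i * u * (w * w ^ i)⁻¹ = w * (w ^ i * u * (w ^ i)⁻¹) * w⁻¹ by group, ih,
            show w * (z ^ i * u) * w⁻¹ = (w * z ^ i) * (u * w⁻¹) by group,
            ((mem_H.1 hwH).pow_right i).eq, show z ^ i * w * (u * w⁻¹) = z ^ i * (w * u * w⁻¹) by group, e,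
            ← mul_assoc, ← pow_succ, pow_succ']
      have h1 := hodd (5 ^ j)
      obtain ⟨l, hl⟩ : Odd (5 ^ j) := Odd.pow (by decide)
      rw [hw5, one_mul, inv_one, mul_one, hl, pow_succ, pow_mul, pow_two, Γ.S.hub.sq, one_pow,
        one_mul] at h1
      exact Γ.S.hub.ne_one (mul_eq_right.1 h1.symm)
  -- `y` moves one of them
  obtain ⟨u, hu, huy⟩ : ∃ u ∈ wRest z V, ¬ Commute y u := by
    by_contra hno
    push Not at hno
    have hW : ∀ w ∈ wSpan z P gs, Commute y w := by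
      intro w hw
      rw [← Γ.closure_wRest HF D HO hg₀] at hw
      induction hw using Subgroup.closure_induction with
      | mem u hu => exact hno u hu
      | one => exact Commute.one_right y
      | mul a b _ _ ha hb => exact ha.mul_right hb
      | inv a _ ha => exact ha.inv_right
    have hE : ∀ e ∈ coreE z, Commute y e := by
      intro e he
      have hye : y * e * y⁻¹ ∈ coreE z := Γ.conj_core hyH he
      set c := y * e * y⁻¹ * e⁻¹ with hc
      have hcE : c ∈ coreE z := mul_mem hye (inv_mem he)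
      have hcW : c ∈ wSpan z P gs := by
        refine Γ.mem_wSpan_of_commute D.star hcE fun w hw => ?_
        have hyw : y * w * y⁻¹ = w := by rw [(hW w hw).eq, mul_inv_cancel_right]
        have hcon : y * e * y⁻¹ * w * (y * e * y⁻¹)⁻¹ = e * w * e⁻¹ := by
          have hmid : y * (e * w * e⁻¹) * y⁻¹ = e * w * e⁻¹ := by
            rcases Γ.eqz_core he (Γ.wSpan_le D.star hw) with h | h <;> rw [h]
            · exact hyw
            · rw [show y * (z * w) * y⁻¹ = (y * z) * (w * y⁻¹) by group, (mem_H.1 hyH).eq,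
                show z * y * (w * y⁻¹) = z * (y * w * y⁻¹) by group, hyw]
          calc y * e * y⁻¹ * w * (y * e * y⁻¹)⁻¹ = y * e * (y⁻¹ * w * y) * e⁻¹ * y⁻¹ := by group
            _ = y * (e * w * e⁻¹) * y⁻¹ := by
              rw [show y⁻¹ * w * y = w by rw [mul_assoc, ← (hW w hw).eq, inv_mul_cancel_left]]
              group
            _ = e * w * e⁻¹ := hmid
        suffices hh : y * e * y⁻¹ * (e⁻¹ * w * e) * (y * e * y⁻¹)⁻¹ = w by
          calc c * w = y * e * y⁻¹ * (e⁻¹ * w * e) * (y * e * y⁻¹)⁻¹ * c := by rw [hc]; group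
            _ = w * c := by rw [hh]
        rcases Γ.eqz_core he (Γ.wSpan_le D.star hw) with h | h
        · have h' : e⁻¹ * w * e = w := by
            calc e⁻¹ * w * e = e⁻¹ * (e * w * e⁻¹) * e := by rw [h]
              _ = w := by group
          rw [h', hcon, h]
        · have hze : e⁻¹ * z * e = z := by
            rw [mul_assoc, ← (Γ.S.hub.central e he).eq, inv_mul_cancel_left]
          have h' : e⁻¹ * w * e = z * w := by
            calc e⁻¹ * w * e = (z * z) * (e⁻¹ * w * e) := by rw [Γ.S.hub.sq, one_mul]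
              _ = z * ((e⁻¹ * z * e) * (e⁻¹ * w * e)) := by rw [hze, mul_assoc]
              _ = z * (e⁻¹ * (z * w) * e) := by group
              _ = z * (e⁻¹ * (e * w * e⁻¹) * e) := by rw [h]
              _ = z * w := by group
          rw [h', show y * e * y⁻¹ * (z * w) * (y * e * y⁻¹)⁻¹ =
            (y * e * y⁻¹ * z) * (w * (y * e * y⁻¹)⁻¹) by group, (Γ.S.hub.central _ hye).eq,
            show z * (y * e * y⁻¹) * (w * (y * e * y⁻¹)⁻¹) = z * (y * e * y⁻¹ * w * (y * e * y⁻¹)⁻¹) by group,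
            hcon, h, ← mul_assoc, Γ.S.hub.sq, one_mul]
      have hyc : y * c * y⁻¹ = c := by rw [(hW c hcW).eq, mul_inv_cancel_right]
      have hi : ∀ i : ℕ, y ^ i * e * (y ^ i)⁻¹ = c ^ i * e := by
        intro i
        induction i with
        | zero => simp
        | succ i ih =>
          rw [pow_succ', show y * y ^ i * e * (y * y ^ i)⁻¹ = y * (y ^ i * e * (y ^ i)⁻¹) * y⁻¹ by group, ih,
            show y * (c ^ i * e) * y⁻¹ = (y * c ^ i * y⁻¹) * (y * e * y⁻¹ * e⁻¹) * e by group, ← hc,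
            show y * c ^ i * y⁻¹ = c ^ i by rw [← conj_pow, hyc], ← pow_succ, pow_succ']
      have h1 := hi (5 ^ j)
      obtain ⟨l, hl⟩ : Odd (5 ^ j) := Odd.pow (by decide)
      rw [hyo, one_mul, inv_one, mul_one, hl, pow_succ, pow_mul, pow_two, Γ.wSpan_sq D.star hcW, one_pow,
        one_mul] at h1
      have hc1 : c = 1 := mul_eq_right.1 h1.symm
      rw [hc, mul_inv_eq_one] at hc1
      exact mul_inv_eq_iff_eq_mul.1 hc1
    rcases Γ.S.hub.self y hE with e | e <;> refine hy1 ?_ <;> rw [e]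
    exacts [Γ.ph_one, Γ.ph_core Γ.z_mem_core]
  have h30 : 30 ≤ (Orb u).ncard := by
    let f : Fin 5 × ↥P × Bool → G := fun x =>
      (if x.2.2 then z else 1) * ((x.2.1 : G) * (y ^ (x.1 : ℕ) * u * (y ^ (x.1 : ℕ))⁻¹) * (x.2.1 : G)⁻¹)
    have hmem : Set.range f ⊆ Orb u := by
      rintro _ ⟨⟨i, q, b⟩, rfl⟩
      have hu' : y ^ (i : ℕ) * u * (y ^ (i : ℕ))⁻¹ ∈ wRest z V := hOrb_le hu ⟨_, pow_mem hyK _, rfl⟩
      obtain ⟨h, hh, e⟩ := hzP hu' q b
      exact ⟨h * y ^ (i : ℕ), mul_mem hh (pow_mem hyK _), by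
        show h * y ^ (i : ℕ) * u * (h * y ^ (i : ℕ))⁻¹ = f (i, q, b)
        simp only [f, ← e]; group⟩
    have hinj : Function.Injective f := by
      have key : ∀ (i i' : ℕ) (q q' : ↥P), i ≤ i' → i' < 5 →
          Eqz z ((q : G) * (y ^ i * u * (y ^ i)⁻¹) * (q : G)⁻¹)
            ((q' : G) * (y ^ i' * u * (y ^ i')⁻¹) * (q' : G)⁻¹) → i = i' := by
        intro i i' q q' hii hi5 h
        by_contra hne
        have hu' : y ^ i * u * (y ^ i)⁻¹ ∈ wRest z V := hOrb_le hu ⟨_, pow_mem hyK _, rfl⟩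
        have hc := (Γ.eqz_symm h).conj (Γ.P_comm (inv_mem q'.2))
        rw [show (q' : G)⁻¹ * ((q' : G) * (y ^ i' * u * (y ^ i')⁻¹) * (q' : G)⁻¹) * (q' : G)⁻¹⁻¹ =
            y ^ i' * u * (y ^ i')⁻¹ by group,
          show y ^ i' * u * (y ^ i')⁻¹ = y ^ (i' - i) * (y ^ i * u * (y ^ i)⁻¹) * (y ^ (i' - i))⁻¹ by
            conv_lhs => rw [← Nat.sub_add_cancel hii, pow_add]
            group] at hc
        have hfx := hfixpt hu' (i' - i) (q'⁻¹ * q) (by
          convert hc using 1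
          push_cast
          group)
        refine huy ?_
        have h5 : Commute (y ^ (i' - i)) u := by
          have := hfx.map (MulAut.conj (y ^ i)⁻¹).toMonoidHom
          simp only [MulEquiv.toMonoidHom_eq_coe, MonoidHom.coe_coe, MulAut.conj_apply] at this
          rwa [show (y ^ i)⁻¹ * y ^ (i' - i) * (y ^ i)⁻¹⁻¹ = y ^ (i' - i) by
              rw [inv_inv, mul_assoc, ← pow_add, add_comm (i' - i) i, pow_add, inv_mul_cancel_left],
            show (y ^ i)⁻¹ * (y ^ i * u * (y ^ i)⁻¹) * (y ^ i)⁻¹⁻¹ = u by group] at this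
        have hcop : Nat.Coprime (orderOf y) (i' - i) := by
          refine Nat.Coprime.coprime_dvd_left (orderOf_dvd_of_pow_eq_one hyo) (Nat.Coprime.pow_left j ?_)
          exact (Nat.prime_five.coprime_iff_not_dvd).2 fun hd => by
            have := Nat.le_of_dvd (by omega) hd
            omega
        obtain ⟨l, hl⟩ := exists_pow_eq_self_of_coprime hcop.symm
        exact hl ▸ h5.pow_left l
      rintro ⟨i, q, b⟩ ⟨i', q', b'⟩ h
      simp only [f] at h
      have hEq : Eqz z ((q : G) * (y ^ (i : ℕ) * u * (y ^ (i : ℕ))⁻¹) * (q : G)⁻¹)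
          ((q' : G) * (y ^ (i' : ℕ) * u * (y ^ (i' : ℕ))⁻¹) * (q' : G)⁻¹) := by
        rcases b <;> rcases b' <;> simp only [Bool.false_eq_true, if_false, if_true, one_mul] at h
        · exact Or.inl h
        · exact Or.inr h
        · exact Γ.eqz_symm (Or.inr h.symm)
        · exact Or.inl (mul_left_cancel h)
      obtain rfl : i = i' := by
        rcases le_total (i : ℕ) (i' : ℕ) with hle | hle
        · exact Fin.ext (key _ _ q q' hle i'.2 hEq)
        · exact Fin.ext (key _ _ q' q hle i.2 (Γ.eqz_symm hEq)).symm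
      obtain rfl : q = q' := hblock (hOrb_le hu ⟨_, pow_mem hyK _, rfl⟩) hEq
      have hb : (if b then z else (1 : G)) = if b' then z else 1 := mul_right_cancel h
      rcases b <;> rcases b' <;> first | rfl | (exfalso; simp at hb)
      · exact Γ.S.hub.ne_one hb.symm
      · exact Γ.S.hub.ne_one hb
    refine le_trans ?_ (Set.ncard_le_ncard hmem (Set.toFinite _))
    rw [Set.ncard_range_of_injective hinj, Nat.card_prod, Nat.card_prod, Γ.S.card_P,
      Nat.card_eq_fintype_card (α := Fin 5), Fintype.card_fin, Nat.card_eq_fintype_card (α := Bool),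
      Fintype.card_bool]
  -- every one of them is in that orbit
  have hall : ∀ v ∈ wRest z V, v ∈ Orb u := by
    intro v hv
    by_contra hvu
    have hdis : Disjoint (Orb u) (Orb v) := by
      rw [Set.disjoint_left]
      rintro w ⟨h, hh, rfl⟩ ⟨h', hh', e⟩
      refine hvu ⟨h'⁻¹ * h, mul_mem (inv_mem hh') hh, ?_⟩
      calc h'⁻¹ * h * u * (h'⁻¹ * h)⁻¹ = h'⁻¹ * (h * u * h⁻¹) * h' := by group
        _ = v := by rw [← e]; group
    have h36 := Γ.card_wRest HF D HO hg₀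
    have hun := Set.ncard_le_ncard (Set.union_subset (hOrb_le hu) (hOrb_le hv)) (Set.toFinite _)
    rw [Set.ncard_union_eq hdis (Set.toFinite _) (Set.toFinite _), h36] at hun
    let f : ↥P × Bool → G := fun x => (if x.2 then z else 1) * ((x.1 : G) * v * (x.1 : G)⁻¹)
    have hf : Set.range f ⊆ Orb v := by rintro _ ⟨x, rfl⟩; exact hzP hv x.1 x.2
    have hinj : Function.Injective f := by
      rintro ⟨q, b⟩ ⟨q', b'⟩ h
      simp only [f] at h
      have hEq : Eqz z ((q : G) * v * (q : G)⁻¹) ((q' : G) * v * (q' : G)⁻¹) := by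
        rcases b <;> rcases b' <;> simp only [Bool.false_eq_true, if_false, if_true, one_mul] at h
        · exact Or.inl h
        · exact Or.inr h
        · exact Γ.eqz_symm (Or.inr h.symm)
        · exact Or.inl (mul_left_cancel h)
      obtain rfl := hblock hv hEq
      have hb : (if b then z else (1 : G)) = if b' then z else 1 := mul_right_cancel h
      rcases b <;> rcases b' <;> first | rfl | (exfalso; simp at hb)
      · exact Γ.S.hub.ne_one hb.symm
      · exact Γ.S.hub.ne_one hb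
    have heq : Orb v = Set.range f := (Set.eq_of_subset_of_ncard_le hf (by
      rw [Set.ncard_range_of_injective hinj, Nat.card_prod, Γ.S.card_P,
        Nat.card_eq_fintype_card (α := Bool), Fintype.card_bool]
      omega) (Set.toFinite _)).symm
    obtain ⟨A, hA, hUA, hAU⟩ := HO.adj
    obtain ⟨g, hg, hgA⟩ := Γ.exists_pt_imgA HF hg₀ hA
    refine hv.2.2.2 (Γ.isConj_of_inner_fix HF D hg hv.2.1 hv.2.2.1 fun mm hmm hmi => ?_)
    have hN : Γ.ph mm ∈ normalizer (U₀ : Set AutM22) := LocalStructure.mem_normalizer_of_map_conj_le (by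
      rintro _ ⟨w, hw, rfl⟩
      exact hAU _ (Subgroup.mem_inf.2 ⟨hgA ▸ Γ.ph_mem_imgA hg hmm, hmi⟩) w hw)
    have hmv : mm * v * mm⁻¹ ∈ Orb v := ⟨mm, ⟨hmm.2, (Γ.mem_normalizer_iff_ph HF D hmm.2).2 hN⟩, rfl⟩
    rw [heq] at hmv
    obtain ⟨⟨q, b⟩, hqb⟩ := hmv
    have h1 : Eqz z (mm * v * mm⁻¹) ((q : G) * v * (q : G)⁻¹) := by
      rw [← hqb]
      rcases b <;> simp only [f, Bool.false_eq_true, if_false, if_true, one_mul]
      exacts [Or.inl rfl, Or.inr rfl]
    -- `q² = 1` as `mm² ∈ E`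
    have h2 : Eqz z v ((q : G) * q * v * ((q : G) * q)⁻¹) := by
      have a1 := h1.conj (mem_H.1 hmm.2)
      have a2 := Γ.inner_conj hmm.2 hmi q.2 hv.2.1
      have a3 := h1.conj (Γ.P_comm q.2)
      have a0 : Eqz z v (mm * (mm * v * mm⁻¹) * mm⁻¹) := by
        rw [show mm * (mm * v * mm⁻¹) * mm⁻¹ = mm * mm * v * (mm * mm)⁻¹ by group]
        exact Γ.eqz_symm (Γ.eqz_core (Γ.sq_mem_core hg hmm.1) hv.2.1)
      have := Γ.eqz_trans a0 (Γ.eqz_trans a1 (Γ.eqz_trans a2 a3))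
      rwa [show (q : G) * ((q : G) * v * (q : G)⁻¹) * (q : G)⁻¹ = (q : G) * q * v * ((q : G) * q)⁻¹ by group]
        at this
    have hqq : (1 : ↥P) = q * q := hblock hv (by simpa using h2)
    have hq1 : q = 1 := Subtype.ext (by
      have h3 := Γ.p_cube q.2
      rwa [show (q : G) * q = ((q * q : ↥P) : G) from rfl, ← hqq, OneMemClass.coe_one, mul_one] at h3)
    subst hq1
    simpa using h1
  obtain ⟨h, hh, rfl⟩ := hall t ht
  obtain ⟨h', hh', rfl⟩ := hall t' ht'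
  have hm : h' * h⁻¹ ∈ K := mul_mem hh' (inv_mem hh)
  exact ⟨h' * h⁻¹, hm.1, hm.2, by group⟩

end Ctx

end Cfsg.Agent.JankoFour
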