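import Cfsg.Agent.Lib.JankoFour.InvTools
import Cfsg.Agent.Lib.JankoFour.InvFacts
import Cfsg.Agent.Lib.JankoFour.OrbitCore

/-!
# Janko-four type: the involutions of `E` other than `z` (S5569)

There are at most 4158 of them, at least 1386 conjugates of `z`, and the others form one class of `H`:
the 77 conjugates of `U₀` give disjoint sets of 36.
-/

set_option autoImplicit false
set_option linter.unusedSectionVars false

namespace Cfsg.Agent.JankoFour

open Subgroup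
open LargeExtraspecial (mem_conj_iff)

variable {G : Type*} [Group G] {z : G} {P : Subgroup G}

/-- The involutions of `E` other than `z`. -/
def eInv (z : G) : Set G := {e | e ∈ coreE z ∧ e * e = 1 ∧ e ≠ 1 ∧ e ≠ z}

namespace Ctx

variable [Finite G] (Γ : Ctx z P)

include Γ

theorem card_eInv {g : G} (hg : Pt z g) : (eInv z).ncard ≤ 4158 := by
  classical
  set W := coreE z ⊓ conjE z g with hW
  have hW7 : Nat.card ↥W = 2 ^ 7 := (Γ.card_facts hg).1
  set W' := W.subgroupOf (coreE z) with hW'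
  have hW'c : Nat.card ↥W' = 2 ^ 7 := by
    rw [hW', Nat.card_congr (subgroupOfEquivOfLe inf_le_left).toEquiv, hW7]
  have hidx : Nat.card (↥(coreE z) ⧸ W') = 64 := by
    have h := W'.card_mul_index
    rw [hW'c, Γ.S.card_E, index_eq_card] at h
    omega
  -- at most 64 in a coset outside `W`
  have hfib : ∀ q : ↥(coreE z) ⧸ W', q ≠ QuotientGroup.mk 1 →
      ({x : ↥(coreE z) | x * x = 1 ∧ QuotientGroup.mk x = q}).ncard ≤ 64 := by
    intro q hq
    rcases Set.eq_empty_or_nonempty {x : ↥(coreE z) | x * x = 1 ∧ QuotientGroup.mk x = q} with h | ⟨x0, hx0, hx0q⟩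
    · rw [h, Set.ncard_empty]; norm_num
    have hx0W : (x0 : G) ∉ W := fun h => hq (by
      rw [← hx0q, QuotientGroup.eq, mul_one, mem_subgroupOf, Subgroup.coe_inv]
      exact inv_mem h)
    have hx02 : (x0 : G) * x0 = 1 := congrArg Subtype.val hx0
    set C := W ⊓ centralizer ({(x0 : G)} : Set G) with hC
    have hC6 : Nat.card ↥C ≤ 64 := by
      have hne : C ≠ W := fun h => hx0W (Γ.mem_of_commute_seven (a := 1) (W := W)
        (by rw [Γ.eq_conjE_one]; exact inf_le_left) (fun a ha b hb => (Γ.pair hg).E_commute ha hb) hW7.ge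
        (by rw [Γ.eq_conjE_one]; exact x0.2)
        fun w hw => (mem_centralizer_singleton_iff.1 (h.symm ▸ hw : w ∈ C).2).symm)
      have hd := card_dvd_of_le (inf_le_left : C ≤ W)
      have h7 : Nat.card ↥C ≠ 2 ^ 7 := fun h => hne (eq_of_le_of_card_ge inf_le_left (by rw [hW7, h]))
      rw [hW7] at hd
      obtain ⟨k, hk7, hk⟩ := (Nat.dvd_prime_pow Nat.prime_two).1 hd
      rw [hk] at h7 ⊢
      have : k ≠ 7 := fun h => h7 (by rw [h])
      exact (Nat.pow_le_pow_right (by norm_num) (show k ≤ 6 by omega)).trans (by norm_num)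
    refine le_trans ?_ hC6
    rw [← Nat.card_coe_set_eq]
    refine Nat.card_le_card_of_injective (fun x => ⟨(x0 : G)⁻¹ * (x.1 : G), ?_⟩) ?_
    · obtain ⟨x, hx, hxq⟩ := x
      have hwW : (x0 : G)⁻¹ * (x : G) ∈ W := by
        have := QuotientGroup.eq.1 (hx0q.trans hxq.symm)
        exact mem_subgroupOf.1 this
      refine ⟨hwW, mem_centralizer_singleton_iff.2 ?_⟩
      set w := (x0 : G)⁻¹ * (x : G) with hw
      have hi : (x0 : G)⁻¹ = x0 := inv_eq_of_mul_eq_one_right hx02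
      have hw2 : w * w = 1 := (Γ.pair hg).E_sq hwW
      have hx2 : (x : G) * x = 1 := congrArg Subtype.val hx
      rw [show (x : G) = x0 * w by rw [hw]; group] at hx2
      calc w * x0 = (x0 : G)⁻¹ * ((x0 : G) * w * (x0 * w)) * w⁻¹ := by group
        _ = x0 * w := by rw [hx2, hi, inv_eq_of_mul_eq_one_right hw2, mul_one]
    · intro a b h
      exact Subtype.ext (Subtype.ext (mul_left_cancel (congrArg Subtype.val h)))
  -- sum over the cosets
  set S : Set ↥(coreE z) := {x | x * x = 1} with hS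
  have hcard : S.ncard ≤ 128 + 63 * 64 := by
    have : Fintype ↥(coreE z) := Fintype.ofFinite _
    have : Fintype (↥(coreE z) ⧸ W') := Fintype.ofFinite _
    rw [Set.ncard_eq_toFinset_card']
    rw [Finset.card_eq_sum_card_fiberwise (f := fun x => (QuotientGroup.mk x : ↥(coreE z) ⧸ W'))
      (t := Finset.univ) (fun x _ => Finset.mem_univ _)]
    rw [← Finset.add_sum_erase _ _ (Finset.mem_univ (QuotientGroup.mk 1 : ↥(coreE z) ⧸ W'))]
    refine Nat.add_le_add ?_ ?_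
    · have hle : (128 : ℕ) = (W' : Set ↥(coreE z)).toFinset.card := by
        rw [← Set.ncard_eq_toFinset_card', ← Nat.card_coe_set_eq]
        exact hW'c.symm
      rw [hle]
      refine Finset.card_le_card fun x hx => ?_
      rw [Finset.mem_filter] at hx
      rw [Set.mem_toFinset]
      have := QuotientGroup.eq.1 hx.2
      rwa [mul_one, inv_mem_iff] at this
    · refine (Finset.sum_le_card_nsmul _ _ 64 fun q hq => ?_).trans ?_
      · refine le_trans (le_of_eq ?_) (hfib q (Finset.ne_of_mem_erase hq))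
        rw [Set.ncard_eq_toFinset_card']
        congr 1
        ext x
        simp [hS]
      · rw [Finset.card_erase_of_mem (Finset.mem_univ _), Finset.card_univ, ← Nat.card_eq_fintype_card, hidx,
          smul_eq_mul]
  -- remove `1` and `z`
  have hsub : eInv z ∪ {1, z} ⊆ Subtype.val '' S := by
    rintro e (⟨he, h2, -⟩ | rfl | rfl)
    · exact ⟨⟨e, he⟩, Subtype.ext h2, rfl⟩
    · exact ⟨1, show (1 : ↥(coreE z)) * 1 = 1 from one_mul 1, rfl⟩
    · exact ⟨⟨e, Γ.z_mem_core⟩, Subtype.ext Γ.S.hub.sq, rfl⟩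
  have hdisj : Disjoint (eInv z) ({1, z} : Set G) := by
    rw [Set.disjoint_left]
    rintro e ⟨-, -, h1, hz⟩ (rfl | rfl)
    exacts [h1 rfl, hz rfl]
  have h := Set.ncard_le_ncard hsub (Set.toFinite _)
  rw [Set.ncard_union_eq hdisj (Set.toFinite _) (Set.toFinite _), Set.ncard_pair Γ.S.hub.ne_one.symm,
    Set.ncard_image_of_injective _ Subtype.val_injective] at h
  omega

variable {U₀ : Subgroup AutM22} (HI : InvFacts innerM22 U₀)

include HI

/-- At least 1386 conjugates of `z`. -/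
theorem card_eInv_conj {g : G} (hg : Pt z g) : 1386 ≤ {e | e ∈ eInv z ∧ IsConj z e}.ncard := by
  set s := g * z * g⁻¹ with hs
  set H := centralizer ({z} : Set G) with hH
  have hs1 : s ≠ 1 := (Γ.hub_pt g).ne_one
  set C := H ⊓ centralizer ({s} : Set G) with hC
  set O := (fun f => f * s * f⁻¹ * s⁻¹) '' (H : Set G) with hO
  have horb := card_le_orbit H s
  rw [← hO, ← hC, Γ.S.card_H] at horb
  have hO2 : O.ncard ≤ {e | e ∈ eInv z ∧ IsConj z e}.ncard := by
    rw [← Set.ncard_image_of_injective O (mul_left_injective s)]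
    refine Set.ncard_le_ncard ?_ (Set.toFinite _)
    rintro _ ⟨_, ⟨f, hf, rfl⟩, rfl⟩
    show f * s * f⁻¹ * s⁻¹ * s ∈ _
    rw [inv_mul_cancel_right]
    have hfz : f * z * f⁻¹ = z := by rw [(mem_H.1 hf).eq, mul_inv_cancel_right]
    refine ⟨⟨Γ.conj_core hf hg.mem, ?_, fun e => hs1 (conj_eq_one_iff.1 e), fun e => hg.ne ?_⟩,
      isConj_iff.2 ⟨f * g, by rw [hs]; group⟩⟩
    · rw [show f * s * f⁻¹ * (f * s * f⁻¹) = f * (s * s) * f⁻¹ by group, hs, (Γ.hub_pt g).sq]; group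
    · calc g * z * g⁻¹ = f⁻¹ * (f * s * f⁻¹) * f := by rw [hs]; group
        _ = f⁻¹ * (f * z * f⁻¹) * f := by rw [e, hfz]
        _ = z := by group
  -- `|C_H(s)| ≤ 3840 · 2^12`
  have hCH : C ≤ H := inf_le_left
  set ψ := Γ.S.pi.comp (inclusion hCH) with hψ
  have hCc : ∀ c ∈ C, Commute c s := fun c hc => mem_centralizer_singleton_iff.1 hc.2
  have hrange : Nat.card ↥ψ.range ≤ 3840 := by
    refine le_trans (Subgroup.card_le_of_le ?_) (HI.norm32 _ (Γ.thirtyTwo_imgA hg))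
    rintro _ ⟨c, rfl⟩
    show Γ.S.pi (inclusion hCH c) ∈ _
    have := Γ.ph_mem_normalizer hg (hCH c.2) (hCc c c.2)
    rwa [Γ.ph_eq (hCH c.2)] at this
  have hker : Nat.card ↥ψ.ker ≤ 2 ^ 12 := by
    have hK : Nat.card ↥ψ.ker ≤ Nat.card ↥(coreE z ⊓ centralizer ({s} : Set G)) := by
      refine Nat.card_le_card_of_injective (fun c => ⟨(c.1 : G), ?_, c.1.2.2⟩)
        fun a b h => Subtype.ext (Subtype.ext (congrArg Subtype.val h :))
      refine Γ.mem_core_of_stab hg.mem hs1 hg.ne (hCH c.1.2) ?_ (hCc _ c.1.2)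
      rw [Γ.ph_eq (hCH c.1.2)]
      exact c.2
    refine hK.trans ?_
    obtain ⟨f, hf, hfne⟩ := LargeFischer.Loc.exists_flip Γ.S.hub hg.mem hs1 hg.ne
    have hne : coreE z ⊓ centralizer ({s} : Set G) ≠ coreE z := fun h => by
      have hfc : f ∈ coreE z ⊓ centralizer ({s} : Set G) := h.symm ▸ hf
      rw [← hs, mem_centralizer_singleton_iff.1 hfc.2, mul_inv_cancel_right] at hfne
      exact Γ.S.hub.ne_one (mul_eq_left.1 hfne.symm)
    have hd := card_dvd_of_le (inf_le_left : coreE z ⊓ centralizer ({s} : Set G) ≤ coreE z)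
    have h13 : Nat.card ↥(coreE z ⊓ centralizer ({s} : Set G)) ≠ 2 ^ 13 := fun h =>
      hne (eq_of_le_of_card_ge inf_le_left (by rw [Γ.S.card_E, h]))
    rw [Γ.S.card_E] at hd
    obtain ⟨k, hk, hk'⟩ := (Nat.dvd_prime_pow Nat.prime_two).1 hd
    rw [hk'] at h13 ⊢
    have : k ≠ 13 := fun h => h13 (by rw [h])
    exact Nat.pow_le_pow_right (by norm_num) (by omega)
  have hCcard : Nat.card ↥C ≤ 2 ^ 12 * 3840 := by
    rw [← ψ.ker.card_mul_index, Subgroup.index_ker]
    exact Nat.mul_le_mul hker hrange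
  have := Nat.mul_le_mul (le_refl O.ncard) hCcard
  omega

variable (HF : HexFacts innerM22 U₀) (HO : HexOrbFacts innerM22 U₀)

include HF

omit HI in
theorem exists_VData {g₀ : G} (hg₀ : Pt z g₀) :
    ∃ (V : Subgroup G) (gs : Fin 6 → G), Γ.VData U₀ V gs := by
  obtain ⟨gs, St⟩ := Γ.exists_star HF hg₀ 1
  rw [cj_one] at St
  obtain ⟨V', hV', hel, h11⟩ := Γ.exists_elementary HF St
  have hz : z ∈ V' := by
    obtain ⟨k, hk⟩ := Γ.img_conj HF hg₀ hV' hel h11.ge
    obtain ⟨gs', St'⟩ := Γ.exists_star HF hg₀ k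
    have := Γ.eq_wSpan St' (fun a ha => hk.symm ▸ (Γ.img_facts hV' hel h11.ge).1 <| hk.symm ▸ ha) hV'
      (comm_of_sq hel) hk (Γ.img_facts hV' hel h11.ge).2.2.1
    exact (this.symm ▸ (z_mem_wSpan : z ∈ wSpan z P gs') : z ∈ V' ⊓ coreE z).1
  obtain ⟨h, -, D⟩ := Γ.exists_data HF St hg₀ hel h11 hz
  exact ⟨_, gs, D⟩

include HI HO

/-- An element of the rest of `W` is fixed modulo `z` by no other conjugate of `U₀`. -/
theorem wRest_unique {g₀ : G} (hg₀ : Pt z g₀) {V : Subgroup G} {gs : Fin 6 → G} (D : Γ.VData U₀ V gs)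
    {t h : G} (ht : t ∈ wRest z V) (hh : h ∈ centralizer ({z} : Set G))
    (ht' : h⁻¹ * t * h ∈ wRest z V) : cj (Γ.ph h) U₀ = U₀ := by
  by_contra hne
  obtain ⟨htV, htE, ht1, htc⟩ := ht
  obtain ⟨A, hA, hAle⟩ := HI.two_hexads _ hne
  obtain ⟨g, hg, hgA⟩ := Γ.exists_pt_imgA HF hg₀ hA
  refine htc (Γ.isConj_of_inner_fix HF D hg htE ht1 fun m hm hmi => ?_)
  have hma : Γ.ph m ∈ A ⊓ innerM22 := ⟨hgA ▸ Γ.ph_mem_imgA hg hm, hmi⟩
  have key : ∀ a ∈ U₀ ⊔ cj (Γ.ph h) U₀,
      ∃ v ∈ centralizer ({z} : Set G), Γ.ph v = a ∧ Eqz z (v * t * v⁻¹) t := by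
    intro a ha
    rw [sup_eq_closure] at ha
    refine closure_induction_finite (p := fun a => ∃ v ∈ centralizer ({z} : Set G), Γ.ph v = a ∧
      Eqz z (v * t * v⁻¹) t) ?_ ?_ ?_ ha
    · rintro b (hb | ⟨c, hc, rfl⟩)
      · obtain ⟨v, hv, hvH, hvb⟩ := Γ.exists_over HF D hb
        exact ⟨v, hvH, hvb, Or.inl (by rw [comm_of_sq D.sq v hv t htV, mul_inv_cancel_right])⟩
      · obtain ⟨v, hv, hvH, hvc⟩ := Γ.exists_over HF D hc
        refine ⟨h * v * h⁻¹, mul_mem (mul_mem hh hvH) (inv_mem hh), ?_, Or.inl ?_⟩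
        · rw [Γ.ph_conj hh hvH, hvc]; rfl
        · have hcv := comm_of_sq D.sq v hv _ ht'.1
          calc h * v * h⁻¹ * t * (h * v * h⁻¹)⁻¹ = h * (v * (h⁻¹ * t * h) * v⁻¹) * h⁻¹ := by group
            _ = t := by rw [hcv, mul_inv_cancel_right]; group
    · exact ⟨1, one_mem _, Γ.ph_one, Or.inl (by group)⟩
    · rintro a b ⟨v, hv, hva, hvt⟩ ⟨w, hw, hwb, hwt⟩
      refine ⟨v * w, mul_mem hv hw, by rw [Γ.ph_mul hv hw, hva, hwb], ?_⟩
      rw [show v * w * t * (v * w)⁻¹ = v * (w * t * w⁻¹) * v⁻¹ by group]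
      exact Γ.eqz_trans (hwt.conj (mem_H.1 hv)) hvt
  obtain ⟨v, hv, hva, hvt⟩ := key _ (hAle hma)
  exact Γ.eqz_of_same hm.2 hv hmi (Γ.sq_mem_core hg hm.1) hva.symm htE hvt

/-- The involutions of `E` not conjugate to `z` are conjugate in `H`. -/
theorem eInv_rest_conj {g₀ : G} (hg₀ : Pt z g₀) {t u : G} (ht : t ∈ eInv z) (htc : ¬ IsConj z t)
    (hu : u ∈ eInv z) (huc : ¬ IsConj z u) :
    ∃ h ∈ centralizer ({z} : Set G), h * t * h⁻¹ = u := by
  classical
  obtain ⟨V, gs, D⟩ := Γ.exists_VData HF hg₀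
  set H := centralizer ({z} : Set G) with hH
  obtain ⟨t0, ht0⟩ : (wRest z V).Nonempty := Set.nonempty_of_ncard_ne_zero (by
    rw [Γ.card_wRest HF D HO hg₀]; norm_num)
  set Ob : Set G := {v | ∃ h ∈ H, h * t0 * h⁻¹ = v} with hOb
  -- conjugates of `U₀`
  set K := {U : Subgroup AutM22 // ∃ k, cj k U₀ = U} with hK
  have hK77 : 77 ≤ Nat.card K := by
    have h1 : Nat.card (AutM22 ⧸ normalizer (U₀ : Set AutM22)) ≤ Nat.card K := by
      refine Nat.card_le_card_of_injective (fun q => ⟨cj q.out U₀, q.out, rfl⟩) fun a b hab => ?_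
      have hab' : cj a.out U₀ = cj b.out U₀ := congrArg Subtype.val hab
      rw [← QuotientGroup.out_eq' a, ← QuotientGroup.out_eq' b, QuotientGroup.eq]
      refine mem_normalizer_of_cj_eq ?_
      rw [cj_mul, ← hab', ← cj_mul, inv_mul_cancel, cj_one]
    have h2 := (normalizer (U₀ : Set AutM22)).card_mul_index
    rw [HO.card_norm, card_autM22_of_facts Γ.F, index_eq_card] at h2
    omega
  choose k hk using fun U : K => U.2
  choose hx hxH hxk using fun U : K => Γ.exists_ph (k U)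
  let f : K × ↥(wRest z V) → G := fun x => hx x.1 * x.2 * (hx x.1)⁻¹
  have hf : Function.Injective f := by
    rintro ⟨U, a⟩ ⟨U', b⟩ h
    have h : hx U * (a : G) * (hx U)⁻¹ = hx U' * (b : G) * (hx U')⁻¹ := h
    have h' : ((hx U)⁻¹ * hx U')⁻¹ * (a : G) * ((hx U)⁻¹ * hx U') = b := by
      calc _ = (hx U')⁻¹ * (hx U * (a : G) * (hx U)⁻¹) * hx U' := by group
        _ = b := by rw [h]; group
    obtain rfl : U = U' := by
      have := Γ.wRest_unique HI HF HO hg₀ D a.2 (mul_mem (inv_mem (hxH U)) (hxH U')) (h'.symm ▸ b.2)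
      rw [Γ.ph_mul (inv_mem (hxH U)) (hxH U'), Γ.ph_inv (hxH U), hxk, hxk, cj_mul] at this
      refine Subtype.ext ?_
      rw [← hk U, ← hk U']
      conv_lhs => rw [← this, ← cj_mul, mul_inv_cancel, cj_one]
    exact Prod.ext rfl (Subtype.ext (mul_left_cancel (mul_right_cancel h)))
  have hrange : Set.range f ⊆ Ob := by
    rintro _ ⟨⟨U, a⟩, rfl⟩
    obtain ⟨h, hh, -, hht⟩ := Γ.wRest_transitive HF D HO hg₀ ht0 a.2
    exact ⟨hx U * h, mul_mem (hxH U) hh, by show _ = hx U * (a : G) * (hx U)⁻¹; rw [← hht]; group⟩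
  have hOb2 : 2772 ≤ Ob.ncard := by
    have h := Set.ncard_le_ncard hrange (Set.toFinite _)
    rw [Set.ncard_range_of_injective hf, Nat.card_prod, Nat.card_coe_set_eq,
      Γ.card_wRest HF D HO hg₀] at h
    omega
  -- compare with the rest
  set Pz := {e | e ∈ eInv z ∧ IsConj z e} with hPz
  set R := {e | e ∈ eInv z ∧ ¬ IsConj z e} with hR
  have hOR : Ob ⊆ R := by
    rintro _ ⟨h, hh, rfl⟩
    obtain ⟨hV, hE, h1, hc⟩ := ht0
    refine ⟨⟨Γ.conj_core hh hE, ?_, fun e => h1 (conj_eq_one_iff.1 e), fun e => hc ?_⟩,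
      fun e => hc (e.trans (isConj_iff.2 ⟨h⁻¹, by group⟩))⟩
    · rw [show h * t0 * h⁻¹ * (h * t0 * h⁻¹) = h * (t0 * t0) * h⁻¹ by group, D.sq t0 hV]; group
    · exact isConj_iff.2 ⟨h⁻¹, by rw [← e]; group⟩
  have hsplit : eInv z = Pz ∪ R := by
    ext e
    simp only [hPz, hR, Set.mem_union, Set.mem_ofPred_eq]
    tauto
  have hd : Disjoint Pz R := by
    rw [Set.disjoint_left]
    exact fun e h1 h2 => h2.2 h1.2
  have hall := Γ.card_eInv hg₀
  rw [hsplit, Set.ncard_union_eq hd (Set.toFinite _) (Set.toFinite _)] at hall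
  have hP := Γ.card_eInv_conj HI hg₀
  rw [← hPz] at hP
  have heq : Ob = R := Set.eq_of_subset_of_ncard_le hOR (by omega) (Set.toFinite _)
  obtain ⟨a, ha, hat⟩ : t ∈ Ob := by rw [heq]; exact ⟨ht, htc⟩
  obtain ⟨b, hb, hbu⟩ : u ∈ Ob := by rw [heq]; exact ⟨hu, huc⟩
  exact ⟨b * a⁻¹, mul_mem hb (inv_mem ha), by rw [← hat, ← hbu]; group⟩

end Ctx

end Cfsg.Agent.JankoFour
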