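import Cfsg.Agent.Lib.JankoFour.InvInner
import Cfsg.Agent.Lib.JankoFour.InvCount

/-!
# Janko-four type: two classes of involutions (S5569)

* `intoCore`: every involution is conjugate into `E`;
* `isConj_of_not_conj`: two involutions not conjugate to `z` are conjugate;
* `exists_two_classes`: some involution `t` of `E`, not conjugate to `z`, meets every other class.
-/

set_option autoImplicit false
set_option linter.unusedSectionVars false

namespace Cfsg.Agent.JankoFour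

open Subgroup

variable {G : Type*} [Group G] {z : G} {P : Subgroup G}

namespace Ctx

variable [Finite G] (Γ : Ctx z P) {U₀ : Subgroup AutM22} (HI : InvFacts innerM22 U₀)
  (HF : HexFacts innerM22 U₀)

include Γ HI HF

/-- Every involution is conjugate into `E`. -/
theorem intoCore {g₀ : G} (hg₀ : Pt z g₀) {u : G} (hu : u * u = 1) : IntoCore z u := by
  obtain ⟨k, hk⟩ := Γ.exists_conj_H hu
  refine IntoCore.of_conj k ?_
  set v := k * u * k⁻¹ with hv
  have hv2 : v * v = 1 := by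
    rw [hv, show k * u * k⁻¹ * (k * u * k⁻¹) = k * (u * u) * k⁻¹ by group, hu]; group
  by_cases h1 : Γ.ph v = 1
  · exact ⟨1, by rw [one_mul, inv_one, mul_one]; exact Γ.mem_core_of_sq hk h1 (by rw [hv2]; exact one_mem _)⟩
  have ha2 : Γ.ph v * Γ.ph v = 1 := by rw [← Γ.ph_mul hk hk, hv2, Γ.ph_one]
  have : Fact (Nat.Prime 2) := ⟨Nat.prime_two⟩
  obtain ⟨U, hU, haU⟩ := HI.cover _ (orderOf_eq_prime (by rw [pow_two]; exact ha2) h1)
  obtain ⟨g, hg, hgU⟩ := Γ.exists_pt_imgA HF hg₀ hU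
  have hA : Γ.ph v ∈ Γ.imgA g := hgU.symm ▸ haU
  by_cases hi : Γ.ph v ∈ innerM22
  · exact Γ.intoCore_inner hg hk hv2 hA hi h1
  · exact Γ.intoCore_outer hg hk hv2 hA hi

variable (HO : HexOrbFacts innerM22 U₀)

include HO

/-- Two involutions not conjugate to `z` are conjugate. -/
theorem isConj_of_not_conj {g₀ : G} (hg₀ : Pt z g₀) {t u : G} (ht : orderOf t = 2) (htc : ¬ IsConj z t)
    (hu : orderOf u = 2) (huc : ¬ IsConj z u) : IsConj t u := by
  have key : ∀ {t : G}, orderOf t = 2 → ¬ IsConj z t →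
      ∃ k : G, k * t * k⁻¹ ∈ eInv z ∧ ¬ IsConj z (k * t * k⁻¹) := by
    intro t ht htc
    have ht2 : t * t = 1 := by
      have := pow_orderOf_eq_one t
      rwa [ht, pow_two] at this
    obtain ⟨k, hk⟩ := Γ.intoCore HI HF hg₀ ht2
    have hc : ¬ IsConj z (k * t * k⁻¹) := fun h => htc (h.trans (isConj_iff.2 ⟨k⁻¹, by group⟩))
    refine ⟨k, ⟨hk, ?_, fun e => ?_, fun e => hc (e.symm ▸ IsConj.refl _)⟩, hc⟩
    · rw [show k * t * k⁻¹ * (k * t * k⁻¹) = k * (t * t) * k⁻¹ by group, ht2]; group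
    · rw [conj_eq_one_iff.1 e, orderOf_one] at ht
      exact absurd ht (by norm_num)
  obtain ⟨a, ha, hac⟩ := key ht htc
  obtain ⟨b, hb, hbc⟩ := key hu huc
  obtain ⟨h, -, hh⟩ := Γ.eInv_rest_conj HI HF HO hg₀ ha hac hb hbc
  exact isConj_iff.2 ⟨b⁻¹ * h * a,
    by rw [show b⁻¹ * h * a * t * (b⁻¹ * h * a)⁻¹ = b⁻¹ * (h * (a * t * a⁻¹) * h⁻¹) * b by group, hh]; group⟩

/-- An involution `t` of `E`, not conjugate to `z`, such that every involution is conjugate to `z` or `t`. -/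
theorem exists_two_classes {g₀ : G} (hg₀ : Pt z g₀) :
    ∃ t ∈ coreE z, orderOf t = 2 ∧ ¬ IsConj z t ∧ ∀ u : G, orderOf u = 2 → IsConj z u ∨ IsConj t u := by
  obtain ⟨t, htE, ht2, htz, htc⟩ := exists_not_conj_core Γ.S Γ.F Γ.hb hg₀.mem hg₀.ne
  refine ⟨t, htE, ht2, htc, fun u hu => ?_⟩
  by_cases h : IsConj z u
  · exact Or.inl h
  · exact Or.inr (Γ.isConj_of_not_conj HI HF HO hg₀ ht2 htc hu h)

/-- Two elementary subgroups of order `2^11` through `z` sharing an element of `E` not conjugate to `z` are equal. -/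
theorem eq_of_common_core {g₀ : G} (hg₀ : Pt z g₀) {V V' : Subgroup G} (hsq : ∀ v ∈ V, v * v = 1)
    (hc : Nat.card ↥V = 2 ^ 11) (hsq' : ∀ v ∈ V', v * v = 1) (hc' : Nat.card ↥V' = 2 ^ 11) (hz : z ∈ V)
    (hz' : z ∈ V') {t : G} (htE : t ∈ coreE z) (ht1 : t ≠ 1) (htc : ¬ IsConj z t) (ht : t ∈ V) (ht' : t ∈ V') :
    V = V' := by
  obtain ⟨gs, St⟩ := Γ.exists_star HF hg₀ 1
  rw [cj_one] at St
  obtain ⟨h, hh, D⟩ := Γ.exists_data HF St hg₀ hsq hc hz
  set W := V'.map (MulAut.conj h).toMonoidHom with hW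
  set u := h * t * h⁻¹ with hu
  have huW : u ∈ W := ⟨t, ht', rfl⟩
  have hWH : W ≤ centralizer ({z} : Set G) := by
    rintro _ ⟨v, hv, rfl⟩
    exact mul_mem (mul_mem hh (mem_centralizer_singleton_iff.2 (comm_of_sq hsq' v hv z hz'))) (inv_mem hh)
  have hWs : ∀ v ∈ W, v * v = 1 := by
    rintro _ ⟨v, hv, rfl⟩
    rw [← map_mul, hsq' v hv, map_one]
  have hWc : 2 ^ 11 ≤ Nat.card ↥W := by rw [hW, card_map_of_injective (MulAut.conj h).injective, hc']
  obtain ⟨k, hk⟩ := Γ.img_conj HF hg₀ hWH hWs hWc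
  obtain ⟨c, hcH, hck⟩ := Γ.exists_ph k
  have hW' : W.map (MulAut.conj c⁻¹).toMonoidHom = V.map (MulAut.conj h).toMonoidHom := by
    refine Γ.eq_of_data HF D ?_ ?_ ?_ ?_
    · rintro _ ⟨v, hv, rfl⟩
      exact mul_mem (mul_mem (inv_mem hcH) (hWH hv)) (inv_mem (inv_mem hcH))
    · rintro _ ⟨v, hv, rfl⟩
      rw [← map_mul, hWs v hv, map_one]
    · rw [card_map_of_injective (MulAut.conj c⁻¹).injective]; exact hWc
    · rw [Γ.img_map_conj hWH (inv_mem hcH), hk, Γ.ph_inv hcH, hck, ← cj_mul, inv_mul_cancel, cj_one]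
  have huR : u ∈ wRest z (V.map (MulAut.conj h).toMonoidHom) :=
    ⟨⟨t, ht, rfl⟩, Γ.conj_core hh htE, fun e => ht1 (conj_eq_one_iff.1 e),
      fun e => htc (e.trans (isConj_iff.2 ⟨h⁻¹, by rw [hu]; group⟩))⟩
  have hu' : c⁻¹ * u * c ∈ wRest z (V.map (MulAut.conj h).toMonoidHom) := by
    refine ⟨?_, ?_, fun e => huR.2.2.1 ?_, fun e => huR.2.2.2 (e.trans (isConj_iff.2 ⟨c, by group⟩))⟩
    · rw [← hW']
      exact ⟨u, huW, show c⁻¹ * u * c⁻¹⁻¹ = c⁻¹ * u * c by rw [inv_inv]⟩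
    · have := Γ.conj_core (inv_mem hcH) huR.2.1
      rwa [inv_inv] at this
    · calc u = c * (c⁻¹ * u * c) * c⁻¹ := by group
        _ = 1 := by rw [e]; group
  have hfix := Γ.wRest_unique HI HF HO hg₀ D huR hcH hu'
  rw [hck] at hfix
  have := Γ.eq_of_data HF D hWH hWs hWc (hk.trans hfix)
  exact (map_injective (MulAut.conj h).injective this).symm

end Ctx

/-- In a simple group of Janko-four type two involutions not conjugate to `z` are conjugate. -/
theorem isConj_of_not_conj_z [Finite G] [IsSimpleGroup G] (S : Setting z P) (F : AutFacts innerM22)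
    {U₀ : Subgroup AutM22} (HI : InvFacts innerM22 U₀) (HF : HexFacts innerM22 U₀)
    (HO : HexOrbFacts innerM22 U₀) {t u : G} (ht : orderOf t = 2) (htc : ¬ IsConj z t) (hu : orderOf u = 2)
    (huc : ¬ IsConj z u) : IsConj t u := by
  obtain ⟨g, hs, hne⟩ := exists_conj_mem_core S F
  exact (Ctx.mk S F (fixBound S F)).isConj_of_not_conj HI HF HO ⟨hs, hne⟩ ht htc hu huc

end Cfsg.Agent.JankoFour
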