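import Cfsg.Agent.Lib.JankoFour.CentralizerT
import Cfsg.Agent.Lib.JankoFour.CentUnique
import Cfsg.Agent.Lib.JankoFour.InvClasses
import Cfsg.Agent.Lib.JankoFour.DuadMain

/-!
# Janko-four type: the centraliser of a non-central involution splits as `2^11 : Aut M22` (S5569)

`exists_split_centralizer`: given the certificates about `Aut M22`, all the hypotheses of
`centralizer_t_structure` hold for the elementary subgroup of order `2^11` of `C(z)`.
-/

set_option autoImplicit false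
set_option linter.unusedSectionVars false

namespace Cfsg.Agent.JankoFour

open Cfsg Subgroup

variable {G : Type*} [Group G]

theorem exists_split_centralizer [Finite G] [IsSimpleGroup G] {z : G} {P : Subgroup G}
    (S : Setting z P) (F : AutFacts innerM22) {U₀ : Subgroup AutM22} (HI : InvFacts innerM22 U₀)
    (HF : HexFacts innerM22 U₀) (HO : HexOrbFacts innerM22 U₀) (SF : SplitFacts innerM22 U₀)
    {t : G} (ht : orderOf t = 2) (htz : ¬ IsConj z t) :
    ∃ V' K' : Subgroup G, V' ≤ centralizer ({t} : Set G) ∧ K' ≤ centralizer ({t} : Set G) ∧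
      centralizer ({t} : Set G) ≤ normalizer (V' : Set G) ∧ Cfsg.IsElementaryAbelian 2 V' ∧
      Nat.card ↥V' = 2 ^ 11 ∧ K' ⊓ V' = ⊥ ∧ K' ⊔ V' = centralizer ({t} : Set G) ∧
      Nonempty (↥K' ≃* AutM22) := by
  obtain ⟨g, hgE, hgne⟩ := exists_conj_mem_core S F
  have hg₀ : Pt z g := ⟨hgE, hgne⟩
  let Γ : Ctx z P := Ctx.mk S F (fixBound S F)
  obtain ⟨gs, St⟩ := Γ.exists_star HF hg₀ 1
  rw [cj_one] at St
  obtain ⟨V₀, hV₀H, hsq₀, hc₀⟩ := Γ.exists_elementary_H HF hg₀
  obtain ⟨h, -, D⟩ := Γ.exists_data HF St hg₀ hsq₀ hc₀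
    (Γ.z_mem_elementary HF hg₀ hV₀H hsq₀ hc₀.ge)
  obtain ⟨K, Φ, π, M, hinf, hsup, hK, -⟩ := Γ.exists_complement_model HF HO hg₀ HI SF D
  refine centralizer_t_structure F M hsup hinf hK (fun u hu hu1 huz => ?_) (fun u v hu huz hv hvz => ?_)
    ht htz
  · exact Γ.unique_member HF hg₀ HO
      (fun V V' h1 h2 h3 h4 h5 h6 t htE ht1 htc h7 h8 =>
        Γ.eq_of_common_core HI HF HO hg₀ h1 h2 h3 h4 h5 h6 htE ht1 htc h7 h8)
      D.sq D.card hu hu1 huz
  · exact Γ.isConj_of_not_conj HI HF HO hg₀ hu huz hv hvz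

end Cfsg.Agent.JankoFour
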