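import Cfsg.Agent.Lib.JankoFour.PairModel
import Cfsg.Agent.Lib.Mathieu.Trans
import Cfsg.Prelude.Def_Spor_Mathieu

/-!
# Janko-four type: the centraliser of `t` as a split extension (glue for S5569)

`pairStabEquiv`: the stabiliser in M₂₄ of any pair of points is the automorphism group of M₂₂.
`exists_split_of_pair`: if `N(V) = V K`, `K` is M₂₄, `t ∈ V` is centralised in `K` by the stabiliser of a pair and
`C(t) ≤ N(V)`, then `C(t)` is `V` split by a copy of the automorphism group of M₂₂, and so is every conjugate.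
-/

set_option autoImplicit false

namespace Cfsg.Agent.JankoFour

open Cfsg Subgroup
open scoped Pointwise

/-- The stabiliser in M₂₄ of a pair of points is the automorphism group of M₂₂. -/
theorem pairStabEquiv {a b : GolayPt} (hab : a ≠ b) :
    Nonempty (↥(M24 ⊓ pairFix a b) ≃* AutM22) := by
  have h5 := Mathieu.M24_isMultiplyPretransitive
  have h2 : MulAction.IsMultiplyPretransitive M24 GolayPt 2 :=
    MulAction.isMultiplyPretransitive_of_le (n := 5) (by norm_num)
      (by simp [ENat.card_eq_coe_natCard, Nat.card_eq_fintype_card])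
  obtain ⟨g, hg1, hg2⟩ := MulAction.is_two_pretransitive_iff.mp h2
    (show (none : GolayPt) ≠ some 0 by simp) hab
  have hg1' : (g : Equiv.Perm GolayPt) none = a := hg1
  have hg2' : (g : Equiv.Perm GolayPt) (some 0) = b := hg2
  have himg : pairGrp.map (MulAut.conj (g : Equiv.Perm GolayPt)).toMonoidHom = M24 ⊓ pairFix a b := by
    ext x
    constructor
    · rintro ⟨y, hy, rfl⟩
      have hy' : y ∈ M24 ⊓ pairFix (none : GolayPt) (some 0) := hy
      refine Subgroup.mem_inf.mpr ⟨mul_mem (mul_mem g.2 hy'.1) (inv_mem g.2), mem_pairFix.mpr ?_⟩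
      have hi : ((g : Equiv.Perm GolayPt))⁻¹ a = none ∧ ((g : Equiv.Perm GolayPt))⁻¹ b = some 0 :=
        ⟨by rw [Equiv.Perm.inv_eq_iff_eq, hg1'], by rw [Equiv.Perm.inv_eq_iff_eq, hg2']⟩
      rcases mem_pairFix.mp hy'.2 with ⟨e1, e2⟩ | ⟨e1, e2⟩
      · refine Or.inl ⟨?_, ?_⟩ <;>
          simp only [MulEquiv.coe_toMonoidHom, MulAut.conj_apply, Equiv.Perm.mul_apply, hi.1, hi.2, e1, e2,
            hg1', hg2']
      · refine Or.inr ⟨?_, ?_⟩ <;>
          simp only [MulEquiv.coe_toMonoidHom, MulAut.conj_apply, Equiv.Perm.mul_apply, hi.1, hi.2, e1, e2,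
            hg1', hg2']
    · intro hx
      refine ⟨(g : Equiv.Perm GolayPt)⁻¹ * x * g, Subgroup.mem_inf.mpr ⟨mul_mem (mul_mem (inv_mem g.2) hx.1) g.2,
        mem_pairFix.mpr ?_⟩, by simp [mul_assoc]⟩
      have hi : ((g : Equiv.Perm GolayPt))⁻¹ a = none ∧ ((g : Equiv.Perm GolayPt))⁻¹ b = some 0 :=
        ⟨by rw [Equiv.Perm.inv_eq_iff_eq, hg1'], by rw [Equiv.Perm.inv_eq_iff_eq, hg2']⟩
      rcases mem_pairFix.mp hx.2 with ⟨e1, e2⟩ | ⟨e1, e2⟩
      · refine Or.inl ⟨?_, ?_⟩ <;>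
          simp only [Equiv.Perm.mul_apply, hg1', hg2', e1, e2, hi.1, hi.2]
      · refine Or.inr ⟨?_, ?_⟩ <;>
          simp only [Equiv.Perm.mul_apply, hg1', hg2', e1, e2, hi.1, hi.2]
  exact ⟨((MulEquiv.subgroupCongr himg).symm.trans
    (pairGrp.equivMapOfInjective _ (MulAut.conj (g : Equiv.Perm GolayPt)).injective).symm).trans pairEquiv⟩

variable {G : Type*} [Group G]

/-- `C(t') = V' K'` with `K'` the automorphism group of M₂₂, for `t'` conjugate to `t`. -/
theorem exists_split_of_pair {t t' : G} (hconj : IsConj t t') {V K : Subgroup G}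
    (hV : Cfsg.IsElementaryAbelian 2 V) (hVc : Nat.card ↥V = 2 ^ 11) (htV : t ∈ V)
    (hsup : K ⊔ V = normalizer (V : Set G)) (hinf : K ⊓ V = ⊥) (e : ↥K ≃* ↥M24)
    {a b : GolayPt} (hab : a ≠ b)
    (hst : ∀ k : ↥K, Commute (k : G) t ↔ ((e k : ↥M24) : Equiv.Perm GolayPt) ∈ pairFix a b)
    (hC : centralizer ({t} : Set G) ≤ normalizer (V : Set G)) :
    ∃ V' K' : Subgroup G, V' ≤ centralizer ({t'} : Set G) ∧ K' ≤ centralizer ({t'} : Set G) ∧
      centralizer ({t'} : Set G) ≤ normalizer (V' : Set G) ∧ Cfsg.IsElementaryAbelian 2 V' ∧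
      Nat.card ↥V' = 2 ^ 11 ∧ K' ⊓ V' = ⊥ ∧ K' ⊔ V' = centralizer ({t'} : Set G) ∧
      Nonempty (↥K' ≃* AutM22) := by
  obtain ⟨g, rfl⟩ := isConj_iff.mp hconj
  set K₀ := K ⊓ centralizer ({t} : Set G) with hK₀
  have hVC : V ≤ centralizer ({t} : Set G) := fun v hv => mem_centralizer_singleton_iff.mpr
    (congrArg Subtype.val (hV.1.is_comm.comm (⟨v, hv⟩ : ↥V) ⟨t, htV⟩))
  have hK₀C : K₀ ⊔ V = centralizer ({t} : Set G) := by
    refine le_antisymm (sup_le inf_le_right hVC) fun c hc => ?_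
    have hcN := hC hc
    rw [← hsup, ← SetLike.mem_coe, coe_mul_of_left_le_normalizer_right K V (hsup ▸ le_sup_left)] at hcN
    obtain ⟨k, hk, v, hv, rfl⟩ := hcN
    refine mul_mem (mem_sup_left (Subgroup.mem_inf.mpr ⟨hk, ?_⟩)) (mem_sup_right hv)
    have := mul_mem hc (inv_mem (hVC hv))
    rwa [mul_inv_cancel_right] at this
  have hiso : Nonempty (↥K₀ ≃* AutM22) := by
    obtain ⟨f⟩ := pairStabEquiv hab
    let φ : ↥K →* Equiv.Perm GolayPt := M24.subtype.comp e.toMonoidHom
    have hφ : Function.Injective φ := fun x y h => e.injective (Subtype.ext h)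
    have himg : ((centralizer ({t} : Set G)).subgroupOf K).map φ = M24 ⊓ pairFix a b := by
      ext x
      constructor
      · rintro ⟨k, hk, rfl⟩
        exact ⟨(e k).2, (hst k).mp (mem_centralizer_singleton_iff.mp hk)⟩
      · intro hx
        refine ⟨e.symm ⟨x, hx.1⟩, mem_centralizer_singleton_iff.mpr ((hst _).mpr ?_), ?_⟩
        · rw [MulEquiv.apply_symm_apply]; exact hx.2
        · show ((e (e.symm ⟨x, hx.1⟩) : ↥M24) : Equiv.Perm GolayPt) = x
          rw [MulEquiv.apply_symm_apply]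
    have hmap : ((centralizer ({t} : Set G)).subgroupOf K).map K.subtype = K₀ := by
      rw [subgroupOf_map_subtype, inf_comm]
    exact ⟨((MulEquiv.subgroupCongr hmap).symm.trans
      (((centralizer ({t} : Set G)).subgroupOf K).equivMapOfInjective _ K.subtype_injective).symm).trans
      (((((centralizer ({t} : Set G)).subgroupOf K).equivMapOfInjective φ hφ).trans
        (MulEquiv.subgroupCongr himg)).trans f)⟩
  set c := MulAut.conj g with hc
  have hCt : (centralizer ({t} : Set G)).map c.toMonoidHom = centralizer ({g * t * g⁻¹} : Set G) := by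
    ext x
    constructor
    · rintro ⟨y, hy, rfl⟩
      refine mem_centralizer_singleton_iff.mpr ?_
      have h := mem_centralizer_singleton_iff.mp hy
      show g * y * g⁻¹ * (g * t * g⁻¹) = g * t * g⁻¹ * (g * y * g⁻¹)
      calc g * y * g⁻¹ * (g * t * g⁻¹) = g * (y * t) * g⁻¹ := by group
        _ = g * (t * y) * g⁻¹ := by rw [h]
        _ = g * t * g⁻¹ * (g * y * g⁻¹) := by group
    · intro hx
      refine ⟨g⁻¹ * x * g, mem_centralizer_singleton_iff.mpr ?_, by simp [hc, mul_assoc]⟩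
      have h := mem_centralizer_singleton_iff.mp hx
      calc g⁻¹ * x * g * t = g⁻¹ * (x * (g * t * g⁻¹)) * g := by group
        _ = g⁻¹ * (g * t * g⁻¹ * x) * g := by rw [h]
        _ = t * (g⁻¹ * x * g) := by group
  refine ⟨V.map c.toMonoidHom, K₀.map c.toMonoidHom, ?_, ?_, ?_, ?_, ?_, ?_, ?_, ?_⟩
  · rw [← hCt]; exact map_mono hVC
  · rw [← hCt]; exact map_mono inf_le_right
  · rw [← hCt, ← V.map_equiv_normalizer_eq c]
    exact map_mono hC
  · refine ⟨⟨⟨?_⟩⟩, ?_⟩
    · rintro ⟨_, x, hx, rfl⟩ ⟨_, y, hy, rfl⟩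
      refine Subtype.ext ?_
      show c x * c y = c y * c x
      rw [← map_mul, ← map_mul]
      exact congrArg c (congrArg Subtype.val (hV.1.is_comm.comm (⟨x, hx⟩ : ↥V) ⟨y, hy⟩))
    · rintro _ ⟨x, hx, rfl⟩
      show c x ^ 2 = 1
      rw [← map_pow, hV.2 x hx, map_one]
  · rw [card_map_of_injective c.injective, hVc]
  · rw [← map_inf _ _ _ c.injective, hK₀, inf_right_comm, hinf, bot_inf_eq, Subgroup.map_bot]
  · rw [← Subgroup.map_sup, hK₀C, hCt]
  · obtain ⟨f⟩ := hiso
    exact ⟨(K₀.equivMapOfInjective _ c.injective).symm.trans f⟩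

end Cfsg.Agent.JankoFour
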