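import Cfsg.Agent.Lib.JankoFour.CentTModel
import Cfsg.Agent.Lib.JankoFour.SplitCentralizer

/-!
# Janko-four type: the centraliser of an involution not conjugate to `z` (assembly for S5569)

Given the duad model of `N(V)/V`, a complement `K` of order `|M₂₄|`, the uniqueness field and that the involutions not
conjugate to `z` form one class.
-/

set_option autoImplicit false

namespace Cfsg.Agent.JankoFour

open Cfsg Subgroup

variable {G : Type*} [Group G]

theorem centralizer_t_structure [Finite G] (F : AutFacts innerM22) {z : G} {V : Subgroup G}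
    {Φ : Multiplicative (GolayPt → ZMod 2) →* G} {π : ↥(normalizer (V : Set G)) →* ↥M24}
    (M : DuadModel z V Φ π) {K : Subgroup G} (hsup : K ⊔ V = normalizer (V : Set G)) (hinf : K ⊓ V = ⊥)
    (hK : Nat.card ↥K = Nat.card ↥M24)
    (huniq : ∀ t ∈ V, t ≠ 1 → ¬ IsConj z t → ∀ d ∈ V, IsConj z d → ∀ g : G, g⁻¹ * d * g ∈ V →
      g⁻¹ * t * g ∈ V → g ∈ normalizer (V : Set G))
    (hclass : ∀ u v : G, orderOf u = 2 → ¬ IsConj z u → orderOf v = 2 → ¬ IsConj z v → IsConj u v)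
    {t : G} (ht : orderOf t = 2) (htz : ¬ IsConj z t) :
    ∃ V' K' : Subgroup G, V' ≤ centralizer ({t} : Set G) ∧ K' ≤ centralizer ({t} : Set G) ∧
      centralizer ({t} : Set G) ≤ normalizer (V' : Set G) ∧ Cfsg.IsElementaryAbelian 2 V' ∧
      Nat.card ↥V' = 2 ^ 11 ∧ K' ⊓ V' = ⊥ ∧ K' ⊔ V' = centralizer ({t} : Set G) ∧
      Nonempty (↥K' ≃* AutM22) := by
  have hKN : K ≤ normalizer (V : Set G) := hsup ▸ le_sup_left
  let f : ↥K →* ↥M24 := π.comp (Subgroup.inclusion hKN)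
  have hinj : Function.Injective f := by
    refine (injective_iff_map_eq_one f).mpr fun k hk => Subtype.ext ?_
    have hv : (k : G) ∈ K ⊓ V := ⟨k.2, (M.pi_eq_one _).mp hk⟩
    rwa [hinf, mem_bot] at hv
  let e : ↥K ≃* ↥M24 := MulEquiv.ofBijective f ((Nat.bijective_iff_injective_and_card f).mpr ⟨hinj, hK⟩)
  have hab : (none : GolayPt) ≠ some 0 := by simp
  set t₀ := val Φ {(none : GolayPt), some 0} with ht₀
  have ht0V : t₀ ∈ V := M.pair_mem hab
  have ht01 : t₀ ≠ 1 := M.pair_ne_one hab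
  have ht0z : ¬ IsConj z t₀ := M.duad_nconj _ _ hab
  have ht0o : orderOf t₀ = 2 := orderOf_eq_prime (by rw [pow_two, M.sq _ ht0V]) ht01
  have hel : Cfsg.IsElementaryAbelian 2 V := by
    refine ⟨⟨⟨fun x y => Subtype.ext ?_⟩⟩, fun v hv => by rw [pow_two, M.sq v hv]⟩
    show (x : G) * y = y * x
    have hxy := M.sq _ (mul_mem x.2 y.2)
    have hx : (x : G)⁻¹ = x := inv_eq_of_mul_eq_one_right (M.sq _ x.2)
    have hy : (y : G)⁻¹ = y := inv_eq_of_mul_eq_one_right (M.sq _ y.2)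
    calc (x : G) * y = ((x : G) * y)⁻¹ := (inv_eq_of_mul_eq_one_right hxy).symm
      _ = y * x := by rw [_root_.mul_inv_rev, hx, hy]
  refine exists_split_of_pair (hclass t₀ t ht0o ht0z ht htz) hel M.card ht0V hsup hinf e hab (fun k => ?_)
    (M.centralizer_le F ht0V ht01 ht0z (huniq t₀ ht0V ht01 ht0z))
  rw [mem_pairFix]
  constructor
  · intro hc
    exact M.fix_or_swap hab (m := ⟨k, hKN k.2⟩) hc
  · intro hp
    have hm := M.move ⟨k, hKN k.2⟩ _ _ hab
    have hcases : ({(π ⟨k, hKN k.2⟩ : Equiv.Perm GolayPt) none, (π ⟨k, hKN k.2⟩ : Equiv.Perm GolayPt) (some 0)} :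
        Finset GolayPt) = {none, some 0} := by
      have e' : ((e k : ↥M24) : Equiv.Perm GolayPt) = (π ⟨k, hKN k.2⟩ : Equiv.Perm GolayPt) := rfl
      rw [e'] at hp
      rcases hp with ⟨h1, h2⟩ | ⟨h1, h2⟩ <;> rw [h1, h2]
      exact Finset.pair_comm _ _
    rw [hcases] at hm
    exact mul_inv_eq_iff_eq_mul.mp hm

end Cfsg.Agent.JankoFour
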