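import Cfsg.Agent.Lib.JankoFour.Basic
import Cfsg.Agent.Lib.Coprime.Commutator
import Cfsg.Agent.Lib.PGroup.Extraspecial
import Mathlib.GroupTheory.GroupAction.Quotient

/-!
# Janko-four type: `z` is isolated in `C(P)`

A conjugate `x ≠ z` of `z` under `C(P)` commuting with `z` would have an abelian centraliser in `E` of order `2 ^ 7`.
As the image of `x` is a square, a square root `y` would fix a subgroup of order 16 in `E`, on which `P` fixes only `⟨z⟩`.
-/

set_option autoImplicit false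

namespace Cfsg.Agent.JankoFour

open Subgroup LargeExtraspecial
open scoped commutatorElement Pointwise

variable {G : Type*} [Group G] {z : G} {P : Subgroup G}

theorem card_map_mul_ker {A B : Type*} [Group A] [Group B] (f : A →* B) {K : Subgroup A} (hk : f.ker ≤ K) :
    Nat.card ↥(K.map f) * Nat.card ↥f.ker = Nat.card ↥K := by
  have h := Subgroup.card_mul_index (f.comp K.subtype).ker
  rw [index_ker, MonoidHom.range_comp, range_subtype] at h
  rw [← h, mul_comm]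
  congr 1
  refine Nat.card_congr ((subgroupOfEquivOfLe hk).symm.toEquiv.trans (Equiv.setCongr ?_))
  rfl

theorem Setting.orderOf_z (S : Setting z P) : orderOf z = 2 :=
  orderOf_eq_prime (by rw [pow_two, S.hub.sq]) S.hub.ne_one

theorem Setting.card_zpowers_z (S : Setting z P) : Nat.card ↥(zpowers z) = 2 := by
  rw [Nat.card_zpowers, S.orderOf_z]

/-- `⟨z⟩` in `E`. -/
abbrev cZ (z : G) : Subgroup ↥(coreE z) := (zpowers z).subgroupOf (coreE z)

theorem Setting.cZ_normal (S : Setting z P) : (cZ z).Normal := by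
  refine ⟨fun a ha g => ?_⟩
  show (g : G) * a * (g : G)⁻¹ ∈ zpowers z
  have ha' : (a : G) ∈ zpowers z := ha
  rcases S.z_cases ha' with e | e <;> rw [e]
  · simp
  · rw [(S.hub.central _ g.2).eq, mul_inv_cancel_right]
    exact mem_zpowers z

theorem Setting.quot_comm (S : Setting z P) [(cZ z).Normal] (a b : ↥(coreE z) ⧸ cZ z) : a * b = b * a := by
  induction a using QuotientGroup.induction_on with
  | _ a =>
  induction b using QuotientGroup.induction_on with
  | _ b =>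
  rw [← QuotientGroup.mk_mul, ← QuotientGroup.mk_mul, eq_comm, QuotientGroup.eq]
  show ((b * a)⁻¹ * (a * b) : ↥(coreE z)).1 ∈ zpowers z
  rcases S.hub.comm _ a.2 _ b.2 with e | e
  · rw [show ((b * a)⁻¹ * (a * b) : ↥(coreE z)).1 =
      (a : G)⁻¹ * (b : G)⁻¹ * ((a : G) * b * (a : G)⁻¹) * a by simp; group, e]
    simp
  · rw [show ((b * a)⁻¹ * (a * b) : ↥(coreE z)).1 =
      (a : G)⁻¹ * (b : G)⁻¹ * ((a : G) * b * (a : G)⁻¹) * a by simp; group, e]
    rw [show (a : G)⁻¹ * (b : G)⁻¹ * ((b : G) * z) * a = (a : G)⁻¹ * (z * a) by group,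
      ← (S.hub.central _ a.2).eq, inv_mul_cancel_left]
    exact mem_zpowers z

theorem Setting.quot_sq (S : Setting z P) [(cZ z).Normal] (a : ↥(coreE z) ⧸ cZ z) : a * a = 1 := by
  induction a using QuotientGroup.induction_on with
  | _ a =>
  rw [← QuotientGroup.mk_mul, QuotientGroup.eq_one_iff]
  show (a : G) * (a : G) ∈ zpowers z
  rcases S.hub.sq_cases _ a.2 with e | e <;> rw [e]
  exacts [one_mem _, mem_zpowers z]

/-- `e ↦ e⁻¹ · u e u⁻¹` modulo `⟨z⟩`. -/
noncomputable def Setting.moveHom (S : Setting z P) [(cZ z).Normal] {u : G}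
    (hu : u ∈ centralizer ({z} : Set G)) : ↥(coreE z) →* ↥(coreE z) ⧸ cZ z where
  toFun e := QuotientGroup.mk
    ⟨(e : G)⁻¹ * (u * e * u⁻¹), mul_mem (inv_mem e.2)
      (S.hub.normalizes u (mem_centralizer_singleton_iff.mp hu) e e.2)⟩
  map_one' := (QuotientGroup.eq_one_iff _).mpr (by
    show ((1 : ↥(coreE z)) : G)⁻¹ * (u * (1 : ↥(coreE z)) * u⁻¹) ∈ zpowers z
    simp)
  map_mul' a b := by
    have e0 : (⟨((a * b : ↥(coreE z)) : G)⁻¹ * (u * (a * b : ↥(coreE z)) * u⁻¹), mul_mem (inv_mem (a * b).2)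
        (S.hub.normalizes u (mem_centralizer_singleton_iff.mp hu) _ (a * b).2)⟩ : ↥(coreE z)) =
        b⁻¹ * ⟨(a : G)⁻¹ * (u * a * u⁻¹), mul_mem (inv_mem a.2)
          (S.hub.normalizes u (mem_centralizer_singleton_iff.mp hu) a a.2)⟩ * b *
        ⟨(b : G)⁻¹ * (u * b * u⁻¹), mul_mem (inv_mem b.2)
          (S.hub.normalizes u (mem_centralizer_singleton_iff.mp hu) b b.2)⟩ := by
      apply Subtype.ext
      simp only [Subgroup.coe_mul, Subgroup.coe_inv]
      group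
    rw [e0]
    simp only [QuotientGroup.mk_mul, QuotientGroup.mk_inv]
    rw [S.quot_comm (QuotientGroup.mk b)⁻¹, inv_mul_cancel_right]

theorem Setting.mem_ker_moveHom (S : Setting z P) [(cZ z).Normal] {u : G}
    (hu : u ∈ centralizer ({z} : Set G)) {e : ↥(coreE z)} :
    e ∈ (S.moveHom hu).ker ↔ (e : G)⁻¹ * (u * e * u⁻¹) ∈ zpowers z :=
  (MonoidHom.mem_ker).trans (QuotientGroup.eq_one_iff _)

theorem Setting.cZ_le_ker (S : Setting z P) [(cZ z).Normal] {u : G}
    (hu : u ∈ centralizer ({z} : Set G)) : cZ z ≤ (S.moveHom hu).ker := fun e he => by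
  rw [S.mem_ker_moveHom hu]
  have he' : (e : G) ∈ zpowers z := he
  rcases S.z_cases he' with h | h <;> rw [h]
  · simp
  · rw [mem_centralizer_singleton_iff.mp hu, mul_inv_cancel_right, inv_mul_cancel]
    exact one_mem _

/-- The centraliser in `E` of a conjugate of `z` under `C(P)` is abelian. -/
theorem Setting.ker_abelian [Finite G] (S : Setting z P) [(cZ z).Normal] {h : G}
    (hh : h ∈ centralizer (P : Set G)) (hxX : h * z * h⁻¹ ∈ cX z P) (hne : h * z * h⁻¹ ≠ z) :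
    IsMulCommutative ↥(S.moveHom hxX.1).ker := by
  set x := h * z * h⁻¹ with hx
  set A := (S.moveHom hxX.1).ker.map (coreE z).subtype with hA
  have hmemA : ∀ {e : G}, e ∈ A → e ∈ coreE z ∧ ∃ w ∈ zpowers z, x * e * x⁻¹ = e * w := by
    rintro _ ⟨e, he, rfl⟩
    exact ⟨e.2, _, (S.mem_ker_moveHom hxX.1).mp he, (mul_inv_cancel_left _ _).symm⟩
  have hcl : ∀ p ∈ P, ∀ e ∈ A, p * e * p⁻¹ ∈ A := by
    intro p hp e he
    obtain ⟨heE, w, hw, hxe⟩ := hmemA he
    have hcp : x * p = p * x := (mem_centralizer_iff.mp hxX.2 p hp).symm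
    have hpe : p * e * p⁻¹ ∈ coreE z :=
      S.hub.normalizes p (mem_centralizer_singleton_iff.mp (S.P_le hp)) e heE
    refine ⟨⟨_, hpe⟩, (S.mem_ker_moveHom hxX.1).mpr ?_, rfl⟩
    have hwp : Commute p w := by
      rcases S.z_cases hw with rfl | rfl
      exacts [Commute.one_right p, mem_centralizer_singleton_iff.mp (S.P_le hp)]
    have h1 : x * (p * e * p⁻¹) * x⁻¹ = p * e * p⁻¹ * w := by
      calc x * (p * e * p⁻¹) * x⁻¹ = (x * p) * e * (x * p)⁻¹ := by group
        _ = p * (x * e * x⁻¹) * p⁻¹ := by rw [hcp]; group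
        _ = p * e * p⁻¹ * (p * w * p⁻¹) := by rw [hxe]; group
        _ = p * e * p⁻¹ * w := by rw [hwp.eq, mul_inv_cancel_right]
    show (p * e * p⁻¹)⁻¹ * (x * (p * e * p⁻¹) * x⁻¹) ∈ zpowers z
    rw [h1, inv_mul_cancel_left]
    exact hw
  have hPA : P ≤ normalizer (A : Set G) := fun p hp => mem_normalizer_iff.mpr fun e =>
    ⟨hcl p hp e, fun he => by
      have := hcl p⁻¹ (inv_mem hp) _ he
      rwa [show p⁻¹ * (p * e * p⁻¹) * p⁻¹⁻¹ = e by group] at this⟩
  have hAE : A ≤ coreE z := map_subtype_le _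
  have hcop : (Nat.card P).Coprime (Nat.card A) := by
    have : (Nat.card P).Coprime (2 ^ 13) := by rw [S.card_P]; norm_num
    exact this.coprime_dvd_right (S.card_E ▸ card_dvd_of_le hAE)
  have hPsol : Group.IsSolvable ↥P := by
    have : Fact (Nat.Prime 3) := ⟨Nat.prime_three⟩
    have : Group.IsNilpotent ↥P := (IsPGroup.of_card (p := 3) (n := 1) S.card_P).isNilpotent
    infer_instance
  have hxx : x * x = 1 := by
    rw [hx, show h * z * h⁻¹ * (h * z * h⁻¹) = h * (z * z) * h⁻¹ by group, S.hub.sq]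
    group
  have hcom1 : ⁅A, P⁆ ≤ coreE z ⊓ centralizer ({x} : Set G) := by
    rw [commutator_le]
    intro e he p hp
    obtain ⟨heE, w, hw, hxe⟩ := hmemA he
    have hcp : x * p = p * x := (mem_centralizer_iff.mp hxX.2 p hp).symm
    refine Subgroup.mem_inf.mpr ⟨?_, mem_centralizer_singleton_iff.mpr ?_⟩
    · rw [commutatorElement_def, show e * p * e⁻¹ * p⁻¹ = e * (p * e⁻¹ * p⁻¹) by group]
      exact mul_mem heE (S.hub.normalizes p (mem_centralizer_singleton_iff.mp (S.P_le hp)) _ (inv_mem heE))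
    · rw [eq_comm, ← mul_inv_eq_iff_eq_mul, commutatorElement_def]
      have hwp : Commute w p := by
        rcases S.z_cases hw with rfl | rfl
        exacts [Commute.one_left p, (mem_centralizer_singleton_iff.mp (S.P_le hp)).symm]
      calc x * (e * p * e⁻¹ * p⁻¹) * x⁻¹
          = (x * e * x⁻¹) * (x * p * x⁻¹) * (x * e * x⁻¹)⁻¹ * (x * p * x⁻¹)⁻¹ := by group
        _ = e * (w * p * w⁻¹) * e⁻¹ * p⁻¹ := by
          rw [hxe, mul_inv_eq_iff_eq_mul.mpr hcp]; group
        _ = e * p * e⁻¹ * p⁻¹ := by rw [hwp.eq, mul_inv_cancel_right]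
  have hdec : ∀ e ∈ A, ∃ c ∈ zpowers z, ∃ m ∈ ⁅A, P⁆, e = c * m := by
    intro e he
    obtain ⟨c, hc, m, hm, hem⟩ := Coprime.exists_centralizer_mul_commutator hPA hcop (Or.inl hPsol) he
    exact ⟨c, S.fix ▸ ⟨hAE hc.1, hc.2⟩, m, hm, hem⟩
  have hAx : ∀ e ∈ A, Commute e x := by
    intro e he
    obtain ⟨c, hc, m, hm, rfl⟩ := hdec e he
    refine Commute.mul_left ?_ (mem_centralizer_singleton_iff.mp (hcom1 hm).2)
    rcases S.z_cases hc with rfl | rfl
    exacts [Commute.one_left x, mem_centralizer_singleton_iff.mp hxX.1 |>.symm]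
  have hcom2 : ⁅A, P⁆ ≤ (coreE z).map (MulAut.conj h).toMonoidHom := by
    rw [commutator_le]
    intro e he p hp
    have hcp : h⁻¹ * p * h = p := by
      rw [mul_assoc, mem_centralizer_iff.mp hh p hp, inv_mul_cancel_left]
    have he' : h⁻¹ * e * h ∈ centralizer ({z} : Set G) := mem_centralizer_singleton_iff.mpr (by
      have := (hAx e he).eq
      calc h⁻¹ * e * h * z = h⁻¹ * (e * x) * h := by rw [hx]; group
        _ = h⁻¹ * (x * e) * h := by rw [this]
        _ = z * (h⁻¹ * e * h) := by rw [hx]; group)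
    set v := ⁅h⁻¹ * e * h, p⁆ with hv
    have hveq : v = h⁻¹ * ⁅e, p⁆ * h := by
      conv_lhs => rw [hv, ← hcp]
      simp only [commutatorElement_def]
      group
    have hvN : v ∈ coreE z ⊔ P := by
      have hvH : v ∈ centralizer ({z} : Set G) :=
        mul_mem (mul_mem (mul_mem he' (S.P_le hp)) (inv_mem he')) (inv_mem (S.P_le hp))
      refine (S.pi_eq_one ⟨v, hvH⟩).mp ?_
      rw [show (⟨v, hvH⟩ : ↥(centralizer ({z} : Set G))) =
          ⁅(⟨_, he'⟩ : ↥(centralizer ({z} : Set G))), (⟨p, S.P_le hp⟩ : ↥(centralizer ({z} : Set G)))⁆ from rfl,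
        map_commutatorElement, (S.pi_eq_one ⟨p, S.P_le hp⟩).mpr (mem_sup_right hp),
        commutatorElement_one_right]
    have hvE : v ∈ coreE z := by
      obtain ⟨k, hk⟩ := (IsPGroup.of_card (p := 2) S.card_E)
        ⟨⁅e, p⁆, (hcom1 (commutator_mem_commutator he hp)).1⟩
      refine S.mem_E_of_pow hvN (k := k) ?_
      have hk' : ⁅e, p⁆ ^ 2 ^ k = 1 := congrArg Subtype.val hk
      have := conj_pow (i := 2 ^ k) (a := h⁻¹) (b := ⁅e, p⁆)
      rw [hk', inv_inv, mul_one, inv_mul_cancel] at this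
      rw [hveq, this]
    refine ⟨v, hvE, ?_⟩
    rw [hveq]
    simp [MulAut.conj_apply, mul_assoc]
  have hmm : ∀ m ∈ ⁅A, P⁆, ∀ n ∈ ⁅A, P⁆, Commute m n := by
    intro m hm n hn
    rcases S.hub.comm m (hcom1 hm).1 n (hcom1 hn).1 with e | e
    · exact mul_inv_eq_iff_eq_mul.mp e
    rcases (S.hub.conj h).comm m (hcom2 hm) n (hcom2 hn) with e' | e'
    · exact mul_inv_eq_iff_eq_mul.mp e'
    · exact absurd (mul_left_cancel (e'.symm.trans e)) hne
  refine ⟨⟨fun a b => Subtype.ext (Subtype.ext ?_)⟩⟩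
  show ((a : ↥(coreE z)) : G) * ((b : ↥(coreE z)) : G) = ((b : ↥(coreE z)) : G) * ((a : ↥(coreE z)) : G)
  obtain ⟨c, hc, m, hm, ha⟩ := hdec _ ⟨a.1, a.2, rfl⟩
  obtain ⟨d, hd, n, hn, hb⟩ := hdec _ ⟨b.1, b.2, rfl⟩
  have hzm : ∀ w ∈ zpowers z, ∀ q ∈ coreE z, Commute w q := fun w hw q hq => by
    rcases S.z_cases hw with rfl | rfl
    exacts [Commute.one_left q, (S.hub.central q hq).symm]
  have hzE : ∀ w ∈ zpowers z, w ∈ coreE z := fun w hw => by
    rw [← S.fix] at hw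
    exact hw.1
  simp only [Subgroup.coe_subtype] at ha hb
  rw [ha, hb]
  exact ((hzm c hc d (hzE d hd)).mul_right (hzm c hc n (hcom1 hn).1)).mul_left
    ((hzm d hd m (hcom1 hm).1).symm.mul_right (hmm m hm n hn))

/-- `P` fixes only `⟨z⟩` in a `P`-invariant subgroup of `E`, so its order is `2` modulo `3`. -/
theorem Setting.card_mod_three [Finite G] (S : Setting z P) {D : Subgroup G} (hDE : D ≤ coreE z)
    (hzD : z ∈ D) (hinv : ∀ p ∈ P, ∀ d ∈ D, p * d * p⁻¹ ∈ D) : Nat.card ↥D % 3 = 2 := by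
  letI : MulAction ↥P ↥D :=
    { smul := fun p d => ⟨(p : G) * d * (p : G)⁻¹, hinv p p.2 d d.2⟩
      one_smul := fun d => Subtype.ext (by show (1 : G) * d * (1 : G)⁻¹ = d; group)
      mul_smul := fun p q d => Subtype.ext (by
        show ((p * q : ↥P) : G) * d * ((p * q : ↥P) : G)⁻¹ = (p : G) * ((q : G) * d * (q : G)⁻¹) * (p : G)⁻¹
        rw [Subgroup.coe_mul]
        group) }
  have : Fact (Nat.Prime 3) := ⟨Nat.prime_three⟩
  have hmod := IsPGroup.card_modEq_card_fixedPoints (IsPGroup.of_card (p := 3) (n := 1) S.card_P) ↥D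
  have hfix : Nat.card (MulAction.fixedPoints ↥P ↥D) = 2 := by
    rw [← S.card_zpowers_z]
    refine Nat.card_congr
      ⟨fun d => ⟨(d.1 : G), S.fix ▸ ⟨hDE d.1.2, mem_centralizer_iff.mpr fun p hp => ?_⟩⟩,
        fun w => ⟨⟨(w : G), (zpowers_le.mpr hzD) w.2⟩, fun p => ?_⟩, fun d => rfl, fun w => rfl⟩
    · exact mul_inv_eq_iff_eq_mul.mp (congrArg Subtype.val (d.2 ⟨p, hp⟩))
    · apply Subtype.ext
      show (p : G) * w * (p : G)⁻¹ = w
      rcases S.z_cases w.2 with e | e <;> rw [e]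
      · simp
      · rw [mem_centralizer_singleton_iff.mp (S.P_le p.2), mul_inv_cancel_right]
  rw [hfix] at hmod
  exact hmod

theorem isolatedIn [Finite G] (S : Setting z P) (F : AutFacts innerM22) : IsolatedIn z P := by
  intro h hh hcomm
  by_contra hne
  have : (cZ z).Normal := S.cZ_normal
  have : Fact (Nat.Prime 2) := ⟨Nat.prime_two⟩
  set x := h * z * h⁻¹ with hx
  have hzP : z ∈ centralizer (P : Set G) := S.z_mem_X.2
  have hxX : x ∈ cX z P :=
    Subgroup.mem_inf.mpr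
      ⟨mem_centralizer_singleton_iff.mpr hcomm.eq.symm, mul_mem (mul_mem hh hzP) (inv_mem hh)⟩
  have hxx : x * x = 1 := by
    rw [hx, show h * z * h⁻¹ * (h * z * h⁻¹) = h * (z * z) * h⁻¹ by group, S.hub.sq]
    group
  have hx1 : x ≠ 1 := fun e => S.hub.ne_one (conj_eq_one_iff.mp e)
  set a := S.pi ⟨x, hxX.1⟩ with ha
  have ha1 : a ≠ 1 := by
    intro e
    obtain ⟨w, hw, p, hp, hwp⟩ := S.mem_zpowers_mul_of_mem_sup ((S.pi_eq_one _).mp e) hxX.2
    have hxE : x ∈ coreE z := S.mem_E_of_pow ((S.pi_eq_one _).mp e) (k := 1) (by rw [pow_one, pow_two, hxx])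
    have : x ∈ zpowers z := by rw [← S.fix]; exact ⟨hxE, hxX.2⟩
    exact (S.z_cases this).elim hx1 hne
  have ha2 : orderOf a = 2 := by
    refine orderOf_eq_prime ?_ ha1
    rw [ha, ← map_pow, show (⟨x, hxX.1⟩ : ↥(centralizer ({z} : Set G))) ^ 2 = 1 from Subtype.ext (by
      show x ^ 2 = 1; rw [pow_two, hxx]), map_one]
  obtain ⟨b, hb, hbb⟩ := F.invol_sq a (S.pi_X_mem hxX) ha2
  obtain ⟨y₁, hy₁, hy₁b⟩ := S.exists_lift hb
  obtain ⟨w, hw, p, hp, hwp⟩ : ∃ w ∈ zpowers z, ∃ p ∈ P, x⁻¹ * (y₁ * y₁) = w * p := by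
    refine S.mem_zpowers_mul_of_mem_sup ((S.pi_eq_one (⟨x, hxX.1⟩⁻¹ * (⟨y₁, hy₁.1⟩ * ⟨y₁, hy₁.1⟩))).mp ?_)
      (mul_mem (inv_mem hxX.2) (mul_mem hy₁.2 hy₁.2))
    rw [map_mul, map_inv, map_mul, hy₁b, hbb, ← ha, inv_mul_cancel]
  set y := y₁ * p with hy
  have hyX : y ∈ cX z P := mul_mem hy₁ (S.P_le_X hp)
  have hp3 : p ^ 3 = 1 := by
    rw [← S.card_P]
    exact congrArg Subtype.val (pow_card_eq_one' (x := (⟨p, hp⟩ : ↥P)))
  have hyy : y * y = x * w := by
    have hc : Commute p y₁ := mem_centralizer_iff.mp hy₁.2 p hp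
    have h1 : y₁ * y₁ = x * (w * p) := by rw [← hwp, mul_inv_cancel_left]
    calc y * y = y₁ * (p * y₁) * p := by rw [hy]; group
      _ = y₁ * y₁ * (p * p) := by rw [hc.eq]; group
      _ = x * w * p ^ 3 := by rw [h1, pow_succ, pow_two]; group
      _ = x * w := by rw [hp3, mul_one]
  have hwc : ∀ g ∈ centralizer ({z} : Set G), Commute w g := fun g hg => by
    rcases S.z_cases hw with rfl | rfl
    exacts [Commute.one_left g, (mem_centralizer_singleton_iff.mp hg).symm]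
  set fx := S.moveHom hxX.1 with hfx
  set fy := S.moveHom hyX.1 with hfy
  let lift : ↥(coreE z) → ↥(coreE z) := fun e => ⟨(e : G)⁻¹ * (y * e * y⁻¹),
    mul_mem (inv_mem e.2) (S.hub.normalizes y (mem_centralizer_singleton_iff.mp hyX.1) e e.2)⟩
  have hlift : ∀ e : ↥(coreE z), QuotientGroup.mk (lift e) = fy e := fun e => rfl
  have hsq : ∀ e, fy (lift e) = fx e := by
    intro e
    let A : ↥(coreE z) := ⟨y * e * y⁻¹, S.hub.normalizes y (mem_centralizer_singleton_iff.mp hyX.1) e e.2⟩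
    let X : ↥(coreE z) := ⟨x * e * x⁻¹, S.hub.normalizes x (mem_centralizer_singleton_iff.mp hxX.1) e e.2⟩
    have e1 : fy (lift e) = QuotientGroup.mk ((e⁻¹ * A)⁻¹ * (A⁻¹ * X)) := by
      refine congrArg QuotientGroup.mk (Subtype.ext ?_)
      show ((e : G)⁻¹ * (y * e * y⁻¹))⁻¹ * (y * ((e : G)⁻¹ * (y * e * y⁻¹)) * y⁻¹) =
        ((e : G)⁻¹ * (y * e * y⁻¹))⁻¹ * ((y * e * y⁻¹)⁻¹ * (x * e * x⁻¹))
      have : x * (e : G) * x⁻¹ = (y * y) * e * (y * y)⁻¹ := by
        rw [hyy, show x * w * (e : G) * (x * w)⁻¹ = x * (w * e * w⁻¹) * x⁻¹ by group,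
          (hwc _ (S.E_le e.2)).eq, mul_inv_cancel_right]
      rw [this]
      group
    have e2 : fx e = QuotientGroup.mk (e⁻¹ * X) := rfl
    rw [e1, e2]
    simp only [QuotientGroup.mk_mul, QuotientGroup.mk_inv, mul_inv_rev, inv_inv]
    set E' := (QuotientGroup.mk e : ↥(coreE z) ⧸ cZ z)
    set A' := (QuotientGroup.mk A : ↥(coreE z) ⧸ cZ z)
    have hi : ∀ q : ↥(coreE z) ⧸ cZ z, q⁻¹ = q := fun q => inv_eq_of_mul_eq_one_right (S.quot_sq q)
    rw [hi A', hi E', S.quot_comm A' E', mul_assoc, ← mul_assoc A' A', S.quot_sq, one_mul]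
  have hab := S.ker_abelian hh hxX hne
  have hkx : Nat.card ↥fx.ker ^ 2 ≤ 2 * 2 ^ 13 :=
    S.card_E ▸ PGroup.extraspecial_abelian_card_le S.extra hab
  have hmk : (QuotientGroup.mk' (cZ z)).ker = cZ z := QuotientGroup.ker_mk' _
  have hcZ : Nat.card ↥(cZ z) = 2 := by
    have : zpowers z ≤ coreE z := by rw [← S.fix]; exact inf_le_left
    rw [Nat.card_congr (subgroupOfEquivOfLe this).toEquiv, S.card_zpowers_z]
  have hx_le : fx.range ≤ fx.ker.map (QuotientGroup.mk' (cZ z)) := by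
    rintro _ ⟨e, rfl⟩
    refine ⟨_, (S.mem_ker_moveHom hxX.1).mpr ?_, rfl⟩
    show ((e : G)⁻¹ * (x * e * x⁻¹))⁻¹ * (x * ((e : G)⁻¹ * (x * e * x⁻¹)) * x⁻¹) ∈ zpowers z
    have hxi : x⁻¹ = x := inv_eq_of_mul_eq_one_right hxx
    have : x * ((e : G)⁻¹ * (x * e * x⁻¹)) * x⁻¹ = ((e : G)⁻¹ * (x * e * x⁻¹))⁻¹ := by
      simp only [hxi, mul_inv_rev, inv_inv, mul_assoc, hxx, mul_one]
    rw [this, ← mul_inv_rev]
    refine inv_mem ?_
    rcases S.hub.sq_cases _ (mul_mem (inv_mem e.2)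
      (S.hub.normalizes x (mem_centralizer_singleton_iff.mp hxX.1) e e.2)) with q | q <;> rw [q]
    exacts [one_mem _, mem_zpowers z]
  have hxy : fx.range ≤ fy.range := by
    rintro _ ⟨e, rfl⟩
    exact ⟨lift e, hsq e⟩
  have hyx : fy.ker ≤ fx.ker := fun e he => by
    rw [MonoidHom.mem_ker, ← hsq, ← MonoidHom.mem_ker]
    exact S.cZ_le_ker hyX.1 ((QuotientGroup.eq_one_iff _).mp ((hlift e).trans he))
  have hEx : Nat.card ↥fx.ker * Nat.card ↥fx.range = 2 ^ 13 := by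
    rw [← index_ker, Subgroup.card_mul_index, S.card_E]
  have hEy : Nat.card ↥fy.ker * Nat.card ↥fy.range = 2 ^ 13 := by
    rw [← index_ker, Subgroup.card_mul_index, S.card_E]
  have hmx := card_map_mul_ker (QuotientGroup.mk' (cZ z)) (K := fx.ker)
    (hmk.le.trans (S.cZ_le_ker hxX.1))
  rw [hmk, hcZ] at hmx
  have hle : Nat.card ↥fx.range ≤ Nat.card ↥(fx.ker.map (QuotientGroup.mk' (cZ z))) :=
    Nat.le_of_dvd Nat.card_pos (card_dvd_of_le hx_le)
  have hk7 : Nat.card ↥fx.ker = 2 ^ 7 := by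
    obtain ⟨m, hm, hm'⟩ := (Nat.dvd_prime_pow Nat.prime_two).mp (S.card_E ▸ card_subgroup_dvd_card fx.ker)
    rw [hm'] at hkx hEx hmx ⊢
    interval_cases m <;> omega
  have hxeq : fx.range = fx.ker.map (QuotientGroup.mk' (cZ z)) :=
    eq_of_le_of_card_ge hx_le (by rw [hk7] at hEx hmx; omega)
  set U := fy.range.comap (QuotientGroup.mk' (cZ z)) with hU
  have hmU := card_map_mul_ker (QuotientGroup.mk' (cZ z)) (K := U)
    (MonoidHom.ker_le_comap _ _)
  rw [hmk, hcZ, hU, map_comap_eq_self_of_surjective (QuotientGroup.mk'_surjective _), ← hU] at hmU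
  have hkU : fy.ker ≤ U := fun e he => by
    have : QuotientGroup.mk' (cZ z) e ∈ fx.range := hxeq ▸ mem_map_of_mem _ (hyx he)
    exact hxy this
  have hmy := card_map_mul_ker fy hkU
  have himg : U.map fy = fx.range := by
    refine le_antisymm ?_ ?_
    · rintro _ ⟨e', ⟨e, he⟩, rfl⟩
      refine ⟨e, ?_⟩
      have hd : (lift e)⁻¹ * e' ∈ cZ z := QuotientGroup.eq.mp ((hlift e).trans he)
      have := S.cZ_le_ker hyX.1 hd
      rw [MonoidHom.mem_ker, map_mul, map_inv, inv_mul_eq_one] at this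
      exact (hsq e).symm.trans this
    · rintro _ ⟨e, rfl⟩
      exact ⟨lift e, ⟨e, (hlift e).symm⟩, hsq e⟩
  rw [himg] at hmy
  have hr6 : Nat.card ↥fx.range = 2 ^ 6 := by rw [hk7] at hEx; omega
  have hk4 : Nat.card ↥fy.ker = 2 ^ 4 := by
    obtain ⟨m, hm, hm'⟩ := (Nat.dvd_prime_pow Nat.prime_two).mp (S.card_E ▸ card_subgroup_dvd_card fy.ker)
    rw [hm'] at hmy hEy ⊢
    rw [hr6] at hmy
    interval_cases m <;> omega
  have hD := S.card_mod_three (D := fy.ker.map (coreE z).subtype) (map_subtype_le _)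
    ⟨⟨z, S.hub.mem⟩, S.cZ_le_ker hyX.1 (mem_zpowers z), rfl⟩ (by
      rintro q hq _ ⟨e, he, rfl⟩
      have hqH := S.P_le hq
      refine ⟨⟨_, S.hub.normalizes q (mem_centralizer_singleton_iff.mp hqH) e e.2⟩,
        (S.mem_ker_moveHom hyX.1).mpr ?_, rfl⟩
      have he' := (S.mem_ker_moveHom hyX.1).mp he
      have hcq : y * q = q * y := (mem_centralizer_iff.mp hyX.2 q hq).symm
      show (q * (e : G) * q⁻¹)⁻¹ * (y * (q * (e : G) * q⁻¹) * y⁻¹) ∈ zpowers z
      have : (q * (e : G) * q⁻¹)⁻¹ * (y * (q * (e : G) * q⁻¹) * y⁻¹) =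
          q * ((e : G)⁻¹ * (y * e * y⁻¹)) * q⁻¹ := by
        rw [show y * (q * (e : G) * q⁻¹) * y⁻¹ = (y * q) * e * (y * q)⁻¹ by group, hcq]
        group
      rw [this]
      rcases S.z_cases he' with q' | q' <;> rw [q']
      · simp
      · rw [mem_centralizer_singleton_iff.mp hqH, mul_inv_cancel_right]
        exact mem_zpowers z)
  rw [card_map_of_injective (coreE z).subtype_injective, hk4] at hD
  norm_num at hD

end Cfsg.Agent.JankoFour
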