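import Cfsg.Agent.Lib.JankoFour.Three
import Cfsg.Agent.Lib.JankoFour.Isolation
import Cfsg.Agent.Lib.ZStar.Main
import Cfsg.Agent.Lib.PCore.Basic
import Cfsg.Agent.Lib.Mathieu.Groups
import Cfsg.Prelude.Def_Spor_Mathieu

/-!
# Janko-four type: `X` as a sixfold cover, and the normaliser of `P`
-/

set_option autoImplicit false

namespace Cfsg.Agent.JankoFour

open Subgroup LargeExtraspecial
open scoped commutatorElement Pointwise

variable {G : Type*} [Group G] {z : G} {P : Subgroup G}

theorem inner_center_eq_bot (F : AutFacts innerM22) : center ↥innerM22 = ⊥ := by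
  have := F.simple
  rcases (inferInstance : (center ↥innerM22).Normal).eq_bot_or_eq_top with h | h
  · exact h
  exfalso
  have hc : IsMulCommutative ↥innerM22 := ⟨⟨fun a b => mem_center_iff.mp (h ▸ mem_top b) a⟩⟩
  letI : CommGroup ↥innerM22 := { (inferInstance : Group ↥innerM22) with mul_comm := hc.is_comm.comm }
  have hp := IsSimpleGroup.prime_card (α := ↥innerM22)
  rw [F.card_inner] at hp
  exact absurd (hp.eq_one_or_self_of_dvd 2 (by norm_num)) (by norm_num)

theorem inner_perfect (F : AutFacts innerM22) : commutator ↥innerM22 = ⊤ := by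
  have := F.simple
  refine ((inferInstance : (commutator ↥innerM22).Normal).eq_bot_or_eq_top).resolve_left fun h => ?_
  have := (commutator_eq_bot_iff_center_eq_top _).mp h
  rw [inner_center_eq_bot F] at this
  have hcard := F.card_inner
  rw [← card_top, ← this, card_bot] at hcard
  norm_num at hcard

theorem Setting.zP_central (S : Setting z P) {v : G} (hv : v ∈ zpowers z ⊔ P) {g : G} (hg : g ∈ cX z P) :
    Commute v g := by
  have hle : zpowers z ⊔ P ≤ centralizer ({g} : Set G) := by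
    refine sup_le (zpowers_le.mpr ?_) fun q hq => ?_
    · exact mem_centralizer_singleton_iff.mpr (mem_centralizer_singleton_iff.mp hg.1).symm
    · exact mem_centralizer_singleton_iff.mpr (mem_centralizer_iff.mp hg.2 q hq)
  exact mem_centralizer_singleton_iff.mp (hle hv)

theorem Setting.center_X (S : Setting z P) (F : AutFacts innerM22) :
    center ↥(cX z P) = S.piX.ker := by
  ext x
  constructor
  · intro hx
    have hI : S.piX x ∈ innerM22 := S.range_piX ▸ ⟨x, rfl⟩
    have hc : (⟨S.piX x, hI⟩ : ↥innerM22) ∈ center ↥innerM22 := by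
      refine mem_center_iff.mpr ?_
      rintro ⟨b, hb⟩
      obtain ⟨y, rfl⟩ : b ∈ S.piX.range := S.range_piX.symm ▸ hb
      refine Subtype.ext ?_
      show S.piX y * S.piX x = S.piX x * S.piX y
      rw [← map_mul, ← map_mul, mem_center_iff.mp hx y]
    rw [inner_center_eq_bot F, mem_bot] at hc
    exact MonoidHom.mem_ker.mpr (congrArg Subtype.val hc)
  · intro hx
    exact mem_center_iff.mpr fun g => Subtype.ext (S.zP_central (S.mem_ker_piX.mp hx) g.2).eq.symm

theorem Setting.derived_eq (S : Setting z P) (F : AutFacts innerM22) (hz : z ∈ ⁅cX z P, cX z P⁆) :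
    ⁅cX z P, cX z P⁆ = cX z P := by
  refine le_antisymm (commutator_le.mpr fun a ha b hb =>
    mul_mem (mul_mem (mul_mem ha hb) (inv_mem ha)) (inv_mem hb)) fun g hg => ?_
  have himg : (commutator ↥(cX z P)).map S.piX = innerM22 := by
    rw [_root_.commutator_def, map_commutator, ← MonoidHom.range_eq_map, S.range_piX]
    have := congrArg (Subgroup.map innerM22.subtype) (inner_perfect F)
    rw [map_subtype_commutator, ← MonoidHom.range_eq_map, range_subtype] at this
    exact this
  obtain ⟨c, hc, hcg⟩ : S.piX ⟨g, hg⟩ ∈ (commutator ↥(cX z P)).map S.piX := himg ▸ S.pi_X_mem hg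
  have hker : c⁻¹ * ⟨g, hg⟩ ∈ S.piX.ker := by rw [MonoidHom.mem_ker, map_mul, map_inv, hcg, inv_mul_cancel]
  have h1 : (c : G)⁻¹ * g ∈ ⁅cX z P, cX z P⁆ :=
    sup_le (zpowers_le.mpr hz) S.P_le_derived (S.mem_ker_piX.mp hker)
  have h2 : (c : G) ∈ ⁅cX z P, cX z P⁆ := map_subtype_commutator (cX z P) ▸ ⟨c, hc, rfl⟩
  have := mul_mem h2 h1
  rwa [mul_inv_cancel_left] at this

/-- The cyclic centre of order six and the quotient. -/
theorem Setting.cover [Finite G] (S : Setting z P) (F : AutFacts innerM22) :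
    IsCyclic ↥(center ↥(cX z P)) ∧ Nat.card ↥(center ↥(cX z P)) = 6 ∧
      Cfsg.Spor.IsoM22 (↥(cX z P) ⧸ center ↥(cX z P)) := by
  have hcen := S.center_X F
  have hk : S.piX.ker = (zpowers z ⊔ P).subgroupOf (cX z P) := by
    ext x
    rw [S.mem_ker_piX, mem_subgroupOf]
  have hcard : Nat.card ↥(center ↥(cX z P)) = 6 := by
    rw [hcen, hk, Nat.card_congr (subgroupOfEquivOfLe (sup_le S.zpowers_le_X S.P_le_X)).toEquiv, S.card_zP]
  obtain ⟨p, hp, hp1⟩ : ∃ p ∈ P, p ≠ 1 := by
    by_contra hall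
    push Not at hall
    have := S.card_P
    rw [show P = ⊥ from (eq_bot_iff_forall P).mpr hall, card_bot] at this
    norm_num at this
  have : Fact (Nat.Prime 3) := ⟨Nat.prime_three⟩
  have hop : orderOf p = 3 := orderOf_eq_prime (S.P_pow_three hp) hp1
  have hzp : z * p ∈ zpowers z ⊔ P := mul_mem (mem_sup_left (mem_zpowers z)) (mem_sup_right hp)
  have hord : orderOf (z * p) = 6 := by
    rw [Commute.orderOf_mul_eq_mul_orderOf_of_coprime
      (mem_centralizer_singleton_iff.mp (S.P_le hp) : Commute p z).symm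
      (by rw [S.orderOf_z, hop]; norm_num), S.orderOf_z, hop]
  have hmem : (⟨z * p, mul_mem S.z_mem_X (S.P_le_X hp)⟩ : ↥(cX z P)) ∈ center ↥(cX z P) := by
    rw [hcen, S.mem_ker_piX]
    exact hzp
  refine ⟨isCyclic_of_orderOf_eq_card ⟨_, hmem⟩ (by rw [← orderOf_coe, ← orderOf_coe, hcard]; exact hord),
    hcard, ?_⟩
  have hinj : Function.Injective (MulAut.conj : ↥Cfsg.Spor.M22 →* MulAut ↥Cfsg.Spor.M22) := by
    intro a b hab
    by_contra hne
    have h1 : Nat.card ↥innerM22 = Nat.card ↥Cfsg.Spor.M22 → False := fun hc => by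
      have hb := (Nat.bijective_iff_surjective_and_card
        ((MulAut.conj : ↥Cfsg.Spor.M22 →* MulAut ↥Cfsg.Spor.M22).rangeRestrict : _ → _)).mpr
        ⟨MonoidHom.rangeRestrict_surjective _, hc.symm⟩
      exact hne (hb.1 (Subtype.ext hab))
    exact h1 (by rw [F.card_inner, Mathieu.card_M22])
  exact ⟨(QuotientGroup.quotientMulEquivOfEq hcen).trans ((QuotientGroup.quotientKerEquivRange S.piX).trans
    ((MulEquiv.subgroupCongr S.range_piX).trans (MonoidHom.ofInjective hinj).symm))⟩

/-- `C(P) = X`, given that `P` is the odd core of `C(P)`. -/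
theorem Setting.centralizer_P_le [Finite G] (S : Setting z P) (F : AutFacts innerM22)
    (hO : ∀ O : Subgroup G, P ≤ O → O ≤ centralizer (P : Set G) → Odd (Nat.card ↥O) →
      centralizer (P : Set G) ≤ normalizer (O : Set G) → O ⊓ centralizer ({z} : Set G) ≤ P → O = P) :
    centralizer (P : Set G) ≤ centralizer ({z} : Set G) := by
  set C := centralizer (P : Set G) with hC
  let zC : ↥C := ⟨z, S.z_mem_X.2⟩
  have hiso : Cfsg.IsIsolatedInvolution zC := by
    refine ⟨by rw [← orderOf_coe]; exact S.orderOf_z, fun g hg => Subtype.ext ?_⟩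
    exact isolatedIn S F g g.2 (congrArg Subtype.val hg.eq)
  have hZ := ZStar.inZStar hiso
  set O' := Cfsg.pPrimeCore 2 ↥C with hO'
  set O := O'.map C.subtype with hOdef
  have hOodd : Odd (Nat.card ↥O) := by
    rw [hOdef, card_map_of_injective C.subtype_injective]
    exact Nat.coprime_two_right.mp PCore.coprime_card_pPrimeCore
  have hPC : P ≤ C := fun p hp => (S.P_le_X hp).2
  have hPO : P ≤ O := by
    have : (P.subgroupOf C).Normal := ⟨fun a ha g => by
      show (g : G) * a * (g : G)⁻¹ ∈ P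
      have : (g : G) * (a : G) = a * g := (mem_centralizer_iff.mp g.2 _ ha).symm
      rw [this, mul_inv_cancel_right]
      exact ha⟩
    have hle : P.subgroupOf C ≤ O' := PCore.le_pPrimeCore (by
      rw [Nat.card_congr (subgroupOfEquivOfLe hPC).toEquiv, S.card_P]; norm_num)
    intro p hp
    exact ⟨⟨p, hPC hp⟩, hle hp, rfl⟩
  have hn : C ≤ normalizer (O : Set G) := by
    have h := O'.le_normalizer_map C.subtype
    rwa [normalizer_eq_top, ← MonoidHom.range_eq_map, range_subtype] at h
  have hOz : O ⊓ centralizer ({z} : Set G) ≤ P := by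
    intro v hv
    obtain ⟨hvO, hvz⟩ := Subgroup.mem_inf.mp hv
    have hvX : v ∈ cX z P := ⟨hvz, map_subtype_le _ hvO⟩
    have := F.simple
    set M : Subgroup ↥(cX z P) := O.subgroupOf (cX z P) with hM
    have hMn : M.Normal := ⟨fun a ha g => (mem_normalizer_iff.mp (hn g.2.2) a).mp ha⟩
    set N' := (M.map S.piX).subgroupOf innerM22 with hN'
    have hN'n : N'.Normal := ⟨by
      rintro ⟨a, haI⟩ ⟨c, hc, hca⟩ ⟨g, hg⟩
      obtain ⟨y, rfl⟩ : g ∈ S.piX.range := S.range_piX.symm ▸ hg
      refine ⟨y * c * y⁻¹, hMn.conj_mem c hc y, ?_⟩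
      rw [map_mul, map_mul, map_inv, hca]
      rfl⟩
    have hodd : Odd (Nat.card ↥(M.map S.piX)) := by
      refine Odd.of_dvd_nat hOodd ((card_map_dvd M S.piX).trans ?_)
      rw [← card_map_of_injective (cX z P).subtype_injective (K := M)]
      refine card_dvd_of_le ?_
      rintro _ ⟨x, hx, rfl⟩
      exact hx
    have hbot : N' = ⊥ := hN'n.eq_bot_or_eq_top.resolve_right fun htop => by
      have hle : innerM22 ≤ M.map S.piX := subgroupOf_eq_top.mp htop
      have hd := card_dvd_of_le hle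
      rw [F.card_inner] at hd
      exact (Nat.not_even_iff_odd.mpr (Odd.of_dvd_nat hodd hd)) (by decide)
    have hvI : S.piX ⟨v, hvX⟩ ∈ innerM22 := S.pi_X_mem hvX
    have hvN : (⟨_, hvI⟩ : ↥innerM22) ∈ N' := ⟨⟨v, hvX⟩, hvO, rfl⟩
    rw [hbot, mem_bot] at hvN
    have hker : v ∈ zpowers z ⊔ P := S.mem_ker_piX.mp (MonoidHom.mem_ker.mpr (congrArg Subtype.val hvN))
    have hle : zpowers z ≤ coreE z := by rw [← S.fix]; exact inf_le_left
    have hker' : v ∈ coreE z ⊔ P := sup_le_sup_right hle P hker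
    have h6 := S.pow_six hker' hvX.2
    have hcard : v ^ Nat.card ↥O = 1 :=
      congrArg Subtype.val (pow_card_eq_one' (x := (⟨v, hvO⟩ : ↥O)))
    obtain ⟨w, hw, p, hp, rfl⟩ := S.mem_zpowers_mul_of_mem_sup hker' hvX.2
    rcases S.z_cases hw with rfl | rfl
    · rwa [one_mul]
    · exfalso
      obtain ⟨k, hk⟩ := hOodd
      have hc : Commute w p := (mem_centralizer_singleton_iff.mp (S.P_le hp)).symm
      have h3 : p ^ (3 * Nat.card ↥O) = 1 := by rw [pow_mul, S.P_pow_three hp, one_pow]
      have : (w * p) ^ (3 * Nat.card ↥O) = 1 := by rw [mul_comm, pow_mul, hcard, one_pow]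
      rw [hc.mul_pow, h3, mul_one, hk, show 3 * (2 * k + 1) = 2 * (3 * k + 1) + 1 by ring, pow_succ,
        pow_mul, pow_two, S.hub.sq, one_pow, one_mul] at this
      exact S.hub.ne_one this
  have hOP : O = P := hO O hPO (map_subtype_le _) hOodd hn hOz
  intro c hc
  set u := c * z * c⁻¹ * z⁻¹ with hu
  have huO : u ∈ O := ⟨_, hZ ⟨c, hc⟩, rfl⟩
  rw [hOP] at huO
  have huz : Commute u z := mem_centralizer_singleton_iff.mp (S.P_le huO)
  have hu3 := S.P_pow_three huO
  have hzi : z⁻¹ = z := inv_eq_of_mul_eq_one_right S.hub.sq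
  have hc2 : (u * z) * (u * z) = 1 := by
    rw [hu, inv_mul_cancel_right]
    calc c * z * c⁻¹ * (c * z * c⁻¹) = c * (z * z) * c⁻¹ := by group
      _ = 1 := by rw [S.hub.sq]; group
  have hu2 : u * u = 1 := by
    have h : u * z * (u * z) = u * u * (z * z) := by
      rw [mul_assoc u z, ← mul_assoc z u z, ← huz.eq, mul_assoc u z z, ← mul_assoc]
    rw [h, S.hub.sq, mul_one] at hc2
    exact hc2
  have hu1 : u = 1 := by
    rw [pow_succ, pow_two, hu2, one_mul] at hu3
    exact hu3
  refine mem_centralizer_singleton_iff.mpr ?_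
  rw [hu, mul_inv_eq_one] at hu1
  exact mul_inv_eq_iff_eq_mul.mp hu1

theorem Setting.normalizer_P_le [Finite G] (S : Setting z P) (F : AutFacts innerM22)
    (hCP : centralizer (P : Set G) ≤ centralizer ({z} : Set G)) :
    normalizer (P : Set G) ≤ centralizer ({z} : Set G) := by
  intro y hy
  have hconj : ∀ c ∈ centralizer (P : Set G), ∀ g ∈ normalizer (P : Set G),
      g * c * g⁻¹ ∈ centralizer (P : Set G) := by
    intro c hc g hg
    refine mem_centralizer_iff.mpr fun p hp => ?_
    have hp' : g⁻¹ * p * g ∈ P := by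
      have := (mem_normalizer_iff.mp ((normalizer (P : Set G)).inv_mem hg) p).mp hp
      rwa [inv_inv] at this
    have h1 := mem_centralizer_iff.mp hc _ hp'
    calc p * (g * c * g⁻¹) = g * (g⁻¹ * p * g * c) * g⁻¹ := by group
      _ = g * (c * (g⁻¹ * p * g)) * g⁻¹ := by rw [h1]
      _ = g * c * g⁻¹ * p := by group
  set v := y * z * y⁻¹ with hv
  have hvP := hconj z S.z_mem_X.2 y hy
  have hvX : v ∈ cX z P := ⟨hCP hvP, hvP⟩
  have hcen : (⟨v, hvX⟩ : ↥(cX z P)) ∈ center ↥(cX z P) := by
    refine mem_center_iff.mpr fun g => Subtype.ext ?_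
    have hg' := hCP (hconj g g.2.2 y⁻¹ ((normalizer (P : Set G)).inv_mem hy))
    have h1 := mem_centralizer_singleton_iff.mp hg'
    show (g : G) * v = v * g
    calc (g : G) * v = y * (y⁻¹ * g * y⁻¹⁻¹ * z) * y⁻¹ := by rw [hv]; group
      _ = y * (z * (y⁻¹ * g * y⁻¹⁻¹)) * y⁻¹ := by rw [h1]
      _ = v * g := by rw [hv]; group
  rw [S.center_X F, S.mem_ker_piX] at hcen
  have hle : zpowers z ≤ coreE z := by rw [← S.fix]; exact inf_le_left
  have hv2 : v * v = 1 := by
    rw [hv, show y * z * y⁻¹ * (y * z * y⁻¹) = y * (z * z) * y⁻¹ by group, S.hub.sq]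
    group
  have hvE : v ∈ coreE z := S.mem_E_of_pow (sup_le_sup_right hle P hcen) (k := 1) (by
    rw [pow_one, pow_two, hv2])
  have hvz : v ∈ zpowers z := by rw [← S.fix]; exact ⟨hvE, hvP⟩
  rcases S.z_cases hvz with e | e
  · exact absurd (conj_eq_one_iff.mp e) S.hub.ne_one
  · exact mem_centralizer_singleton_iff.mpr (mul_inv_eq_iff_eq_mul.mp e)

end Cfsg.Agent.JankoFour
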