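import Cfsg.Agent.Lib.JankoFour.DuadSpace

/-!
# Janko-four type: the sixteen elements of `T` in a coset of `W` (S5567)

Each of the 15 nontrivial cosets of `W` meets `T` in one orbit of the translations, of length 16;
the differences form a transversal of `⟨z⟩` over `L v`.  `chi t` tells which of `w`, `w + z` it
contains; its defect is a symplectic form `bet t` on `L v`.
-/

set_option autoImplicit false
set_option linter.unusedSectionVars false

namespace Cfsg.Agent.JankoFour.DuadSpace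

open Finset Module

universe u v

variable {N : Type v} [Group N] {V : Type u} [AddCommGroup V] [Module (ZMod 2) V]
variable {S : DuadSpace N V}

variable (S) in
/-- Which lift of `w` differs from `t` by an element of `T`. -/
noncomputable def chi (t w : V) : ZMod 2 :=
  open scoped Classical in if t + w ∈ S.T then 0 else 1

theorem chi_eq_zero {t w : V} : S.chi t w = 0 ↔ t + w ∈ S.T := by
  rw [chi]; split <;> simp [*]

theorem chi_zero {t : V} (ht : t ∈ S.T) : S.chi t 0 = 0 := chi_eq_zero.2 (by rwa [add_zero])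

theorem chi_congr {t w t' w' : V} (h : t + w ∈ S.T ↔ t' + w' ∈ S.T) :
    S.chi t w = S.chi t' w' := by
  rw [chi, chi]; split <;> split <;> simp_all

variable [Finite V]

theorem ncard_T_diff : (S.T \ (S.W : Set V)).ncard = 240 := by
  have h := Set.ncard_inter_add_ncard_sdiff_eq_ncard S.T (S.W : Set V) (Set.toFinite _)
  rw [S.card_TW, S.card_T] at h
  omega

theorem card_quot : Nat.card (V ⧸ S.W) = 16 := by
  have h := Submodule.card_eq_card_quotient_mul_card S.W
  rw [S.card_V, S.card_W] at h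
  norm_num at h ⊢
  omega

/-- Every nontrivial coset of `W` contains 16 elements of `T`. -/
theorem ncard_coset {x : V} (hx : x ∉ S.W) : {t ∈ S.T | t + x ∈ S.W}.ncard = 16 := by
  classical
  have : Fintype V := Fintype.ofFinite V
  have : Fintype (V ⧸ S.W) := Fintype.ofFinite _
  set F : (V ⧸ S.W) → Finset V := fun c =>
    univ.filter fun t => t ∈ S.T ∧ Submodule.Quotient.mk t = c
  have hF : ∀ y, {t ∈ S.T | t + y ∈ S.W}.ncard = (F (Submodule.Quotient.mk y)).card := fun y => by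
    rw [← Set.ncard_coe_finset]
    congr 1
    ext t
    simp only [F, Set.mem_setOf_eq, coe_filter, mem_univ, true_and, Submodule.Quotient.eq]
    rw [show t - y = t + y by rw [sub_eq_add_neg, ← eq_neg_of_add_eq_zero_left (vadd_self y)]]
  have hle : ∀ c d : V ⧸ S.W, c ≠ 0 → d ≠ 0 → (F c).card ≤ (F d).card := by
    intro c d
    induction c using Submodule.Quotient.induction_on with
    | H c =>
      induction d using Submodule.Quotient.induction_on with
      | H d =>
        intro hc hd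
        rw [Ne, Submodule.Quotient.mk_eq_zero] at hc hd
        obtain ⟨g, hg, hcd⟩ := S.trans_U c hc d hd
        rw [← hF, ← hF]
        refine Set.ncard_le_ncard_of_injOn (S.ρ g) (fun t ht => ⟨S.map_T g t ht.1, ?_⟩)
          (fun a _ b _ h => S.rho_injective g h) (Set.toFinite _)
        have := add_mem (S.stab_W g hg _ ht.2) hcd
        rwa [map_add, ← add_assoc, vadd_cancel'] at this
  have hsum : ((univ : Finset V).filter fun t => t ∈ S.T ∧ t ∉ S.W).card =
      ∑ c ∈ univ.erase (0 : V ⧸ S.W), (F c).card := by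
    rw [card_eq_sum_card_fiberwise (f := fun t => (Submodule.Quotient.mk t : V ⧸ S.W))
      (t := univ.erase 0) (fun t ht => mem_erase.2 ⟨fun h => (mem_filter.1 ht).2.2
        ((Submodule.Quotient.mk_eq_zero _).1 h), mem_univ _⟩)]
    refine sum_congr rfl fun c hc => congrArg Finset.card ?_
    ext t
    simp only [F, mem_filter, mem_univ, true_and]
    refine ⟨fun h => ⟨h.1.1, h.2⟩, fun h => ⟨⟨h.1, fun hW => (mem_erase.1 hc).1 ?_⟩, h.2⟩⟩
    rw [← h.2]; exact (Submodule.Quotient.mk_eq_zero _).2 hW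
  have h240 : ((univ : Finset V).filter fun t => t ∈ S.T ∧ t ∉ S.W).card = 240 := by
    rw [← ncard_T_diff (S := S), ← Set.ncard_coe_finset]
    congr 1; ext t; simp
  have hx0 : (Submodule.Quotient.mk x : V ⧸ S.W) ≠ 0 := by
    rwa [Ne, Submodule.Quotient.mk_eq_zero]
  rw [sum_congr rfl (fun c hc => le_antisymm (hle c _ (mem_erase.1 hc).1 hx0)
    (hle _ c hx0 (mem_erase.1 hc).1)), sum_const, h240, card_erase_of_mem (mem_univ _), card_univ,
    ← Nat.card_eq_fintype_card, card_quot, smul_eq_mul] at hsum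
  rw [hF]
  omega

variable (S) in
/-- The differences from `t` of the elements of `T` in its coset. -/
def Delta (t : V) : Set V := {w | w ∈ S.W ∧ t + w ∈ S.T}

theorem ncard_Delta {t : V} (htW : t ∉ S.W) : (S.Delta t).ncard = 16 := by
  rw [← ncard_coset htW, ← Set.ncard_image_of_injective _ (add_right_injective t)]
  congr 1
  ext y
  simp only [Set.mem_image, Delta, Set.mem_setOf_eq]
  constructor
  · rintro ⟨w, ⟨hw, hT⟩, rfl⟩
    exact ⟨hT, by rwa [add_comm t w, vadd_cancel']⟩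
  · rintro ⟨hT, hW⟩
    exact ⟨t + y, ⟨by rwa [add_comm], by rwa [vadd_cancel]⟩, vadd_cancel t y⟩

/-- The coset is one orbit of the translations, and the differences are a transversal. -/
theorem coset_facts {t : V} (ht : t ∈ S.T) (htW : t ∉ S.W) :
    (∀ w ∈ S.Delta t, ∃ φ : Dual (ZMod 2) V, φ S.z = 0 ∧ S.D φ t = w) ∧
    (∀ w ∈ S.Delta t, w + S.z ∉ S.Delta t) ∧ Nat.card ↥(S.L t) = 32 := by
  set O : Set V := {w | ∃ φ : Dual (ZMod 2) V, φ S.z = 0 ∧ S.D φ t = w} with hO
  have hsub : O ⊆ S.Delta t := fun w ⟨φ, hφ, e⟩ =>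
    ⟨e ▸ D_mem hφ t, by rw [← e, ← tr_eq, tr_mem_T]; exact ht⟩
  have hcover : (S.L t : Set V) = O ∪ (· + S.z) '' O := by
    ext w
    simp only [SetLike.mem_coe, mem_L, S.mem_Z, Set.mem_union, Set.mem_image, hO, Set.mem_setOf_eq]
    constructor
    · rintro ⟨φ, hφ, e | e⟩
      · exact Or.inl ⟨φ, hφ, (vadd_eq_zero.1 e).symm⟩
      · exact Or.inr ⟨_, ⟨φ, hφ, rfl⟩, by rw [← e, add_comm w, vadd_cancel]⟩
    · rintro (⟨φ, hφ, rfl⟩ | ⟨_, ⟨φ, hφ, rfl⟩, rfl⟩)
      · exact ⟨φ, hφ, Or.inl (vadd_self _)⟩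
      · exact ⟨φ, hφ, Or.inr (by rw [add_comm (S.D φ t), vadd_cancel'])⟩
  have h32 : 32 ≤ (S.L t : Set V).ncard := by
    rw [← Nat.card_coe_set_eq]
    exact S.core_rank t htW (S.L t) (Z_le_L t S.z_mem_Z) fun e he => by
      obtain ⟨φ₀, hz, hW⟩ := exists_functional he
      rw [core_eq_tr hz he hW]
      exact D_mem_L hz t
  rw [hcover] at h32
  have hz := Set.ncard_image_of_injective O (add_left_injective S.z)
  have h2 := Set.ncard_union_le O ((· + S.z) '' O)
  have h3 := Set.ncard_le_ncard hsub (Set.toFinite _)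
  rw [ncard_Delta htW] at h3
  have heq : O = S.Delta t :=
    Set.eq_of_subset_of_ncard_le hsub (by rw [ncard_Delta htW]; omega) (Set.toFinite _)
  have hdisj : Disjoint O ((· + S.z) '' O) := by
    rw [← Set.ncard_union_eq_iff (Set.toFinite _) (Set.toFinite _)]
    omega
  refine ⟨fun w hw => (heq ▸ hw : w ∈ O), fun w hw hwz => ?_, ?_⟩
  · rw [← heq] at hw hwz
    exact Set.disjoint_left.1 hdisj hwz ⟨w, hw, rfl⟩
  · rw [← SetLike.coe_sort_coe, Nat.card_coe_set_eq, hcover,
      Set.ncard_union_eq hdisj (Set.toFinite _) (Set.toFinite _), hz, heq, ncard_Delta htW]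

theorem mem_Delta_or {t : V} (ht : t ∈ S.T) {w : V} (hw : w ∈ S.L t) :
    t + w ∈ S.T ∨ t + (w + S.z) ∈ S.T := by
  obtain ⟨φ, hφ, h⟩ := hw
  have hT : t + S.D φ t ∈ S.T := by rw [← tr_eq, tr_mem_T]; exact ht
  rcases S.mem_Z.1 h with e | e
  · exact Or.inl (by rwa [vadd_eq_zero.1 e])
  · right
    rwa [show w + S.z = S.D φ t by rw [← e, vadd_cancel]]

theorem Delta_sub_L {t : V} (ht : t ∈ S.T) (htW : t ∉ S.W) {w : V} (hw : w ∈ S.W)
    (hT : t + w ∈ S.T) : w ∈ S.L t := by
  obtain ⟨φ, hφ, e⟩ := (coset_facts ht htW).1 w ⟨hw, hT⟩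
  exact e ▸ D_mem_L hφ t

theorem not_both {t : V} (ht : t ∈ S.T) (htW : t ∉ S.W) {w : V} (hw : w ∈ S.W)
    (hT : t + w ∈ S.T) : t + (w + S.z) ∉ S.T := fun h =>
  (coset_facts ht htW).2.1 w ⟨hw, hT⟩ ⟨add_mem hw S.z_mem, h⟩

theorem chi_add_z {t : V} (ht : t ∈ S.T) (htW : t ∉ S.W) {w : V} (hw : w ∈ S.L t) :
    S.chi t (w + S.z) = S.chi t w + 1 := by
  rcases mem_Delta_or ht hw with h | h
  · have h' := not_both ht htW (L_le_W t hw) h
    rw [chi_eq_zero.2 h, chi, if_neg h', zero_add]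
  · have h' : t + w ∉ S.T := fun h0 => not_both ht htW (L_le_W t hw) h0 h
    rw [chi_eq_zero.2 h, chi, if_neg h']
    decide

theorem chi_z {t : V} (ht : t ∈ S.T) (htW : t ∉ S.W) : S.chi t S.z = 1 := by
  have := chi_add_z ht htW (zero_mem (S.L t))
  rwa [zero_add, chi_zero ht, zero_add] at this

theorem chi_add_smul_z {t : V} (ht : t ∈ S.T) (htW : t ∉ S.W) {w : V} (hw : w ∈ S.L t)
    (c : ZMod 2) : S.chi t (w + c • S.z) = S.chi t w + c := by
  rcases zmod_two_cases c with rfl | rfl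
  · simp
  · rw [one_smul]; exact chi_add_z ht htW hw

/-- Translations shift `chi` by their functional. -/
theorem chi_tr {t : V} (ht : t ∈ S.T) (htW : t ∉ S.W) {φ : Dual (ZMod 2) V} (hφ : φ S.z = 0)
    {w : V} (hw : w ∈ S.L t) : S.chi (S.tr φ t) w = S.chi t w + φ w := by
  have e : S.tr φ (t + (w + φ w • S.z)) = S.tr φ t + w := by
    rw [tr_map_add, tr_W hφ (add_mem (L_le_W t hw) (Submodule.smul_mem _ _ S.z_mem))]
    simp only [map_add, map_smul, hφ, smul_zero, add_zero, add_assoc, vadd_self]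
  have h1 : S.chi (S.tr φ t) w = S.chi t (w + φ w • S.z) := by
    exact chi_congr (by rw [← e]; exact tr_mem_T)
  rw [h1, chi_add_smul_z ht htW hw]

variable (S) in
/-- The defect of `chi t`. -/
noncomputable def bet (t a b : V) : ZMod 2 := S.chi t (a + b) + S.chi t a + S.chi t b

theorem bet_comm (t a b : V) : S.bet t a b = S.bet t b a := by
  rw [bet, bet, add_comm a b]; ring

theorem bet_self {t : V} (ht : t ∈ S.T) (a : V) : S.bet t a a = 0 := by
  rw [bet, vadd_self, chi_zero ht, zero_add, CharTwo.add_self_eq_zero]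

theorem chi_add (t a b : V) : S.chi t (a + b) = S.chi t a + S.chi t b + S.bet t a b := by
  rw [bet]
  linear_combination (-1 : ZMod 2) * CharTwo.add_self_eq_zero (S.chi t a + S.chi t b)

/-- `bet t a` is the functional of the translation moving `t` by `a`. -/
theorem bet_eq {t : V} (ht : t ∈ S.T) (htW : t ∉ S.W) {φ : Dual (ZMod 2) V} (hφ : φ S.z = 0)
    {a b : V} (ha : a + S.D φ t ∈ S.Z) (hb : b ∈ S.L t) : S.bet t a b = φ b := by
  have hD := D_mem_L (S := S) hφ t
  have hDT : t + S.D φ t ∈ S.T := by rw [← tr_eq, tr_mem_T]; exact ht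
  have key : S.chi t (S.D φ t + b) = S.chi t b + φ b := by
    rw [← chi_tr ht htW hφ hb, chi, chi, tr_eq, add_assoc]
  have hc : ∀ c : ZMod 2, a = S.D φ t + c • S.z → S.bet t a b = φ b := by
    rintro c rfl
    rw [bet, show S.D φ t + c • S.z + b = S.D φ t + b + c • S.z by abel,
      chi_add_smul_z ht htW (add_mem hD hb), key,
      chi_add_smul_z ht htW hD, chi_eq_zero.2 hDT]
    linear_combination CharTwo.add_self_eq_zero (S.chi t b) + CharTwo.add_self_eq_zero c
  rcases S.mem_Z.1 ha with e | e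
  · exact hc 0 (by rw [zero_smul, add_zero]; exact vadd_eq_zero.1 e)
  · exact hc 1 (by rw [one_smul, ← e, add_comm a, vadd_cancel])

theorem bet_add {t : V} (ht : t ∈ S.T) (htW : t ∉ S.W) {a b c : V} (ha : a ∈ S.L t)
    (hb : b ∈ S.L t) (hc : c ∈ S.L t) : S.bet t a (b + c) = S.bet t a b + S.bet t a c := by
  obtain ⟨φ, hφ, h⟩ := ha
  rw [bet_eq ht htW hφ h (add_mem hb hc), bet_eq ht htW hφ h hb, bet_eq ht htW hφ h hc, map_add]

theorem bet_add_left {t : V} (ht : t ∈ S.T) (htW : t ∉ S.W) {a b c : V} (ha : a ∈ S.L t)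
    (hb : b ∈ S.L t) (hc : c ∈ S.L t) : S.bet t (a + b) c = S.bet t a c + S.bet t b c := by
  rw [bet_comm, bet_add ht htW hc ha hb, bet_comm t c, bet_comm t c]

theorem bet_z {t : V} (ht : t ∈ S.T) (htW : t ∉ S.W) {a : V} (ha : a ∈ S.L t) :
    S.bet t a S.z = 0 := by
  obtain ⟨φ, hφ, h⟩ := ha
  rw [bet_eq ht htW hφ h (Z_le_L t S.z_mem_Z), hφ]

/-- A functional vanishing on `L t` moves `t` by `⟨z⟩`. -/
theorem D_mem_Z_of_vanish {t : V} {φ : Dual (ZMod 2) V} (hφ : φ S.z = 0)
    (h : ∀ b ∈ S.L t, φ b = 0) : S.D φ t ∈ S.Z := by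
  by_contra hne
  obtain ⟨ψ, hψ1, hψ0⟩ := Submodule.exists_dual_map_eq_bot_of_notMem hne inferInstance
  have hψz : ψ S.z = 0 := by
    have : ψ S.z ∈ S.Z.map ψ := Submodule.mem_map_of_mem S.z_mem_Z
    rwa [hψ0, Submodule.mem_bot] at this
  refine hψ1 ?_
  rw [D_symm hψz hφ t]
  exact h _ (D_mem_L hψz t)

theorem bet_nondeg {t : V} (ht : t ∈ S.T) (htW : t ∉ S.W) {a : V} (ha : a ∈ S.L t)
    (h : ∀ b ∈ S.L t, S.bet t a b = 0) : a ∈ S.Z := by
  obtain ⟨φ, hφ, hd⟩ := ha
  have := add_mem hd (D_mem_Z_of_vanish hφ fun b hb => (bet_eq ht htW hφ hd hb).symm.trans (h b hb))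
  rwa [vadd_cancel'] at this

/-- The forms of the elements of one coset agree. -/
theorem bet_congr {t t' : V} (ht : t ∈ S.T) (htW : t ∉ S.W) (ht' : t' ∈ S.T)
    (h : t + t' ∈ S.W) {a b : V} (ha : a ∈ S.L t) (hb : b ∈ S.L t) :
    S.bet t' a b = S.bet t a b := by
  obtain ⟨φ, hφ, e⟩ := (coset_facts ht htW).1 _ ⟨h, by rwa [vadd_cancel]⟩
  have et : t' = S.tr φ t := by rw [tr_eq, e, vadd_cancel]
  rw [et, bet, bet, chi_tr ht htW hφ (add_mem ha hb), chi_tr ht htW hφ ha, chi_tr ht htW hφ hb,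
    map_add]
  linear_combination CharTwo.add_self_eq_zero (φ a) + CharTwo.add_self_eq_zero (φ b)

theorem bet_map {g : N} (hg : S.ρ g S.z = S.z) (t a b : V) :
    S.bet (S.ρ g t) (S.ρ g a) (S.ρ g b) = S.bet t a b := by
  have h : ∀ w, S.chi (S.ρ g t) (S.ρ g w) = S.chi t w := fun w =>
    chi_congr (by rw [← map_add]; exact S.mem_T_iff g)
  rw [bet, bet, ← map_add, h, h, h]

theorem bet_p {t : V} (ht : t ∈ S.T) (htW : t ∉ S.W) {a b : V} (ha : a ∈ S.L t) (hb : b ∈ S.L t) :
    S.bet t (S.ρ S.p a) (S.ρ S.p b) = S.bet t a b := by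
  rw [← bet_congr ht htW (S.map_T S.p t ht) (by rw [add_comm]; exact S.p_sub t) (p_L ha) (p_L hb)]
  exact bet_map S.p_z t a b

end Cfsg.Agent.JankoFour.DuadSpace
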