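import Cfsg.Agent.Lib.JankoFour.DuadSix

/-!
# Janko-four type: the fifteen cosets of `W` and the fifteen pairs of the six (S5567)

`exists_pair_coset`: the cosets correspond to the pairs `{i, j}` by `L x = i ⊔ j`; then `i` and `j`
are orthogonal for `bet` and `u_ij + u_jl = u_il`.
-/

set_option autoImplicit false
set_option linter.unusedSectionVars false

namespace Cfsg.Agent.JankoFour.DuadSpace

open Finset Module

universe u v

variable {N : Type v} [Group N] {V : Type u} [AddCommGroup V] [Module (ZMod 2) V] [Finite V]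
variable {S : DuadSpace N V}

theorem neighbours_internal {t a : V} (ht : t ∈ S.T) (htW : t ∈ S.W) (ha : a ∈ S.T)
    (hta : t + a ∈ S.T) (hx : a ∉ S.W → ¬ S.K t ≤ S.L a) : a ∈ S.K t := by
  by_cases haW : a ∈ S.W
  · set i : S.Six := ⟨S.K t, t, ht, htW, rfl⟩
    set j : S.Six := ⟨S.K a, a, ha, haW, rfl⟩
    set l : S.Six := ⟨S.K (t + a), t + a, hta, add_mem htW haW, rfl⟩
    by_cases hij : i = j
    · rw [show S.K t = S.K a from congrArg Subtype.val hij]; exact mem_K_self a
    by_cases hli : l = i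
    · have h : t + a ∈ S.K t := by
        rw [← show S.K (t + a) = S.K t from congrArg Subtype.val hli]; exact mem_K_self _
      have := add_mem (mem_K_self (S := S) t) h
      rwa [vadd_cancel] at this
    by_cases hlj : l = j
    · have h : t + a ∈ S.K a := by
        rw [← show S.K (t + a) = S.K a from congrArg Subtype.val hlj]; exact mem_K_self _
      have h' : t ∈ S.K a := by
        have := add_mem h (mem_K_self a)
        rwa [vadd_cancel'] at this
      exact absurd (six_ext (i := i) (j := j) (mem_K_self t) h' (S.not_mem_Z_of_mem_T ht)) hij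
    exact absurd (mem_inf_six hij hli hlj (mem_K_self (t + a))
      (Submodule.mem_sup.2 ⟨t, mem_K_self t, a, mem_K_self a, rfl⟩)) (S.not_mem_Z_of_mem_T hta)
  · exfalso
    exact hx haW (K_le (pInv_L a) (Delta_sub_L ha haW htW (by rwa [add_comm])))

theorem exists_T_coset {x : V} (hx : x ∉ S.W) :
    ∃ t ∈ S.T, t ∉ S.W ∧ t + x ∈ S.W ∧ S.L t = S.L x := by
  obtain ⟨t, ht, htx⟩ : {t ∈ S.T | t + x ∈ S.W}.Nonempty := by
    rw [← Set.ncard_pos (Set.toFinite _), ncard_coset hx]; norm_num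
  exact ⟨t, ht, fun h => hx (by simpa [vadd_cancel] using add_mem h htx), htx, L_congr htx⟩

theorem card_L {x : V} (hx : x ∉ S.W) : Nat.card ↥(S.L x) = 32 := by
  obtain ⟨t, ht, htW, -, e⟩ := exists_T_coset hx
  exact e ▸ (coset_facts ht htW).2.2

/-- Some coset is attached to one of the six. -/
theorem exists_six_le_L : ∃ x, x ∉ S.W ∧ ∃ i : S.Six, i.1 ≤ S.L x := by
  by_contra hno
  push Not at hno
  obtain ⟨t₀, ht₀, hW₀⟩ : (S.T ∩ (S.W : Set V)).Nonempty := by
    rw [← Set.ncard_pos (Set.toFinite _), S.card_TW]; norm_num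
  let R : V → V → Prop := fun t v => ∃ a b, a ∈ S.T ∧ b ∈ S.T ∧ t + a ∈ S.T ∧ t + b ∈ S.T ∧
    a + b ∉ S.T ∧ a ≠ b ∧ a + b = v
  have hmap : ∀ g t v, R t v → R (S.ρ g t) (S.ρ g v) := by
    rintro g t v ⟨a, b, ha, hb, h1, h2, h3, hne, rfl⟩
    exact ⟨S.ρ g a, S.ρ g b, S.map_T g a ha, S.map_T g b hb, by rw [← map_add]; exact S.map_T g _ h1,
      by rw [← map_add]; exact S.map_T g _ h2, by rw [← map_add, S.mem_T_iff]; exact h3,
      (S.rho_injective g).ne hne, (map_add _ _ _).symm⟩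
  have h0 : R t₀ S.z := by
    have hZ := S.not_mem_Z_of_mem_T ht₀
    have hp := p_mem_K_self (S := S) t₀
    have hpT := mem_T_pW ht₀
    have hne : t₀ + S.ρ S.p t₀ ∉ S.Z := fun h => by
      rw [add_comm, S.mem_Z] at h
      exact hZ (S.mem_Z.2 (S.p_fpf t₀ hW₀ h))
    have h1 : t₀ + S.ρ S.p t₀ ∈ S.T := K_mem_T ht₀ hW₀ (add_mem (mem_K_self t₀) hp) hne
    refine ⟨S.ρ S.p t₀, S.ρ S.p t₀ + S.z, hpT, S.add_z_mem _ hpT (p_mem hW₀), h1, ?_, ?_, ?_, vadd_cancel _ _⟩
    · rw [← add_assoc]; exact S.add_z_mem _ h1 (add_mem hW₀ (p_mem hW₀))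
    · rw [vadd_cancel]; exact S.z_nmem
    · exact fun h => S.z_ne (left_eq_add.1 h)
  have huniq : ∀ v, R t₀ v → v = S.z := by
    rintro v ⟨a, b, ha, hb, h1, h2, h3, hne, rfl⟩
    have hs : ∀ {a}, a ∈ S.T → t₀ + a ∈ S.T → a ∈ S.K t₀ := fun {a} ha h =>
      neighbours_internal ht₀ hW₀ ha h fun haW =>
        hno a haW ⟨S.K t₀, t₀, ht₀, hW₀, rfl⟩
    have hab := add_mem (hs ha h1) (hs hb h2)
    rcases S.mem_Z.1 (not_not.1 fun hz => h3 (K_mem_T ht₀ hW₀ hab hz)) with e | e
    · exact absurd (vadd_eq_zero.1 e) hne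
    · exact e
  have hex : ∀ v ∈ Set.range fun g => S.ρ g S.z, ∃ t ∈ S.T, R t v := by
    rintro _ ⟨g, rfl⟩
    exact ⟨S.ρ g t₀, S.map_T g _ ht₀, hmap g _ _ h0⟩
  choose f hfT hfR using hex
  have hle : (Set.range fun g => S.ρ g S.z).ncard ≤ S.T.ncard := by
    refine Set.ncard_le_ncard_of_injOn (fun v =>
      open scoped Classical in if h : v ∈ Set.range fun g => S.ρ g S.z then f v h else 0)
      (fun v hv => by simp only [dif_pos hv]; exact hfT v hv) (fun v hv w hw e => ?_) (Set.toFinite _)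
    simp only [dif_pos hv, dif_pos hw] at e
    obtain ⟨g, hg⟩ := S.trans_T _ (hfT v hv) t₀ ht₀
    apply S.rho_injective g
    have h1 := hmap g _ _ (hfR v hv)
    have h2 := hmap g _ _ (hfR w hw)
    rw [hg] at h1
    rw [← e, hg] at h2
    rw [huniq _ h1, huniq _ h2]
  have := S.orbit_z
  rw [S.card_T] at hle
  omega

/-! ### Counting -/

variable (S) in
/-- A representative of a coset. -/
noncomputable def outQ (c : V ⧸ S.W) : V := Quotient.out c

theorem mk_outQ (c : V ⧸ S.W) : Submodule.Quotient.mk (S.outQ c) = c := Quotient.out_eq c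

variable (S) in
/-- The subspace attached to a coset. -/
noncomputable def LQ (c : V ⧸ S.W) : Submodule (ZMod 2) V := S.L (S.outQ c)

theorem LQ_mk (x : V) : S.LQ (Submodule.Quotient.mk x) = S.L x := by
  refine L_congr ?_
  have h := (Submodule.Quotient.eq S.W).1
    (mk_outQ (Submodule.Quotient.mk x : V ⧸ S.W))
  rwa [sub_eq_add_neg, ← eq_neg_of_add_eq_zero_left (vadd_self x)] at h

theorem sup_eq_L {x : V} (hx : x ∉ S.W) {i j : S.Six} (hij : i ≠ j) (hi : i.1 ≤ S.L x)
    (hj : j.1 ≤ S.L x) : i.1 ⊔ j.1 = S.L x := SetLike.coe_injective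
  (Set.eq_of_subset_of_ncard_le (sup_le hi hj) (by
    rw [← Nat.card_coe_set_eq, ← Nat.card_coe_set_eq, SetLike.coe_sort_coe, SetLike.coe_sort_coe,
      card_L hx, card_sup_six hij]) (Set.toFinite _))

theorem L_act {g : ↥S.stabZ} {x : V} {i : S.Six} (h : i.1 ≤ S.L x) :
    (act g i).1 ≤ S.L (S.ρ g.1 x) := by
  rintro _ ⟨y, hy, rfl⟩
  exact L_map g.2 (h hy)

/-- Only six cosets of a subspace cannot be closed under sums. -/
theorem not_five_classes [Fintype (V ⧸ S.W)] (P : V → Prop) [DecidablePred P]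
    (hP : ∀ x y, P x → P y → x + y ∈ S.W ∨ P (x + y))
    (hc : ∀ x y, x + y ∈ S.W → P x → P y) (hW : ∀ x, P x → x ∉ S.W)
    (h5 : ((univ : Finset (V ⧸ S.W)).filter fun c => P (S.outQ c)).card = 5) : False := by
  classical
  have hmk : ∀ x, P (S.outQ (Submodule.Quotient.mk x : V ⧸ S.W)) ↔ P x := by
    intro x
    have h := (Submodule.Quotient.eq S.W).1 (mk_outQ (Submodule.Quotient.mk x : V ⧸ S.W))
    rw [sub_eq_add_neg, ← eq_neg_of_add_eq_zero_left (vadd_self x)] at h
    exact ⟨hc _ _ h, hc _ _ (by rwa [add_comm])⟩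
  let X : Submodule (ZMod 2) (V ⧸ S.W) :=
    { carrier := {c | c = 0 ∨ P (S.outQ c)}
      zero_mem' := Or.inl rfl
      add_mem' := by
        intro a b ha hb
        induction a using Submodule.Quotient.induction_on with
        | H x =>
          induction b using Submodule.Quotient.induction_on with
          | H y =>
            simp only [Set.mem_setOf_eq, hmk, ← Submodule.Quotient.mk_add,
              Submodule.Quotient.mk_eq_zero] at ha hb ⊢
            rcases ha with ha | ha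
            · rcases hb with hb | hb
              · exact Or.inl (add_mem ha hb)
              · exact Or.inr (hc y _ (by rw [add_comm x y, vadd_cancel]; exact ha) hb)
            · rcases hb with hb | hb
              · exact Or.inr (hc x _ (by rw [vadd_cancel]; exact hb) ha)
              · exact hP x y ha hb
      smul_mem' := by
        intro c a ha
        rcases zmod_two_cases c with rfl | rfl
        · exact Or.inl (zero_smul _ _)
        · rwa [one_smul] }
  have h0 : (0 : V ⧸ S.W) ∉ ((univ : Finset (V ⧸ S.W)).filter fun c => P (S.outQ c)) := by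
    intro h
    have h' : P (S.outQ (Submodule.Quotient.mk 0 : V ⧸ S.W)) := (mem_filter.1 h).2
    exact hW 0 ((hmk 0).1 h') (zero_mem _)
  have hX : Nat.card X = 6 := by
    have e : (X : Set (V ⧸ S.W)) =
        ((insert 0 ((univ : Finset (V ⧸ S.W)).filter fun c => P (S.outQ c))) : Finset _) := by
      ext c; simp [X]
    rw [← SetLike.coe_sort_coe, Nat.card_coe_set_eq, e, Set.ncard_coe_finset,
      card_insert_of_notMem h0, h5]
  have hd := X.toAddSubgroup.card_addSubgroup_dvd_card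
  rw [card_quot, show Nat.card X.toAddSubgroup = 6 from hX] at hd
  norm_num at hd

section Count
variable [Fintype (V ⧸ S.W)] [Fintype S.Six] [DecidableEq S.Six]

open scoped Classical

variable (S) in
/-- The cosets attached to one of the six. -/
noncomputable def classesOf (i : S.Six) : Finset (V ⧸ S.W) :=
  univ.filter fun c => c ≠ 0 ∧ i.1 ≤ S.L (S.outQ c)

variable (S) in
/-- Those of the six attached to a coset. -/
noncomputable def sixOf (x : V) : Finset S.Six := univ.filter fun i => i.1 ≤ S.L x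

theorem card_classes (i : S.Six) :
    (S.classesOf i).card = 5 ∧ ∀ x, x ∉ S.W → (S.sixOf x).card = 2 := by
  have h6 : Fintype.card S.Six = 6 := by rw [← Nat.card_eq_fintype_card, card_six]
  -- constant along cosets
  have hx2 : ∀ x y, x ∉ S.W → y ∉ S.W → (S.sixOf x).card ≤ (S.sixOf y).card := by
    intro x y hx hy
    obtain ⟨g, hg, hgxy⟩ := S.trans_U x hx y hy
    refine card_le_card_of_injOn (act ⟨g, hg⟩) (fun i hi => ?_) (act ⟨g, hg⟩).injective.injOn
    simp only [sixOf, coe_filter, Set.mem_setOf_eq, mem_univ, true_and] at hi ⊢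
    rw [← L_congr hgxy]
    exact L_act hi
  -- constant along the six
  have hi2 : ∀ i j, (S.classesOf i).card ≤ (S.classesOf j).card := by
    intro i j
    obtain ⟨g, hg⟩ := act_trans i j
    refine card_le_card_of_injOn (fun c => Submodule.Quotient.mk (S.ρ g.1 (S.outQ c)))
      (fun c hc => ?_) (fun c _ d _ h => ?_)
    · simp only [classesOf, coe_filter, Set.mem_setOf_eq, mem_univ, true_and] at hc ⊢
      refine ⟨fun h => hc.1 ?_, ?_⟩
      · rw [Submodule.Quotient.mk_eq_zero, S.mem_W_iff g.2] at h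
        rw [← mk_outQ c]
        exact (Submodule.Quotient.mk_eq_zero _).2 h
      · rw [show S.L (S.outQ (Submodule.Quotient.mk (S.ρ g.1 (S.outQ c)))) = _ from LQ_mk _, ← hg]
        exact L_act hc.2
    · simp only [Submodule.Quotient.eq, ← map_sub, S.mem_W_iff g.2] at h
      rw [← mk_outQ c, ← mk_outQ d]
      exact (Submodule.Quotient.eq S.W).2 h
  obtain ⟨x₀, hx₀, i₀, hi₀⟩ := exists_six_le_L (S := S)
  have hle : (S.sixOf x₀).card ≤ 2 := by
    by_contra h
    obtain ⟨a, ha, b, hb, c, hc, hab, hac, hbc⟩ := two_lt_card.1 (not_le.1 h)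
    simp only [sixOf, mem_filter, mem_univ, true_and] at ha hb hc
    exact not_collinear hab hac.symm hbc.symm (sup_eq_L hx₀ hab ha hb ▸ hc)
  have hpos : 0 < (S.sixOf x₀).card := card_pos.2 ⟨i₀, by simp [sixOf, hi₀]⟩
  -- double counting
  have hdc : ∑ c ∈ (univ : Finset (V ⧸ S.W)).erase 0, (S.sixOf (S.outQ c)).card =
      ∑ i : S.Six, (S.classesOf i).card := by
    simp only [sixOf, classesOf, card_filter]
    rw [sum_comm]
    refine sum_congr rfl fun i _ => Eq.trans (sum_congr rfl fun c hc => ?_)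
      (sum_erase _ (by simp))
    simp [(mem_erase.1 hc).1]
  have hout : ∀ c : V ⧸ S.W, c ≠ 0 → S.outQ c ∉ S.W := fun c hc h => hc (by
    rw [← mk_outQ c]; exact (Submodule.Quotient.mk_eq_zero _).2 h)
  rw [sum_congr rfl (fun c hc => le_antisymm (hx2 _ _ (hout c (mem_erase.1 hc).1) hx₀)
      (hx2 _ _ hx₀ (hout c (mem_erase.1 hc).1))),
    sum_congr rfl (fun j _ => le_antisymm (hi2 j i) (hi2 i j)), sum_const, sum_const,
    card_erase_of_mem (mem_univ _), card_univ, card_univ, h6, ← Nat.card_eq_fintype_card,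
    card_quot, smul_eq_mul, smul_eq_mul] at hdc
  refine ⟨by omega, fun x hx => ?_⟩
  have := hx2 x x₀ hx hx₀
  have := hx2 x₀ x hx₀ hx
  omega

end Count

/-- Each coset belongs to exactly two of the six. -/
theorem exists_two {x : V} (hx : x ∉ S.W) :
    ∃ i j : S.Six, i ≠ j ∧ S.L x = i.1 ⊔ j.1 ∧ ∀ l : S.Six, l.1 ≤ S.L x → l = i ∨ l = j := by
  classical
  have : Fintype S.Six := Fintype.ofFinite _
  have : Finite (V ⧸ S.W) := Quotient.finite _
  have : Fintype (V ⧸ S.W) := Fintype.ofFinite _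
  obtain ⟨-, -, i₀, -⟩ := exists_six_le_L (S := S)
  obtain ⟨i, j, hij, e⟩ := card_eq_two.1 ((card_classes i₀).2 x hx)
  have hm : ∀ l : S.Six, l.1 ≤ S.L x ↔ l = i ∨ l = j := fun l => by
    have h := Finset.ext_iff.1 e l
    simpa [sixOf] using h
  exact ⟨i, j, hij, (sup_eq_L hx hij ((hm i).2 (Or.inl rfl)) ((hm j).2 (Or.inr rfl))).symm,
    fun l => (hm l).1⟩

theorem le_L_iff {x : V} (hx : x ∉ S.W) {i j : S.Six} (hij : i ≠ j) (h : S.L x = i.1 ⊔ j.1)
    (l : S.Six) : l.1 ≤ S.L x ↔ l = i ∨ l = j := by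
  refine ⟨fun hl => ?_, ?_⟩
  · by_contra hne
    simp only [not_or] at hne
    exact not_collinear hij hne.1 hne.2 (h ▸ hl)
  · rintro (rfl | rfl) <;> rw [h]
    exacts [le_sup_left, le_sup_right]

theorem L_add_le (x y : V) : S.L (x + y) ≤ S.L x ⊔ S.L y := fun w ⟨φ, hφ, hw⟩ => by
  have h := add_mem (Submodule.mem_sup_left (T := S.L y) (Z_le_L x hw))
    (add_mem (Submodule.mem_sup_left (T := S.L y) (D_mem_L hφ x))
      (Submodule.mem_sup_right (S := S.L x) (D_mem_L hφ y)))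
  rwa [D_map_add, vadd_cancel'] at h

/-- Cosets with the same subspace are equal. -/
theorem coset_eq_of_L {x y : V} (hx : x ∉ S.W) (hy : y ∉ S.W) (h : S.L x = S.L y) :
    x + y ∈ S.W := by
  classical
  have : Fintype S.Six := Fintype.ofFinite _
  have : Finite (V ⧸ S.W) := Quotient.finite _
  have : Fintype (V ⧸ S.W) := Fintype.ofFinite _
  set fib : Submodule (ZMod 2) V → Finset (V ⧸ S.W) := fun X =>
    univ.filter fun c => c ≠ 0 ∧ S.LQ c = X with hfib
  have hout : ∀ c : V ⧸ S.W, c ≠ 0 → S.outQ c ∉ S.W := fun c hc h => hc (by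
    rw [← mk_outQ c]; exact (Submodule.Quotient.mk_eq_zero _).2 h)
  have hmk : ∀ {x}, x ∉ S.W → (Submodule.Quotient.mk x : V ⧸ S.W) ≠ 0 := fun hx h =>
    hx ((Submodule.Quotient.mk_eq_zero _).1 h)
  have hconst : ∀ a b, a ∉ S.W → b ∉ S.W → (fib (S.L a)).card ≤ (fib (S.L b)).card := by
    intro a b ha hb
    obtain ⟨g, hg, hgab⟩ := S.trans_U a ha b hb
    refine card_le_card_of_injOn (fun c => Submodule.Quotient.mk (S.ρ g (S.outQ c)))
      (fun c hc => ?_) (fun c _ d _ h => ?_)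
    · simp only [hfib, coe_filter, Set.mem_setOf_eq, mem_univ, true_and] at hc ⊢
      refine ⟨hmk fun h => hout c hc.1 ((S.mem_W_iff hg).1 h), ?_⟩
      rw [LQ_mk, ← L_congr hgab]
      ext w
      rw [← S.rho_apply_inv g w, L_map_iff hg, L_map_iff hg]
      exact SetLike.ext_iff.1 hc.2 _
    · simp only [Submodule.Quotient.eq, ← map_sub, S.mem_W_iff hg] at h
      rw [← mk_outQ c, ← mk_outQ d]
      exact (Submodule.Quotient.eq S.W).2 h
  obtain ⟨i, j, hij, hL, -⟩ := exists_two hx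
  -- the five cosets of `i` split into fibres of one size
  have hsum := card_eq_sum_card_image (fun c => S.LQ c) (S.classesOf i)
  have hm : ∀ X ∈ (S.classesOf i).image fun c => S.LQ c,
      ((S.classesOf i).filter fun c => S.LQ c = X).card = (fib (S.L x)).card := by
    intro X hX
    obtain ⟨c, hc, rfl⟩ := mem_image.1 hX
    simp only [classesOf, mem_filter, mem_univ, true_and] at hc
    rw [le_antisymm (hconst x _ hx (hout c hc.1)) (hconst _ x (hout c hc.1) hx)]
    congr 1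
    ext d
    simp only [hfib, classesOf, mem_filter, mem_univ, true_and]
    exact ⟨fun h => ⟨h.1.1, h.2⟩, fun h => ⟨⟨h.1, (show S.L (S.outQ d) = _ from h.2).symm ▸ hc.2⟩, h.2⟩⟩
  rw [sum_congr rfl hm, sum_const, smul_eq_mul, (card_classes i).1] at hsum
  rcases (Nat.dvd_prime (by norm_num : Nat.Prime 5)).1 ⟨_, hsum.trans (mul_comm _ _)⟩ with h1 | h5
  · have hxm : (Submodule.Quotient.mk x : V ⧸ S.W) ∈ fib (S.L x) := by simp [hfib, hx, LQ_mk]
    have hym : (Submodule.Quotient.mk y : V ⧸ S.W) ∈ fib (S.L x) := by simp [hfib, hy, LQ_mk, h]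
    have := (Submodule.Quotient.eq S.W).1 (card_le_one.1 h1.le _ hxm _ hym)
    rwa [sub_eq_add_neg, ← eq_neg_of_add_eq_zero_left (vadd_self y)] at this
  · exfalso
    refine not_five_classes (S := S) (fun a => a ∉ S.W ∧ S.L a = S.L x) (fun a b ha hb => ?_)
      (fun a b hab ha => ⟨fun hbW => ha.1 (by simpa [vadd_cancel'] using add_mem hab hbW),
        (L_congr (by rwa [add_comm])).trans ha.2⟩) (fun a ha => ha.1) ?_
    · by_cases hW : a + b ∈ S.W
      · exact Or.inl hW
      · exact Or.inr ⟨hW, SetLike.coe_injective (Set.eq_of_subset_of_ncard_le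
          ((L_add_le a b).trans (by rw [ha.2, hb.2, sup_idem])) (by
            rw [← Nat.card_coe_set_eq, ← Nat.card_coe_set_eq, SetLike.coe_sort_coe,
              SetLike.coe_sort_coe, card_L hx, card_L hW]) (Set.toFinite _))⟩
    · rw [← h5]
      congr 1
      ext c
      simp only [hfib, Finset.mem_filter, Finset.mem_univ, true_and, LQ]
      refine Iff.trans ?_ (Finset.mem_filter.trans (and_iff_right (Finset.mem_univ _))).symm
      exact and_congr_left fun _ => ⟨fun hW hc => hW (by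
        have := (Submodule.Quotient.mk_eq_zero (p := S.W) (x := S.outQ c)).1
          ((mk_outQ c).trans hc)
        exact this), hout c⟩

/-- Every pair of the six has its coset. -/
theorem exists_pair_coset {i j : S.Six} (hij : i ≠ j) : ∃ x, x ∉ S.W ∧ S.L x = i.1 ⊔ j.1 := by
  classical
  have : Fintype S.Six := Fintype.ofFinite _
  have : Finite (V ⧸ S.W) := Quotient.finite _
  have : Fintype (V ⧸ S.W) := Fintype.ofFinite _
  have h6 : Fintype.card S.Six = 6 := by rw [← Nat.card_eq_fintype_card, card_six]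
  have hout : ∀ c : V ⧸ S.W, c ≠ 0 → S.outQ c ∉ S.W := fun c hc h => hc (by
    rw [← mk_outQ c]; exact (Submodule.Quotient.mk_eq_zero _).2 h)
  have hex : ∀ c ∈ S.classesOf i, ∃ l, l ≠ i ∧ S.LQ c = i.1 ⊔ l.1 := fun c hc => by
    simp only [classesOf, mem_filter, mem_univ, true_and] at hc
    obtain ⟨a, b, hab, e, hu⟩ := exists_two (hout c hc.1)
    rcases hu i hc.2 with rfl | rfl
    · exact ⟨b, hab.symm, e⟩
    · exact ⟨a, hab, e.trans (sup_comm _ _)⟩
  let f : V ⧸ S.W → S.Six := fun c => if h : c ∈ S.classesOf i then (hex c h).choose else i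
  have hf : ∀ c ∈ S.classesOf i, f c ≠ i ∧ S.LQ c = i.1 ⊔ (f c).1 := fun c hc => by
    simp only [f, dif_pos hc]; exact (hex c hc).choose_spec
  have himg : (S.classesOf i).image f = univ.erase i := by
    refine eq_of_subset_of_card_le (fun l hl => ?_) ?_
    · obtain ⟨c, hc, rfl⟩ := mem_image.1 hl
      exact mem_erase.2 ⟨(hf c hc).1, mem_univ _⟩
    · rw [card_erase_of_mem (mem_univ i), card_univ, h6, card_image_of_injOn, (card_classes i).1]
      intro c hc d hd h
      have hc' := (mem_filter.1 hc).2.1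
      have hd' := (mem_filter.1 hd).2.1
      have := coset_eq_of_L (hout c hc') (hout d hd') ((hf c hc).2.trans (h ▸ (hf d hd).2.symm))
      rw [← mk_outQ c, ← mk_outQ d]
      refine (Submodule.Quotient.eq S.W).2 ?_
      rwa [sub_eq_add_neg, ← eq_neg_of_add_eq_zero_left (vadd_self _)]
  obtain ⟨c, hc, hcj⟩ := mem_image.1 (himg ▸ mem_erase.2 ⟨hij.symm, mem_univ j⟩)
  exact ⟨S.outQ c, hout c (mem_filter.1 hc).2.1, hcj ▸ (hf c hc).2⟩

/-! ### Orthogonality and sums of cosets -/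

variable (S) in
/-- `i` is totally isotropic for the form of `t`. -/
def Iso (t : V) (i : S.Six) : Prop := ∀ a ∈ i.1, ∀ b ∈ i.1, S.bet t a b = 0

theorem bet_sum {t : V} (ht : t ∈ S.T) (htW : t ∉ S.W) {a b c d : V} (ha : a ∈ S.L t)
    (hb : b ∈ S.L t) (hc : c ∈ S.L t) (hd : d ∈ S.L t) :
    S.bet t (a + b) (c + d) = S.bet t a c + S.bet t a d + (S.bet t b c + S.bet t b d) := by
  rw [bet_add_left ht htW ha hb (add_mem hc hd), bet_add ht htW ha hc hd, bet_add ht htW hb hc hd]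

theorem bet_smul {t : V} (ht : t ∈ S.T) (htW : t ∉ S.W) {a b : V} (ha : a ∈ S.L t)
    (c : ZMod 2) : S.bet t a (c • b) = c * S.bet t a b := by
  rcases zmod_two_cases c with rfl | rfl
  · rw [zero_smul, zero_mul]
    have h0 : S.bet t a 0 = 0 := by
      have := bet_add ht htW ha (zero_mem (S.L t)) (zero_mem (S.L t))
      rwa [add_zero, CharTwo.add_self_eq_zero] at this
    exact h0
  · rw [one_smul, one_mul]

/-- Bilinear values on `⟨z, a, p a⟩`. -/
theorem bet_K {t : V} (ht : t ∈ S.T) (htW : t ∉ S.W) {a y : V} (ha : a ∈ S.L t) (hy : y ∈ S.L t)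
    (h1 : S.bet t y a = 0) (h2 : S.bet t y (S.ρ S.p a) = 0) {x : V} (hx : x ∈ S.K a) :
    S.bet t y x = 0 := by
  obtain ⟨c, i, j, rfl⟩ := mem_K.1 hx
  have hz := Z_le_L t S.z_mem_Z
  have e1 := (S.L t).smul_mem c hz
  have e2 := (S.L t).smul_mem i ha
  have e3 := (S.L t).smul_mem j (p_L ha)
  rw [bet_add ht htW hy (add_mem e1 e2) e3, bet_add ht htW hy e1 e2, bet_smul ht htW hy,
    bet_smul ht htW hy, bet_smul ht htW hy, bet_z ht htW hy, h1, h2]
  ring

theorem bet_p_self {t : V} (ht : t ∈ S.T) (htW : t ∉ S.W) {a y : V} (ha : a ∈ S.L t)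
    (hy : y ∈ S.L t) (h1 : S.bet t y a = 0) (h2 : S.bet t y (S.ρ S.p a) = 0) :
    S.bet t (S.ρ S.p y) a = 0 ∧ S.bet t (S.ρ S.p y) (S.ρ S.p a) = 0 := by
  refine ⟨?_, by rw [bet_p ht htW hy ha]; exact h1⟩
  have haW := L_le_W t ha
  have hppa : S.ρ S.p (S.ρ S.p a) ∈ S.K a := (pInv_K haW).2 _ (p_mem_K_self a)
  have h3 := bet_K ht htW ha hy h1 h2 hppa
  rw [← bet_p ht htW hy (p_L (p_L ha)), p_three] at h3
  exact h3

/-- A vector orthogonal to a non-isotropic `K a` spans with it a non-isotropic `K o`. -/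
theorem bet_orth_one {t : V} (ht : t ∈ S.T) (htW : t ∉ S.W) {a o : V} (ha : a ∈ S.L t)
    (ho : o ∈ S.L t) (hβ : S.bet t a (S.ρ S.p a) = 1) (h1 : S.bet t o a = 0)
    (h2 : S.bet t o (S.ρ S.p a) = 0) (hoZ : o ∉ S.Z) : S.bet t o (S.ρ S.p o) = 1 := by
  refine (zmod_two_cases _).resolve_left fun h0 => hoZ (bet_nondeg ht htW ho fun b hb => ?_)
  have haW := L_le_W t ha
  have haZ : a ∉ S.Z := fun h => by
    rcases S.mem_Z.1 h with rfl | rfl
    · rw [bet_comm, bet, add_zero, chi_zero ht, CharTwo.add_self_eq_zero, add_zero] at hβ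
      simp [chi_zero ht] at hβ
    · rw [S.p_z, bet_self ht] at hβ; exact zero_ne_one hβ
  have hoK : o ∉ S.K a := fun h => by
    obtain ⟨c, i, j, rfl⟩ := mem_K.1 h
    have e1 := (S.L t).smul_mem c (Z_le_L t S.z_mem_Z)
    have e2 := (S.L t).smul_mem i ha
    have e3 := (S.L t).smul_mem j (p_L ha)
    rw [bet_comm, bet_add ht htW ha (add_mem e1 e2) e3, bet_add ht htW ha e1 e2,
      bet_smul ht htW ha, bet_smul ht htW ha, bet_smul ht htW ha, bet_z ht htW ha, bet_self ht,
      hβ] at h1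
    rw [bet_comm, bet_add ht htW (p_L ha) (add_mem e1 e2) e3, bet_add ht htW (p_L ha) e1 e2,
      bet_smul ht htW (p_L ha), bet_smul ht htW (p_L ha), bet_smul ht htW (p_L ha),
      bet_z ht htW (p_L ha), bet_self ht, bet_comm t _ a, hβ] at h2
    simp only [mul_zero, mul_one, zero_add, add_zero] at h1 h2
    subst h1; subst h2
    exact hoZ (by simpa using S.Z.smul_mem c S.z_mem_Z)
  have hL : S.K a ⊔ S.K o = S.L t := SetLike.coe_injective
    (Set.eq_of_subset_of_ncard_le (sup_le (K_le (pInv_L t) ha) (K_le (pInv_L t) ho)) (by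
      rw [← Nat.card_coe_set_eq, ← Nat.card_coe_set_eq, SetLike.coe_sort_coe, SetLike.coe_sort_coe,
        (coset_facts ht htW).2.2, card_sup_K (pInv_K haW) (L_le_W t ho) hoK, card_K haW haZ])
      (Set.toFinite _))
  rw [← hL] at hb
  obtain ⟨u, hu, w, hw, rfl⟩ := Submodule.mem_sup.1 hb
  rw [bet_add ht htW ho (K_le (pInv_L t) ha hu) (K_le (pInv_L t) ho hw),
    bet_K ht htW ha ho h1 h2 hu, bet_K ht htW ho ho (bet_self ht o) h0 hw, add_zero]

theorem bet_p_eq_one {t : V} (ht : t ∈ S.T) (htW : t ∉ S.W) {i : S.Six} (hi : i.1 ≤ S.L t)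
    (h : ¬ S.Iso t i) {a : V} (ha : a ∈ i.1) (haZ : a ∉ S.Z) : S.bet t a (S.ρ S.p a) = 1 := by
  refine (zmod_two_cases _).resolve_left fun h0 => h fun x hx y hy => ?_
  have haL := hi ha
  rw [six_eq_K i ha haZ] at hx hy
  have hxL := K_le (pInv_L t) haL hx
  refine bet_K ht htW haL hxL ?_ ?_ hy <;> rw [bet_comm]
  · exact bet_K ht htW haL haL (bet_self ht a) h0 hx
  · exact bet_K ht htW haL (p_L haL) (by rw [bet_comm]; exact h0) (bet_self ht _) hx

/-- Two non-isotropic members of one coset are orthogonal. -/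
theorem orth_of_nonIso {t : V} (ht : t ∈ S.T) (htW : t ∉ S.W) {i j : S.Six} (hij : i ≠ j)
    (hi : i.1 ≤ S.L t) (hj : j.1 ≤ S.L t) (hni : ¬ S.Iso t i) (hnj : ¬ S.Iso t j) :
    ∀ a ∈ i.1, ∀ b ∈ j.1, S.bet t a b = 0 := by
  obtain ⟨a, ha, haZ⟩ := exists_mem_six i
  obtain ⟨c, hc, hcZ⟩ := exists_mem_six j
  have hβ := bet_p_eq_one ht htW hi hni ha haZ
  have haL := hi ha
  have hcL := hj hc
  -- the projection of `c` to `K a`
  set x := S.bet t c (S.ρ S.p a) • a + S.bet t c a • S.ρ S.p a with hx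
  have hxi : x ∈ i.1 := add_mem (Submodule.smul_mem _ _ ha)
    (Submodule.smul_mem _ _ ((pInv_six i).2 a ha))
  have hxL := hi hxi
  set o := c + x with hodef
  have hoL : o ∈ S.L t := add_mem hcL hxL
  have hax : S.bet t a x = S.bet t c a := by
    rw [hx, bet_add ht htW haL ((S.L t).smul_mem _ haL) ((S.L t).smul_mem _ (p_L haL)),
      bet_smul ht htW haL, bet_smul ht htW haL, bet_self ht, hβ]
    ring
  have hpax : S.bet t (S.ρ S.p a) x = S.bet t c (S.ρ S.p a) := by
    rw [hx, bet_add ht htW (p_L haL) ((S.L t).smul_mem _ haL) ((S.L t).smul_mem _ (p_L haL)),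
      bet_smul ht htW (p_L haL), bet_smul ht htW (p_L haL), bet_self ht, bet_comm t _ a, hβ]
    ring
  have o1 : S.bet t o a = 0 := by
    rw [bet_comm, hodef, bet_add ht htW haL hcL hxL, hax, bet_comm t a, CharTwo.add_self_eq_zero]
  have o2 : S.bet t o (S.ρ S.p a) = 0 := by
    rw [bet_comm, hodef, bet_add ht htW (p_L haL) hcL hxL, hpax, bet_comm t (S.ρ S.p a),
      CharTwo.add_self_eq_zero]
  have hoK : ∀ y ∈ i.1, S.bet t o y = 0 ∧ S.bet t (S.ρ S.p o) y = 0 := fun y hy => by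
    rw [six_eq_K i ha haZ] at hy
    obtain ⟨q1, q2⟩ := bet_p_self ht htW haL hoL o1 o2
    exact ⟨bet_K ht htW haL hoL o1 o2 hy, bet_K ht htW haL (p_L hoL) q1 q2 hy⟩
  have hoZ : o ∉ S.Z := fun h => hij (six_ext (x := c) (by
    have := add_mem hxi (six_Z_le i h)
    rwa [hodef, add_comm c, vadd_cancel] at this) hc hcZ)
  by_cases hxZ : x ∈ S.Z
  · intro b hb d hd
    have hb' := hi hb
    rw [six_eq_K j hc hcZ] at hd
    have hc' : ∀ y ∈ i.1, S.bet t c y = 0 := fun y hy => by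
      have e := (hoK y hy).1
      rw [hodef, bet_add_left ht htW hcL hxL (hi hy)] at e
      rcases S.mem_Z.1 hxZ with e0 | e0 <;> rw [e0] at e
      · have h0 : S.bet t 0 y = 0 := by
          have := bet_smul ht htW (hi hy) 0 (b := y)
          rw [zero_smul, zero_mul] at this
          rw [bet_comm]; exact this
        rwa [h0, add_zero] at e
      · rwa [bet_comm t S.z, bet_z ht htW (hi hy), add_zero] at e
    refine bet_K ht htW hcL hb' (by rw [bet_comm]; exact hc' b hb) ?_ hd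
    obtain ⟨q1, q2⟩ := bet_p_self ht htW haL hcL (hc' a ha) (hc' _ ((pInv_six i).2 a ha))
    rw [bet_comm]
    rw [six_eq_K i ha haZ] at hb
    exact bet_K ht htW haL (p_L hcL) q1 q2 hb
  · -- otherwise `j` would be isotropic
    exfalso
    have hc1 := bet_p_eq_one ht htW hj hnj hc hcZ
    have hx1 := bet_p_eq_one ht htW hi hni hxi hxZ
    have ho1 := bet_orth_one ht htW haL hoL hβ o1 o2 hoZ
    have hce : c = o + x := by rw [hodef, vadd_cancel']
    rw [hce, map_add, bet_sum ht htW hoL hxL (p_L hoL) (p_L hxL), ho1, hx1,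
      (hoK _ ((pInv_six i).2 x hxi)).1, bet_comm t x, (hoK x hxi).2] at hc1
    exact absurd hc1 (by decide)

theorem iso_congr {t t' : V} (ht : t ∈ S.T) (htW : t ∉ S.W) (ht' : t' ∈ S.T)
    (h : t + t' ∈ S.W) {i : S.Six} (hi : i.1 ≤ S.L t) : S.Iso t' i ↔ S.Iso t i := by
  refine ⟨fun h' a ha b hb => ?_, fun h' a ha b hb => ?_⟩
  · rw [← bet_congr ht htW ht' h (hi ha) (hi hb)]; exact h' a ha b hb
  · rw [bet_congr ht htW ht' h (hi ha) (hi hb)]; exact h' a ha b hb

theorem iso_act {g : ↥S.stabZ} {t : V} {i : S.Six} (h : S.Iso t i) :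
    S.Iso (S.ρ g.1 t) (act g i) := by
  rintro _ ⟨a, ha, rfl⟩ _ ⟨b, hb, rfl⟩
  exact (bet_map g.2 t a b).trans (h a ha b hb)

/-- The two members of a coset are isotropic together. -/
theorem iso_swap {t : V} (ht : t ∈ S.T) (htW : t ∉ S.W) {i j : S.Six} (hij : i ≠ j)
    (h : S.L t = i.1 ⊔ j.1) (hiso : S.Iso t i) : S.Iso t j := by
  obtain ⟨g, hgi, hgj⟩ := two_trans hij hij.symm
  have h1 := hgi ▸ iso_act (g := g) hiso
  have hgt : S.ρ g.1 t ∉ S.W := fun hh => htW ((S.mem_W_iff g.2).1 hh)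
  have hLg : S.L (S.ρ g.1 t) = S.L t := by
    rw [← sup_eq_L hgt hij.symm (hgi ▸ L_act (h ▸ le_sup_left)) (hgj ▸ L_act (h ▸ le_sup_right)),
      sup_comm, h]
  exact (iso_congr ht htW (S.map_T _ _ ht) (coset_eq_of_L htW hgt hLg.symm)
    (h ▸ le_sup_right)).1 h1

theorem iso_trans {t t' : V} (ht : t ∈ S.T) (htW : t ∉ S.W) (ht' : t' ∈ S.T) (htW' : t' ∉ S.W)
    (h : ∀ i : S.Six, i.1 ≤ S.L t → S.Iso t i) {i : S.Six} (hi : i.1 ≤ S.L t') : S.Iso t' i := by
  obtain ⟨g, hg, hgt⟩ := S.trans_U t htW t' htW'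
  have hW : t' + S.ρ g t ∈ S.W := by rwa [add_comm]
  have hpre : ((act ⟨g, hg⟩)⁻¹ i).1 ≤ S.L t := by
    intro w hw
    have := mem_act ⟨g, hg⟩ hw
    rw [← Equiv.Perm.mul_apply, mul_inv_cancel, Equiv.Perm.one_apply] at this
    exact (L_map_iff hg).1 (L_congr hW ▸ hi this)
  have h1 := iso_act (g := ⟨g, hg⟩) (h _ hpre)
  rw [← Equiv.Perm.mul_apply, mul_inv_cancel, Equiv.Perm.one_apply] at h1
  exact (iso_congr ht' htW' (S.map_T g t ht) hW hi).1 h1

/-- The image under the translations orthogonal to `L x` of a coset `y` meeting it in `j`. -/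
theorem exists_shift {x y : V} (hx : x ∉ S.W) (hy : y ∉ S.W) {i j l : S.Six} (hij : i ≠ j)
    (hjl : j ≠ l) (hil : i ≠ l) (hLx : S.L x = i.1 ⊔ j.1) (hLy : S.L y = j.1 ⊔ l.1) :
    ∃ t ∈ S.T, t ∉ S.W ∧ t + y ∈ S.W ∧ S.L t = S.L y ∧
      ∃ c ∈ S.L y, c ∉ S.Z ∧ c ∈ S.L (x + y) ∧ ∀ b ∈ j.1, S.bet t c b = 0 := by
  obtain ⟨t, ht, htW, hty, hLt⟩ := exists_T_coset hy
  obtain ⟨v, hv, hvZ⟩ := exists_mem_six l
  have hvx : v ∉ S.L x := fun h =>
    hvZ (mem_inf_six hij hil.symm hjl.symm hv (hLx ▸ h))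
  obtain ⟨φ, hφv, hφx⟩ := Submodule.exists_dual_map_eq_bot_of_notMem hvx inferInstance
  have hφ0 : ∀ b ∈ S.L x, φ b = 0 := fun b hb => by
    have : φ b ∈ (S.L x).map φ := Submodule.mem_map_of_mem hb
    rwa [hφx, Submodule.mem_bot] at this
  have hφz : φ S.z = 0 := hφ0 _ (Z_le_L x S.z_mem_Z)
  set c := S.D φ t
  have hcL : c ∈ S.L t := D_mem_L hφz t
  refine ⟨t, ht, htW, hty, hLt, c, hLt ▸ hcL, fun hcZ => hφv ?_, ?_, fun b hb => ?_⟩
  · have hvL : v ∈ S.L t := by rw [hLt, hLy]; exact Submodule.mem_sup_right hv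
    rw [← bet_eq ht htW hφz (a := c) (by rw [vadd_self]; exact zero_mem _) hvL, bet_comm]
    rcases S.mem_Z.1 hcZ with e | e <;> rw [e]
    · simpa using bet_smul ht htW hvL 0 (b := v)
    · exact bet_z ht htW hvL
  · obtain ⟨s, hs, hsW, hsx, hLs⟩ := exists_T_coset hx
    have hsum : x + y + (s + t) ∈ S.W := by
      have := add_mem hsx hty
      rwa [show x + y + (s + t) = s + x + (t + y) by abel]
    rw [L_congr hsum]
    refine ⟨φ, hφz, ?_⟩
    rw [D_map_add, add_comm (S.D φ s), vadd_cancel]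
    exact D_mem_Z_of_vanish hφz fun b hb => hφ0 b (hLs ▸ hb)
  · have hbL : b ∈ S.L t := by rw [hLt, hLy]; exact Submodule.mem_sup_left hb
    rw [bet_eq ht htW hφz (a := c) (by rw [vadd_self]; exact zero_mem _) hbL]
    exact hφ0 b (hLx ▸ Submodule.mem_sup_right hb)

/-- The six are non-isotropic in their cosets. -/
theorem not_iso {t : V} (ht : t ∈ S.T) (htW : t ∉ S.W) {i : S.Six} (hi : i.1 ≤ S.L t) :
    ¬ S.Iso t i := by
  classical
  intro hiso
  have : Fintype S.Six := Fintype.ofFinite _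
  have : Finite (V ⧸ S.W) := Quotient.finite _
  have : Fintype (V ⧸ S.W) := Fintype.ofFinite _
  obtain ⟨a, b, hab, hL, hu⟩ := exists_two htW
  have hall : ∀ l : S.Six, l.1 ≤ S.L t → S.Iso t l := by
    intro l hl
    rcases hu i hi with rfl | rfl <;> rcases hu l hl with rfl | rfl
    · exact hiso
    · exact iso_swap ht htW hab hL hiso
    · exact iso_swap ht htW hab.symm (hL.trans (sup_comm _ _)) hiso
    · exact hiso
  refine not_five_classes (S := S) (fun x => x ∉ S.W ∧ a.1 ≤ S.L x) ?_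
    (fun x y hxy hx => ⟨fun hyW => hx.1 (by simpa [vadd_cancel'] using add_mem hxy hyW),
      L_congr hxy ▸ hx.2⟩) (fun x hx => hx.1) ?_
  · rintro x y ⟨hx, hax⟩ ⟨hy, hay⟩
    by_cases hW : x + y ∈ S.W
    · exact Or.inl hW
    refine Or.inr ⟨hW, ?_⟩
    have hex : ∀ {x}, x ∉ S.W → a.1 ≤ S.L x → ∃ l, l ≠ a ∧ S.L x = l.1 ⊔ a.1 := by
      intro x hx hax
      obtain ⟨p, q, hpq, e, hu'⟩ := exists_two hx
      rcases hu' a hax with rfl | rfl
      · exact ⟨q, hpq.symm, e.trans (sup_comm _ _)⟩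
      · exact ⟨p, hpq, e⟩
    obtain ⟨i', hia, hLx⟩ := hex hx hax
    obtain ⟨l', hla, hLy⟩ := hex hy hay
    have hil : i' ≠ l' := fun e => hW (coset_eq_of_L hx hy (by rw [hLx, hLy, e]))
    obtain ⟨s, hs, hsW, -, hLs, c, hc, hcZ, hcw, horth⟩ :=
      exists_shift hx hy hia hla.symm hil hLx (hLy.trans (sup_comm _ _))
    have hisoS : ∀ l : S.Six, l.1 ≤ S.L s → S.Iso s l := fun l hl =>
      iso_trans ht htW hs hsW hall hl
    rw [← hLs] at hc hay
    have hca : c ∈ a.1 := by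
      by_contra hca
      obtain ⟨u, hu, huZ⟩ := exists_mem_six a
      have hL2 : a.1 ⊔ S.K c = S.L s := SetLike.coe_injective
        (Set.eq_of_subset_of_ncard_le (sup_le hay (K_le (pInv_L s) hc)) (by
          rw [← Nat.card_coe_set_eq, ← Nat.card_coe_set_eq, SetLike.coe_sort_coe,
            SetLike.coe_sort_coe, (coset_facts hs hsW).2.2,
            card_sup_K (pInv_six a) (L_le_W s hc) hca, card_six_sub]) (Set.toFinite _))
      refine huZ (bet_nondeg hs hsW (hay hu) fun y hy => ?_)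
      rw [← hL2] at hy
      obtain ⟨p, hp, w, hw, rfl⟩ := Submodule.mem_sup.1 hy
      rw [bet_add hs hsW (hay hu) (hay hp) (K_le (pInv_L s) hc hw), hisoS a hay u hu p hp,
        bet_K hs hsW hc (hay hu) (by rw [bet_comm]; exact horth u hu) ?_ hw, add_zero]
      have huu := six_eq_K a hu huZ
      obtain ⟨q1, -⟩ := bet_p_self hs hsW (hay hu) hc (horth u hu)
        (horth _ ((pInv_six a).2 u hu))
      rw [bet_comm]; exact q1
    exact six_eq_K a hca hcZ ▸ K_le (pInv_L (x + y)) hcw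
  · rw [← (card_classes (S := S) a).1]
    congr 1
    ext c
    simp only [classesOf, mem_filter, mem_univ, true_and]
    refine and_congr_left fun _ => ?_
    exact ⟨fun h hc => h ((Submodule.Quotient.mk_eq_zero S.W).1 ((mk_outQ c).trans hc)),
      fun h hW => h ((mk_outQ c).symm.trans ((Submodule.Quotient.mk_eq_zero S.W).2 hW))⟩

/-- The two members of a coset are orthogonal. -/
theorem orth {t : V} (ht : t ∈ S.T) (htW : t ∉ S.W) {i j : S.Six} (hij : i ≠ j)
    (hi : i.1 ≤ S.L t) (hj : j.1 ≤ S.L t) : ∀ a ∈ i.1, ∀ b ∈ j.1, S.bet t a b = 0 :=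
  orth_of_nonIso ht htW hij hi hj (not_iso ht htW hi) (not_iso ht htW hj)

/-- `u_ij + u_jl = u_il`. -/
theorem pair_add {x y : V} (hx : x ∉ S.W) (hy : y ∉ S.W) {i j l : S.Six} (hij : i ≠ j)
    (hjl : j ≠ l) (hil : i ≠ l) (hLx : S.L x = i.1 ⊔ j.1) (hLy : S.L y = j.1 ⊔ l.1) :
    x + y ∉ S.W ∧ S.L (x + y) = i.1 ⊔ l.1 := by
  have hW : x + y ∉ S.W := fun h => by
    have e := L_congr h
    rw [hLx, hLy] at e
    exact not_collinear hjl hij hil (e ▸ le_sup_left)
  refine ⟨hW, (sup_eq_L hW hil ?_ ?_).symm⟩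
  on_goal 1 => rw [add_comm]
  all_goals
    first
    | exact key hy hx hjl.symm hij.symm hil.symm (hLy.trans (sup_comm _ _))
        (hLx.trans (sup_comm _ _))
    | exact key hx hy hij hjl hil hLx hLy
where
  key {x y : V} (hx : x ∉ S.W) (hy : y ∉ S.W) {i j l : S.Six} (hij : i ≠ j)
      (hjl : j ≠ l) (hil : i ≠ l) (hLx : S.L x = i.1 ⊔ j.1) (hLy : S.L y = j.1 ⊔ l.1) :
      l.1 ≤ S.L (x + y) := by
    obtain ⟨t, ht, htW, -, hLt, c, hc, hcZ, hcw, horth⟩ := exists_shift hx hy hij hjl hil hLx hLy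
    have hjt : j.1 ≤ S.L t := by rw [hLt, hLy]; exact le_sup_left
    have hlt : l.1 ≤ S.L t := by rw [hLt, hLy]; exact le_sup_right
    rw [hLy] at hc
    obtain ⟨p, hp, q, hq, rfl⟩ := Submodule.mem_sup.1 hc
    have hpZ : p ∈ S.Z := by
      by_contra hpZ
      have hp' := (pInv_six j).2 p hp
      have h := horth _ hp'
      rw [bet_add_left ht htW (hjt hp) (hlt hq) (hjt hp'), bet_comm t q,
        orth ht htW hjl hjt hlt _ hp' q hq,
        bet_p_eq_one ht htW hjt (not_iso ht htW hjt) hp hpZ] at h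
      exact absurd h (by decide)
    have hcl : p + q ∈ l.1 := add_mem (six_Z_le l hpZ) hq
    exact six_eq_K l hcl hcZ ▸ K_le (pInv_L (x + y)) hcw

end Cfsg.Agent.JankoFour.DuadSpace
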