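import Cfsg.Agent.Lib.JankoFour.DuadPairs
import Cfsg.Agent.Lib.AbstractGolay.DuadAction

/-!
# Janko-four type: the 24 points (S5567)

A point is one of the six subspaces `i` with one of the four possible restrictions of `chi` to it.
`exists_points`: 24 vectors whose sums of pairs are the elements of `T`, spanning, with no relation
of weight 2, 4 or 6.
-/

set_option autoImplicit false
set_option linter.unusedSectionVars false

namespace Cfsg.Agent.JankoFour.DuadSpace

open Finset Module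

universe u v

variable {N : Type v} [Group N] {V : Type u} [AddCommGroup V] [Module (ZMod 2) V] [Finite V]
variable {S : DuadSpace N V}

/-- A generator of one of the six. -/
noncomputable def ga (i : S.Six) : V := i.2.choose

theorem ga_mem_T (i : S.Six) : ga i ∈ S.T := i.2.choose_spec.1

theorem K_ga (i : S.Six) : S.K (ga i) = i.1 := i.2.choose_spec.2.2

theorem ga_mem (i : S.Six) : ga i ∈ i.1 := K_ga i ▸ mem_K_self _

theorem ga_not_Z (i : S.Six) : ga i ∉ S.Z := S.not_mem_Z_of_mem_T (ga_mem_T i)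

theorem ga_W (i : S.Six) : ga i ∈ S.W := six_le_W i (ga_mem i)

theorem gb_mem (i : S.Six) : S.ρ S.p (ga i) ∈ i.1 := (pInv_six i).2 _ (ga_mem i)

/-- The element of `i` with the given coordinates. -/
noncomputable def el (i : S.Six) (c : ZMod 2 × ZMod 2 × ZMod 2) : V :=
  c.1 • S.z + c.2.1 • ga i + c.2.2 • S.ρ S.p (ga i)

theorem el_mem (i : S.Six) (c : ZMod 2 × ZMod 2 × ZMod 2) : el i c ∈ i.1 :=
  add_mem (add_mem (Submodule.smul_mem _ _ (six_Z_le i S.z_mem_Z))
    (Submodule.smul_mem _ _ (ga_mem i))) (Submodule.smul_mem _ _ (gb_mem i))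

theorem exists_el {i : S.Six} {x : V} (h : x ∈ i.1) : ∃ c, x = el i c := by
  rw [← K_ga i] at h
  obtain ⟨a, b, c, e⟩ := mem_K.1 h
  exact ⟨(a, b, c), e⟩

theorem el_add (i : S.Six) (c d : ZMod 2 × ZMod 2 × ZMod 2) :
    el i (c + d) = el i c + el i d := by
  simp only [el, Prod.fst_add, Prod.snd_add, add_smul]
  abel

theorem el_mem_Z {i : S.Six} {c : ZMod 2 × ZMod 2 × ZMod 2} :
    el i c ∈ S.Z ↔ c.2.1 = 0 ∧ c.2.2 = 0 := by
  refine ⟨fun h => ?_, fun h => by simp [el, h.1, h.2, S.Z.smul_mem _ S.z_mem_Z]⟩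
  obtain ⟨c, a, b⟩ := c
  have h' := add_mem h (S.Z.smul_mem c S.z_mem_Z)
  rw [el, show c • S.z + a • ga i + b • S.ρ S.p (ga i) + c • S.z = a • ga i + b • S.ρ S.p (ga i) +
    (c • S.z + c • S.z) by abel, vadd_self, add_zero] at h'
  have hpt : S.ρ S.p (ga i) ∉ S.Z := fun h => ga_not_Z i ((S.mem_Z_iff S.p_z).1 h)
  rcases zmod_two_cases a with rfl | rfl <;> rcases zmod_two_cases b with rfl | rfl
  · exact ⟨rfl, rfl⟩
  · simp [hpt] at h'
  · simp [ga_not_Z i] at h'
  · simp only [one_smul] at h'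
    rw [add_comm, S.mem_Z] at h'
    exact absurd (S.mem_Z.2 (S.p_fpf _ (ga_W i) h')) (ga_not_Z i)

theorem el_injective (i : S.Six) : Function.Injective (el i) := by
  intro c d h
  have h0 : el i (c + d) = 0 := by rw [el_add, h, vadd_self]
  obtain ⟨h1, h2⟩ := el_mem_Z.1 (h0.symm ▸ zero_mem _)
  rw [el, h1, h2, zero_smul, zero_smul, add_zero, add_zero] at h0
  have h3 : (c + d).1 = 0 := (zmod_two_cases _).resolve_right fun e => S.z_ne (by
    rwa [e, one_smul] at h0)
  have : c + d = 0 := Prod.ext h3 (Prod.ext h1 h2)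
  exact vadd_eq_zero.1 this

/-- The values on the two generators. -/
noncomputable def crd (i : S.Six) (t : V) : ZMod 2 × ZMod 2 :=
  (S.chi t (ga i), S.chi t (S.ρ S.p (ga i)))

/-- The value of a point on an element given by coordinates. -/
def pval (x : ZMod 2 × ZMod 2) (c : ZMod 2 × ZMod 2 × ZMod 2) : ZMod 2 :=
  c.1 + c.2.1 * x.1 + c.2.2 * x.2 + c.2.1 * c.2.2

theorem chi_el {t : V} (ht : t ∈ S.T) (htW : t ∉ S.W) {i : S.Six} (hi : i.1 ≤ S.L t)
    (c : ZMod 2 × ZMod 2 × ZMod 2) : S.chi t (el i c) = pval (crd i t) c := by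
  obtain ⟨c, a, b⟩ := c
  have hab := bet_p_eq_one ht htW hi (not_iso ht htW hi) (ga_mem i) (ga_not_Z i)
  have e1 := hi (ga_mem i)
  have e2 := hi (gb_mem i)
  rw [el, show c • S.z + a • ga i + b • S.ρ S.p (ga i) = a • ga i + b • S.ρ S.p (ga i) + c • S.z by
    abel, chi_add_smul_z ht htW (add_mem ((S.L t).smul_mem _ e1) ((S.L t).smul_mem _ e2))]
  rcases zmod_two_cases a with rfl | rfl <;> rcases zmod_two_cases b with rfl | rfl <;>
    simp only [zero_smul, one_smul, zero_add, add_zero, pval, crd, zero_mul, mul_zero, one_mul,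
      chi_zero ht]
  · rw [add_comm]
  · rw [add_comm]
  · rw [chi_add, hab]; ring

/-- `t` and `t'` induce the same point on `i`. -/
def Agree (i : S.Six) (t t' : V) : Prop := ∀ x ∈ i.1, S.chi t x = S.chi t' x

theorem agree_iff {i : S.Six} {t t' : V} (ht : t ∈ S.T) (htW : t ∉ S.W) (hi : i.1 ≤ S.L t)
    (ht' : t' ∈ S.T) (htW' : t' ∉ S.W) (hi' : i.1 ≤ S.L t') :
    Agree i t t' ↔ crd i t = crd i t' := by
  refine ⟨fun h => Prod.ext (h _ (ga_mem i)) (h _ (gb_mem i)), fun h x hx => ?_⟩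
  obtain ⟨c, rfl⟩ := exists_el hx
  rw [chi_el ht htW hi, chi_el ht' htW' hi', h]

variable (S) in
/-- The elements of `T` in the coset of the pair `i`, `j`. -/
def InPair (i j : S.Six) (t : V) : Prop := t ∈ S.T ∧ t ∉ S.W ∧ S.L t = i.1 ⊔ j.1

namespace InPair

variable {i j : S.Six} {t : V}

theorem left (h : S.InPair i j t) : i.1 ≤ S.L t := h.2.2 ▸ le_sup_left

theorem right (h : S.InPair i j t) : j.1 ≤ S.L t := h.2.2 ▸ le_sup_right

theorem symm (h : S.InPair i j t) : S.InPair j i t := ⟨h.1, h.2.1, h.2.2.trans (sup_comm _ _)⟩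

theorem map (h : S.InPair i j t) (g : ↥S.stabZ) :
    S.InPair (act g i) (act g j) (S.ρ g.1 t) := by
  refine ⟨S.map_T _ _ h.1, fun hW => h.2.1 ((S.mem_W_iff g.2).1 hW), ?_⟩
  ext w
  rw [← S.rho_apply_inv g.1 w, L_map_iff g.2, h.2.2, act_apply, act_apply, ← Submodule.map_sup]
  exact ⟨fun hw => ⟨_, hw, rfl⟩, fun ⟨y, hy, e⟩ => S.rho_injective g.1 e ▸ hy⟩

theorem tr (h : S.InPair i j t) {φ : Dual (ZMod 2) V} (hφ : φ S.z = 0) :
    S.InPair i j (S.tr φ t) := by
  refine ⟨tr_mem_T.2 h.1, fun hW => h.2.1 ?_, (L_congr (D_mem hφ t)).trans h.2.2⟩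
  have := add_mem hW (D_mem hφ t)
  rwa [D, vadd_cancel] at this

end InPair

theorem agree_map {i : S.Six} {t t' : V} (g : ↥S.stabZ) (h : Agree i t t') :
    Agree (act g i) (S.ρ g.1 t) (S.ρ g.1 t') := by
  rintro _ ⟨x, hx, rfl⟩
  have e : ∀ s, S.chi (S.ρ g.1 s) (S.ρ g.1 x) = S.chi s x := fun s =>
    chi_congr (by rw [← map_add]; exact S.mem_T_iff g.1)
  rw [e, e]; exact h x hx

theorem crd_tr {i : S.Six} {t : V} (ht : t ∈ S.T) (htW : t ∉ S.W) (hi : i.1 ≤ S.L t)
    {φ : Dual (ZMod 2) V} (hφ : φ S.z = 0) :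
    crd i (S.tr φ t) = crd i t + (φ (ga i), φ (S.ρ S.p (ga i))) :=
  Prod.ext (chi_tr ht htW hφ (hi (ga_mem i))) (chi_tr ht htW hφ (hi (gb_mem i)))

theorem crd_unique {i j : S.Six} (hij : i ≠ j) {t t' : V} (h : S.InPair i j t)
    (h' : S.InPair i j t') (hi : crd i t = crd i t') (hj : crd j t = crd j t') : t = t' := by
  obtain ⟨ht, htW, hL⟩ := h
  have hW : t + t' ∈ S.W := coset_eq_of_L htW h'.2.1 (hL.trans h'.2.2.symm)
  obtain ⟨φ, hφ, e⟩ := (coset_facts ht htW).1 _ ⟨hW, by rw [vadd_cancel]; exact h'.1⟩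
  have e' : S.tr φ t = t' := by rw [tr_eq, e, vadd_cancel]
  have hl : i.1 ≤ S.L t := hL ▸ le_sup_left
  have hr : j.1 ≤ S.L t := hL ▸ le_sup_right
  rw [← e', crd_tr ht htW hl hφ, left_eq_add] at hi
  rw [← e', crd_tr ht htW hr hφ, left_eq_add] at hj
  have hv : ∀ {l : S.Six}, (φ (ga l), φ (S.ρ S.p (ga l))) = ((0, 0) : ZMod 2 × ZMod 2) →
      ∀ x ∈ l.1, φ x = 0 := by
    intro l h x hx
    obtain ⟨c, rfl⟩ := exists_el hx
    simp [el, hφ, (Prod.mk.inj h).1, (Prod.mk.inj h).2]
  have hZ := D_mem_Z_of_vanish (S := S) (t := t) hφ fun b hb => by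
    rw [hL] at hb
    obtain ⟨x, hx, y, hy, rfl⟩ := Submodule.mem_sup.1 hb
    rw [map_add, hv hi x hx, hv hj y hy, add_zero]
  rw [e] at hZ
  rcases S.mem_Z.1 hZ with e0 | e0
  · exact vadd_eq_zero.1 e0
  · exfalso
    refine not_both ht htW (zero_mem _) (by rwa [add_zero]) ?_
    rw [zero_add, ← e0, vadd_cancel]
    exact h'.1

theorem exists_dc {i j : S.Six} (hij : i ≠ j) (x y : ZMod 2 × ZMod 2) :
    ∃ t, S.InPair i j t ∧ crd i t = x ∧ crd j t = y := by
  classical
  obtain ⟨v, hv, hL⟩ := exists_pair_coset hij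
  have hmem : ∀ t, t ∈ S.T ∧ t + v ∈ S.W → S.InPair i j t := fun t ht =>
    ⟨ht.1, fun h => hv (by simpa [vadd_cancel] using add_mem h ht.2), (L_congr ht.2).trans hL⟩
  let F : {t // t ∈ S.T ∧ t + v ∈ S.W} → (ZMod 2 × ZMod 2) × (ZMod 2 × ZMod 2) :=
    fun t => (crd i t.1, crd j t.1)
  have hF : Function.Injective F := fun s t h =>
    Subtype.ext (crd_unique hij (hmem _ s.2) (hmem _ t.2) (Prod.mk.inj h).1 (Prod.mk.inj h).2)
  have hcard : Nat.card {t // t ∈ S.T ∧ t + v ∈ S.W} =
      Nat.card ((ZMod 2 × ZMod 2) × (ZMod 2 × ZMod 2)) := by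
    rw [show Nat.card {t // t ∈ S.T ∧ t + v ∈ S.W} = {t ∈ S.T | t + v ∈ S.W}.ncard from
      Nat.card_coe_set_eq _, ncard_coset hv]
    simp [Nat.card_eq_fintype_card]
  obtain ⟨⟨t, ht⟩, e⟩ := (hF.bijective_of_nat_card_le hcard.ge).2 (x, y)
  exact ⟨t, hmem t ht, (Prod.mk.inj e).1, (Prod.mk.inj e).2⟩

/-! ### Triangles -/

/-- A triangle: three members agreeing on the common subspaces. -/
structure Tri (i j l : S.Six) (t₁ t₂ t₃ : V) : Prop where
  h₁ : S.InPair i j t₁
  h₂ : S.InPair j l t₂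
  h₃ : S.InPair i l t₃
  ai : Agree i t₁ t₃
  aj : Agree j t₁ t₂
  al : Agree l t₂ t₃

theorem exists_functional_six {i j l : S.Six} (hij : i ≠ j) (hli : l ≠ i) (hlj : l ≠ j)
    (x y w : ZMod 2 × ZMod 2) :
    ∃ φ : Dual (ZMod 2) V, φ S.z = 0 ∧ (φ (ga i), φ (S.ρ S.p (ga i))) = x ∧
      (φ (ga j), φ (S.ρ S.p (ga j))) = y ∧ (φ (ga l), φ (S.ρ S.p (ga l))) = w := by
  let b : Fin 7 → V := ![S.z, ga i, S.ρ S.p (ga i), ga j, S.ρ S.p (ga j), ga l, S.ρ S.p (ga l)]
  let F : (Fin 7 → ZMod 2) →ₗ[ZMod 2] V := Fintype.linearCombination (ZMod 2) b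
  have hb : ∀ k, b k ∈ S.W := by
    intro k; fin_cases k <;>
      simp [b, S.z_mem, ga_W, six_le_W _ (gb_mem _)]
  have hrange : LinearMap.range F = S.W := by
    refine le_antisymm ?_ ?_
    · rw [show LinearMap.range F = _ from Fintype.range_linearCombination (ZMod 2) b, Submodule.span_le]
      rintro _ ⟨k, rfl⟩; exact hb k
    · rw [← sup_three_eq_W hij (not_collinear hij hli hlj)]
      have hone : ∀ k, b k ∈ LinearMap.range F := fun k => ⟨Pi.single k 1, by
        simp [F, Fintype.linearCombination_apply_single]⟩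
      have hs : ∀ m : S.Six, S.z ∈ LinearMap.range F → ga m ∈ LinearMap.range F →
          S.ρ S.p (ga m) ∈ LinearMap.range F → m.1 ≤ LinearMap.range F := by
        intro m h1 h2 h3 v hv
        obtain ⟨c, rfl⟩ := exists_el hv
        exact add_mem (add_mem (Submodule.smul_mem _ _ h1) (Submodule.smul_mem _ _ h2))
          (Submodule.smul_mem _ _ h3)
      exact sup_le (sup_le (hs i (hone 0) (hone 1) (hone 2)) (hs j (hone 0) (hone 3) (hone 4)))
        (hs l (hone 0) (hone 5) (hone 6))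
  have hinj : Function.Injective F := by
    have h : Function.Bijective F.rangeRestrict :=
      F.surjective_rangeRestrict.bijective_of_nat_card_le (by
        rw [hrange, S.card_W]; simp [Nat.card_eq_fintype_card])
    exact fun a c e => h.1 (Subtype.ext e)
  obtain ⟨G, hG⟩ := F.exists_leftInverse_of_injective (LinearMap.ker_eq_bot.2 hinj)
  let vals : Fin 7 → ZMod 2 := ![0, x.1, x.2, y.1, y.2, w.1, w.2]
  let ev : (Fin 7 → ZMod 2) →ₗ[ZMod 2] ZMod 2 := Fintype.linearCombination (ZMod 2) vals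
  refine ⟨ev.comp G, ?_⟩
  have hv : ∀ k, (ev.comp G) (b k) = vals k := fun k => by
    have e : b k = F (Pi.single k 1) := by simp [F, Fintype.linearCombination_apply_single]
    rw [LinearMap.comp_apply, e, ← LinearMap.comp_apply (f := G), hG, LinearMap.id_apply]
    simp [ev, Fintype.linearCombination_apply_single]
  exact ⟨hv 0, Prod.ext (hv 1) (hv 2), Prod.ext (hv 3) (hv 4), Prod.ext (hv 5) (hv 6)⟩

/-- All triangles have one sum, `0` or `z`. -/
theorem exists_eps : ∃ ε : ZMod 2, ∀ (i j l : S.Six), i ≠ j → l ≠ i → l ≠ j →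
    ∀ t₁ t₂ t₃, Tri i j l t₁ t₂ t₃ → t₁ + t₂ + t₃ = ε • S.z := by
  have hW : ∀ {i j l : S.Six}, i ≠ j → l ≠ i → l ≠ j → ∀ {t₁ t₂ t₃}, Tri i j l t₁ t₂ t₃ →
      t₁ + t₂ + t₃ ∈ S.W := by
    intro i j l hij hli hlj t₁ t₂ t₃ h
    obtain ⟨h12, hL⟩ := pair_add h.h₁.2.1 h.h₂.2.1 hij hlj.symm hli.symm h.h₁.2.2 h.h₂.2.2
    exact coset_eq_of_L h12 h.h₃.2.1 (hL.trans h.h₃.2.2.symm)
  -- one sum modulo `z` for each three
  have hmove : ∀ {i j l : S.Six}, i ≠ j → l ≠ i → l ≠ j → ∀ {t₁ t₂ t₃ s₁ s₂ s₃},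
      Tri i j l t₁ t₂ t₃ → Tri i j l s₁ s₂ s₃ →
      ∃ φ : Dual (ZMod 2) V, φ S.z = 0 ∧
        s₁ + s₂ + s₃ = t₁ + t₂ + t₃ + φ (t₁ + t₂ + t₃) • S.z := by
    intro i j l hij hli hlj t₁ t₂ t₃ s₁ s₂ s₃ h g
    obtain ⟨φ, hφ, ei, ej, el'⟩ := exists_functional_six hij hli hlj (crd i t₁ + crd i s₁)
      (crd j t₁ + crd j s₁) (crd l t₂ + crd l s₂)
    have key : ∀ {a c : S.Six} {t s : V}, a ≠ c → S.InPair a c t → S.InPair a c s →
        (φ (ga a), φ (S.ρ S.p (ga a))) = crd a t + crd a s →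
        (φ (ga c), φ (S.ρ S.p (ga c))) = crd c t + crd c s → S.tr φ t = s := by
      intro a c t s hac ht hs ea ec
      refine crd_unique hac (ht.tr hφ) hs ?_ ?_
      · rw [crd_tr ht.1 ht.2.1 ht.left hφ, ea, vadd_cancel]
      · rw [crd_tr ht.1 ht.2.1 ht.right hφ, ec, vadd_cancel]
    have cI : ∀ {t₁ t₃}, S.InPair i j t₁ → S.InPair i l t₃ → Agree i t₁ t₃ →
        crd i t₁ = crd i t₃ := fun a b c =>
      (agree_iff a.1 a.2.1 a.left b.1 b.2.1 b.left).1 c
    have cJ : ∀ {t₁ t₂}, S.InPair i j t₁ → S.InPair j l t₂ → Agree j t₁ t₂ →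
        crd j t₁ = crd j t₂ := fun a b c =>
      (agree_iff a.1 a.2.1 a.right b.1 b.2.1 b.left).1 c
    have cL : ∀ {t₂ t₃}, S.InPair j l t₂ → S.InPair i l t₃ → Agree l t₂ t₃ →
        crd l t₂ = crd l t₃ := fun a b c =>
      (agree_iff a.1 a.2.1 a.right b.1 b.2.1 b.right).1 c
    refine ⟨φ, hφ, ?_⟩
    rw [← key hij h.h₁ g.h₁ ei ej,
      ← key hlj.symm h.h₂ g.h₂ (by rw [ej, cJ h.h₁ h.h₂ h.aj, cJ g.h₁ g.h₂ g.aj]) el',
      ← key hli.symm h.h₃ g.h₃ (by rw [ei, cI h.h₁ h.h₃ h.ai, cI g.h₁ g.h₃ g.ai])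
        (by rw [el', cL h.h₂ h.h₃ h.al, cL g.h₂ g.h₃ g.al]),
      ← tr_map_add, ← tr_map_add, tr_W hφ (hW hij hli hlj h)]
  have hsumZ : ∀ {i j l : S.Six}, i ≠ j → l ≠ i → l ≠ j → ∀ {t₁ t₂ t₃}, Tri i j l t₁ t₂ t₃ →
      t₁ + t₂ + t₃ ∈ S.Z := by
    intro i j l hij hli hlj t₁ t₂ t₃ h
    have hfix : ∀ m : S.Six, act ⟨S.p, S.p_z⟩ m = m := by
      intro m
      obtain ⟨x, hx, hxZ⟩ := exists_mem_six m
      exact six_ext (mem_act ⟨S.p, S.p_z⟩ hx) ((pInv_six m).2 x hx)
        fun h => hxZ ((S.mem_Z_iff S.p_z).1 h)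
    have hpi : ∀ {a b : S.Six} {t : V}, S.InPair a b t → S.InPair a b (S.ρ S.p t) :=
      fun {a b t} h => by
        have := h.map ⟨S.p, S.p_z⟩
        rwa [hfix, hfix] at this
    have hag : ∀ {a : S.Six} {t t' : V}, Agree a t t' → Agree a (S.ρ S.p t) (S.ρ S.p t') :=
      fun {a t t'} h => by
        have := agree_map ⟨S.p, S.p_z⟩ h
        rwa [hfix] at this
    obtain ⟨φ, hφ, e⟩ := hmove hij hli hlj h
      (⟨hpi h.h₁, hpi h.h₂, hpi h.h₃, hag h.ai, hag h.aj, hag h.al⟩ :
        Tri i j l (S.ρ S.p t₁) (S.ρ S.p t₂) (S.ρ S.p t₃))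
    refine S.mem_Z.2 (S.p_fpf _ (hW hij hli hlj h) ?_)
    rw [map_add, map_add, e, add_comm (t₁ + t₂ + t₃), vadd_cancel']
    exact S.mem_Z.1 (S.Z.smul_mem _ S.z_mem_Z)
  have hconst : ∀ {i j l : S.Six}, i ≠ j → l ≠ i → l ≠ j → ∀ {t₁ t₂ t₃ s₁ s₂ s₃},
      Tri i j l t₁ t₂ t₃ → Tri i j l s₁ s₂ s₃ → s₁ + s₂ + s₃ = t₁ + t₂ + t₃ := by
    intro i j l hij hli hlj t₁ t₂ t₃ s₁ s₂ s₃ h g
    obtain ⟨φ, hφ, e⟩ := hmove hij hli hlj h g
    rw [e]
    rcases S.mem_Z.1 (hsumZ hij hli hlj h) with e0 | e0 <;> rw [e0]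
    · simp
    · rw [hφ, zero_smul, add_zero]
  have hne : Nontrivial S.Six := Finite.one_lt_card_iff_nontrivial.1 (by rw [card_six]; norm_num)
  obtain ⟨a, b, hab⟩ := exists_pair_ne S.Six
  obtain ⟨c, hc⟩ := exists_not_le (card_sup_six hab) ((six_Z_le a).trans le_sup_left)
  have hca : c ≠ a := fun e => hc (e ▸ le_sup_left)
  have hcb : c ≠ b := fun e => hc (e ▸ le_sup_right)
  obtain ⟨u₁, k₁, i₁, j₁⟩ := exists_dc hab 0 0
  obtain ⟨u₂, k₂, i₂, j₂⟩ := exists_dc hcb.symm 0 0
  obtain ⟨u₃, k₃, i₃, j₃⟩ := exists_dc hca.symm 0 0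
  have hu : Tri a b c u₁ u₂ u₃ := ⟨k₁, k₂, k₃,
    (agree_iff k₁.1 k₁.2.1 k₁.left k₃.1 k₃.2.1 k₃.left).2 (i₁.trans i₃.symm),
    (agree_iff k₁.1 k₁.2.1 k₁.right k₂.1 k₂.2.1 k₂.left).2 (j₁.trans i₂.symm),
    (agree_iff k₂.1 k₂.2.1 k₂.right k₃.1 k₃.2.1 k₃.right).2 (j₂.trans j₃.symm)⟩
  obtain ⟨ε, hε⟩ := Submodule.mem_span_singleton.1 (hsumZ hab hca hcb hu)
  refine ⟨ε, fun i j l hij hli hlj t₁ t₂ t₃ h => ?_⟩
  obtain ⟨g, ga', gb', gc'⟩ := three_trans hab hca.symm hcb.symm hij hli.symm hlj.symm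
  have hg : Tri i j l (S.ρ g.1 u₁) (S.ρ g.1 u₂) (S.ρ g.1 u₃) := by
    rw [← ga', ← gb', ← gc']
    exact ⟨hu.h₁.map g, hu.h₂.map g, hu.h₃.map g, agree_map g hu.ai, agree_map g hu.aj,
      agree_map g hu.al⟩
  rw [hconst hij hli hlj hg h, ← map_add, ← map_add, ← hε, map_smul, show S.ρ g.1 S.z = S.z from g.2]

/-! ### Degrees -/

/-- An involution exchanging two complementary subsets. -/
theorem two_mul_card_of_flip {s : Finset V} (P : V → Prop) [DecidablePred P] (f : V → V)
    (hf : Function.Injective f) (hmem : ∀ a ∈ s, f a ∈ s) (hflip : ∀ a ∈ s, P (f a) ↔ ¬ P a) :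
    2 * (s.filter P).card = s.card := by
  have h1 : (s.filter P).card ≤ (s.filter fun a => ¬ P a).card :=
    card_le_card_of_injOn f (fun a ha => by
      simp only [coe_filter, Set.mem_setOf_eq] at ha ⊢
      exact ⟨hmem a ha.1, fun h => (hflip a ha.1).1 h ha.2⟩) hf.injOn
  have h2 : (s.filter fun a => ¬ P a).card ≤ (s.filter P).card :=
    card_le_card_of_injOn f (fun a ha => by
      simp only [coe_filter, Set.mem_setOf_eq] at ha ⊢
      exact ⟨hmem a ha.1, (hflip a ha.1).2 ha.2⟩) hf.injOn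
  have h3 := card_filter_add_card_filter_not (s := s) (p := P)
  omega

section Degree

open scoped Classical

variable [Fintype V] [Fintype (V ⧸ S.W)] [Fintype S.Six]

variable (S) in
/-- The neighbours of `t` in `T`. -/
noncomputable def nb (t : V) : Finset V := univ.filter fun a => a ∈ S.T ∧ t + a ∈ S.T

variable (S) in
/-- The elements of `T` in a coset. -/
noncomputable def cosetT (c : V ⧸ S.W) : Finset V :=
  univ.filter fun a => a ∈ S.T ∧ Submodule.Quotient.mk a = c

theorem card_nb_map (g : N) (t : V) : (S.nb t).card ≤ (S.nb (S.ρ g t)).card :=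
  card_le_card_of_injOn (S.ρ g) (fun a ha => by
    simp only [nb, coe_filter, Set.mem_setOf_eq, mem_univ, true_and] at ha ⊢
    exact ⟨S.map_T g a ha.1, by rw [← map_add]; exact S.map_T g _ ha.2⟩) (S.rho_injective g).injOn

theorem nb_eq_sum (t : V) : (S.nb t).card =
    ∑ c : V ⧸ S.W, ((S.cosetT c).filter fun a => t + a ∈ S.T).card := by
  rw [nb, card_eq_sum_card_fiberwise (f := fun a => (Submodule.Quotient.mk a : V ⧸ S.W))
    (t := univ) (fun _ _ => mem_univ _)]
  refine sum_congr rfl fun c _ => congrArg Finset.card ?_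
  ext a
  simp only [cosetT, mem_filter, mem_univ, true_and]
  tauto

theorem card_cosetT {c : V ⧸ S.W} (hc : c ≠ 0) : (S.cosetT c).card = 16 := by
  induction c using Submodule.Quotient.induction_on with
  | H x =>
    rw [Ne, Submodule.Quotient.mk_eq_zero] at hc
    rw [← ncard_coset hc, ← Set.ncard_coe_finset]
    congr 1
    ext a
    simp only [cosetT, coe_filter, mem_univ, true_and, Set.mem_setOf_eq, Submodule.Quotient.eq]
    rw [show a - x = a + x by rw [sub_eq_add_neg, ← eq_neg_of_add_eq_zero_left (vadd_self x)]]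

theorem cosetT_facts {c : V ⧸ S.W} (hc : c ≠ 0) {a : V} (ha : a ∈ S.cosetT c) :
    a ∈ S.T ∧ a ∉ S.W ∧ S.L a = S.LQ c ∧ (Submodule.Quotient.mk a : V ⧸ S.W) = c := by
  simp only [cosetT, mem_filter, mem_univ, true_and] at ha
  exact ⟨ha.1, fun h => hc (ha.2 ▸ (Submodule.Quotient.mk_eq_zero _).2 h),
    ha.2 ▸ (LQ_mk a).symm, ha.2⟩

theorem card_nb_internal (i : S.Six) : (S.nb (ga i)).card = 44 := by
  set t := ga i with htdef
  have ht := ga_mem_T i
  have htW := ga_W i
  have hKt : S.K t = i.1 := K_ga i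
  rw [nb_eq_sum, ← add_sum_erase univ _ (mem_univ (0 : V ⧸ S.W))]
  -- inside `W`
  have h0 : ((S.cosetT 0).filter fun a => t + a ∈ S.T).card = 4 := by
    have e : ((S.cosetT 0).filter fun a => t + a ∈ S.T) =
        ({(0, 0, 1), (1, 0, 1), (0, 1, 1), (1, 1, 1)} : Finset (ZMod 2 × ZMod 2 × ZMod 2)).image
          (el i) := by
      have hte : t = el i (0, 1, 0) := by simp [el, htdef]
      ext a
      simp only [cosetT, mem_filter, mem_univ, true_and, Submodule.Quotient.mk_eq_zero, mem_image]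
      constructor
      · rintro ⟨⟨haT, haW⟩, hta⟩
        have hai : a ∈ i.1 := hKt ▸ neighbours_internal ht htW haT hta (fun h => absurd haW h)
        obtain ⟨c, rfl⟩ := exists_el hai
        refine ⟨c, ?_, rfl⟩
        have h1 := S.not_mem_Z_of_mem_T haT
        have h2 := S.not_mem_Z_of_mem_T hta
        rw [hte, ← el_add] at h2
        rw [el_mem_Z] at h1 h2
        have key : ∀ c : ZMod 2 × ZMod 2 × ZMod 2, ¬ (c.2.1 = 0 ∧ c.2.2 = 0) →
            ¬ (((0, 1, 0) + c).2.1 = 0 ∧ ((0, 1, 0) + c).2.2 = 0) →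
            c ∈ ({(0, 0, 1), (1, 0, 1), (0, 1, 1), (1, 1, 1)} :
              Finset (ZMod 2 × ZMod 2 × ZMod 2)) := by decide
        exact key c h1 h2
      · rintro ⟨c, hc, rfl⟩
        have hn : ∀ c ∈ ({(0, 0, 1), (1, 0, 1), (0, 1, 1), (1, 1, 1)} :
            Finset (ZMod 2 × ZMod 2 × ZMod 2)),
            ¬ (c.2.1 = 0 ∧ c.2.2 = 0) ∧
              ¬ (((0, 1, 0) + c).2.1 = 0 ∧ ((0, 1, 0) + c).2.2 = 0) := by decide
        refine ⟨⟨six_mem_T (el_mem i c) (fun h => (hn c hc).1 (el_mem_Z.1 h)),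
          six_le_W i (el_mem i c)⟩, ?_⟩
        rw [hte, ← el_add]
        exact six_mem_T (el_mem i _) fun h => (hn c hc).2 (el_mem_Z.1 h)
    rw [e, card_image_of_injective _ (el_injective i)]
    decide
  -- outside
  have hc : ∀ c ∈ (univ : Finset (V ⧸ S.W)).erase 0,
      ((S.cosetT c).filter fun a => t + a ∈ S.T).card = if i.1 ≤ S.LQ c then 8 else 0 := by
    intro c hc
    have hc0 := (mem_erase.1 hc).1
    split_ifs with hi
    · obtain ⟨φ, hφ, hφt⟩ : ∃ φ : Dual (ZMod 2) V, φ S.z = 0 ∧ φ t = 1 := by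
        obtain ⟨φ, h1, h2⟩ :=
          Submodule.exists_dual_map_eq_bot_of_notMem (ga_not_Z i) inferInstance
        refine ⟨φ, ?_, (zmod_two_cases _).resolve_left h1⟩
        have : φ S.z ∈ S.Z.map φ := Submodule.mem_map_of_mem S.z_mem_Z
        rwa [h2, Submodule.mem_bot] at this
      have h := two_mul_card_of_flip (s := S.cosetT c) (fun a => t + a ∈ S.T) (S.tr φ)
        (S.rho_injective _) (fun a ha => by
          obtain ⟨haT, -, -, e⟩ := cosetT_facts hc0 ha
          simp only [cosetT, mem_filter, mem_univ, true_and]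
          refine ⟨tr_mem_T.2 haT, ?_⟩
          rw [← e, Submodule.Quotient.eq, tr_eq, add_sub_cancel_left]
          exact D_mem hφ a)
        (fun a ha => by
          obtain ⟨haT, haW, eL, -⟩ := cosetT_facts hc0 ha
          have htL : t ∈ S.L a := eL ▸ hi (ga_mem i)
          rw [add_comm t (S.tr φ a), add_comm t a, ← chi_eq_zero, ← chi_eq_zero,
            chi_tr haT haW hφ htL, hφt]
          rcases zmod_two_cases (S.chi a t) with e | e <;> rw [e] <;> decide)
      rw [card_cosetT hc0] at h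
      omega
    · rw [card_eq_zero, filter_eq_empty_iff]
      intro a ha hta
      obtain ⟨haT, haW, eL, -⟩ := cosetT_facts hc0 ha
      exact hi (eL ▸ hKt ▸ K_le (pInv_L a) (Delta_sub_L haT haW htW (by rwa [add_comm])))
  rw [h0, sum_congr rfl hc, ← sum_filter, sum_const, smul_eq_mul]
  have h5 := (card_classes (S := S) i).1
  have e : ((univ : Finset (V ⧸ S.W)).erase 0).filter (fun c => i.1 ≤ S.LQ c) = S.classesOf i := by
    ext c
    simp only [classesOf, LQ]
    refine Finset.mem_filter.trans (Iff.trans ?_ Finset.mem_filter.symm)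
    simp
  rw [e, h5]

theorem card_nb {t : V} (ht : t ∈ S.T) : (S.nb t).card = 44 := by
  obtain ⟨i, -⟩ := (exists_six_le_L (S := S)).choose_spec.2
  obtain ⟨g, hg⟩ := S.trans_T _ (ga_mem_T i) t ht
  obtain ⟨g', hg'⟩ := S.trans_T t ht _ (ga_mem_T i)
  have h1 := card_nb_map (S := S) g (ga i)
  have h2 := card_nb_map (S := S) g' t
  rw [hg, card_nb_internal] at h1
  rw [hg', card_nb_internal] at h2
  omega

/-- At most six neighbours of an external element lie in `W`. -/
theorem card_nb_W {i j : S.Six} (hij : i ≠ j) {q : V} (hq : S.InPair i j q) :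
    ((S.cosetT 0).filter fun a => q + a ∈ S.T).card ≤ 6 := by
  set U : Finset V := univ.filter fun a => (a ∈ i.1 ∨ a ∈ j.1) ∧ a ∉ S.Z
  have hsub : ((S.cosetT 0).filter fun a => q + a ∈ S.T) ⊆ U.filter fun a => q + a ∈ S.T := by
    intro a ha
    simp only [cosetT, mem_filter, mem_univ, true_and, Submodule.Quotient.mk_eq_zero] at ha
    obtain ⟨⟨haT, haW⟩, hqa⟩ := ha
    have haL := Delta_sub_L hq.1 hq.2.1 haW hqa
    have hZ := S.not_mem_Z_of_mem_T haT
    let l : S.Six := ⟨S.K a, a, haT, haW, rfl⟩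
    simp only [U, mem_filter, mem_univ, true_and]
    refine ⟨⟨?_, hZ⟩, hqa⟩
    by_cases hli : l = i
    · exact Or.inl (hli ▸ mem_K_self a : a ∈ i.1)
    by_cases hlj : l = j
    · exact Or.inr (hlj ▸ mem_K_self a : a ∈ j.1)
    exact absurd (mem_inf_six hij hli hlj (mem_K_self a) (hq.2.2 ▸ haL)) hZ
  have hflip := two_mul_card_of_flip (s := U) (fun a => q + a ∈ S.T) (· + S.z)
    (add_left_injective _) (fun a ha => by
      simp only [U, mem_filter, mem_univ, true_and] at ha ⊢
      refine ⟨ha.1.imp (fun h => add_mem h (six_Z_le i S.z_mem_Z))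
        (fun h => add_mem h (six_Z_le j S.z_mem_Z)), fun h => ha.2 ?_⟩
      simpa [vadd_cancel'] using add_mem h S.z_mem_Z)
    (fun a ha => by
      simp only [U, mem_filter, mem_univ, true_and] at ha
      have haL : a ∈ S.L q := ha.1.elim (fun h => hq.left h) (fun h => hq.right h)
      rw [← chi_eq_zero, ← chi_eq_zero, chi_add_z hq.1 hq.2.1 haL]
      rcases zmod_two_cases (S.chi q a) with e | e <;> rw [e] <;> decide)
  have hU : U.card ≤ 12 := by
    have hs : U ⊆ (univ.filter fun a => a ∈ i.1 ∧ a ∉ S.Z) ∪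
        (univ.filter fun a => a ∈ j.1 ∧ a ∉ S.Z) := by
      intro a ha
      simp only [U, mem_filter, mem_univ, true_and, mem_union] at ha ⊢
      tauto
    have h6 : ∀ m : S.Six, (univ.filter fun a => a ∈ m.1 ∧ a ∉ S.Z).card = 6 := fun m => by
      rw [← ncard_T_six m, ← Set.ncard_coe_finset]; congr 1; ext; simp
    refine ((card_le_card hs).trans (card_union_le _ _)).trans ?_
    rw [h6, h6]
  have := card_le_card hsub
  omega

/-- Triangles are lines: the sum is zero. -/
theorem eps_eq_zero {ε : ZMod 2} (hε : ∀ (i j l : S.Six), i ≠ j → l ≠ i → l ≠ j →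
    ∀ t₁ t₂ t₃, Tri i j l t₁ t₂ t₃ → t₁ + t₂ + t₃ = ε • S.z) : ε = 0 := by
  refine (zmod_two_cases ε).resolve_right fun h1 => ?_
  subst h1
  obtain ⟨x, hx, -⟩ := exists_six_le_L (S := S)
  obtain ⟨i, j, hij, hL, -⟩ := exists_two hx
  obtain ⟨q, hqT, hqW, -, hLq⟩ := exists_T_coset hx
  have hq : S.InPair i j q := ⟨hqT, hqW, hLq.trans hL⟩
  have h44 := card_nb (S := S) hqT
  rw [nb_eq_sum, ← add_sum_erase univ _ (mem_univ (0 : V ⧸ S.W))] at h44
  set cq : V ⧸ S.W := Submodule.Quotient.mk q with hcq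
  have hcq0 : cq ∈ (univ : Finset (V ⧸ S.W)).erase 0 :=
    mem_erase.2 ⟨fun h => hqW ((Submodule.Quotient.mk_eq_zero _).1 h), mem_univ _⟩
  rw [← add_sum_erase _ _ hcq0] at h44
  -- the coset of `q`
  have hown : ((S.cosetT cq).filter fun a => q + a ∈ S.T).card ≤ 6 := by
    refine le_trans (card_le_card_of_injOn (q + ·) (fun a ha => ?_) (add_right_injective q).injOn)
      (card_nb_W hij hq)
    simp only [cosetT, coe_filter, Set.mem_setOf_eq, mem_filter, mem_univ, true_and,
      Submodule.Quotient.mk_eq_zero] at ha ⊢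
    obtain ⟨⟨haT, hac⟩, hqa⟩ := ha
    refine ⟨⟨hqa, ?_⟩, by rwa [vadd_cancel]⟩
    rw [hcq, Submodule.Quotient.eq] at hac
    have e : a - q = q + a := by
      rw [sub_eq_add_neg, ← eq_neg_of_add_eq_zero_left (vadd_self q), add_comm]
    rwa [e] at hac
  -- a coset of a pair meeting `{i, j}` in one
  have hshare : ∀ {i j : S.Six}, i ≠ j → S.InPair i j q → ∀ c : V ⧸ S.W, c ≠ 0 → c ≠ cq →
      j.1 ≤ S.LQ c → ((S.cosetT c).filter fun a => q + a ∈ S.T).card = 0 := by
    intro i j hij hq c hc hccq hj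
    rw [card_eq_zero, filter_eq_empty_iff]
    intro a ha hqa
    obtain ⟨haT, haW, eL, ec⟩ := cosetT_facts hc ha
    obtain ⟨m, n, hmn, eL', hu⟩ := exists_two haW
    obtain ⟨l, hlj, hla⟩ : ∃ l, l ≠ j ∧ S.L a = j.1 ⊔ l.1 := by
      rcases hu j (eL.symm ▸ hj) with rfl | rfl
      · exact ⟨n, hmn.symm, eL'⟩
      · exact ⟨m, hmn, eL'.trans (sup_comm _ _)⟩
    have hli : l ≠ i := fun e => hccq (by
      rw [← ec, hcq, Submodule.Quotient.eq]
      have := coset_eq_of_L haW hq.2.1 (by rw [hla, hq.2.2, e, sup_comm])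
      rwa [sub_eq_add_neg, ← eq_neg_of_add_eq_zero_left (vadd_self q)])
    have hA : S.InPair j l a := ⟨haT, haW, hla⟩
    obtain ⟨hqaW, hLqa⟩ := pair_add hq.2.1 haW hij hlj.symm hli.symm hq.2.2 hla
    obtain ⟨a', hA', ej, el'⟩ := exists_dc hlj.symm (crd j q) (crd l a)
    obtain ⟨d, hd, ei, ed⟩ := exists_dc hli.symm (crd i q) (crd l a)
    have htri : Tri i j l q a' d := ⟨hq, hA', hd,
      (agree_iff hq.1 hq.2.1 hq.left hd.1 hd.2.1 hd.left).2 ei.symm,
      (agree_iff hq.1 hq.2.1 hq.right hA'.1 hA'.2.1 hA'.left).2 ej.symm,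
      (agree_iff hA'.1 hA'.2.1 hA'.right hd.1 hd.2.1 hd.right).2 (el'.trans ed.symm)⟩
    have hsum := hε i j l hij hli hlj q a' d htri
    rw [one_smul] at hsum
    set w := a + a' with hwdef
    have hwW : w ∈ S.W := coset_eq_of_L haW hA'.2.1 (hla.trans hA'.2.2.symm)
    have ew : q + a = d + (w + S.z) := by
      rw [hwdef, ← hsum, show d + (a + a' + (q + a' + d)) = q + a + ((a' + a') + (d + d)) by abel,
        vadd_self, vadd_self, add_zero, add_zero]
    have hwzW := add_mem hwW S.z_mem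
    have hwd : w + S.z ∈ S.L d := Delta_sub_L hd.1 hd.2.1 hwzW (by rw [← ew]; exact hqa)
    have hwa : w ∈ S.L a := Delta_sub_L haT haW hwW (by rw [hwdef, vadd_cancel]; exact hA'.1)
    have hwd' : w ∈ S.L d := by
      have := add_mem hwd (Z_le_L d S.z_mem_Z)
      rwa [vadd_cancel'] at this
    have hwl : w ∈ l.1 := by
      rw [hla] at hwa
      obtain ⟨u, hu, v, hv, e⟩ := Submodule.mem_sup.1 hwa
      have huL : u ∈ i.1 ⊔ l.1 := by
        rw [← hd.2.2]
        have := add_mem hwd' (hd.right hv)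
        rwa [← e, vadd_cancel'] at this
      rw [← e]
      exact add_mem (six_Z_le l (mem_inf_six hli.symm hij.symm hlj.symm hu huL)) hv
    have hwZ : w ∈ S.Z := by
      by_contra hwZ
      have h1 := bet_p_eq_one haT haW hA.right (not_iso haT haW hA.right) hwl hwZ
      obtain ⟨φ, hφ, e⟩ := (coset_facts haT haW).1 w ⟨hwW, by rw [hwdef, vadd_cancel]; exact hA'.1⟩
      have e' : S.tr φ a = a' := by rw [tr_eq, e, hwdef, vadd_cancel]
      rw [bet_eq haT haW hφ (a := w) (by rw [e, vadd_self]; exact zero_mem _)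
        (hA.right ((pInv_six l).2 w hwl))] at h1
      obtain ⟨c, hc⟩ := exists_el ((pInv_six l).2 w hwl)
      have h0 : (φ (ga l), φ (S.ρ S.p (ga l))) = ((0, 0) : ZMod 2 × ZMod 2) := by
        rw [← e', crd_tr haT haW hA.right hφ] at el'
        exact add_eq_left.1 el'
      rw [hc] at h1
      simp [el, hφ, (Prod.mk.inj h0).1, (Prod.mk.inj h0).2] at h1
    rcases S.mem_Z.1 hwZ with e | e
    · rw [e, zero_add] at ew
      exact not_both hd.1 hd.2.1 (zero_mem _) (by rw [add_zero]; exact hd.1)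
        (by rw [zero_add, ← ew]; exact hqa)
    · exact not_both haT haW (zero_mem _) (by rw [add_zero]; exact haT)
        (by rw [zero_add, ← e, hwdef, vadd_cancel]; exact hA'.1)
  -- the other cosets
  have hfar : ∀ c : V ⧸ S.W, c ≠ 0 → c ≠ cq →
      ((S.cosetT c).filter fun a => q + a ∈ S.T).card ≤ 4 := by
    intro c hc hccq
    rcases ((S.cosetT c).filter fun a => q + a ∈ S.T).eq_empty_or_nonempty with h | ⟨a₀, ha₀⟩
    · rw [h]; simp
    rw [mem_filter] at ha₀
    obtain ⟨h0T, h0W, eL, ec⟩ := cosetT_facts hc ha₀.1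
    have hqa₀ : q + a₀ ∉ S.W := fun h => hccq (by
      rw [← ec, hcq, Submodule.Quotient.eq]
      rwa [sub_eq_add_neg, ← eq_neg_of_add_eq_zero_left (vadd_self q), add_comm])
    set A := S.L a₀
    set B := S.L (q + a₀)
    have hAB : A ≠ B := fun h => hqW (by
      have := coset_eq_of_L h0W hqa₀ h
      rwa [add_comm q a₀, vadd_cancel] at this)
    have hinf : Nat.card ↥(A ⊓ B) ≤ 8 := by
      obtain ⟨s, hs, hsA⟩ : ∃ s, s ∈ B ∧ s ∉ A := by
        by_contra hno
        push Not at hno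
        exact hAB (SetLike.coe_injective (Set.eq_of_subset_of_ncard_le hno (by
          rw [← Nat.card_coe_set_eq, ← Nat.card_coe_set_eq, SetLike.coe_sort_coe,
            SetLike.coe_sort_coe, card_L h0W, card_L hqa₀]) (Set.toFinite _))).symm
      have h128 : 128 ≤ Nat.card ↥(A ⊔ B) := by
        refine le_trans ?_ (Nat.card_le_card_of_injective
          (Submodule.inclusion (sup_le le_sup_left (show S.K s ≤ A ⊔ B from
            (K_le (pInv_L _) hs).trans le_sup_right))) (Submodule.inclusion_injective _))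
        rw [card_sup_K (pInv_L a₀) (L_le_W _ hs) hsA, card_L h0W]
      have hsum := Submodule.finrank_sup_add_finrank_inf_eq A B
      have hp : ∀ X : Submodule (ZMod 2) V, Nat.card X = 2 ^ finrank (ZMod 2) X := fun X => by
        rw [Module.natCard_eq_pow_finrank (K := ZMod 2), Nat.card_zmod]
      have e5 : ∀ X : Submodule (ZMod 2) V, Nat.card X = 32 → finrank (ZMod 2) X = 5 := fun X h =>
        Nat.pow_right_injective le_rfl (((hp X).symm.trans h).trans (by norm_num : (32 : ℕ) = 2 ^ 5))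
      rw [e5 A (card_L h0W), e5 B (card_L hqa₀)] at hsum
      rw [hp] at h128
      have : 7 ≤ finrank (ZMod 2) ↥(A ⊔ B) := by
        by_contra h
        have := Nat.pow_le_pow_right (show 1 ≤ 2 by norm_num) (show _ ≤ 6 by omega :
          finrank (ZMod 2) ↥(A ⊔ B) ≤ 6)
        omega
      rw [hp, show (8 : ℕ) = 2 ^ 3 by norm_num]
      exact Nat.pow_le_pow_right (by norm_num) (by omega)
    -- differences
    set M : Finset V := univ.filter fun w => w ∈ A ⊓ B
    have hM : M.card ≤ 8 := by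
      refine le_of_eq_of_le ?_ hinf
      rw [← SetLike.coe_sort_coe, Nat.card_coe_set_eq, ← Set.ncard_coe_finset]
      congr 1; ext; simp [M]
    have hflip := two_mul_card_of_flip (s := M) (fun w => a₀ + w ∈ S.T) (· + S.z)
      (add_left_injective _) (fun w hw => by
        simp only [M, mem_filter, mem_univ, true_and] at hw ⊢
        exact add_mem hw ⟨Z_le_L _ S.z_mem_Z, Z_le_L _ S.z_mem_Z⟩)
      (fun w hw => by
        simp only [M, mem_filter, mem_univ, true_and, Submodule.mem_inf] at hw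
        rw [← chi_eq_zero, ← chi_eq_zero, chi_add_z h0T h0W hw.1]
        rcases zmod_two_cases (S.chi a₀ w) with e | e <;> rw [e] <;> decide)
    refine le_trans (card_le_card_of_injOn (a₀ + ·) (t := M.filter fun w => a₀ + w ∈ S.T)
      (fun a ha => ?_) (add_right_injective a₀).injOn) (by omega)
    simp only [coe_filter, Set.mem_setOf_eq, M, mem_filter, mem_univ, true_and,
      Submodule.mem_inf] at ha ⊢
    obtain ⟨haT, haW, -, ec'⟩ := cosetT_facts hc ha.1
    have hd : a₀ + a ∈ S.W := by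
      have h := (Submodule.Quotient.eq S.W).1 (ec'.trans ec.symm)
      rwa [sub_eq_add_neg, ← eq_neg_of_add_eq_zero_left (vadd_self a₀), add_comm] at h
    refine ⟨⟨Delta_sub_L h0T h0W hd (by rwa [vadd_cancel]),
      Delta_sub_L ha₀.2 hqa₀ hd ?_⟩, by rwa [vadd_cancel]⟩
    rw [add_assoc, vadd_cancel]
    exact ha.2
  -- add up
  set R := ((univ : Finset (V ⧸ S.W)).erase 0).erase cq with hR
  have hle : ∀ c ∈ R, ((S.cosetT c).filter fun a => q + a ∈ S.T).card ≤
      if i.1 ≤ S.LQ c ∨ j.1 ≤ S.LQ c then 0 else 4 := by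
    intro c hc
    obtain ⟨hccq, hc'⟩ := mem_erase.1 hc
    have hc0 := (mem_erase.1 hc').1
    split_ifs with hm
    · rcases hm with hm | hm
      · exact (hshare hij.symm hq.symm c hc0 hccq hm).le
      · exact (hshare hij hq c hc0 hccq hm).le
    · exact hfar c hc0 hccq
  have hsum := sum_le_sum hle
  have h9 : 8 ≤ (R.filter fun c => i.1 ≤ S.LQ c ∨ j.1 ≤ S.LQ c).card := by
    have h5i := (card_classes (S := S) i).1
    have h5j := (card_classes (S := S) j).1
    have hs : (S.classesOf i ∪ S.classesOf j) ⊆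
        insert cq (R.filter fun c => i.1 ≤ S.LQ c ∨ j.1 ≤ S.LQ c) := by
      intro c hc
      simp only [mem_union, classesOf, mem_filter, mem_univ, true_and] at hc
      simp only [mem_insert, mem_filter, hR, mem_erase, mem_univ, and_true, LQ]
      by_cases h : c = cq
      · exact Or.inl h
      · exact Or.inr ⟨⟨h, hc.elim (·.1) (·.1)⟩, hc.imp (·.2) (·.2)⟩
    have hint : S.classesOf i ∩ S.classesOf j ⊆ {cq} := by
      intro c hc
      simp only [mem_inter, classesOf, mem_filter, mem_univ, true_and] at hc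
      rw [mem_singleton]
      have hcW : S.outQ c ∉ S.W := fun h => hc.1.1 (by
        rw [← mk_outQ c]; exact (Submodule.Quotient.mk_eq_zero _).2 h)
      have := coset_eq_of_L hcW hqW ((sup_eq_L hcW hij hc.1.2 hc.2.2).symm.trans hq.2.2.symm)
      rw [← mk_outQ c, hcq, Submodule.Quotient.eq]
      rwa [sub_eq_add_neg, ← eq_neg_of_add_eq_zero_left (vadd_self q)]
    have h1 := card_union_add_card_inter (S.classesOf i) (S.classesOf j)
    have h2 := card_le_card hint
    have h3 := (card_le_card hs).trans (card_insert_le _ _)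
    simp only [card_singleton] at h2
    omega
  have hR14 : R.card = 14 := by
    rw [hR, card_erase_of_mem hcq0, card_erase_of_mem (mem_univ _), card_univ,
      ← Nat.card_eq_fintype_card, card_quot]
  have hnot := card_filter_add_card_filter_not (s := R)
    (p := fun c => i.1 ≤ S.LQ c ∨ j.1 ≤ S.LQ c)
  rw [sum_ite, sum_const_zero, zero_add, sum_const, smul_eq_mul] at hsum
  have h0W := card_nb_W hij hq
  omega

end Degree

/-! ### The points -/

/-- The vector of a point inside one of the six. -/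
noncomputable def fi (i : S.Six) (x : ZMod 2 × ZMod 2) : V := el i (x.1 * x.2, x.2, x.1)

/-- The coordinates of the sum of two points of one of the six. -/
def dci (x y : ZMod 2 × ZMod 2) : ZMod 2 × ZMod 2 × ZMod 2 :=
  (x.1 * x.2 + y.1 * y.2, x.2 + y.2, x.1 + y.1)

theorem fi_add (i : S.Six) (x y : ZMod 2 × ZMod 2) : fi i x + fi i y = el i (dci x y) := by
  rw [fi, fi, ← el_add]; rfl

theorem dci_facts : ∀ x y : ZMod 2 × ZMod 2,
    pval x (dci x y) = 0 ∧ pval y (dci x y) = 0 ∧
      (x ≠ y → ¬ ((dci x y).2.1 = 0 ∧ (dci x y).2.2 = 0)) := by decide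

theorem dci_surjective : ∀ c : ZMod 2 × ZMod 2 × ZMod 2, ¬ (c.2.1 = 0 ∧ c.2.2 = 0) →
    ∃ x y, x ≠ y ∧ dci x y = c := by decide

set_option synthInstance.maxSize 1000 in
theorem dci_injective : ∀ x y x' y' : ZMod 2 × ZMod 2, x ≠ y → x' ≠ y' → dci x y = dci x' y' →
    (x = x' ∧ y = y') ∨ (x = y' ∧ y = x') := by decide

theorem pval_flip : ∀ (x y : ZMod 2 × ZMod 2) (c : ZMod 2 × ZMod 2 × ZMod 2),
    pval x (dci x y + c) = pval y c := by decide

/-- Moving the point on `i` along an edge of `i`. -/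
theorem edge_move {i j : S.Six} (hij : i ≠ j) {t : V} (h : S.InPair i j t)
    (y : ZMod 2 × ZMod 2) :
    S.InPair i j (t + (fi i (crd i t) + fi i y)) ∧
      crd i (t + (fi i (crd i t) + fi i y)) = y ∧
      crd j (t + (fi i (crd i t) + fi i y)) = crd j t := by
  obtain ⟨ht, htW, hL⟩ := h
  set x := crd i t with hx
  rw [fi_add]
  set w := el i (dci x y)
  have hi : i.1 ≤ S.L t := hL ▸ le_sup_left
  have hj : j.1 ≤ S.L t := hL ▸ le_sup_right
  have hw : w ∈ i.1 := el_mem _ _
  have hw0 : S.chi t w = 0 := by rw [chi_el ht htW hi, ← hx]; exact (dci_facts x y).1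
  have hwW := six_le_W i hw
  have hshift : ∀ c, S.chi (t + w) c = S.chi t (w + c) := fun c =>
    chi_congr (by rw [add_assoc])
  refine ⟨⟨chi_eq_zero.1 hw0, fun hh => htW (by simpa [vadd_cancel'] using add_mem hh hwW),
    (L_congr (by rwa [add_comm, vadd_cancel])).trans hL⟩, ?_, ?_⟩
  · have e : ∀ c, S.chi (t + w) (el i c) = pval y c := fun c => by
      rw [hshift, ← el_add, chi_el ht htW hi, ← hx, pval_flip]
    refine Prod.ext ?_ ?_
    · have := e (0, 1, 0)
      simpa [el, pval, crd] using this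
    · have := e (0, 0, 1)
      simpa [el, pval, crd] using this
  · have e : ∀ c ∈ j.1, S.chi (t + w) c = S.chi t c := fun c hc => by
      rw [hshift, chi_add, hw0, zero_add, orth ht htW hij hi hj w hw c hc, add_zero]
    exact Prod.ext (e _ (ga_mem j)) (e _ (gb_mem j))

/-- Twenty-four vectors with the duads equal to `T`, spanning and without short relations. -/
theorem exists_points : ∃ f : Fin 24 → V, AbstractGolay.NoShortRel f ∧
    Submodule.span (ZMod 2) {v : V | ∃ x y, v = f x + f y} = ⊤ ∧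
    (∀ x y, x ≠ y → f x + f y ∈ S.T) ∧ (∀ t ∈ S.T, ∃ x y, x ≠ y ∧ t = f x + f y) := by
  classical
  have : Fintype V := Fintype.ofFinite V
  have : Finite (V ⧸ S.W) := Quotient.finite _
  have : Fintype (V ⧸ S.W) := Fintype.ofFinite _
  have : Fintype S.Six := Fintype.ofFinite _
  obtain ⟨ε, hε⟩ := exists_eps (S := S)
  obtain rfl := eps_eq_zero hε
  have hne : Nontrivial S.Six := Finite.one_lt_card_iff_nontrivial.1 (by rw [card_six]; norm_num)
  obtain ⟨o, -⟩ := exists_pair_ne S.Six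
  choose d hd hdi hdj using fun (i j : S.Six) (h : i ≠ j) (x y : ZMod 2 × ZMod 2) =>
    exists_dc (S := S) h x y
  -- duads
  let P := S.Six × (ZMod 2 × ZMod 2)
  let dd : P → P → V := fun X Y =>
    if h : X.1 = Y.1 then fi X.1 X.2 + fi X.1 Y.2 else d X.1 Y.1 h X.2 Y.2
  have dd_cross : ∀ {i j : S.Six} (h : i ≠ j) x y t, S.InPair i j t → crd i t = x →
      crd j t = y → dd (i, x) (j, y) = t := fun {i j} h x y t ht e1 e2 => by
    simp only [dd, dif_neg h]
    exact crd_unique h (hd _ _ h x y) ht (by rw [hdi, e1]) (by rw [hdj, e2])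
  have dd_in : ∀ i x y, dd (i, x) (i, y) = fi i x + fi i y := fun i x y => dif_pos rfl
  have dd_self : ∀ X, dd X X = 0 := fun X => by simp only [dd, dif_pos]; exact vadd_self _
  have dd_symm : ∀ X Y, dd X Y = dd Y X := by
    rintro ⟨i, x⟩ ⟨j, y⟩
    by_cases h : i = j
    · subst h; rw [dd_in, dd_in, add_comm]
    · rw [dd_cross (Ne.symm h) y x _ (hd j i (Ne.symm h) y x) (hdi ..) (hdj ..)]
      exact dd_cross h x y _ (hd j i (Ne.symm h) y x).symm (hdj ..) (hdi ..)
  have two : ∀ {i j : S.Six}, i ≠ j → ∀ x x' y,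
      dd (i, x) (i, x') + dd (i, x') (j, y) = dd (i, x) (j, y) := by
    intro i j h x x' y
    have ht := hd i j h x' y
    obtain ⟨k1, k2, k3⟩ := edge_move h ht x
    rw [hdi i j h x' y] at k1 k2 k3
    rw [dd_in, dd_cross h x y _ k1 k2 (k3.trans (hdj ..))]
    simp only [dd, dif_neg h]
    rw [add_comm (fi i x) (fi i x'), add_comm _ (d i j h x' y)]
  have tri : ∀ X Y W : P, dd X Y + dd Y W = dd X W := by
    have hdist : ∀ {i j l : S.Six}, i ≠ j → l ≠ i → l ≠ j → ∀ x y w,
        dd (i, x) (j, y) + dd (j, y) (l, w) = dd (i, x) (l, w) := by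
      intro i j l hij hli hlj x y w
      simp only [dd, dif_neg hij, dif_neg hlj.symm, dif_neg hli.symm]
      have k1 := hd i j hij x y
      have k2 := hd j l hlj.symm y w
      have k3 := hd i l hli.symm x w
      have h := hε i j l hij hli hlj _ _ _ ⟨k1, k2, k3,
        (agree_iff k1.1 k1.2.1 k1.left k3.1 k3.2.1 k3.left).2 (by rw [hdi, hdi]),
        (agree_iff k1.1 k1.2.1 k1.right k2.1 k2.2.1 k2.left).2 (by rw [hdj, hdi]),
        (agree_iff k2.1 k2.2.1 k2.right k3.1 k3.2.1 k3.right).2 (by rw [hdj, hdj])⟩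
      rw [zero_smul] at h
      exact vadd_eq_zero.1 h
    rintro ⟨i, x⟩ ⟨j, y⟩ ⟨l, w⟩
    by_cases hij : i = j
    · subst hij
      by_cases hil : i = l
      · subst hil
        rw [dd_in, dd_in, dd_in, add_assoc, vadd_cancel]
      · exact two hil x y w
    · by_cases hjl : j = l
      · subst hjl
        rw [dd_symm (i, x), dd_symm (i, x) (j, w), dd_symm (j, y) (j, w), add_comm]
        exact two (Ne.symm hij) w y x
      · by_cases hil : i = l
        · subst hil
          have h := two hij x w y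
          rw [← h, dd_symm (j, y) (i, w), add_assoc, vadd_self, add_zero]
        · exact hdist hij (Ne.symm hil) (Ne.symm hjl) x y w
  -- properties
  have ddT : ∀ X Y, X ≠ Y → dd X Y ∈ S.T := by
    rintro ⟨i, x⟩ ⟨j, y⟩ hne
    by_cases h : i = j
    · subst h
      have hxy : x ≠ y := fun e => hne (by rw [e])
      rw [dd_in, fi_add]
      exact six_mem_T (el_mem _ _) fun hz => (dci_facts x y).2.2 hxy (el_mem_Z.1 hz)
    · simp only [dd, dif_neg h]; exact (hd i j h x y).1
  have ddW : ∀ i j x y, i ≠ j → dd (i, x) (j, y) ∉ S.W := fun i j x y h => by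
    simp only [dd, dif_neg h]; exact (hd i j h x y).2.1
  have ddW' : ∀ i x y, dd (i, x) (i, y) ∈ S.W := fun i x y => by
    rw [dd_in, fi_add]; exact six_le_W i (el_mem _ _)
  have dd_surj : ∀ t ∈ S.T, ∃ X Y, X ≠ Y ∧ t = dd X Y := by
    intro t ht
    by_cases htW : t ∈ S.W
    · let i : S.Six := ⟨S.K t, t, ht, htW, rfl⟩
      obtain ⟨c, hc⟩ := exists_el (i := i) (mem_K_self t)
      have hcZ := S.not_mem_Z_of_mem_T ht
      rw [hc, el_mem_Z] at hcZ
      obtain ⟨x, y, hxy, e⟩ := dci_surjective c hcZ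
      exact ⟨(i, x), (i, y), fun h => hxy (Prod.mk.inj h).2, by rw [dd_in, fi_add, e, hc]⟩
    · obtain ⟨i, j, hij, hL, -⟩ := exists_two htW
      exact ⟨(i, crd i t), (j, crd j t), fun h => hij (Prod.mk.inj h).1,
        (dd_cross hij _ _ t ⟨ht, htW, hL⟩ rfl rfl).symm⟩
  have dd_inj : ∀ X Y X' Y', X ≠ Y → X' ≠ Y' → dd X Y = dd X' Y' →
      (X = X' ∧ Y = Y') ∨ (X = Y' ∧ Y = X') := by
    rintro ⟨i, x⟩ ⟨j, y⟩ ⟨i', x'⟩ ⟨j', y'⟩ h h' e
    by_cases hij : i = j <;> by_cases hij' : i' = j'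
    · subst hij hij'
      have hxy : x ≠ y := fun e => h (by rw [e])
      have hxy' : x' ≠ y' := fun e => h' (by rw [e])
      rw [dd_in, dd_in, fi_add, fi_add] at e
      have hii : i = i' := six_ext (el_mem i (dci x y)) (e ▸ el_mem i' (dci x' y'))
        fun hz => (dci_facts x y).2.2 hxy (el_mem_Z.1 hz)
      subst hii
      rcases dci_injective x y x' y' hxy hxy' (el_injective i e) with ⟨e1, e2⟩ | ⟨e1, e2⟩
      · exact Or.inl ⟨by rw [e1], by rw [e2]⟩
      · exact Or.inr ⟨by rw [e1], by rw [e2]⟩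
    · subst hij; exact absurd (e ▸ ddW' i x y) (ddW i' j' x' y' hij')
    · subst hij'; exact absurd (e.symm ▸ ddW' i' x' y') (ddW i j x y hij)
    · have p := hd i j hij x y
      simp only [dd, dif_neg hij, dif_neg hij'] at e
      have p' := hd i' j' hij' x' y'
      have hi := (le_L_iff p'.2.1 hij' p'.2.2 i).1 (e ▸ p.left)
      have hj := (le_L_iff p'.2.1 hij' p'.2.2 j).1 (e ▸ p.right)
      rcases hi with rfl | rfl <;> rcases hj with rfl | rfl
      · exact absurd rfl hij
      · exact Or.inl ⟨by rw [show x = x' by rw [← hdi i j hij x y, e, hdi]],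
          by rw [show y = y' by rw [← hdj i j hij x y, e, hdj]]⟩
      · exact Or.inr ⟨by rw [show x = y' by rw [← hdi i j hij x y, e, hdj]],
          by rw [show y = x' by rw [← hdj i j hij x y, e, hdi]]⟩
      · exact absurd rfl hij
  -- the vectors
  have hP : Fintype.card P = 24 := by
    simp only [P, Fintype.card_prod, ZMod.card, ← Nat.card_eq_fintype_card (α := S.Six), card_six]
  let en : Fin 24 ≃ P := (Fintype.equivFinOfCardEq hP).symm
  let O : P := (o, (0, 0))
  let f : Fin 24 → V := fun k => dd O (en k)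
  have hf : ∀ x y, f x + f y = dd (en x) (en y) := fun x y => by
    show dd O (en x) + dd O (en y) = _
    rw [dd_symm O (en x)]; exact tri _ _ _
  refine ⟨f, ?_, ?_, fun x y h => hf x y ▸ ddT _ _ (en.injective.ne h), fun t ht => ?_⟩
  · intro s hs hzero
    rw [AbstractGolay.fsum] at hzero
    have pairs : ∀ {a b c e}, a ≠ b → c ≠ e → f a + f b = f c + f e → a = c ∨ a = e := by
      intro a b c e hab hce h
      rw [hf, hf] at h
      rcases dd_inj _ _ _ _ (en.injective.ne hab) (en.injective.ne hce) h with h | h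
      · exact Or.inl (en.injective h.1)
      · exact Or.inr (en.injective h.1)
    rcases hs with h2 | h4 | h6
    · obtain ⟨a, b, hab, rfl⟩ := card_eq_two.1 h2
      rw [sum_pair hab, hf] at hzero
      exact S.zero_nmem (hzero ▸ ddT _ _ (en.injective.ne hab))
    · obtain ⟨a, b, c, e, hab, hac, hae, hbc, hbe, hce, rfl⟩ := card_eq_four.1 h4
      rw [sum_insert (by simp [hab, hac, hae]), sum_insert (by simp [hbc, hbe]), sum_pair hce,
        ← add_assoc, vadd_eq_zero] at hzero
      rcases pairs hab hce hzero with h | h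
      · exact hac h
      · exact hae h
    · obtain ⟨r, hr, hr2⟩ := exists_subset_card_eq (s := s) (n := 2) (by omega)
      obtain ⟨a, b, hab, rfl⟩ := card_eq_two.1 hr2
      obtain ⟨c, e, g, k, hce, hcg, hck, heg, hek, hgk, hrest⟩ := card_eq_four.1
        (show (s \ {a, b}).card = 4 by rw [card_sdiff_of_subset hr, hr2, h6])
      rw [← sum_sdiff hr, hrest, sum_insert (by simp [hce, hcg, hck]),
        sum_insert (by simp [heg, hek]), sum_pair hgk, sum_pair hab] at hzero
      have hout : ∀ {m}, m ∈ s \ {a, b} → m ≠ a ∧ m ≠ b := fun h => by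
        simpa using (mem_sdiff.1 h).2
      obtain ⟨hca, hcb⟩ := hout (hrest ▸ mem_insert_self c _)
      obtain ⟨hea, heb⟩ := hout (hrest ▸ mem_insert_of_mem (mem_insert_self e _))
      -- the sum of two duads without common point is a duad: a 45th neighbour
      have h45 : f a + f b + (f c + f e) = f g + f k := by
        apply vadd_eq_zero.1
        rw [← hzero]; abel
      set t := dd (en a) (en b)
      have htT : t ∈ S.T := ddT _ _ (en.injective.ne hab)
      have hcard := card_nb (S := S) htT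
      set E : Finset (Fin 24) := univ \ {a, b} with hE
      set I1 := E.image fun m => f a + f m
      set I2 := E.image fun m => f b + f m
      have hEm : ∀ {m}, m ∈ E → m ≠ a ∧ m ≠ b := fun h => by simpa [hE] using h
      have hsub : insert (f c + f e) (I1 ∪ I2) ⊆ S.nb t := by
        intro v hv
        simp only [nb, mem_filter, mem_univ, true_and]
        simp only [mem_insert, mem_union, I1, I2, mem_image] at hv
        rw [show t = f a + f b from (hf a b).symm]
        rcases hv with rfl | ⟨m, hm, rfl⟩ | ⟨m, hm, rfl⟩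
        · exact ⟨hf c e ▸ ddT _ _ (en.injective.ne hce), h45 ▸ hf g k ▸
            ddT _ _ (en.injective.ne hgk)⟩
        · refine ⟨hf a m ▸ ddT _ _ (en.injective.ne (hEm hm).1.symm), ?_⟩
          rw [show f a + f b + (f a + f m) = f b + f m + (f a + f a) by abel, vadd_self, add_zero,
            hf]
          exact ddT _ _ (en.injective.ne (hEm hm).2.symm)
        · refine ⟨hf b m ▸ ddT _ _ (en.injective.ne (hEm hm).2.symm), ?_⟩
          rw [show f a + f b + (f b + f m) = f a + f m + (f b + f b) by abel, vadd_self, add_zero,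
            hf]
          exact ddT _ _ (en.injective.ne (hEm hm).1.symm)
      have hE22 : E.card = 22 := by
        rw [hE, card_sdiff_of_subset (subset_univ _), card_pair hab, card_univ, Fintype.card_fin]
      have hi1 : I1.card = 22 := by
        rw [card_image_of_injOn, hE22]
        intro m hm n hn h
        rcases pairs (hEm hm).1 (hEm hn).1 (by rw [add_comm (f m), add_comm (f n)]; exact h)
          with h | h
        · exact h
        · exact absurd h (hEm hm).1
      have hi2 : I2.card = 22 := by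
        rw [card_image_of_injOn, hE22]
        intro m hm n hn h
        rcases pairs (hEm hm).2 (hEm hn).2 (by rw [add_comm (f m), add_comm (f n)]; exact h)
          with h | h
        · exact h
        · exact absurd h (hEm hm).2
      have hdis : Disjoint I1 I2 := by
        rw [disjoint_left]
        simp only [I1, I2, mem_image]
        rintro v ⟨m, hm, rfl⟩ ⟨n, hn, h⟩
        rcases pairs (hEm hm).1.symm (hEm hn).2.symm h.symm with h | h
        · exact hab h
        · exact (hEm hn).1 h.symm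
      have hnew : f c + f e ∉ I1 ∪ I2 := by
        simp only [mem_union, I1, I2, mem_image]
        rintro (⟨m, hm, h⟩ | ⟨m, hm, h⟩)
        · rcases pairs (hEm hm).1.symm hce h with h | h
          exacts [hca h.symm, hea h.symm]
        · rcases pairs (hEm hm).2.symm hce h with h | h
          exacts [hcb h.symm, heb h.symm]
      have := card_le_card hsub
      rw [card_insert_of_notMem hnew, card_union_of_disjoint hdis, hi1, hi2, hcard] at this
      omega
  · rw [eq_top_iff]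
    have hT : ∀ t ∈ S.T, t ∈ Submodule.span (ZMod 2) {v : V | ∃ x y, v = f x + f y} := by
      intro t ht
      obtain ⟨X, Y, -, e⟩ := dd_surj t ht
      exact Submodule.subset_span ⟨en.symm X, en.symm Y, by simp [hf, e]⟩
    have hz : S.z ∈ Submodule.span (ZMod 2) {v : V | ∃ x y, v = f x + f y} := by
      have := add_mem (hT _ (ga_mem_T o)) (hT _ (S.add_z_mem _ (ga_mem_T o) (ga_W o)))
      rwa [vadd_cancel] at this
    have hW : S.W ≤ Submodule.span (ZMod 2) {v : V | ∃ x y, v = f x + f y} := by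
      obtain ⟨i, j, hij⟩ := exists_pair_ne S.Six
      obtain ⟨l, hl⟩ := exists_not_le (card_sup_six hij) ((six_Z_le i).trans le_sup_left)
      rw [← sup_three_eq_W hij hl]
      have hsix : ∀ m : S.Six, m.1 ≤ Submodule.span (ZMod 2) {v : V | ∃ x y, v = f x + f y} := by
        intro m v hv
        by_cases hvZ : v ∈ S.Z
        · exact (Submodule.span_singleton_le_iff_mem _ _).2 hz hvZ
        · exact hT v (six_mem_T hv hvZ)
      exact sup_le (sup_le (hsix i) (hsix j)) (hsix l)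
    intro v _
    by_cases hv : v ∈ S.W
    · exact hW hv
    · obtain ⟨t, ht, -, htv, -⟩ := exists_T_coset hv
      have := add_mem (hT t ht) (hW htv)
      rwa [vadd_cancel] at this
  · obtain ⟨X, Y, hXY, e⟩ := dd_surj t ht
    exact ⟨en.symm X, en.symm Y, en.symm.injective.ne hXY, by simp [hf, e]⟩

end Cfsg.Agent.JankoFour.DuadSpace
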