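import Cfsg.Agent.Lib.JankoFour.DuadCosets

/-!
# Janko-four type: six points of `W/⟨z⟩` in general position (S5567)

The 36 elements of `T ∩ W` lie in six subspaces of order 8 permuted by the stabiliser of `z` as
`A₆` or `S₆`: no three lie in one subspace of order 32.
-/

set_option autoImplicit false
set_option linter.unusedSectionVars false

namespace Cfsg.Agent.JankoFour.DuadSpace

open Finset Module

universe u v

variable {N : Type v} [Group N] {V : Type u} [AddCommGroup V] [Module (ZMod 2) V] [Finite V]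
variable (S : DuadSpace N V)

/-- The six subspaces through `T ∩ W`. -/
abbrev Six : Type u := {X : Submodule (ZMod 2) V // ∃ t ∈ S.T, t ∈ S.W ∧ S.K t = X}

/-- The stabiliser of `z`. -/
def stabZ : Subgroup N where
  carrier := {g | S.ρ g S.z = S.z}
  one_mem' := by simp
  mul_mem' {a b} ha hb := by
    show S.ρ (a * b) S.z = S.z
    rw [S.rho_mul, show S.ρ b S.z = S.z from hb, show S.ρ a S.z = S.z from ha]
  inv_mem' {a} ha := S.inv_z ha

variable {S}

theorem six_le_W (i : S.Six) : i.1 ≤ S.W := by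
  obtain ⟨t, ht, hW, e⟩ := i.2
  exact e ▸ K_le_W hW

theorem six_Z_le (i : S.Six) : S.Z ≤ i.1 := by
  obtain ⟨t, ht, hW, e⟩ := i.2
  exact e ▸ Z_le_K t

theorem pInv_six (i : S.Six) : S.PInv i.1 := by
  obtain ⟨t, ht, hW, e⟩ := i.2
  exact e ▸ pInv_K hW

theorem card_six_sub (i : S.Six) : Nat.card ↥i.1 = 8 := by
  obtain ⟨t, ht, hW, e⟩ := i.2
  exact e ▸ card_K hW (S.not_mem_Z_of_mem_T ht)

theorem six_mem_T {i : S.Six} {x : V} (hx : x ∈ i.1) (hxZ : x ∉ S.Z) : x ∈ S.T := by
  obtain ⟨t, ht, hW, e⟩ := i.2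
  exact K_mem_T ht hW (e ▸ hx) hxZ

theorem six_eq_K (i : S.Six) {x : V} (hx : x ∈ i.1) (hxZ : x ∉ S.Z) : i.1 = S.K x := by
  obtain ⟨t, ht, hW, e⟩ := i.2
  rw [← e] at hx ⊢
  exact (K_eq_of_mem hW hx hxZ).symm

theorem six_ext {i j : S.Six} {x : V} (hi : x ∈ i.1) (hj : x ∈ j.1) (hx : x ∉ S.Z) : i = j :=
  Subtype.ext ((six_eq_K i hi hx).trans (six_eq_K j hj hx).symm)

theorem exists_mem_six (i : S.Six) : ∃ x ∈ i.1, x ∉ S.Z := by
  obtain ⟨t, ht, hW, e⟩ := i.2
  exact ⟨t, e ▸ mem_K_self t, S.not_mem_Z_of_mem_T ht⟩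

theorem ncard_T_six (i : S.Six) : {x | x ∈ i.1 ∧ x ∉ S.Z}.ncard = 6 := by
  rw [show {x | x ∈ i.1 ∧ x ∉ S.Z} = (i.1 : Set V) \ (S.Z : Set V) from rfl,
    Set.ncard_sdiff (six_Z_le i) (Set.toFinite _), ← Nat.card_coe_set_eq, ← Nat.card_coe_set_eq,
    SetLike.coe_sort_coe, SetLike.coe_sort_coe, card_six_sub, card_Z]

theorem card_six : Nat.card S.Six = 6 := by
  classical
  have : Fintype V := Fintype.ofFinite V
  have : Fintype S.Six := Fintype.ofFinite _
  have h36 : ((univ : Finset V).filter fun x => x ∈ S.T ∧ x ∈ S.W).card = 36 := by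
    rw [← S.card_TW, ← Set.ncard_coe_finset]
    congr 1; ext x; simp
  have hfib : ∀ i : S.Six,
      ((univ : Finset V).filter fun x => x ∈ i.1 ∧ x ∉ S.Z).card = 6 := fun i => by
    rw [← ncard_T_six i, ← Set.ncard_coe_finset]
    congr 1; ext x; simp
  have hun : ((univ : Finset V).filter fun x => x ∈ S.T ∧ x ∈ S.W) =
      (univ : Finset S.Six).biUnion fun i => univ.filter fun x => x ∈ i.1 ∧ x ∉ S.Z := by
    ext x
    simp only [mem_filter, mem_univ, true_and, mem_biUnion]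
    exact ⟨fun h => ⟨⟨S.K x, x, h.1, h.2, rfl⟩, mem_K_self x, S.not_mem_Z_of_mem_T h.1⟩,
      fun ⟨i, hi, hxZ⟩ => ⟨six_mem_T hi hxZ, six_le_W i hi⟩⟩
  rw [hun, card_biUnion, sum_congr rfl (fun i _ => hfib i), sum_const, card_univ, smul_eq_mul] at h36
  · rw [Nat.card_eq_fintype_card]; omega
  · intro i _ j _ hij
    refine disjoint_left.2 fun x hx hx' => hij ?_
    simp only [mem_filter] at hx hx'
    exact six_ext hx.2.1 hx'.2.1 hx.2.2

/-! ### The action -/

theorem map_six_mem {g : N} (hg : g ∈ S.stabZ) (i : S.Six) :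
    ∃ t ∈ S.T, t ∈ S.W ∧ S.K t = i.1.map (S.ρ g) := by
  obtain ⟨t, ht, hW, e⟩ := i.2
  refine ⟨S.ρ g t, S.map_T g t ht, S.stab_W g hg t hW, ?_⟩
  symm
  have hgW := S.stab_W g hg t hW
  have hgZ : S.ρ g t ∉ S.Z := S.not_mem_Z_of_mem_T (S.map_T g t ht)
  refine SetLike.coe_injective (Set.eq_of_subset_of_ncard_le ?_ ?_ (Set.toFinite _))
  · rintro _ ⟨x, hx, rfl⟩
    rw [← e] at hx
    obtain ⟨c, a, b, rfl⟩ := mem_K.1 hx
    obtain ⟨k, hk⟩ := S.p_conj g hg t hW
    have hpk : ∀ k : ℕ, S.ρ (S.p ^ k) (S.ρ g t) ∈ S.K (S.ρ g t) := by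
      intro k
      induction k with
      | zero => simpa using mem_K_self (S.ρ g t)
      | succ k ih => rw [pow_succ', S.rho_mul]; exact (pInv_K hgW).2 _ ih
    have hp := add_mem (Z_le_K (S.ρ g t) (S.mem_Z.2 hk)) (hpk k)
    rw [vadd_cancel'] at hp
    simp only [map_add, map_smul, show S.ρ g S.z = S.z from hg, SetLike.mem_coe]
    exact add_mem (add_mem (Submodule.smul_mem _ _ (Z_le_K _ S.z_mem_Z))
      (Submodule.smul_mem _ _ (mem_K_self _))) (Submodule.smul_mem _ _ hp)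
  · rw [← Nat.card_coe_set_eq, SetLike.coe_sort_coe, card_K hgW hgZ, Submodule.map_coe,
      Set.ncard_image_of_injective _ (S.rho_injective g), ← Nat.card_coe_set_eq,
      SetLike.coe_sort_coe, card_six_sub]

/-- The action of the stabiliser of `z` on the six subspaces. -/
noncomputable def act : ↥S.stabZ →* Equiv.Perm S.Six where
  toFun g :=
    { toFun := fun i => ⟨i.1.map (S.ρ g.1), map_six_mem g.2 i⟩
      invFun := fun i => ⟨i.1.map (S.ρ g.1⁻¹), map_six_mem (inv_mem g.2) i⟩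
      left_inv := fun i => Subtype.ext (by
        ext x
        simp only [Submodule.mem_map, exists_exists_and_eq_and, S.rho_inv_apply, exists_eq_right])
      right_inv := fun i => Subtype.ext (by
        ext x
        simp only [Submodule.mem_map, exists_exists_and_eq_and, S.rho_apply_inv, exists_eq_right]) }
  map_one' := Equiv.ext fun i => Subtype.ext (by ext x; simp)
  map_mul' g h := Equiv.ext fun i => Subtype.ext (by
    ext x
    simp only [Equiv.Perm.mul_apply, Equiv.coe_fn_mk, Submodule.mem_map, exists_exists_and_eq_and,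
      Subgroup.coe_mul, S.rho_mul])

theorem act_apply (g : ↥S.stabZ) (i : S.Six) : (act g i).1 = i.1.map (S.ρ g.1) := rfl

theorem mem_act (g : ↥S.stabZ) {i : S.Six} {x : V} (hx : x ∈ i.1) : S.ρ g.1 x ∈ (act g i).1 :=
  ⟨x, hx, rfl⟩

theorem act_trans (i j : S.Six) : ∃ g : ↥S.stabZ, act g i = j := by
  obtain ⟨t, ht, hW, e⟩ := i.2
  obtain ⟨t', ht', hW', e'⟩ := j.2
  obtain ⟨g, hg, hgt⟩ := S.trans_TW t ht hW t' ht' hW'
  exact ⟨⟨g, hg⟩, six_ext (x := t') (hgt ▸ mem_act ⟨g, hg⟩ (e ▸ mem_K_self t))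
    (e' ▸ mem_K_self t') (S.not_mem_Z_of_mem_T ht')⟩

/-! ### Sums of the subspaces -/

theorem card_sup_six {i j : S.Six} (h : i ≠ j) : Nat.card ↥(i.1 ⊔ j.1) = 32 := by
  obtain ⟨x, hx, hxZ⟩ := exists_mem_six j
  rw [six_eq_K j hx hxZ, card_sup_K (pInv_six i) (six_le_W j hx) fun hi => h (six_ext hi hx hxZ),
    card_six_sub]

/-- A subspace of order 32 contains at most five of the six. -/
theorem exists_not_le {X : Submodule (ZMod 2) V} (hX : Nat.card X = 32) (hz : S.Z ≤ X) :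
    ∃ i : S.Six, ¬ i.1 ≤ X := by
  classical
  by_contra hall
  push Not at hall
  have h : S.T ∩ (S.W : Set V) ⊆ (X : Set V) \ (S.Z : Set V) := fun t ht =>
    ⟨hall ⟨S.K t, t, ht.1, ht.2, rfl⟩ (mem_K_self t), S.not_mem_Z_of_mem_T ht.1⟩
  have h2 := Set.ncard_le_ncard h (Set.toFinite _)
  rw [S.card_TW, Set.ncard_sdiff hz (Set.toFinite _), ← Nat.card_coe_set_eq, ← Nat.card_coe_set_eq,
    SetLike.coe_sort_coe, SetLike.coe_sort_coe, hX, card_Z] at h2
  omega

theorem sup_three_eq_W {i j l : S.Six} (hij : i ≠ j) (h : ¬ l.1 ≤ i.1 ⊔ j.1) :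
    i.1 ⊔ j.1 ⊔ l.1 = S.W := by
  obtain ⟨x, hx, hxZ⟩ := exists_mem_six l
  refine SetLike.coe_injective (Set.eq_of_subset_of_ncard_le
    (sup_le (sup_le (six_le_W i) (six_le_W j)) (six_le_W l)) ?_ (Set.toFinite _))
  have hP := pInv_sup (pInv_six i) (pInv_six j)
  rw [six_eq_K l hx hxZ] at h ⊢
  rw [← Nat.card_coe_set_eq, ← Nat.card_coe_set_eq, SetLike.coe_sort_coe, SetLike.coe_sort_coe,
    S.card_W, card_sup_K hP (six_le_W l hx) (fun hm => h (K_le hP hm)), card_sup_six hij]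
  norm_num

/-- If something fixes all six modulo `z` it fixes `W` modulo `z`. -/
theorem fix_W_of_six (f : V →ₗ[ZMod 2] V) (h : ∀ i : S.Six, ∀ x ∈ i.1, f x + x ∈ S.Z)
    {w : V} (hw : w ∈ S.W) : f w + w ∈ S.Z := by
  have hne : Nontrivial S.Six := Finite.one_lt_card_iff_nontrivial.1 (by rw [card_six]; norm_num)
  obtain ⟨i, j, hij⟩ := exists_pair_ne S.Six
  obtain ⟨l, hl⟩ := exists_not_le (card_sup_six hij) ((six_Z_le i).trans le_sup_left)
  rw [← sup_three_eq_W hij hl] at hw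
  have hle : i.1 ⊔ j.1 ⊔ l.1 ≤ S.Z.comap (f + LinearMap.id) :=
    sup_le (sup_le (h i) (h j)) (h l)
  exact hle hw

/-! ### The element of order 5 and two-transitivity -/

theorem five_moves : ∃ g : ↥S.stabZ, (∀ x, S.ρ (g.1 ^ 5) x = x) ∧ act g ≠ 1 := by
  obtain ⟨g, hg, h5, x, hx, hgx⟩ := S.five
  refine ⟨⟨g, hg⟩, h5, fun hfix => hgx ?_⟩
  have h5' : ∀ y, S.ρ g (S.ρ g (S.ρ g (S.ρ g (S.ρ g y)))) = y := fun y => by
    simpa [pow_succ, mul_assoc, S.rho_mul] using h5 y
  have hsix : ∀ i : S.Six, ∀ y ∈ i.1, S.ρ g y + y ∈ S.Z := by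
    intro i
    have hinv : ∀ y ∈ i.1, S.ρ g y ∈ i.1 := fun y hy => by
      have := mem_act ⟨g, hg⟩ hy
      rwa [hfix, Equiv.Perm.one_apply] at this
    obtain ⟨t, ht, hW, e⟩ := i.2
    rw [← e] at hinv ⊢
    -- coordinates modulo `z` of the images of `t` and `p t`
    obtain ⟨e1, a1, b1, h1⟩ := mem_K.1 (hinv t (mem_K_self t))
    obtain ⟨e2, a2, b2, h2⟩ := mem_K.1 (hinv _ (p_mem_K_self t))
    have hm : ∀ a1 b1 a2 b2 : ZMod 2,
        (let M : ZMod 2 × ZMod 2 → ZMod 2 × ZMod 2 := fun v =>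
          (v.1 * a1 + v.2 * a2, v.1 * b1 + v.2 * b2)
        ∀ v, M (M (M (M (M v)))) = v) → a1 = 1 ∧ b1 = 0 ∧ a2 = 0 ∧ b2 = 1 := by decide
    have hind : ∀ c a b : ZMod 2, c • S.z + a • t + b • S.ρ S.p t ∈ S.Z → a = 0 ∧ b = 0 := by
      intro c a b hmem
      have hmem' := add_mem hmem (S.Z.smul_mem c S.z_mem_Z)
      rw [show c • S.z + a • t + b • S.ρ S.p t + c • S.z = a • t + b • S.ρ S.p t +
        (c • S.z + c • S.z) by abel, vadd_self, add_zero] at hmem'
      have htZ := S.not_mem_Z_of_mem_T ht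
      have hpt : S.ρ S.p t ∉ S.Z := fun h => htZ ((S.mem_Z_iff S.p_z).1 h)
      rcases zmod_two_cases a with rfl | rfl <;> rcases zmod_two_cases b with rfl | rfl
      · exact ⟨rfl, rfl⟩
      · simp [hpt] at hmem'
      · simp [htZ] at hmem'
      · simp only [one_smul] at hmem'
        rw [add_comm, S.mem_Z] at hmem'
        rcases S.p_fpf t hW hmem' with h | h
        · exact absurd (S.mem_Z.2 (Or.inl h)) htZ
        · exact absurd (S.mem_Z.2 (Or.inr h)) htZ
    have hstep : ∀ c : ZMod 2 × ZMod 2 × ZMod 2, ∃ d : ZMod 2, S.ρ g (c.1 • S.z + c.2.1 • t + c.2.2 • S.ρ S.p t)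
        = d • S.z + (c.2.1 * a1 + c.2.2 * a2) • t + (c.2.1 * b1 + c.2.2 * b2) • S.ρ S.p t := by
      rintro ⟨c, a, b⟩
      refine ⟨c + a * e1 + b * e2, ?_⟩
      simp only [map_add, map_smul, hg, h1, h2, add_smul, mul_smul, smul_add]
      abel
    obtain ⟨ha1, hb1, ha2, hb2⟩ := hm a1 b1 a2 b2 (by
      intro M
      rintro ⟨a, b⟩
      obtain ⟨d1, k1⟩ := hstep (0, a, b)
      obtain ⟨d2, k2⟩ := hstep (d1, a * a1 + b * a2, a * b1 + b * b2)
      obtain ⟨d3, k3⟩ := hstep (d2, (a * a1 + b * a2) * a1 + (a * b1 + b * b2) * a2,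
        (a * a1 + b * a2) * b1 + (a * b1 + b * b2) * b2)
      simp only at k1 k2 k3
      obtain ⟨d4, k4⟩ := hstep (d3, _, _)
      obtain ⟨d5, k5⟩ := hstep (d4, _, _)
      have h := h5' ((0 : ZMod 2) • S.z + a • t + b • S.ρ S.p t)
      rw [k1, k2, k3, k4, k5] at h
      have h' := vadd_eq_zero.2 h
      rw [show ∀ (c c' : ZMod 2) (A B A' B' : V), c • S.z + A + B + (c' • S.z + A' + B') =
        (c + c') • S.z + (A + A') + (B + B') from fun c c' A B A' B' => by
          rw [add_smul]; abel, ← add_smul, ← add_smul] at h'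
      obtain ⟨x1, x2⟩ := hind _ _ _ (by rw [h']; exact zero_mem _)
      exact Prod.ext (CharTwo.add_eq_zero.1 x1) (CharTwo.add_eq_zero.1 x2))
    intro y hy
    obtain ⟨c, a, b, rfl⟩ := mem_K.1 hy
    obtain ⟨d, hd⟩ := hstep (c, a, b)
    simp only [ha1, hb1, ha2, hb2, mul_one, mul_zero, add_zero, zero_add] at hd
    rw [hd, show d • S.z + a • t + b • S.ρ S.p t + (c • S.z + a • t + b • S.ρ S.p t) =
      (d • S.z + c • S.z) + ((a • t + a • t) + (b • S.ρ S.p t + b • S.ρ S.p t)) by abel,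
      vadd_self, vadd_self, add_zero, add_zero]
    exact add_mem (S.Z.smul_mem _ S.z_mem_Z) (S.Z.smul_mem _ S.z_mem_Z)
  -- `g` fixes `W`
  have hWfix : ∀ w ∈ S.W, S.ρ g w = w := by
    intro w hw
    rcases S.mem_Z.1 (fix_W_of_six (S.ρ g) hsix hw) with e | e
    · exact vadd_eq_zero.1 e
    · have hw' : S.ρ g w = w + S.z := by rw [← e, add_comm (S.ρ g w), vadd_cancel]
      have h := h5' w
      have h2 : S.ρ g (S.ρ g w) = w := by rw [hw', map_add, hg, hw', vadd_cancel']
      rw [h2, h2, hw'] at h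
      exact absurd (left_eq_add.1 h.symm) S.z_ne
  -- so it commutes with the translations
  have hD : ∀ φ : Dual (ZMod 2) V, φ S.z = 0 → S.D φ (S.ρ g x + x) ∈ S.Z := by
    intro φ hφ
    have hcomm : S.ρ g (S.tr φ x) = S.tr φ (S.ρ g x) := by
      rw [← core_eq_tr hφ (S.core_conj g hg _ (trElt_mem hφ)) (fun w hw => ?_) (S.ρ g x),
        S.rho_mul, S.rho_mul, S.rho_inv_apply]
      · rfl
      · rw [S.rho_mul, S.rho_mul,
          show S.ρ g⁻¹ w = w by conv_lhs => rw [← hWfix w hw, S.rho_inv_apply]]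
        show S.ρ g (S.tr φ w) = _
        rw [tr_W hφ hw, map_add, map_smul, hWfix w hw, hg]
    have e : S.D φ (S.ρ g x + x) = S.ρ g (S.D φ x) + S.D φ x := by
      rw [D_map_add]; simp only [D, map_add, hcomm]
    rw [e, hWfix _ (D_mem hφ x), vadd_self]
    exact zero_mem _
  by_contra hne
  have := S.core_rank _ hne S.Z S.z_mem_Z fun e he => by
    obtain ⟨φ, hφ, hW⟩ := exists_functional he
    rw [core_eq_tr hφ he hW]
    exact hD φ hφ
  rw [card_Z] at this
  omega

theorem two_trans {i j i' j' : S.Six} (h : i ≠ j) (h' : i' ≠ j') :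
    ∃ g : ↥S.stabZ, act g i = i' ∧ act g j = j' := by
  classical
  obtain ⟨f, hf5, hf⟩ := five_moves (S := S)
  have : Fintype S.Six := Fintype.ofFinite _
  have h6 : Fintype.card S.Six = 6 := by rw [← Nat.card_eq_fintype_card, card_six]
  have hpow : act f ^ 5 = 1 := by
    rw [← map_pow]
    refine Equiv.ext fun i => Subtype.ext ?_
    ext x
    simp only [act_apply, SubgroupClass.coe_pow, Submodule.mem_map, hf5, exists_eq_right,
      Equiv.Perm.one_apply]
  have hord : orderOf (act f) = 5 :=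
    ((Nat.dvd_prime (by norm_num : Nat.Prime 5)).1 (orderOf_dvd_of_pow_eq_one hpow)).resolve_left
      fun h => hf (orderOf_eq_one_iff.1 h)
  obtain ⟨n, hn⟩ := Equiv.Perm.cycleType_prime_order (hord.symm ▸ (by norm_num : Nat.Prime 5))
  have hcyc : (act f).IsCycle := by
    refine Equiv.Perm.isCycle_of_prime_order (hord.symm ▸ by norm_num) ?_
    rw [hord]
    exact (Finset.card_le_univ _).trans_lt (by rw [h6]; norm_num)
  have hsupp : (act f).support.card = 5 := by rw [← hcyc.orderOf, hord]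
  obtain ⟨o, ho⟩ := card_eq_one.1 (by rw [card_compl, hsupp, h6] : (act f).supportᶜ.card = 1)
  have hmem : ∀ x, x ≠ o → act f x ≠ x := fun x hx hfx => hx (by
    have : x ∈ (act f).supportᶜ := by simpa using hfx
    rwa [ho, mem_singleton] at this)
  -- the stabiliser of `o` is transitive on the others
  have hstab : ∀ x y, x ≠ o → y ≠ o → ∃ g : ↥S.stabZ, act g o = o ∧ act g x = y := by
    intro x y hx hy
    obtain ⟨k, hk⟩ := hcyc.exists_pow_eq (hmem x hx) (hmem y hy)
    have hfo : act f o = o := by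
      by_contra hne
      have : o ∉ (act f).supportᶜ := by simpa using hne
      exact this (ho ▸ mem_singleton_self o)
    refine ⟨f ^ k, ?_, by rw [map_pow]; exact hk⟩
    rw [map_pow]
    exact Equiv.Perm.pow_apply_eq_self_of_apply_eq_self hfo k
  obtain ⟨g1, h1⟩ := act_trans i o
  obtain ⟨g2, h2⟩ := act_trans i' o
  have hne1 : act g1 j ≠ o := fun e => h ((act g1).injective (h1.trans e.symm))
  have hne2 : act g2 j' ≠ o := fun e => h' ((act g2).injective (h2.trans e.symm))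
  obtain ⟨g, hgo, hgx⟩ := hstab _ _ hne1 hne2
  refine ⟨g2⁻¹ * g * g1, ?_, ?_⟩ <;>
    simp only [map_mul, map_inv, Equiv.Perm.mul_apply, h1, hgo, hgx] <;>
    rw [Equiv.Perm.inv_eq_iff_eq]
  exact h2.symm

/-- No three of the six lie in a subspace of order 32. -/
theorem not_collinear {i j l : S.Six} (hij : i ≠ j) (hli : l ≠ i) (hlj : l ≠ j) :
    ¬ l.1 ≤ i.1 ⊔ j.1 := by
  classical
  intro hle
  have : Fintype S.Six := Fintype.ofFinite _
  have h6 : Fintype.card S.Six = 6 := by rw [← Nat.card_eq_fintype_card, card_six]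
  set C : S.Six → S.Six → Finset S.Six := fun a b => univ.filter fun c => c.1 ≤ a.1 ⊔ b.1
  have hconst : ∀ a b, a ≠ b → (C a b).card = (C i j).card := by
    have key : ∀ a b c d, a ≠ b → c ≠ d → (C a b).card ≤ (C c d).card := by
      intro a b c d hab hcd
      obtain ⟨g, hga, hgb⟩ := two_trans hab hcd
      refine card_le_card_of_injOn (act g) (fun x hx => ?_) (act g).injective.injOn
      simp only [C, coe_filter, Set.mem_setOf_eq, mem_univ, true_and] at hx ⊢
      rw [← hga, ← hgb, act_apply, act_apply, act_apply, ← Submodule.map_sup]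
      exact Submodule.map_mono hx
    exact fun a b h => le_antisymm (key _ _ _ _ h hij) (key _ _ _ _ hij h)
  have hline : ∀ {a b c : S.Six}, a ≠ b → c ≠ a → c.1 ≤ a.1 ⊔ b.1 → a.1 ⊔ c.1 = a.1 ⊔ b.1 :=
    fun {a b c} hab hca hc => SetLike.coe_injective (Set.eq_of_subset_of_ncard_le
      (sup_le le_sup_left hc) (by
        rw [← Nat.card_coe_set_eq, ← Nat.card_coe_set_eq, SetLike.coe_sort_coe,
          SetLike.coe_sort_coe, card_sup_six hab, card_sup_six hca.symm]) (Set.toFinite _))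
  have hfib : ∀ X ∈ (univ.erase i).image fun b => i.1 ⊔ b.1,
      ((univ.erase i).filter fun b => i.1 ⊔ b.1 = X).card = (C i j).card - 1 := by
    intro X hX
    obtain ⟨b, hb, rfl⟩ := mem_image.1 hX
    have hib : i ≠ b := (mem_erase.1 hb).1.symm
    rw [← hconst i b hib, ← card_erase_of_mem (show i ∈ C i b from
      mem_filter.2 ⟨mem_univ i, le_sup_left⟩)]
    congr 1
    ext c
    simp only [C, mem_filter, mem_erase, mem_univ, true_and, and_true]
    exact ⟨fun ⟨hc, e⟩ => ⟨hc, e ▸ le_sup_right⟩, fun ⟨hc, h⟩ => ⟨hc, hline hib hc h⟩⟩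
  have hsum := card_eq_sum_card_image (fun b => i.1 ⊔ b.1) (univ.erase i)
  rw [sum_congr rfl hfib, sum_const, smul_eq_mul, card_erase_of_mem (mem_univ i), card_univ,
    h6] at hsum
  have h3 : ({i, j, l} : Finset S.Six) ⊆ C i j := by
    intro c hc
    simp only [mem_insert, mem_singleton] at hc
    rcases hc with rfl | rfl | rfl <;> simp [C, hle]
  have h3' := card_le_card h3
  rw [card_eq_three.2 ⟨i, j, l, hij, hli.symm, hlj.symm, rfl⟩] at h3'
  obtain ⟨o, ho⟩ := exists_not_le (card_sup_six hij) ((six_Z_le i).trans le_sup_left)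
  have hlt : (C i j).card ≤ 5 := by
    have := card_le_card (show C i j ⊆ univ.erase o from fun c hc =>
      mem_erase.2 ⟨fun e => ho (e ▸ (mem_filter.1 hc).2), mem_univ _⟩)
    rwa [card_erase_of_mem (mem_univ o), card_univ, h6] at this
  have h5 : (C i j).card - 1 ∣ 5 := ⟨_, hsum.trans (mul_comm _ _)⟩
  rcases (Nat.dvd_prime (by norm_num : Nat.Prime 5)).1 h5 with e | e <;> omega

theorem mem_inf_six {i j l : S.Six} (hij : i ≠ j) (hli : l ≠ i) (hlj : l ≠ j) {x : V}
    (h1 : x ∈ l.1) (h2 : x ∈ i.1 ⊔ j.1) : x ∈ S.Z := by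
  by_contra hx
  exact not_collinear hij hli hlj
    (six_eq_K l h1 hx ▸ K_le (pInv_sup (pInv_six i) (pInv_six j)) h2)

/-! ### The alternating group -/

theorem nine_faithful : ∃ R : Subgroup (Equiv.Perm S.Six), Nat.card R = 9 ∧ R ≤ act.range := by
  classical
  obtain ⟨Sn, R', h27, hR', hS⟩ := S.nine
  have hle : Sn ≤ S.stabZ := fun s hs => (hS s hs).1
  set φ : ↥Sn →* Equiv.Perm S.Six := act.comp (Subgroup.inclusion hle) with hφ
  have hker' : ∀ s : ↥Sn, φ s = 1 → (s : N) ∈ R' := by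
    intro s hs
    obtain ⟨hsz, hcomm, hker⟩ := hS s.1 s.2
    have hinv : ∀ i : S.Six, ∀ x ∈ i.1, S.ρ s.1 x ∈ i.1 := fun i x hx => by
      have h := mem_act (Subgroup.inclusion hle s) hx
      rwa [show act (Subgroup.inclusion hle s) = 1 from hs, Equiv.Perm.one_apply] at h
    have hpk : ∀ i : S.Six, ∃ k : ℕ, k < 3 ∧ ∀ x ∈ i.1, S.ρ s.1 x + S.ρ (S.p ^ k) x ∈ S.Z := by
      intro i
      obtain ⟨t, ht, hW, e⟩ := i.2
      have htZ := S.not_mem_Z_of_mem_T ht
      have hst := hinv i t (e ▸ mem_K_self t)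
      rw [← e] at hst ⊢
      have hpt : S.ρ s.1 (S.ρ S.p t) + S.ρ S.p (S.ρ s.1 t) ∈ S.Z := S.mem_Z.2 (hcomm t hW)
      obtain ⟨k, hk, hkt⟩ : ∃ k, k < 3 ∧ S.ρ s.1 t + S.ρ (S.p ^ k) t ∈ S.Z := by
        obtain ⟨c, a, b, hc⟩ := mem_K.1 hst
        rcases zmod_two_cases a with rfl | rfl <;> rcases zmod_two_cases b with rfl | rfl <;>
          simp only [zero_smul, one_smul, add_zero] at hc
        · refine absurd ?_ htZ
          rw [← S.mem_Z_iff hsz, hc]
          exact S.Z.smul_mem _ S.z_mem_Z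
        · exact ⟨1, by norm_num, by rw [pow_one, hc, vadd_cancel']; exact S.Z.smul_mem _ S.z_mem_Z⟩
        · exact ⟨0, by norm_num, by
            rw [pow_zero, map_one, hc]; simpa [vadd_cancel'] using S.Z.smul_mem c S.z_mem_Z⟩
        · refine ⟨2, by norm_num, ?_⟩
          rw [pow_two, S.rho_mul, hc, add_assoc (c • S.z), add_assoc]
          exact add_mem (S.Z.smul_mem _ S.z_mem_Z) (by simpa [add_assoc] using p_sum hW)
      refine ⟨k, hk, fun x hx => ?_⟩
      obtain ⟨c, a, b, rfl⟩ := mem_K.1 hx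
      have h1 : S.ρ s.1 (S.ρ S.p t) + S.ρ (S.p ^ k) (S.ρ S.p t) ∈ S.Z := by
        have h2 := add_mem hpt ((S.mem_Z_iff S.p_z).2 hkt)
        rw [map_add, ← S.rho_mul S.p (S.p ^ k), ← (Commute.refl S.p).pow_left k |>.eq,
          S.rho_mul, ← add_assoc, vadd_cancel'] at h2
        exact h2
      rw [map_add, map_add, map_add, map_add, map_smul, map_smul, map_smul, map_smul, map_smul,
        map_smul, hsz, p_pow_z]
      rw [show c • S.z + a • S.ρ s.1 t + b • S.ρ s.1 (S.ρ S.p t) + (c • S.z + a • S.ρ (S.p ^ k) t +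
        b • S.ρ (S.p ^ k) (S.ρ S.p t)) = (c • S.z + c • S.z) + (a • (S.ρ s.1 t + S.ρ (S.p ^ k) t) +
        b • (S.ρ s.1 (S.ρ S.p t) + S.ρ (S.p ^ k) (S.ρ S.p t))) by rw [smul_add, smul_add]; abel]
      exact add_mem (by rw [vadd_self]; exact zero_mem _)
        (add_mem (S.Z.smul_mem _ hkt) (S.Z.smul_mem _ h1))
    choose k hk3 hk using hpk
    have hnt : Nontrivial S.Six := Finite.one_lt_card_iff_nontrivial.1 (by rw [card_six]; norm_num)
    -- the exponents agree
    have hkeq : ∀ i j : S.Six, i ≠ j → k i = k j := by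
      intro i j hij
      obtain ⟨l, hl⟩ := exists_not_le (card_sup_six hij) ((six_Z_le i).trans le_sup_left)
      have hli : l ≠ i := fun e => hl (e ▸ le_sup_left)
      have hlj : l ≠ j := fun e => hl (e ▸ le_sup_right)
      have : Fintype S.Six := Fintype.ofFinite _
      obtain ⟨m, hm⟩ : ∃ m : S.Six, m ∉ ({i, j, l} : Finset S.Six) := by
        by_contra hall
        push Not at hall
        have := card_le_card (show (univ : Finset S.Six) ⊆ {i, j, l} from fun x _ => hall x)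
        rw [card_univ, ← Nat.card_eq_fintype_card, card_six] at this
        exact absurd (this.trans card_le_three) (by norm_num)
      simp only [mem_insert, mem_singleton, not_or] at hm
      obtain ⟨hmi, hmj, hml⟩ := hm
      obtain ⟨x, hx, hxZ⟩ := exists_mem_six m
      have hxW := six_le_W m hx
      rw [← sup_three_eq_W hij hl] at hxW
      obtain ⟨y, hy, c, hc, rfl⟩ := Submodule.mem_sup.1 hxW
      obtain ⟨a, ha, b, hb, rfl⟩ := Submodule.mem_sup.1 hy
      have hp : ∀ (n : ℕ) {X : Submodule (ZMod 2) V}, S.PInv X → ∀ v ∈ X, S.ρ (S.p ^ n) v ∈ X := by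
        intro n X hX v hv
        induction n with
        | zero => simpa using hv
        | succ n ih => rw [pow_succ', S.rho_mul]; exact hX.2 _ ih
      have hZ' : ∀ {v}, v ∈ S.Z → ∀ q : S.Six, v ∈ q.1 := fun hv q => six_Z_le q hv
      -- the component in `i` is not in `z`
      have haZ : a ∉ S.Z := fun h => hxZ
        (mem_inf_six (Ne.symm hlj) hmj hml hx (Submodule.mem_sup.2
          ⟨a + b, add_mem (hZ' h j) hb, c, hc, rfl⟩))
      have hbZ : b ∉ S.Z := fun h => hxZ
        (mem_inf_six (Ne.symm hli) hmi hml hx (Submodule.mem_sup.2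
          ⟨a + b, add_mem ha (hZ' h i), c, hc, rfl⟩))
      have main : ∀ {q : S.Six} {v : V}, v ∈ q.1 → v ∉ S.Z → ∀ r : ℕ, r < 3 →
          S.ρ (S.p ^ k q) v + S.ρ (S.p ^ r) v ∈ S.Z → k q = r := by
        intro q v hv hvZ r hr h
        have hvW := six_le_W q hv
        have hZp := fun {u : V} (hu : u ∈ S.W) (h : S.ρ S.p u + u ∈ S.Z) =>
          S.mem_Z.2 (S.p_fpf u hu (S.mem_Z.1 h))
        have h01 : ∀ u ∈ S.W, u ∉ S.Z → u + S.ρ S.p u ∉ S.Z ∧ u + S.ρ S.p (S.ρ S.p u) ∉ S.Z := by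
          intro u hu hn
          refine ⟨fun h => hn (hZp hu (by rwa [add_comm])), fun h => hn (hZp hu ?_)⟩
          have h2 := (S.mem_Z_iff S.p_z).2 h
          rwa [map_add, p_three] at h2
        have hv1 := h01 v hvW hvZ
        have hv2 := (h01 _ (p_mem hvW) (fun h => hvZ ((S.mem_Z_iff S.p_z).1 h))).1
        have hq := hk3 q
        interval_cases hkq : k q <;> interval_cases r <;>
          first
          | rfl
          | (simp only [pow_zero, pow_one, pow_two, map_one, S.rho_mul,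
              Module.End.one_apply] at h
             first
             | exact absurd h hv1.1
             | exact absurd h hv1.2
             | exact absurd h hv2
             | exact absurd (by rwa [add_comm]) hv1.1
             | exact absurd (by rwa [add_comm]) hv1.2
             | exact absurd (by rwa [add_comm]) hv2)
      have hsx : S.ρ (S.p ^ k i) a + S.ρ (S.p ^ k m) a + (S.ρ (S.p ^ k j) b + S.ρ (S.p ^ k m) b) +
          (S.ρ (S.p ^ k l) c + S.ρ (S.p ^ k m) c) ∈ S.Z := by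
        have h1 := add_mem (add_mem (add_mem (hk i a ha) (hk j b hb)) (hk l c hc)) (hk m _ hx)
        simp only [map_add] at h1
        convert h1 using 1
        rw [show S.ρ s.1 a + S.ρ (S.p ^ k i) a + (S.ρ s.1 b + S.ρ (S.p ^ k j) b) +
          (S.ρ s.1 c + S.ρ (S.p ^ k l) c) + (S.ρ s.1 a + S.ρ s.1 b + S.ρ s.1 c +
          (S.ρ (S.p ^ k m) a + S.ρ (S.p ^ k m) b + S.ρ (S.p ^ k m) c)) =
          S.ρ (S.p ^ k i) a + S.ρ (S.p ^ k m) a + (S.ρ (S.p ^ k j) b + S.ρ (S.p ^ k m) b) +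
          (S.ρ (S.p ^ k l) c + S.ρ (S.p ^ k m) c) +
          ((S.ρ s.1 a + S.ρ s.1 a) + (S.ρ s.1 b + S.ρ s.1 b) + (S.ρ s.1 c + S.ρ s.1 c)) by abel]
        simp [vadd_self]
      set A := S.ρ (S.p ^ k i) a + S.ρ (S.p ^ k m) a
      set B := S.ρ (S.p ^ k j) b + S.ρ (S.p ^ k m) b
      set C := S.ρ (S.p ^ k l) c + S.ρ (S.p ^ k m) c
      have hA : A ∈ i.1 := add_mem (hp _ (pInv_six i) a ha) (hp _ (pInv_six i) a ha)
      have hB : B ∈ j.1 := add_mem (hp _ (pInv_six j) b hb) (hp _ (pInv_six j) b hb)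
      have hC : C ∈ l.1 := add_mem (hp _ (pInv_six l) c hc) (hp _ (pInv_six l) c hc)
      have hA' : A ∈ S.Z := mem_inf_six (Ne.symm hlj) hij (Ne.symm hli) hA
        (Submodule.mem_sup.2 ⟨B + (A + B + C), add_mem hB (hZ' hsx j), C, hC, by
          rw [show B + (A + B + C) + C = A + ((B + B) + (C + C)) by abel, vadd_self, vadd_self,
            add_zero, add_zero]⟩)
      have hB' : B ∈ S.Z := mem_inf_six (Ne.symm hli) (Ne.symm hij) (Ne.symm hlj) hB
        (Submodule.mem_sup.2 ⟨A + (A + B + C), add_mem hA (hZ' hsx i), C, hC, by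
          rw [show A + (A + B + C) + C = B + ((A + A) + (C + C)) by abel, vadd_self, vadd_self,
            add_zero, add_zero]⟩)
      exact (main ha haZ _ (hk3 m) hA').trans (main hb hbZ _ (hk3 m) hB').symm
    obtain ⟨i₀, -⟩ := exists_pair_ne S.Six
    refine hker (k i₀) fun w hw => S.mem_Z.1 ?_
    have hall : ∀ i : S.Six, ∀ x ∈ i.1,
        (S.ρ s.1 + S.ρ (S.p ^ k i₀) + LinearMap.id : V →ₗ[ZMod 2] V) x + x ∈ S.Z := by
      intro i x hx
      have e : k i₀ = k i := by
        by_cases he : i₀ = i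
        · rw [he]
        · exact hkeq _ _ he
      simpa [vadd_cancel', e] using hk i x hx
    simpa [vadd_cancel'] using fix_W_of_six _ hall hw
  refine ⟨φ.range, ?_, by rintro _ ⟨x, rfl⟩; exact ⟨_, rfl⟩⟩
  have hR'fin : Finite ↥φ.ker := by
    have : Finite ↥Sn := Nat.finite_of_card_ne_zero (by rw [h27]; norm_num)
    infer_instance
  have hk3 : Nat.card ↥φ.ker ≤ 3 := by
    refine (Nat.card_le_card_of_injective (fun s : ↥φ.ker => (⟨_, hker' s.1 s.2⟩ : ↥R'))
      (fun a b h => Subtype.ext (Subtype.ext (congrArg Subtype.val h :)))).trans ?_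
    rw [Nat.card_eq_fintype_card, Fintype.card_coe]; exact hR'
  have hmul := φ.ker.index_mul_card
  rw [Subgroup.index_ker, h27] at hmul
  have h720 : Nat.card ↥φ.range ∣ 720 := by
    have : Fintype S.Six := Fintype.ofFinite _
    have := Subgroup.card_subgroup_dvd_card φ.range
    rwa [Nat.card_eq_fintype_card (α := Equiv.Perm S.Six), Fintype.card_perm,
      ← Nat.card_eq_fintype_card, card_six, show Nat.factorial 6 = 720 from rfl] at this
  interval_cases hk : Nat.card ↥φ.ker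
  · omega
  · rw [mul_one] at hmul
    rw [hmul] at h720
    norm_num at h720
  · omega
  · omega

theorem alternating_le [Fintype S.Six] [DecidableEq S.Six] :
    alternatingGroup S.Six ≤ act.range := by
  obtain ⟨R, hR, hRle⟩ := nine_faithful (S := S)
  have h6 : Fintype.card S.Six = 6 := by rw [← Nat.card_eq_fintype_card, card_six]
  have : Fact (Nat.Prime 3) := ⟨by norm_num⟩
  have hfac : Nat.card (Equiv.Perm S.Six) = 720 := by
    rw [Nat.card_eq_fintype_card, Fintype.card_perm, h6]; rfl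
  have hsyl : Nat.card R = 3 ^ (Nat.card (Equiv.Perm S.Six)).factorization 3 := by
    rw [hR, hfac, show (720 : ℕ) = 3 ^ 2 * 80 by norm_num, Nat.factorization_mul (by norm_num)
      (by norm_num), Finsupp.add_apply, Nat.Prime.factorization_pow (by norm_num),
      Finsupp.single_eq_same, Nat.factorization_eq_zero_of_not_dvd (by norm_num)]
    norm_num
  set P : Sylow 3 (Equiv.Perm S.Six) := Sylow.ofCard R hsyl with hP
  -- a three-cycle in `R`
  obtain ⟨x, y, z, hxy, hxz, hyz⟩ := Fintype.two_lt_card_iff.1 (by omega : 2 < Fintype.card S.Six)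
  set c : Equiv.Perm S.Six := Equiv.swap x y * Equiv.swap x z with hcdef
  have hc : c.IsThreeCycle := Equiv.Perm.isThreeCycle_swap_mul_swap_same hxy hxz hyz
  have hpg : IsPGroup 3 ↥(Subgroup.zpowers c) :=
    IsPGroup.of_card (n := 1) (by rw [Nat.card_zpowers, hc.orderOf, pow_one])
  obtain ⟨Q, hQ⟩ := hpg.exists_le_sylow
  obtain ⟨g, hg⟩ := MulAction.exists_smul_eq (Equiv.Perm S.Six) Q P
  have hgc : (g * c * g⁻¹) ∈ R := by
    have h : g * c * g⁻¹ ∈ (P : Subgroup (Equiv.Perm S.Six)) := by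
      rw [← hg, Sylow.coe_subgroup_smul]
      exact ⟨c, hQ (Subgroup.mem_zpowers c), rfl⟩
    simpa [hP] using h
  have hc' : (g * c * g⁻¹).IsThreeCycle := by
    rw [Equiv.Perm.IsThreeCycle, Equiv.Perm.cycleType_conj]; exact hc
  have h2 : MulAction.IsMultiplyPretransitive ↥(act (S := S)).range S.Six 2 := by
    rw [MulAction.is_two_pretransitive_iff]
    intro a b c d hab hcd
    obtain ⟨g, hg1, hg2⟩ := two_trans hab hcd
    exact ⟨⟨act g, g, rfl⟩, hg1, hg2⟩
  have hprim : MulAction.IsPreprimitive ↥(act (S := S)).range S.Six :=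
    MulAction.isPreprimitive_of_is_two_pretransitive h2
  exact Equiv.Perm.alternatingGroup_le_of_isPreprimitive_of_isThreeCycle_mem hprim hc' (hRle hgc)

/-- The stabiliser of `z` is transitive on ordered triples. -/
theorem three_trans {i j l i' j' l' : S.Six} (h1 : i ≠ j) (h2 : i ≠ l) (h3 : j ≠ l)
    (h1' : i' ≠ j') (h2' : i' ≠ l') (h3' : j' ≠ l') :
    ∃ g : ↥S.stabZ, act g i = i' ∧ act g j = j' ∧ act g l = l' := by
  classical
  have : Fintype S.Six := Fintype.ofFinite _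
  have h6 : Nat.card S.Six = 6 := card_six
  have h3t : MulAction.IsMultiplyPretransitive ↥(alternatingGroup S.Six) S.Six 3 := by
    have := alternatingGroup.isMultiplyPretransitive S.Six
    exact MulAction.isMultiplyPretransitive_of_le (n := Nat.card S.Six - 2) (by omega)
      (by simp [ENat.card_eq_coe_natCard])
  have emb : ∀ {a b c : S.Six}, a ≠ b → a ≠ c → b ≠ c → Function.Injective ![a, b, c] := by
    intro a b c hab hac hbc x y h
    fin_cases x <;> fin_cases y <;> simp_all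
  obtain ⟨σ, hσ⟩ := h3t.exists_smul_eq ⟨![i, j, l], emb h1 h2 h3⟩ ⟨![i', j', l'], emb h1' h2' h3'⟩
  obtain ⟨g, hg⟩ := alternating_le (S := S) σ.2
  have e : ∀ k, σ.1 (![i, j, l] k) = ![i', j', l'] k := fun k => DFunLike.congr_fun hσ k
  exact ⟨g, by rw [hg]; exact e 0, by rw [hg]; exact e 1, by rw [hg]; exact e 2⟩

end Cfsg.Agent.JankoFour.DuadSpace
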