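import Mathlib

/-!
# Janko-four type: the space of dimension 11 with its orbit of length 276 (S5567)

`DuadSpace` is the linear data of an elementary abelian `V` of order `2^11`: the line `z`, the
hyper-pentad `W = E ∩ V` of order `2^7`, the orbit `T` of length 276, the group `core` induced by
`E` and the element `p` of order 3.  Here: the translations `tr φ` of `E`, the spaces `L v`, the
functions `chi v` and their bilinear defect `bet v`, and the six subspaces of `W` of order 8.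
-/

set_option autoImplicit false

namespace Cfsg.Agent.JankoFour

open Finset Module

universe u v

/-- Linear data of `V`, `W = E ∩ V`, `z`, the orbit of length 276 and the actions. -/
structure DuadSpace (N : Type v) [Group N] (V : Type u) [AddCommGroup V] [Module (ZMod 2) V]
    where
  ρ : Representation (ZMod 2) N V
  z : V
  W : Submodule (ZMod 2) V
  T : Set V
  core : Subgroup N
  p : N
  card_V : Nat.card V = 2 ^ 11
  card_W : Nat.card W = 2 ^ 7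
  z_mem : z ∈ W
  z_ne : z ≠ 0
  zero_nmem : (0 : V) ∉ T
  z_nmem : z ∉ T
  add_z_mem : ∀ t ∈ T, t ∈ W → t + z ∈ T
  card_T : T.ncard = 276
  card_TW : (T ∩ (W : Set V)).ncard = 36
  map_T : ∀ g, ∀ t ∈ T, ρ g t ∈ T
  trans_T : ∀ t ∈ T, ∀ t' ∈ T, ∃ g, ρ g t = t'
  orbit_z : 276 < (Set.range fun g => ρ g z).ncard
  stab_W : ∀ g, ρ g z = z → ∀ w ∈ W, ρ g w ∈ W
  trans_TW : ∀ t ∈ T, t ∈ W → ∀ t' ∈ T, t' ∈ W → ∃ g, ρ g z = z ∧ ρ g t = t'
  trans_U : ∀ v, v ∉ W → ∀ v', v' ∉ W → ∃ g, ρ g z = z ∧ ρ g v + v' ∈ W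
  core_z : ∀ e ∈ core, ρ e z = z
  core_sub : ∀ e ∈ core, ∀ x, ρ e x + x ∈ W
  core_W : ∀ e ∈ core, ∀ w ∈ W, ρ e w + w = 0 ∨ ρ e w + w = z
  core_conj : ∀ g, ρ g z = z → ∀ e ∈ core, g * e * g⁻¹ ∈ core
  core_rigid : ∀ e ∈ core, (∀ w ∈ W, ρ e w = w) → ∀ x, ρ e x = x
  core_dual : ∀ φ : Module.Dual (ZMod 2) V, φ z = 0 →
    ∃ e ∈ core, ∀ w ∈ W, ρ e w = w + φ w • z
  core_rank : ∀ x, x ∉ W → ∀ X : Submodule (ZMod 2) V, z ∈ X →
    (∀ e ∈ core, ρ e x + x ∈ X) → 32 ≤ Nat.card X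
  p_z : ρ p z = z
  p_cube : ∀ x, ρ (p ^ 3) x = x
  p_sub : ∀ x, ρ p x + x ∈ W
  p_fpf : ∀ w ∈ W, ρ p w + w = 0 ∨ ρ p w + w = z → w = 0 ∨ w = z
  p_conj : ∀ g, ρ g z = z → ∀ w ∈ W, ∃ k : ℕ,
    ρ g (ρ p w) + ρ (p ^ k) (ρ g w) = 0 ∨ ρ g (ρ p w) + ρ (p ^ k) (ρ g w) = z
  five : ∃ g, ρ g z = z ∧ (∀ x, ρ (g ^ 5) x = x) ∧ ∃ x, x ∉ W ∧ ρ g x + x ∉ W
  nine : ∃ (R : Subgroup N) (R' : Finset N), Nat.card R = 27 ∧ R'.card ≤ 3 ∧ ∀ s ∈ R, ρ s z = z ∧
    (∀ w ∈ W, ρ s (ρ p w) + ρ p (ρ s w) = 0 ∨ ρ s (ρ p w) + ρ p (ρ s w) = z) ∧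
    (∀ k : ℕ, (∀ w ∈ W, ρ s w + ρ (p ^ k) w = 0 ∨ ρ s w + ρ (p ^ k) w = z) → s ∈ R')

theorem zmod_two_cases : ∀ a : ZMod 2, a = 0 ∨ a = 1 := by decide

section Char
variable {V : Type u} [AddCommGroup V] [Module (ZMod 2) V]

theorem vadd_self (x : V) : x + x = 0 := by
  rw [← two_smul (ZMod 2) x, show (2 : ZMod 2) = 0 from rfl, zero_smul]

theorem vadd_eq_zero {a b : V} : a + b = 0 ↔ a = b := by
  refine ⟨fun h => ?_, fun h => by rw [h, vadd_self]⟩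
  rw [← add_zero a, ← vadd_self b, ← add_assoc, h, zero_add]

theorem vadd_cancel (a b : V) : a + (a + b) = b := by rw [← add_assoc, vadd_self, zero_add]

theorem vadd_cancel' (a b : V) : a + b + b = a := by rw [add_assoc, vadd_self, add_zero]

theorem mem_span_one {z x : V} : x ∈ Submodule.span (ZMod 2) {z} ↔ x = 0 ∨ x = z := by
  rw [Submodule.mem_span_singleton]
  constructor
  · rintro ⟨c, rfl⟩
    rcases zmod_two_cases c with rfl | rfl <;> simp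
  · rintro (rfl | rfl)
    · exact ⟨0, by simp⟩
    · exact ⟨1, by simp⟩

theorem card_sup_one [Finite V] {X : Submodule (ZMod 2) V} {x : V} (hx : x ∉ X) :
    Nat.card ↥(X ⊔ Submodule.span (ZMod 2) {x}) = 2 * Nat.card X := by
  have e : (↥(X ⊔ Submodule.span (ZMod 2) {x})) ≃ ↥X × ZMod 2 :=
    (Equiv.ofBijective (fun y : ↥X × ZMod 2 => (⟨y.1.1 + y.2 • x,
      Submodule.add_mem_sup y.1.2 (Submodule.smul_mem _ _ (Submodule.mem_span_singleton_self x))⟩ :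
        ↥(X ⊔ Submodule.span (ZMod 2) {x}))) ⟨by
      rintro ⟨a, c⟩ ⟨a', c'⟩ h
      have h' : (a : V) + c • x = a' + c' • x := congrArg Subtype.val h
      rcases zmod_two_cases c with rfl | rfl <;> rcases zmod_two_cases c' with rfl | rfl <;>
        simp at h'
      · rw [h']
      · exact absurd (show x ∈ X from by
          rw [show x = (a' : V) + a by rw [h', vadd_cancel]]; exact add_mem a'.2 a.2) hx
      · exact absurd (show x ∈ X from by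
          rw [show x = (a : V) + a' by rw [← h', vadd_cancel]]; exact add_mem a.2 a'.2) hx
      · rw [h'], fun y => by
      obtain ⟨a, ha, b, hb, hab⟩ := Submodule.mem_sup.1 y.2
      obtain ⟨c, rfl⟩ := Submodule.mem_span_singleton.1 hb
      exact ⟨(⟨a, ha⟩, c), Subtype.ext hab⟩⟩).symm
  rw [Nat.card_congr e, Nat.card_prod, Nat.card_zmod, mul_comm]

end Char

namespace DuadSpace

variable {N : Type v} [Group N] {V : Type u} [AddCommGroup V] [Module (ZMod 2) V]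
variable (S : DuadSpace N V)

/-- The line of `z`. -/
def Z : Submodule (ZMod 2) V := Submodule.span (ZMod 2) {S.z}

theorem mem_Z {x : V} : x ∈ S.Z ↔ x = 0 ∨ x = S.z := mem_span_one

theorem z_mem_Z : S.z ∈ S.Z := Submodule.mem_span_singleton_self _

theorem Z_le_W : S.Z ≤ S.W := (Submodule.span_singleton_le_iff_mem _ _).2 S.z_mem

theorem rho_mul (g h : N) (x : V) : S.ρ (g * h) x = S.ρ g (S.ρ h x) := by
  rw [map_mul]; rfl

theorem rho_inv_apply (g : N) (x : V) : S.ρ g⁻¹ (S.ρ g x) = x := by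
  rw [← S.rho_mul, inv_mul_cancel, map_one]; rfl

theorem rho_apply_inv (g : N) (x : V) : S.ρ g (S.ρ g⁻¹ x) = x := by
  rw [← S.rho_mul, mul_inv_cancel, map_one]; rfl

theorem rho_injective (g : N) : Function.Injective (S.ρ g) :=
  Function.LeftInverse.injective (S.rho_inv_apply g)

theorem inv_z {g : N} (h : S.ρ g S.z = S.z) : S.ρ g⁻¹ S.z = S.z := by
  conv_lhs => rw [← h]
  exact S.rho_inv_apply g _

theorem mem_W_iff {g : N} (h : S.ρ g S.z = S.z) {x : V} : S.ρ g x ∈ S.W ↔ x ∈ S.W :=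
  ⟨fun hx => by simpa [S.rho_inv_apply] using S.stab_W _ (S.inv_z h) _ hx, S.stab_W g h x⟩

theorem mem_T_iff (g : N) {x : V} : S.ρ g x ∈ S.T ↔ x ∈ S.T :=
  ⟨fun hx => by simpa [S.rho_inv_apply] using S.map_T g⁻¹ _ hx, S.map_T g x⟩

theorem map_Z {g : N} (h : S.ρ g S.z = S.z) {x : V} (hx : x ∈ S.Z) : S.ρ g x = x := by
  rcases S.mem_Z.1 hx with rfl | rfl
  · exact map_zero _
  · exact h

theorem mem_Z_iff {g : N} (h : S.ρ g S.z = S.z) {x : V} : S.ρ g x ∈ S.Z ↔ x ∈ S.Z := by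
  refine ⟨fun hx => ?_, fun hx => by rwa [S.map_Z h hx]⟩
  rw [← S.rho_inv_apply g x, S.map_Z (S.inv_z h) hx]
  exact hx

theorem not_mem_Z_of_mem_T {t : V} (ht : t ∈ S.T) : t ∉ S.Z := fun h => by
  rcases S.mem_Z.1 h with rfl | rfl
  · exact S.zero_nmem ht
  · exact S.z_nmem ht

/-! ### The translations -/

/-- An element of the core inducing the functional `φ`. -/
noncomputable def trElt (φ : Dual (ZMod 2) V) : N :=
  open scoped Classical in if h : φ S.z = 0 then (S.core_dual φ h).choose else 1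

/-- The translation of `φ`. -/
noncomputable def tr (φ : Dual (ZMod 2) V) (x : V) : V := S.ρ (S.trElt φ) x

/-- `[x, φ]`. -/
noncomputable def D (φ : Dual (ZMod 2) V) (x : V) : V := S.tr φ x + x

variable {S}

theorem trElt_mem {φ : Dual (ZMod 2) V} (h : φ S.z = 0) : S.trElt φ ∈ S.core := by
  rw [trElt, dif_pos h]; exact (S.core_dual φ h).choose_spec.1

theorem tr_W {φ : Dual (ZMod 2) V} (h : φ S.z = 0) {w : V} (hw : w ∈ S.W) :
    S.tr φ w = w + φ w • S.z := by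
  rw [tr, trElt, dif_pos h]; exact (S.core_dual φ h).choose_spec.2 w hw

theorem tr_z {φ : Dual (ZMod 2) V} (h : φ S.z = 0) : S.tr φ S.z = S.z := S.core_z _ (trElt_mem h)

theorem core_eq_tr {φ : Dual (ZMod 2) V} (h : φ S.z = 0) {e : N} (he : e ∈ S.core)
    (hw : ∀ w ∈ S.W, S.ρ e w = w + φ w • S.z) (x : V) : S.ρ e x = S.tr φ x := by
  have := S.core_rigid _ (mul_mem (inv_mem (trElt_mem h)) he) (fun w hw' => by
    rw [S.rho_mul, hw w hw', ← tr_W h hw', tr, S.rho_inv_apply]) x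
  rw [S.rho_mul] at this
  conv_rhs => rw [tr, ← this, S.rho_apply_inv]

theorem D_mem {φ : Dual (ZMod 2) V} (h : φ S.z = 0) (x : V) : S.D φ x ∈ S.W :=
  S.core_sub _ (trElt_mem h) x

theorem tr_add {φ ψ : Dual (ZMod 2) V} (hφ : φ S.z = 0) (hψ : ψ S.z = 0) (x : V) :
    S.tr (φ + ψ) x = S.tr φ (S.tr ψ x) := by
  have hs : (φ + ψ) S.z = 0 := by simp [hφ, hψ]
  rw [← core_eq_tr hs (mul_mem (trElt_mem hφ) (trElt_mem hψ)) (fun w hw => ?_) x, S.rho_mul]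
  · rfl
  · rw [S.rho_mul]
    show S.tr φ (S.tr ψ w) = _
    rw [tr_W hψ hw, tr, map_add, map_smul]
    show S.tr φ w + ψ w • S.tr φ S.z = _
    rw [tr_z hφ, tr_W hφ hw, LinearMap.add_apply, add_smul, add_assoc]

theorem tr_map_add (φ : Dual (ZMod 2) V) (x y : V) : S.tr φ (x + y) = S.tr φ x + S.tr φ y :=
  map_add _ _ _

theorem D_map_add (φ : Dual (ZMod 2) V) (x y : V) : S.D φ (x + y) = S.D φ x + S.D φ y := by
  rw [D, D, D, tr_map_add, add_add_add_comm]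

theorem D_W {φ : Dual (ZMod 2) V} (h : φ S.z = 0) {w : V} (hw : w ∈ S.W) :
    S.D φ w = φ w • S.z := by
  rw [D, tr_W h hw, add_comm w, vadd_cancel']

theorem tr_eq (φ : Dual (ZMod 2) V) (x : V) : S.tr φ x = x + S.D φ x := by
  rw [D, add_comm (S.tr φ x), vadd_cancel]

theorem D_add {φ ψ : Dual (ZMod 2) V} (hφ : φ S.z = 0) (hψ : ψ S.z = 0) (x : V) :
    S.D (φ + ψ) x = S.D φ x + S.D ψ x + φ (S.D ψ x) • S.z := by
  rw [D, tr_add hφ hψ, tr_eq ψ x, tr_map_add, tr_W hφ (D_mem hψ x)]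
  simp only [D]
  abel

theorem D_symm {φ ψ : Dual (ZMod 2) V} (hφ : φ S.z = 0) (hψ : ψ S.z = 0) (x : V) :
    φ (S.D ψ x) = ψ (S.D φ x) := by
  have h : S.D (φ + ψ) x = S.D (ψ + φ) x := by rw [add_comm φ ψ]
  rw [D_add hφ hψ, D_add hψ hφ, add_comm (S.D φ x)] at h
  have h' := add_left_cancel h
  rcases zmod_two_cases (φ (S.D ψ x)) with e | e <;>
    rcases zmod_two_cases (ψ (S.D φ x)) with e' | e' <;> rw [e, e'] at h' ⊢ <;> simp at h'
  · exact absurd h'.symm S.z_ne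
  · exact absurd h' S.z_ne

theorem exists_functional [Finite V] {e : N} (he : e ∈ S.core) :
    ∃ φ : Dual (ZMod 2) V, φ S.z = 0 ∧ ∀ w ∈ S.W, S.ρ e w = w + φ w • S.z := by
  obtain ⟨χ, hχ⟩ := Submodule.exists_dual_map_eq_bot_of_notMem
    (p := (⊥ : Submodule (ZMod 2) V)) (x := S.z) (by simpa using S.z_ne) inferInstance
  have h1 : χ S.z = 1 := (zmod_two_cases _).resolve_left hχ.1
  refine ⟨χ.comp (S.ρ e + LinearMap.id), by simp [S.core_z e he, vadd_self], fun w hw => ?_⟩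
  show S.ρ e w = w + χ (S.ρ e w + w) • S.z
  rcases S.core_W e he w hw with h | h
  · rw [h, map_zero, zero_smul, add_zero]; exact vadd_eq_zero.1 h
  · rw [h, h1, one_smul, ← h, add_comm (S.ρ e w), vadd_cancel]

theorem tr_mem_T {φ : Dual (ZMod 2) V} {x : V} : S.tr φ x ∈ S.T ↔ x ∈ S.T := S.mem_T_iff _

variable (S)

/-- `{w | w ≡ [x, φ]}`. -/
def L (x : V) : Submodule (ZMod 2) V where
  carrier := {w | ∃ φ : Dual (ZMod 2) V, φ S.z = 0 ∧ w + S.D φ x ∈ S.Z}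
  zero_mem' := ⟨0, rfl, by
    have h0 : ∀ y, S.tr 0 y = y := fun y => (core_eq_tr (φ := 0) rfl (one_mem _)
      (fun w _ => by simp) y).symm.trans (by simp)
    rw [D, h0, vadd_self, add_zero]; exact zero_mem _⟩
  add_mem' := by
    rintro a b ⟨φ, hφ, ha⟩ ⟨ψ, hψ, hb⟩
    refine ⟨φ + ψ, by simp [hφ, hψ], ?_⟩
    rw [D_add hφ hψ, show a + b + (S.D φ x + S.D ψ x + φ (S.D ψ x) • S.z) =
      (a + S.D φ x) + (b + S.D ψ x) + φ (S.D ψ x) • S.z by abel]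
    exact add_mem (add_mem ha hb) (Submodule.smul_mem _ _ S.z_mem_Z)
  smul_mem' := by
    intro c a ha
    rcases zmod_two_cases c with rfl | rfl
    · refine ⟨0, rfl, ?_⟩
      have h0 : ∀ y, S.tr 0 y = y := fun y => (core_eq_tr (φ := 0) rfl (one_mem _)
        (fun w _ => by simp) y).symm.trans (by simp)
      rw [D, h0, vadd_self, zero_smul, add_zero]; exact zero_mem _
    · rwa [one_smul]

variable {S}

theorem mem_L {x w : V} :
    w ∈ S.L x ↔ ∃ φ : Dual (ZMod 2) V, φ S.z = 0 ∧ w + S.D φ x ∈ S.Z := Iff.rfl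

theorem D_mem_L {φ : Dual (ZMod 2) V} (h : φ S.z = 0) (x : V) : S.D φ x ∈ S.L x :=
  ⟨φ, h, by rw [vadd_self]; exact zero_mem _⟩

theorem Z_le_L (x : V) : S.Z ≤ S.L x := fun w hw => by
  obtain ⟨φ, hφ, h⟩ := (S.L x).zero_mem
  exact ⟨φ, hφ, by rw [zero_add] at h; exact add_mem hw h⟩

theorem L_le_W (x : V) : S.L x ≤ S.W := fun w ⟨φ, hφ, hw⟩ => by
  have := add_mem (S.Z_le_W hw) (D_mem hφ x)
  rwa [vadd_cancel'] at this

theorem L_congr {x y : V} (h : x + y ∈ S.W) : S.L x = S.L y := by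
  have key : ∀ {x y : V}, x + y ∈ S.W → S.L x ≤ S.L y := by
    rintro x y h w ⟨φ, hφ, hw⟩
    refine ⟨φ, hφ, ?_⟩
    have e : S.D φ y = S.D φ x + S.D φ (x + y) := by rw [← D_map_add, vadd_cancel]
    rw [e, ← add_assoc, D_W hφ h]
    exact add_mem hw (Submodule.smul_mem _ _ S.z_mem_Z)
  exact le_antisymm (key h) (key (by rwa [add_comm]))

theorem L_map {g : N} (hg : S.ρ g S.z = S.z) {x w : V} (h : w ∈ S.L x) :
    S.ρ g w ∈ S.L (S.ρ g x) := by
  obtain ⟨φ, hφ, hw⟩ := h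
  set φ' : Dual (ZMod 2) V := φ.comp (S.ρ g⁻¹) with hdef
  have hz : φ' S.z = 0 := by simp [hdef, S.inv_z hg, hφ]
  refine ⟨φ', hz, ?_⟩
  have e : ∀ y, S.tr φ' y = S.ρ g (S.tr φ (S.ρ g⁻¹ y)) := fun y => by
    rw [← core_eq_tr hz (S.core_conj g hg _ (trElt_mem hφ)) (fun w hw => ?_) y, S.rho_mul,
      S.rho_mul]
    · rfl
    · rw [S.rho_mul, S.rho_mul]
      show S.ρ g (S.tr φ (S.ρ g⁻¹ w)) = _
      rw [tr_W hφ (S.stab_W _ (S.inv_z hg) _ hw), map_add, map_smul, S.rho_apply_inv, hg]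
      rfl
  have e2 : S.D φ' (S.ρ g x) = S.ρ g (S.D φ x) := by
    rw [D, D, e, S.rho_inv_apply, map_add]
  rw [e2, ← map_add]
  exact (S.mem_Z_iff hg).2 hw

theorem L_map_iff {g : N} (hg : S.ρ g S.z = S.z) {x w : V} :
    S.ρ g w ∈ S.L (S.ρ g x) ↔ w ∈ S.L x :=
  ⟨fun h => by simpa [S.rho_inv_apply] using L_map (S.inv_z hg) h, L_map hg⟩

/-! ### The element of order 3 -/

theorem p_pow_z (k : ℕ) : S.ρ (S.p ^ k) S.z = S.z := by
  induction k with
  | zero => simp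
  | succ k ih => rw [pow_succ, S.rho_mul, S.p_z, ih]

theorem p_three (x : V) : S.ρ S.p (S.ρ S.p (S.ρ S.p x)) = x := by
  rw [← S.rho_mul, ← S.rho_mul, show S.p * S.p * S.p = S.p ^ 3 by rw [pow_three, mul_assoc]]
  exact S.p_cube x

theorem p_mem {w : V} (hw : w ∈ S.W) : S.ρ S.p w ∈ S.W := S.stab_W _ S.p_z w hw

theorem p_sum {w : V} (hw : w ∈ S.W) : w + S.ρ S.p w + S.ρ S.p (S.ρ S.p w) ∈ S.Z := by
  refine S.mem_Z.2 (S.p_fpf _ (add_mem (add_mem hw (p_mem hw)) (p_mem (p_mem hw))) (Or.inl ?_))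
  rw [map_add, map_add, p_three]
  abel_nf
  simp [two_zsmul, vadd_self]

theorem p_L {x w : V} (h : w ∈ S.L x) : S.ρ S.p w ∈ S.L x := by
  rw [← L_congr (S.p_sub x)]
  exact L_map S.p_z h

variable (S)

/-- A subspace containing `z` and invariant under `p`. -/
def PInv (X : Submodule (ZMod 2) V) : Prop := S.Z ≤ X ∧ ∀ x ∈ X, S.ρ S.p x ∈ X

/-- The subspace `⟨z, a, p a⟩`. -/
def K (a : V) : Submodule (ZMod 2) V :=
  S.Z ⊔ Submodule.span (ZMod 2) {a} ⊔ Submodule.span (ZMod 2) {S.ρ S.p a}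

variable {S}

theorem pInv_L (x : V) : S.PInv (S.L x) := ⟨Z_le_L x, fun _ => p_L⟩

theorem pInv_Z : S.PInv S.Z := ⟨le_rfl, fun x hx => by rwa [S.map_Z S.p_z hx]⟩

theorem pInv_sup {X Y : Submodule (ZMod 2) V} (hX : S.PInv X) (hY : S.PInv Y) :
    S.PInv (X ⊔ Y) := ⟨hX.1.trans le_sup_left, fun x hx => by
  obtain ⟨a, ha, b, hb, rfl⟩ := Submodule.mem_sup.1 hx
  rw [map_add]
  exact Submodule.add_mem_sup (hX.2 a ha) (hY.2 b hb)⟩

theorem pInv_inf {X Y : Submodule (ZMod 2) V} (hX : S.PInv X) (hY : S.PInv Y) :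
    S.PInv (X ⊓ Y) := ⟨le_inf hX.1 hY.1, fun x hx => ⟨hX.2 x hx.1, hY.2 x hx.2⟩⟩

theorem mem_K_self (a : V) : a ∈ S.K a :=
  Submodule.mem_sup_left (Submodule.mem_sup_right (Submodule.mem_span_singleton_self a))

theorem p_mem_K_self (a : V) : S.ρ S.p a ∈ S.K a :=
  Submodule.mem_sup_right (Submodule.mem_span_singleton_self _)

theorem K_le {X : Submodule (ZMod 2) V} (hX : S.PInv X) {a : V} (ha : a ∈ X) : S.K a ≤ X := by
  simp only [K, sup_le_iff, Submodule.span_singleton_le_iff_mem]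
  exact ⟨⟨hX.1, ha⟩, hX.2 a ha⟩

theorem K_le_W {a : V} (ha : a ∈ S.W) : S.K a ≤ S.W := K_le ⟨S.Z_le_W, fun _ => p_mem⟩ ha

theorem Z_le_K (a : V) : S.Z ≤ S.K a := le_sup_left.trans le_sup_left

theorem mem_K {a x : V} : x ∈ S.K a ↔
    ∃ e i j : ZMod 2, x = e • S.z + i • a + j • S.ρ S.p a := by
  simp only [K, Z, Submodule.mem_sup, Submodule.mem_span_singleton]
  constructor
  · rintro ⟨_, ⟨_, ⟨e, rfl⟩, _, ⟨i, rfl⟩, rfl⟩, _, ⟨j, rfl⟩, rfl⟩
    exact ⟨e, i, j, rfl⟩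
  · rintro ⟨e, i, j, rfl⟩
    exact ⟨_, ⟨_, ⟨e, rfl⟩, _, ⟨i, rfl⟩, rfl⟩, _, ⟨j, rfl⟩, rfl⟩

theorem pInv_K {a : V} (ha : a ∈ S.W) : S.PInv (S.K a) := by
  refine ⟨Z_le_K a, fun x hx => ?_⟩
  obtain ⟨e, i, j, rfl⟩ := mem_K.1 hx
  simp only [map_add, map_smul, S.p_z]
  have h := add_mem (Z_le_K a (p_sum ha)) (add_mem (mem_K_self a) (p_mem_K_self a))
  rw [show a + S.ρ S.p a + S.ρ S.p (S.ρ S.p a) + (a + S.ρ S.p a) = S.ρ S.p (S.ρ S.p a) by
    rw [add_comm (a + S.ρ S.p a) (S.ρ S.p (S.ρ S.p a)), vadd_cancel']] at h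
  exact add_mem (add_mem (Submodule.smul_mem _ _ (Z_le_K a S.z_mem_Z))
    (Submodule.smul_mem _ _ (p_mem_K_self a))) (Submodule.smul_mem _ _ h)

theorem sup_K_eq {X : Submodule (ZMod 2) V} (hX : S.PInv X) (a : V) :
    X ⊔ S.K a = X ⊔ Submodule.span (ZMod 2) {a} ⊔ Submodule.span (ZMod 2) {S.ρ S.p a} := by
  rw [K, ← sup_assoc, ← sup_assoc, sup_eq_left.2 hX.1]

theorem card_sup_K [Finite V] {X : Submodule (ZMod 2) V} (hX : S.PInv X) {a : V} (hW : a ∈ S.W)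
    (ha : a ∉ X) : Nat.card ↥(X ⊔ S.K a) = 4 * Nat.card X := by
  have h2 : S.ρ S.p a ∉ X ⊔ Submodule.span (ZMod 2) {a} := fun h => by
    obtain ⟨x, hx, y, hy, e⟩ := Submodule.mem_sup.1 h
    rcases mem_span_one.1 hy with hy0 | hy0
    · rw [hy0, add_zero] at e
      have h' := hX.2 _ (hX.2 _ (e ▸ hx))
      rw [p_three] at h'
      exact ha h'
    · rw [hy0] at e
      have h1 : S.ρ S.p a + a ∈ X := by rwa [← e, vadd_cancel']
      have h3 := add_mem (hX.2 _ h1) (hX.1 (p_sum hW))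
      rw [map_add, show S.ρ S.p (S.ρ S.p a) + S.ρ S.p a + (a + S.ρ S.p a + S.ρ S.p (S.ρ S.p a)) =
        a + (S.ρ S.p (S.ρ S.p a) + S.ρ S.p a + (S.ρ S.p (S.ρ S.p a) + S.ρ S.p a)) by abel,
        vadd_self, add_zero] at h3
      exact ha h3
  rw [sup_K_eq hX, card_sup_one h2, card_sup_one ha]
  ring

theorem card_Z : Nat.card ↥S.Z = 2 := by
  have h : (S.Z : Set V) = {0, S.z} := by ext x; simp [S.mem_Z]
  rw [← SetLike.coe_sort_coe, Nat.card_coe_set_eq, h, Set.ncard_pair S.z_ne.symm]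

theorem card_K [Finite V] {a : V} (hW : a ∈ S.W) (ha : a ∉ S.Z) : Nat.card ↥(S.K a) = 8 := by
  have := card_sup_K pInv_Z hW ha
  rwa [sup_eq_right.2 (Z_le_K a), card_Z] at this

theorem K_eq_of_mem [Finite V] {a b : V} (ha : a ∈ S.W) (hb : b ∈ S.K a) (hbZ : b ∉ S.Z) :
    S.K b = S.K a := by
  have hbW := K_le_W ha hb
  have haZ : a ∉ S.Z := fun h => hbZ (K_le pInv_Z h hb)
  refine SetLike.coe_injective (Set.eq_of_subset_of_ncard_le (K_le (pInv_K ha) hb) ?_ (Set.toFinite _))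
  rw [← Nat.card_coe_set_eq, ← Nat.card_coe_set_eq, SetLike.coe_sort_coe, SetLike.coe_sort_coe,
    card_K ha haZ, card_K hbW hbZ]

theorem mem_T_pW {t : V} (ht : t ∈ S.T) : S.ρ S.p t ∈ S.T := S.map_T _ _ ht

theorem K_mem_T [Finite V] {a : V} (ha : a ∈ S.T) (haW : a ∈ S.W) {x : V} (hx : x ∈ S.K a)
    (hxZ : x ∉ S.Z) : x ∈ S.T := by
  have h1 := mem_T_pW ha
  have h2 := mem_T_pW h1
  have hpW := p_mem haW
  have hz := fun {y : V} (hy : y ∈ S.T) (hyW : y ∈ S.W) => S.add_z_mem y hy hyW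
  have hs : a + S.ρ S.p a ∈ S.T := by
    rcases S.mem_Z.1 (p_sum haW) with e | e
    · rwa [vadd_eq_zero.1 e]
    · have := hz h2 (p_mem hpW)
      rwa [← e, add_comm, vadd_cancel'] at this
  obtain ⟨e, i, j, rfl⟩ := mem_K.1 hx
  rcases zmod_two_cases i with rfl | rfl <;> rcases zmod_two_cases j with rfl | rfl <;>
    rcases zmod_two_cases e with rfl | rfl <;>
    simp only [zero_smul, one_smul, zero_add, add_zero] at hxZ ⊢
  · exact absurd (zero_mem _) hxZ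
  · exact absurd S.z_mem_Z hxZ
  · exact h1
  · rw [add_comm]; exact hz h1 hpW
  · exact ha
  · rw [add_comm]; exact hz ha haW
  · exact hs
  · rw [add_assoc, add_comm]; exact hz hs (add_mem haW hpW)

end DuadSpace

end Cfsg.Agent.JankoFour
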