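import Mathlib.LinearAlgebra.Matrix.Transvection
import Mathlib.LinearAlgebra.Matrix.SpecialLinearGroup
import Mathlib.Algebra.Module.ZMod
import Mathlib.Data.ZMod.Basic
import Mathlib.Algebra.Field.ZMod
import Mathlib.Algebra.CharP.Two
import Mathlib.SetTheory.Cardinal.Finite

/-!
# Coordinates on an elementary group of order eight and the action of its normaliser

`Eight.Frame B`: a parametrisation of `B` by `Fin 3 → ZMod 2`.  `Frame.mu`: the map `N(B) → SL(3, 2)`,
with kernel `C(B)` (`mu_eq_one`), onto as soon as all transvections are induced (`mu_surj`).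
-/

set_option autoImplicit false

namespace Cfsg.Agent.JankoFour.Eight

open Subgroup

variable {G : Type*} [Group G]

theorem two_cases : ∀ u : ZMod 2, u = 0 ∨ u = 1 := by decide

theorem two_eq_one : ∀ a : ZMod 2, a ≠ 0 → a = 1 := by decide

theorem third : ∀ i j : Fin 3, i ≠ j → ∃ k, k ≠ i ∧ k ≠ j ∧ ∀ l, l = i ∨ l = j ∨ l = k := by
  decide

theorem transvection_col : ∀ i j l : Fin 3, i ≠ j →
    (Matrix.transvection i j (1 : ZMod 2)).mulVec (Pi.single l 1) =
      if l = j then Pi.single j 1 + Pi.single i 1 else Pi.single l 1 := by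
  intro i j l hij
  rw [Matrix.transvection, Matrix.add_mulVec, Matrix.one_mulVec]
  ext m
  simp only [Pi.add_apply, Matrix.mulVec_single_one, Matrix.col_apply, Matrix.single_apply]
  revert i j l m
  decide

theorem single_facts : ∀ i j k : Fin 3, i ≠ j → k ≠ i → k ≠ j →
    (Pi.single j 1 : Fin 3 → ZMod 2) ≠ 0 ∧ (Pi.single j 1 : Fin 3 → ZMod 2) ≠ Pi.single i 1 ∧
    (Pi.single j 1 : Fin 3 → ZMod 2) ≠ Pi.single k 1 ∧
    (Pi.single j 1 : Fin 3 → ZMod 2) ≠ Pi.single i 1 + Pi.single k 1 ∧
    (Pi.single i 1 : Fin 3 → ZMod 2) ≠ 0 := by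
  decide

/-- A parametrisation of `B` by the space of three coordinates. -/
structure Frame (B : Subgroup G) where
  e : (Fin 3 → ZMod 2) → G
  add : ∀ u v, e (u + v) = e u * e v
  inj : Function.Injective e
  mem : ∀ v, e v ∈ B
  surj : ∀ b ∈ B, ∃ v, e v = b

/-- `a^u b^v c^w`. -/
def tri (a b c : G) (v : Fin 3 → ZMod 2) : G := a ^ (v 0).val * (b ^ (v 1).val * c ^ (v 2).val)

theorem pow_val_add {a : G} (ha : a * a = 1) (u v : ZMod 2) :
    a ^ (u + v).val = a ^ u.val * a ^ v.val := by
  rcases two_cases u with rfl | rfl <;> rcases two_cases v with rfl | rfl <;>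
    simp [ha, show (1 : ZMod 2).val = 1 from rfl, show ((1 : ZMod 2) + 1) = 0 from rfl]

theorem tri_add {a b c : G} (ha : a * a = 1) (hb : b * b = 1) (hc : c * c = 1) (hab : Commute a b)
    (hac : Commute a c) (hbc : Commute b c) (u v : Fin 3 → ZMod 2) :
    tri a b c (u + v) = tri a b c u * tri a b c v := by
  simp only [tri, Pi.add_apply, pow_val_add ha, pow_val_add hb, pow_val_add hc]
  generalize (u 0).val = i; generalize (v 0).val = j; generalize (u 1).val = k
  generalize (v 1).val = l; generalize (u 2).val = m; generalize (v 2).val = n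
  have e1 : Commute (a ^ j) (b ^ k * c ^ m) := (hab.pow_pow j k).mul_right (hac.pow_pow j m)
  have e2 : Commute (b ^ l) (c ^ m) := hbc.pow_pow l m
  calc a ^ i * a ^ j * (b ^ k * b ^ l * (c ^ m * c ^ n))
      = a ^ i * a ^ j * (b ^ k * (b ^ l * c ^ m) * c ^ n) := by simp only [mul_assoc]
    _ = a ^ i * a ^ j * (b ^ k * (c ^ m * b ^ l) * c ^ n) := by rw [e2.eq]
    _ = a ^ i * (a ^ j * (b ^ k * c ^ m)) * (b ^ l * c ^ n) := by simp only [mul_assoc]
    _ = a ^ i * ((b ^ k * c ^ m) * a ^ j) * (b ^ l * c ^ n) := by rw [e1.eq]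
    _ = a ^ i * (b ^ k * c ^ m) * (a ^ j * (b ^ l * c ^ n)) := by simp only [mul_assoc]

/-- The frame of three independent commuting involutions. -/
theorem exists_frame {a b c : G} (ha : a * a = 1) (hb : b * b = 1) (hc : c * c = 1) (hab : Commute a b)
    (hac : Commute a c) (hbc : Commute b c) (a1 : a ≠ 1) (b1 : b ≠ 1) (ba : b ≠ a) (c1 : c ≠ 1)
    (ca : c ≠ a) (cb : c ≠ b) (cab : c ≠ a * b) :
    ∃ F : Frame (closure ({a, b, c} : Set G)),
      F.e (Pi.single 0 1) = a ∧ F.e (Pi.single 1 1) = b ∧ F.e (Pi.single 2 1) = c := by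
  have hadd := tri_add ha hb hc hab hac hbc
  have o1 : (1 : ZMod 2).val = 1 := rfl
  have e0 : tri a b c 0 = 1 := by simp [tri]
  have ea : tri a b c (Pi.single 0 1) = a := by simp [tri, o1]
  have eb : tri a b c (Pi.single 1 1) = b := by simp [tri, o1]
  have ec : tri a b c (Pi.single 2 1) = c := by simp [tri, o1]
  have hker : ∀ v, tri a b c v = 1 → v = 0 := by
    intro v hv
    have hv' : v = ![v 0, v 1, v 2] := by funext i; fin_cases i <;> rfl
    have inv_a : a⁻¹ = a := inv_eq_of_mul_eq_one_right ha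
    have inv_b : b⁻¹ = b := inv_eq_of_mul_eq_one_right hb
    have inv_c : c⁻¹ = c := inv_eq_of_mul_eq_one_right hc
    rcases two_cases (v 0) with h0 | h0 <;> rcases two_cases (v 1) with h1 | h1 <;>
      rcases two_cases (v 2) with h2 | h2 <;> simp only [tri, h0, h1, h2, ZMod.val_zero, o1, pow_zero,
        pow_one, one_mul, mul_one] at hv
    · rw [hv', h0, h1, h2]; funext i; fin_cases i <;> rfl
    · exact absurd hv c1
    · exact absurd hv b1
    · exact absurd ((eq_inv_of_mul_eq_one_right hv).trans inv_b) cb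
    · exact absurd hv a1
    · exact absurd ((eq_inv_of_mul_eq_one_right hv).trans inv_a) ca
    · exact absurd ((eq_inv_of_mul_eq_one_right hv).trans inv_a) ba
    · rw [← mul_assoc] at hv
      refine absurd ((eq_inv_of_mul_eq_one_right hv).trans ?_) cab
      rw [mul_inv_rev, inv_a, inv_b, hab.eq]
  refine ⟨⟨tri a b c, hadd, fun u v h => ?_, fun v => ?_, fun x hx => ?_⟩, ea, eb, ec⟩
  · have h2 : tri a b c (u + v) = 1 := by
      rw [hadd, h, ← hadd, show v + v = 0 from funext fun i => CharTwo.add_self_eq_zero (v i), e0]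
    funext i
    have := congrFun (hker _ h2) i
    exact CharTwo.add_eq_zero.1 this
  · exact mul_mem (pow_mem (subset_closure (by simp)) _)
      (mul_mem (pow_mem (subset_closure (by simp)) _) (pow_mem (subset_closure (by simp)) _))
  · induction hx using Subgroup.closure_induction with
    | mem x hx =>
      simp only [Set.mem_insert_iff, Set.mem_singleton_iff] at hx
      rcases hx with rfl | rfl | rfl
      exacts [⟨_, ea⟩, ⟨_, eb⟩, ⟨_, ec⟩]
    | one => exact ⟨0, e0⟩
    | mul x y _ _ hx hy =>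
      obtain ⟨u, rfl⟩ := hx
      obtain ⟨v, rfl⟩ := hy
      exact ⟨u + v, hadd u v⟩
    | inv x _ hx =>
      obtain ⟨u, rfl⟩ := hx
      refine ⟨u, eq_inv_of_mul_eq_one_left ?_⟩
      rw [← hadd, show u + u = 0 from funext fun i => CharTwo.add_self_eq_zero (u i), e0]

namespace Frame

variable {B : Subgroup G} (F : Frame B)

theorem zero : F.e 0 = 1 := by
  have h := F.add 0 0
  rw [add_zero] at h
  exact (mul_eq_left.1 h.symm)

theorem sq (v : Fin 3 → ZMod 2) : F.e v * F.e v = 1 := by
  rw [← F.add, show v + v = 0 from funext fun i => CharTwo.add_self_eq_zero (v i), F.zero]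

theorem comm (u v : Fin 3 → ZMod 2) : Commute (F.e u) (F.e v) := by
  show F.e u * F.e v = F.e v * F.e u
  rw [← F.add, ← F.add, add_comm]

include F in
theorem card : Nat.card ↥B = 8 := by
  have hb : Function.Bijective (fun v => (⟨F.e v, F.mem v⟩ : ↥B)) :=
    ⟨fun u v h => F.inj (congrArg Subtype.val h), fun ⟨b, hb⟩ =>
      (F.surj b hb).elim fun v hv => ⟨v, Subtype.ext hv⟩⟩
  rw [← Nat.card_eq_of_bijective _ hb, Nat.card_fun, Nat.card_fin, Nat.card_zmod]
  norm_num

/-- Conjugation in coordinates. -/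
noncomputable def tfun (n : ↥(normalizer (B : Set G))) (v : Fin 3 → ZMod 2) : Fin 3 → ZMod 2 :=
  Classical.choose (F.surj _ ((mem_normalizer_iff.1 n.2 (F.e v)).1 (F.mem v)))

theorem tfun_spec (n : ↥(normalizer (B : Set G))) (v : Fin 3 → ZMod 2) :
    F.e (F.tfun n v) = (n : G) * F.e v * (n : G)⁻¹ :=
  Classical.choose_spec (F.surj _ ((mem_normalizer_iff.1 n.2 (F.e v)).1 (F.mem v)))

/-- Conjugation as a linear map. -/
noncomputable def tlin (n : ↥(normalizer (B : Set G))) :
    (Fin 3 → ZMod 2) →ₗ[ZMod 2] (Fin 3 → ZMod 2) :=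
  (AddMonoidHom.mk' (F.tfun n) (fun u v => F.inj (by
    rw [F.tfun_spec, F.add, F.add, F.tfun_spec, F.tfun_spec]
    group))).toZModLinearMap 2

theorem tlin_spec (n : ↥(normalizer (B : Set G))) (v : Fin 3 → ZMod 2) :
    F.e (F.tlin n v) = (n : G) * F.e v * (n : G)⁻¹ := F.tfun_spec n v

/-- The matrix of conjugation. -/
noncomputable def mat (n : ↥(normalizer (B : Set G))) : Matrix (Fin 3) (Fin 3) (ZMod 2) :=
  LinearMap.toMatrix' (F.tlin n)

theorem mat_mul (m n : ↥(normalizer (B : Set G))) : F.mat (m * n) = F.mat m * F.mat n := by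
  rw [mat, mat, mat, ← LinearMap.toMatrix'_comp]
  congr 1
  refine LinearMap.ext fun v => F.inj ?_
  rw [LinearMap.comp_apply, F.tlin_spec, F.tlin_spec, F.tlin_spec, Subgroup.coe_mul]
  group

theorem mat_one : F.mat 1 = 1 := by
  rw [mat, ← LinearMap.toMatrix'_id]
  congr 1
  refine LinearMap.ext fun v => F.inj ?_
  simp [F.tlin_spec]

theorem det_mat (n : ↥(normalizer (B : Set G))) : (F.mat n).det = 1 := by
  refine two_eq_one _ fun h => ?_
  have e := congrArg Matrix.det ((F.mat_mul n n⁻¹).symm.trans (by rw [mul_inv_cancel, F.mat_one]))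
  rw [Matrix.det_mul, h, zero_mul, Matrix.det_one] at e
  exact zero_ne_one e

/-- The action of the normaliser. -/
noncomputable def mu : ↥(normalizer (B : Set G)) →* Matrix.SpecialLinearGroup (Fin 3) (ZMod 2) :=
  MonoidHom.mk' (fun n => ⟨F.mat n, F.det_mat n⟩) (fun m n => Subtype.ext (F.mat_mul m n))

theorem mu_eq_one (n : ↥(normalizer (B : Set G))) :
    F.mu n = 1 ↔ (n : G) ∈ centralizer (B : Set G) := by
  constructor
  · intro h b hb
    obtain ⟨v, rfl⟩ := F.surj b hb
    have h' : LinearMap.toMatrix' (F.tlin n) = LinearMap.toMatrix' LinearMap.id := by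
      rw [LinearMap.toMatrix'_id]; exact congrArg Subtype.val h
    have e := F.tlin_spec n v
    rw [LinearMap.toMatrix'.injective h', LinearMap.id_apply] at e
    exact eq_mul_inv_iff_mul_eq.1 e
  · intro h
    refine Subtype.ext ?_
    show F.mat n = 1
    rw [mat, ← LinearMap.toMatrix'_id]
    congr 1
    refine LinearMap.ext fun v => F.inj ?_
    rw [F.tlin_spec, LinearMap.id_apply, ← h _ (F.mem v), mul_inv_cancel_right]

/-- If every transvection is induced by `K`, then `K` maps onto `SL(3, 2)`. -/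
theorem mu_surj (K : Subgroup ↥(normalizer (B : Set G)))
    (htr : ∀ i j k : Fin 3, i ≠ j → k ≠ i → k ≠ j → ∃ n ∈ K,
      Commute (n : G) (F.e (Pi.single i 1)) ∧ Commute (n : G) (F.e (Pi.single k 1)) ∧
      (n : G) * F.e (Pi.single j 1) * (n : G)⁻¹ = F.e (Pi.single j 1) * F.e (Pi.single i 1))
    (A : Matrix.SpecialLinearGroup (Fin 3) (ZMod 2)) : ∃ n ∈ K, F.mu n = A := by
  have : Fact (Nat.Prime 2) := ⟨Nat.prime_two⟩
  have tv : ∀ {i j : Fin 3}, i ≠ j → ∃ n ∈ K,
      (F.mu n : Matrix (Fin 3) (Fin 3) (ZMod 2)) = Matrix.transvection i j 1 := by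
    intro i j hij
    obtain ⟨k, hki, hkj, hall⟩ := third i j hij
    obtain ⟨n, hn, hni, hnk, hnj⟩ := htr i j k hij hki hkj
    refine ⟨n, hn, ?_⟩
    show F.mat n = _
    rw [mat, ← LinearMap.toMatrix'_toLin' (Matrix.transvection i j (1 : ZMod 2))]
    congr 1
    refine (Pi.basisFun (ZMod 2) (Fin 3)).ext fun l => F.inj ?_
    rw [Pi.basisFun_apply, F.tlin_spec, Matrix.toLin'_apply, transvection_col i j l hij]
    rcases hall l with rfl | rfl | rfl
    · rw [if_neg hij, hni.eq, mul_inv_cancel_right]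
    · rw [if_pos rfl, F.add, hnj]
    · rw [if_neg hkj, hnk.eq, mul_inv_cancel_right]
  have key : ∀ T : List (Matrix.TransvectionStruct (Fin 3) (ZMod 2)), ∃ k ∈ K,
      (F.mu k : Matrix (Fin 3) (Fin 3) (ZMod 2)) =
        (T.map Matrix.TransvectionStruct.toMatrix).prod := by
    intro T
    induction T with
    | nil => exact ⟨1, one_mem _, by simp⟩
    | cons t T ih =>
      obtain ⟨k, hk, e⟩ := ih
      rw [List.map_cons, List.prod_cons]
      rcases two_cases t.c with hc | hc
      · refine ⟨k, hk, ?_⟩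
        rw [Matrix.TransvectionStruct.toMatrix, hc, Matrix.transvection_zero, one_mul, e]
      · obtain ⟨n, hn, e'⟩ := tv t.hij
        refine ⟨n * k, mul_mem hn hk, ?_⟩
        rw [map_mul, Matrix.SpecialLinearGroup.coe_mul, e', e, Matrix.TransvectionStruct.toMatrix, hc]
  obtain ⟨T, T', D, hA⟩ :=
    Matrix.Pivot.exists_list_transvec_mul_diagonal_mul_list_transvec (A : Matrix (Fin 3) (Fin 3) (ZMod 2))
  obtain ⟨k, hk, e⟩ := key T
  obtain ⟨k', hk', e'⟩ := key T'
  have hd := congrArg Matrix.det hA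
  rw [Matrix.det_mul, Matrix.det_mul, ← e, ← e', A.2, (F.mu k).2, (F.mu k').2, one_mul, mul_one,
    Matrix.det_diagonal] at hd
  have hD : D = fun _ => 1 := funext fun i => two_eq_one _ fun h => by
    rw [Finset.prod_eq_zero (Finset.mem_univ i) h] at hd
    exact one_ne_zero hd
  refine ⟨k * k', mul_mem hk hk', Subtype.ext ?_⟩
  rw [map_mul, Matrix.SpecialLinearGroup.coe_mul, e, e', hA, hD, Matrix.diagonal_one, mul_one]

end Frame

end Cfsg.Agent.JankoFour.Eight
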