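import Cfsg.Agent.Lib.JankoFour.Interface

/-!
# Elementary abelian subgroups of order 16 of `M₂₂` inside `Aut M₂₂`: what is used (S5566)

`U₀` is the pointwise stabiliser of a hexad; the 32s are the kernels on the five hexads through a
pair of points; six pairs inside the hexad give the six conjugates in `points`.
-/

set_option autoImplicit false

namespace Cfsg.Agent.JankoFour

open Subgroup

/-- An elementary abelian subgroup of order 16. -/
def IsSixteen {K : Type*} [Group K] (U : Subgroup K) : Prop :=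
  (∀ a ∈ U, a * a = 1) ∧ Nat.card ↥U = 16

/-- The conjugate `k A k⁻¹`. -/
abbrev cj {K : Type*} [Group K] (k : K) (A : Subgroup K) : Subgroup K :=
  A.map (MulAut.conj k).toMonoidHom

/-- Six conjugates of `A`, each meeting `U`, normalised by `U`, with different normalisers, each
having an inner element normalising any other. -/
def IsStarFamily {K : Type*} [Group K] (I A U : Subgroup K) (f : Fin 6 → K) : Prop :=
  (∀ i, ∃ a ∈ U, a ≠ 1 ∧ a ∈ cj (f i) A) ∧
  (∀ i, U ≤ normalizer (cj (f i) A : Set K)) ∧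
  (∀ i j, i ≠ j → (f i)⁻¹ * f j ∉ normalizer (A : Set K)) ∧
  (∀ i j, ∃ a ∈ cj (f i) A, a ≠ 1 ∧ a ∈ I ∧ a ∈ normalizer (cj (f j) A : Set K))

/-- The facts on the elementary abelian subgroups of order 16 of the inner part `I`. -/
structure HexFacts {K : Type*} [Group K] (I U₀ : Subgroup K) : Prop where
  sixteen : IsSixteen U₀
  le : U₀ ≤ I
  trans : ∀ a ∈ U₀, a ≠ 1 → ∀ b ∈ U₀, b ≠ 1 →
    ∃ n ∈ I, (∀ u ∈ U₀, n * u * n⁻¹ ∈ U₀) ∧ n * a * n⁻¹ = b
  points : ∀ A : Subgroup K, IsThirtyTwo A → ∃ f : Fin 6 → K, IsStarFamily I A U₀ f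
  conj32 : ∀ A A' : Subgroup K, IsThirtyTwo A → IsThirtyTwo A' → ∃ k, A' = cj k A
  classify : ∀ U : Subgroup K, U ≤ I → IsSixteen U →
    (∃ A : Subgroup K, IsThirtyTwo A ∧ U ≤ A) ∨ ∃ k, U = cj k U₀
  weak : ∀ k : K, IsPGroup 2 ↥(U₀ ⊔ cj k U₀) → cj k U₀ = U₀

end Cfsg.Agent.JankoFour
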