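import Cfsg.Agent.Lib.JankoFour.PairModel
import Cfsg.Agent.Lib.JankoFour.HexInterface
import Cfsg.Agent.Lib.JankoFour.Data.HexData
import Cfsg.Agent.Lib.Mathieu.ListGroup

/-!
# The facts on the subgroups of order 16 of `M₂₂` (S5566)

`exists_hexFacts`: the pointwise stabiliser of a hexad satisfies `HexFacts`.  Everything is computed in
`pairGrp`: a Sylow 2-subgroup contains two elementary subgroups of order 16 in the inner part and one of
order 32.
-/

set_option autoImplicit false
set_option maxRecDepth 20000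
set_option maxHeartbeats 4000000
set_option linter.style.haveILetI false

namespace Cfsg.Agent.JankoFour

open Cfsg Subgroup Cfsg.Agent.Mathieu

namespace Hex

/-- The packed form of an element of `pairGrp`. -/
noncomputable def code (σ : ↥pairGrp) : ℕ := canon (σ : Equiv.Perm GolayPt)

theorem code_mul (σ τ : ↥pairGrp) : code (σ * τ) = packMulS 24 (code σ) (code τ) := by
  rw [code, coe_mul, canon_mul, packMulS_eq]; rfl

theorem code_one : code 1 = packId 24 := by
  rw [code, OneMemClass.coe_one, canon_one]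

theorem code_injective : Function.Injective code := fun _ _ h => Subtype.ext (canon_injective h)

theorem code_sq {σ : ↥pairGrp} (h : σ * σ = 1) : packMulS 24 (code σ) (code σ) = packId 24 := by
  rw [← code_mul, h, code_one]

theorem code_comm {σ τ : ↥pairGrp} (h : σ * τ = τ * σ) :
    packMulS 24 (code σ) (code τ) = packMulS 24 (code τ) (code σ) := by
  rw [← code_mul, h, code_mul]

theorem fix23_iff {σ : ↥pairGrp} : σ ∈ innerPair ↔ app (code σ) 23 = 23 := by
  rw [mem_subgroupOf]
  exact fix_iff_app σ.2 (rep_canon _)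

/-- A list of packed elements of `pairGrp` containing one and closed under products. -/
def groupList (L : List ℕ) : Bool :=
  L.all (fun l => memPair l && canonNum l == l) && L.contains (packId 24) &&
    (L.all fun a => L.all fun b => L.contains (packMulS 24 a b))

/-- The subgroup with a given list. -/
def listSub (L : List ℕ) (h : groupList L = true) : Subgroup ↥pairGrp :=
  have h1 : packId 24 ∈ L ∧ ∀ a ∈ L, ∀ b ∈ L, packMulS 24 a b ∈ L := by
    simp only [groupList, Bool.and_eq_true, List.all_eq_true, List.contains_iff_mem] at h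
    exact ⟨h.1.2, h.2⟩
  { carrier := {σ | code σ ∈ L}
    one_mem' := by show code 1 ∈ L; rw [code_one]; exact h1.1
    mul_mem' := fun {a b} ha hb => by show code (a * b) ∈ L; rw [code_mul]; exact h1.2 _ ha _ hb
    inv_mem' := fun {a} ha => by
      obtain ⟨k, hk⟩ := (isOfFinOrder_of_finite a).mem_powers_iff_mem_zpowers.2
        (inv_mem (mem_zpowers a))
      show code a⁻¹ ∈ L
      rw [← show a ^ k = a⁻¹ from hk]
      clear hk
      induction k with
      | zero => rw [pow_zero, code_one]; exact h1.1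
      | succ k ih => rw [pow_succ, code_mul]; exact h1.2 _ ih _ ha }

theorem mem_listSub {L : List ℕ} {h : groupList L = true} {σ : ↥pairGrp} :
    σ ∈ listSub L h ↔ code σ ∈ L := Iff.rfl

theorem ok_of_groupList {L : List ℕ} (h : groupList L = true) :
    L.all (fun l => memPair l && canonNum l == l) = true := by
  simp only [groupList, Bool.and_eq_true] at h
  exact h.1.1

theorem exists_code {L : List ℕ} (h : groupList L = true) {l : ℕ} (hl : l ∈ L) :
    ∃ σ : ↥pairGrp, code σ = l := by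
  have h1 := List.all_eq_true.1 (ok_of_groupList h) l hl
  simp only [Bool.and_eq_true, beq_iff_eq] at h1
  obtain ⟨σ, hσ⟩ := exists_rep_pair h1.1
  exact ⟨σ, by rw [code, canon_eq hσ, h1.2]⟩

theorem card_listSub {L : List ℕ} (h : groupList L = true) (hnd : L.Nodup) :
    Nat.card ↥(listSub L h) = L.length :=
  card_of_canon_list (fun _ => Iff.rfl) hnd (ok_of_groupList h)

theorem eq_listSub {L : List ℕ} (h : groupList L = true) (hnd : L.Nodup) {U : Subgroup ↥pairGrp}
    (hle : ∀ x ∈ U, code x ∈ L) (hcard : L.length ≤ Nat.card ↥U) : U = listSub L h :=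
  Subgroup.eq_of_le_of_card_ge hle (by rwa [card_listSub h hnd])

/-- A packed pair of inverse elements. -/
def invPair (p : ℕ × ℕ) : Bool :=
  memPair p.1 && memPair p.2 && canonNum p.1 == p.1 && canonNum p.2 == p.2 &&
    packMulS 24 p.1 p.2 == packId 24

theorem exists_of_invPair {p : ℕ × ℕ} (h : invPair p = true) :
    ∃ σ : ↥pairGrp, code σ = p.1 ∧ code σ⁻¹ = p.2 := by
  simp only [invPair, Bool.and_eq_true, beq_iff_eq] at h
  obtain ⟨⟨⟨⟨h1, h2⟩, h3⟩, h4⟩, h5⟩ := h
  obtain ⟨σ, hσ⟩ := exists_rep_pair h1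
  obtain ⟨τ, hτ⟩ := exists_rep_pair h2
  have hs : code σ = p.1 := by rw [code, canon_eq hσ, h3]
  have ht : code τ = p.2 := by rw [code, canon_eq hτ, h4]
  refine ⟨σ, hs, ?_⟩
  have : σ * τ = 1 := code_injective (by rw [code_mul, hs, ht, h5, code_one])
  rw [inv_eq_of_mul_eq_one_right this, ht]

/-- The conjugate of a packed element by a pair. -/
def cjN (p : ℕ × ℕ) (a : ℕ) : ℕ := packMulS 24 (packMulS 24 p.1 a) p.2

theorem code_conj {σ : ↥pairGrp} {p : ℕ × ℕ} (h1 : code σ = p.1) (h2 : code σ⁻¹ = p.2)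
    (a : ↥pairGrp) : code (σ * a * σ⁻¹) = cjN p (code a) := by
  rw [code_mul, code_mul, h1, h2, cjN]

/-! ### The lists -/

/-- The Sylow 2-subgroup. -/
def sylList : List ℕ := Data.sylGens ++ Data.sylSteps.map fun s => s.1

theorem sylList_ok : listGroupOK 24 Data.sylGens Data.sylSteps = true ∧
    Data.sylGens.all memPair = true ∧ sylList.all (fun l => canonNum l == l) = true := by
  decide +kernel

theorem hexList_ok : groupList Data.hexList = true := by decide +kernel

theorem innerElem_ok : groupList Data.innerElem = true := by decide +kernel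

theorem elemList_ok : groupList Data.elemList = true := by decide +kernel

theorem sylList_nodup : sylList.Nodup ∧ sylList.length = 256 := by decide +kernel

theorem small_nodup : Data.hexList.Nodup ∧ Data.innerElem.Nodup ∧ Data.elemList.Nodup ∧
    Data.hexList.length = 16 ∧ Data.innerElem.length = 16 ∧ Data.elemList.length = 32 := by
  decide +kernel

theorem small_facts :
    (∀ l ∈ Data.hexList, packMulS 24 l l = packId 24 ∧ app l 23 = 23) ∧
    (∀ l ∈ Data.elemList, packMulS 24 l l = packId 24) ∧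
    (∀ l ∈ Data.innerElem, l ∈ Data.elemList) := by
  decide +kernel

/-- The Sylow 2-subgroup. -/
def S0 : Subgroup ↥pairGrp := (genGroup ptEnc Data.sylGens).subgroupOf pairGrp

theorem mem_S0 {σ : ↥pairGrp} : σ ∈ S0 ↔ code σ ∈ sylList := by
  rw [S0, mem_subgroupOf, mem_genGroup_iff (by norm_num) sylList_ok.1]
  constructor
  · rintro ⟨l, hl, hr⟩
    have h := beq_iff_eq.1 (List.all_eq_true.1 sylList_ok.2.2 l hl)
    rw [code, canon_eq hr, h]
    exact hl
  · exact fun h => ⟨_, h, rep_canon _⟩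

/-- The hexad kernel. -/
def U0 : Subgroup ↥pairGrp := listSub Data.hexList hexList_ok

/-- The pair kernel. -/
def A0 : Subgroup ↥pairGrp := listSub Data.elemList elemList_ok

theorem isSixteen_U0 : IsSixteen U0 :=
  ⟨fun a ha => code_injective (by rw [code_mul, small_facts.1 _ ha |>.1, code_one]),
    (card_listSub _ small_nodup.1).trans small_nodup.2.2.2.1⟩

theorem isThirtyTwo_A0 : IsThirtyTwo A0 :=
  ⟨fun a ha => code_injective (by rw [code_mul, small_facts.2.1 _ ha, code_one]),
    (card_listSub _ small_nodup.2.2.1).trans small_nodup.2.2.2.2.2⟩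

theorem U0_le : U0 ≤ innerPair := fun _ ha => fix23_iff.2 (small_facts.1 _ ha).2

theorem innerPair_normal : innerPair.Normal := Subgroup.normal_of_index_eq_two innerPair_index

/-! ### Moving into the Sylow subgroup -/

theorem card_S0 : Nat.card ↥S0 = 256 := by
  rw [← sylList_nodup.2, ← List.toFinset_card_of_nodup sylList_nodup.1, ← Nat.card_eq_finsetCard]
  refine Nat.card_congr (Equiv.ofBijective
    (fun σ => ⟨code σ.1, List.mem_toFinset.2 (mem_S0.1 σ.2)⟩) ⟨fun σ τ h => ?_, ?_⟩)
  · exact Subtype.ext (code_injective (congrArg Subtype.val h))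
  · rintro ⟨l, hl⟩
    rw [List.mem_toFinset] at hl
    obtain ⟨σ, hσ, hr⟩ := slpList_mem (e := ptEnc) sylList_ok.1 hl
    have hp : σ ∈ pairGrp := genGroup_le (fun τ k hk hτ =>
      memPair_sound hτ (List.all_eq_true.1 sylList_ok.2.1 k hk)) hσ
    have hc : code ⟨σ, hp⟩ = l := by
      rw [code, canon_eq hr, beq_iff_eq.1 (List.all_eq_true.1 sylList_ok.2.2 l hl)]
    exact ⟨⟨⟨σ, hp⟩, mem_S0.2 (hc ▸ hl)⟩, Subtype.ext hc⟩

theorem exists_conj_le {P : Subgroup ↥pairGrp} (hP : IsPGroup 2 ↥P) :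
    ∃ g : ↥pairGrp, cj g P ≤ S0 := by
  haveI : Fact (Nat.Prime 2) := ⟨Nat.prime_two⟩
  obtain ⟨Q, hQ⟩ := hP.exists_le_sylow
  let S : Sylow 2 ↥pairGrp := Sylow.ofCard S0 (by
    rw [card_S0, card_pairGrp, show (887040 : ℕ) = 2 ^ 8 * 3465 by norm_num,
      Nat.factorization_mul (by norm_num) (by norm_num), Finsupp.add_apply,
      Nat.Prime.factorization_pow Nat.prime_two, Finsupp.single_eq_same,
      Nat.factorization_eq_zero_of_not_dvd (by norm_num : ¬ 2 ∣ 3465)]
    norm_num)
  obtain ⟨g, hg⟩ := MulAction.exists_smul_eq ↥pairGrp Q S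
  refine ⟨g, ?_⟩
  rintro _ ⟨x, hx, rfl⟩
  have : (S : Subgroup ↥pairGrp) = S0 := rfl
  rw [← this, ← hg, Sylow.coe_subgroup_smul]
  exact Subgroup.mem_map.2 ⟨x, hQ hx, rfl⟩

theorem isPGroup_of_sq {P : Subgroup ↥pairGrp} (h : ∀ a ∈ P, a * a = 1) : IsPGroup 2 ↥P :=
  fun a => ⟨1, Subtype.ext (by rw [pow_one, pow_two]; exact h a a.2)⟩

theorem cj_mem {g : ↥pairGrp} {U : Subgroup ↥pairGrp} {x : ↥pairGrp} :
    x ∈ cj g U ↔ g⁻¹ * x * g ∈ U := by
  constructor
  · rintro ⟨u, hu, rfl⟩
    simpa [mul_assoc] using hu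
  · intro h
    exact ⟨_, h, by simp [mul_assoc]⟩

theorem cj_cj (g h : ↥pairGrp) (U : Subgroup ↥pairGrp) : cj g (cj h U) = cj (g * h) U := by
  ext x
  simp only [cj_mem, mul_inv_rev, mul_assoc]

theorem cj_one (U : Subgroup ↥pairGrp) : cj 1 U = U := by
  ext x; simp [cj_mem]

theorem cj_inv_eq {g : ↥pairGrp} {U V : Subgroup ↥pairGrp} (h : cj g U = V) : U = cj g⁻¹ V := by
  rw [← h, cj_cj, inv_mul_cancel, cj_one]

theorem card_cj (g : ↥pairGrp) (U : Subgroup ↥pairGrp) : Nat.card ↥(cj g U) = Nat.card ↥U :=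
  (Nat.card_congr (U.equivMapOfInjective _ (MulAut.conj g).injective).toEquiv).symm

theorem cj_sq {g : ↥pairGrp} {U : Subgroup ↥pairGrp} (h : ∀ a ∈ U, a * a = 1) :
    ∀ a ∈ cj g U, a * a = 1 := by
  rintro _ ⟨a, ha, rfl⟩
  rw [← map_mul, h a ha, map_one]

theorem isSixteen_cj {g : ↥pairGrp} {U : Subgroup ↥pairGrp} (h : IsSixteen U) : IsSixteen (cj g U) :=
  ⟨cj_sq h.1, (card_cj g U).trans h.2⟩

theorem cj_le_inner {g : ↥pairGrp} {U : Subgroup ↥pairGrp} (h : U ≤ innerPair) : cj g U ≤ innerPair := by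
  rintro _ ⟨a, ha, rfl⟩
  exact innerPair_normal.conj_mem a (h ha) g

/-! ### The search -/

/-- The involutions of the inner part of the Sylow subgroup. -/
def invList : List ℕ :=
  sylList.filter fun l => packMulS 24 l l == packId 24 && app l 23 == 23 && !(l == packId 24)

/-- Four elements of an elementary group generated by three. -/
def span3 (a b c : ℕ) : List ℕ :=
  let ab := packMulS 24 a b
  [packId 24, a, b, ab, c, packMulS 24 a c, packMulS 24 b c, packMulS 24 ab c]

/-- Extensions of the triple after `k` lie in `W`. -/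
def extOK (W : List ℕ) (a b c k : ℕ) : Bool :=
  ((List.range invList.length).drop (k + 1)).all fun l =>
    let d := invList.getD l 0
    !(packMulS 24 a d == packMulS 24 d a && packMulS 24 b d == packMulS 24 d b &&
      packMulS 24 c d == packMulS 24 d c) || (span3 a b c).contains d || W.contains d

/-- Every commuting independent triple is covered. -/
def searchOK : Bool :=
  (List.range invList.length).all fun k => (List.range k).all fun j => (List.range j).all fun i =>
    let a := invList.getD i 0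
    let b := invList.getD j 0
    let c := invList.getD k 0
    !(packMulS 24 a b == packMulS 24 b a && packMulS 24 a c == packMulS 24 c a &&
        packMulS 24 b c == packMulS 24 c b) || [packId 24, a, b, packMulS 24 a b].contains c ||
      (Data.hexList.contains a && Data.hexList.contains b && Data.hexList.contains c &&
        extOK Data.hexList a b c k) ||
      (Data.innerElem.contains a && Data.innerElem.contains b && Data.innerElem.contains c &&
        extOK Data.innerElem a b c k) ||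
      extOK [] a b c k

theorem searchOK_true : searchOK = true := by decide +kernel

theorem exists_index {U : Subgroup ↥pairGrp} (hS : ∀ x ∈ U, x ≠ 1 → code x ∈ invList) {x : ↥pairGrp}
    (hx : x ∈ U) (h1 : x ≠ 1) : ∃ l, l < invList.length ∧ code x = invList.getD l 0 := by
  obtain ⟨l, hl, e⟩ := List.getElem_of_mem (hS x hx h1)
  exact ⟨l, hl, by rw [List.getD_eq_getElem _ _ hl, e]⟩

theorem exists_min {U : Subgroup ↥pairGrp} (hS : ∀ x ∈ U, x ≠ 1 → code x ∈ invList)
    (T : List ℕ) (hT : packId 24 ∈ T) (h : T.length < Nat.card ↥U) :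
    ∃ i, i < invList.length ∧ ∃ x ∈ U, code x = invList.getD i 0 ∧ code x ∉ T ∧
      ∀ y ∈ U, code y ∉ T → ∀ l, l < invList.length → code y = invList.getD l 0 → i ≤ l := by
  classical
  have hex : ∃ i, i < invList.length ∧ ∃ x ∈ U, code x = invList.getD i 0 ∧ code x ∉ T := by
    by_contra hno
    push Not at hno
    have hsub : ∀ x ∈ U, code x ∈ T := by
      intro x hx
      by_cases h1 : x = 1
      · rw [h1, code_one]; exact hT
      · obtain ⟨l, hl, e⟩ := exists_index hS hx h1
        exact hno l hl x hx e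
    have hf : Function.Injective
        (fun x : U => (⟨code x.1, List.mem_toFinset.2 (hsub _ x.2)⟩ : T.toFinset)) :=
      fun x y e => Subtype.ext (code_injective (congrArg Subtype.val e))
    have := Nat.card_le_card_of_injective _ hf
    rw [Nat.card_eq_finsetCard] at this
    exact absurd (this.trans (List.toFinset_card_le _)) (not_le.2 h)
  obtain ⟨hi, x, hx, e, hxT⟩ := Nat.find_spec hex
  exact ⟨Nat.find hex, hi, x, hx, e, hxT, fun y hy hyT l hl el => Nat.find_le ⟨hl, y, hy, el, hyT⟩⟩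

theorem sixteen_in_syl {U : Subgroup ↥pairGrp} (hU : IsSixteen U) (hI : U ≤ innerPair) (hS : U ≤ S0) :
    U = U0 ∨ U = listSub Data.innerElem innerElem_ok := by
  have hinv : ∀ x ∈ U, x ≠ 1 → code x ∈ invList := fun x hx h1 => by
    refine List.mem_filter.2 ⟨mem_S0.1 (hS hx), ?_⟩
    simp only [Bool.and_eq_true, beq_iff_eq, Bool.not_eq_true', beq_eq_false_iff_ne]
    exact ⟨⟨code_sq (hU.1 x hx), fix23_iff.1 (hI hx)⟩,
      fun e => h1 (code_injective (e.trans code_one.symm))⟩
  have hcomm : ∀ {x y}, x ∈ U → y ∈ U →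
      packMulS 24 (code x) (code y) = packMulS 24 (code y) (code x) := fun {x y} hx hy => code_comm (by
    calc x * y = x * y * (y * x * (y * x)) := by rw [hU.1 _ (U.mul_mem hy hx), mul_one]
      _ = x * (y * y) * x * (y * x) := by simp only [mul_assoc]
      _ = y * x := by rw [hU.1 y hy, mul_one, hU.1 x hx, one_mul])
  obtain ⟨i, hi, x, hx, ex, hxT, hmin1⟩ := exists_min hinv [packId 24] (by simp) (by rw [hU.2]; simp)
  obtain ⟨j, hj, y, hy, ey, hyT, hmin2⟩ := exists_min hinv [packId 24, code x] (by simp)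
    (by rw [hU.2]; simp)
  obtain ⟨k, hk, w, hw, ew, hwT, hmin3⟩ := exists_min hinv
    [packId 24, code x, code y, packMulS 24 (code x) (code y)] (by simp) (by rw [hU.2]; simp)
  simp only [List.mem_cons, List.not_mem_nil, or_false, not_or] at hxT hyT hwT hmin1 hmin2 hmin3
  have hij : i < j :=
    lt_of_le_of_ne (hmin1 y hy hyT.1 j hj ey) fun e => hyT.2 (by rw [ey, ex, e])
  have hjk : j < k :=
    lt_of_le_of_ne (hmin2 w hw ⟨hwT.1, hwT.2.1⟩ k hk ew) fun e => hwT.2.2.1 (by rw [ew, ey, e])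
  have hs := searchOK_true
  simp only [searchOK, List.all_eq_true, List.mem_range] at hs
  have h := hs k hk j hjk i hij
  rw [← ex, ← ey, ← ew] at h
  simp only [beq_iff_eq.2 (hcomm hx hy), beq_iff_eq.2 (hcomm hx hw), beq_iff_eq.2 (hcomm hy hw),
    Bool.and_self, Bool.not_true, Bool.false_or, Bool.or_eq_true, Bool.and_eq_true] at h
  have hno : [packId 24, code x, code y, packMulS 24 (code x) (code y)].contains (code w) = false := by
    simp [hwT.1, hwT.2.1, hwT.2.2.1, hwT.2.2.2]
  have ext : ∀ W : List ℕ, extOK W (code x) (code y) (code w) k = true → ∀ u ∈ U,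
      code u ∈ span3 (code x) (code y) (code w) ∨ code u ∈ W := by
    intro W hW u hu
    by_contra hno'
    simp only [not_or] at hno'
    obtain ⟨hu3, huW⟩ := hno'
    have hu3' := hu3
    simp only [span3, List.mem_cons, List.not_mem_nil, or_false, not_or] at hu3'
    obtain ⟨u1, u2, u3, u4, u5, -⟩ := hu3'
    have h1 : u ≠ 1 := fun e => u1 (by rw [e, code_one])
    obtain ⟨l, hl, el⟩ := exists_index hinv hu h1
    have hkl : k < l := lt_of_le_of_ne (hmin3 u hu ⟨u1, u2, u3, u4⟩ l hl el)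
      fun e => u5 (by rw [el, ew, e])
    simp only [extOK, List.all_eq_true] at hW
    have hl' := hW l (List.mem_drop_iff_getElem.2 ⟨l - (k + 1), by simp; omega, by simp; omega⟩)
    rw [← el] at hl'
    simp only [beq_iff_eq.2 (hcomm hx hu), beq_iff_eq.2 (hcomm hy hu), beq_iff_eq.2 (hcomm hw hu), Bool.and_self,
      Bool.not_true, Bool.false_or, Bool.or_eq_true, List.contains_iff_mem] at hl'
    exact hl'.elim hu3 huW
  have inW : ∀ (W : List ℕ) (hW : groupList W = true), code x ∈ W → code y ∈ W → code w ∈ W →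
      ∀ a ∈ span3 (code x) (code y) (code w), a ∈ W := by
    intro W hW hx' hy' hw' a ha
    simp only [groupList, Bool.and_eq_true, List.all_eq_true, List.contains_iff_mem] at hW
    obtain ⟨⟨-, hid⟩, hcl⟩ := hW
    simp only [span3, List.mem_cons, List.not_mem_nil, or_false] at ha
    rcases ha with rfl | rfl | rfl | rfl | rfl | rfl | rfl | rfl
    exacts [hid, hx', hy', hcl _ hx' _ hy', hw', hcl _ hx' _ hw', hcl _ hy' _ hw',
      hcl _ (hcl _ hx' _ hy') _ hw']
  rw [hno] at h
  simp only [Bool.false_eq_true, false_or, List.contains_iff_mem] at h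
  rcases h with (⟨⟨⟨a1, a2⟩, a3⟩, hW⟩ | ⟨⟨⟨a1, a2⟩, a3⟩, hW⟩) | hW
  · refine Or.inl (eq_listSub hexList_ok small_nodup.1 (fun u hu => ?_)
      (by rw [hU.2, small_nodup.2.2.2.1]))
    exact (ext _ hW u hu).elim (inW _ hexList_ok a1 a2 a3 _) id
  · refine Or.inr (eq_listSub innerElem_ok small_nodup.2.1 (fun u hu => ?_)
      (by rw [hU.2, small_nodup.2.2.2.2.1]))
    exact (ext _ hW u hu).elim (inW _ innerElem_ok a1 a2 a3 _) id
  · exfalso
    have hsub : ∀ u ∈ U, code u ∈ span3 (code x) (code y) (code w) := fun u hu =>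
      (ext _ hW u hu).resolve_right List.not_mem_nil
    have hf : Function.Injective (fun u : U => (⟨code u.1, List.mem_toFinset.2 (hsub _ u.2)⟩ :
        (span3 (code x) (code y) (code w)).toFinset)) :=
      fun u v e => Subtype.ext (code_injective (congrArg Subtype.val e))
    have h8 := Nat.card_le_card_of_injective _ hf
    rw [Nat.card_eq_finsetCard, hU.2] at h8
    have := h8.trans (List.toFinset_card_le _)
    simp [span3] at this

/-- The involutions centralising either group. -/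
theorem centralising : ∀ l ∈ sylList, packMulS 24 l l = packId 24 →
    ((∀ a ∈ Data.hexList, packMulS 24 l a = packMulS 24 a l) → l ∈ Data.hexList) ∧
    ((∀ a ∈ Data.innerElem, packMulS 24 l a = packMulS 24 a l) → l ∈ Data.elemList) := by
  decide +kernel

theorem thirtyTwo_in_syl {U : Subgroup ↥pairGrp} (hU : IsThirtyTwo U) (hS : U ≤ S0) : U = A0 := by
  haveI : Fact (Nat.Prime 2) := ⟨Nat.prime_two⟩
  let V := U ⊓ innerPair
  have h16 : 2 ^ 4 ≤ Nat.card ↥V := by
    have h1 : innerPair.relIndex U ≤ 2 := by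
      calc innerPair.relIndex U ≤ innerPair.relIndex ⊤ :=
            Subgroup.relIndex_le_of_le_right le_top (by rw [relIndex_top_right, innerPair_index]; norm_num)
        _ = 2 := by rw [relIndex_top_right, innerPair_index]
    have h2 : Nat.card ↥V * innerPair.relIndex U = 32 := by
      rw [← hU.2, ← Subgroup.card_mul_index (V.subgroupOf U), ← relIndex,
        Nat.card_congr (subgroupOfEquivOfLe (inf_le_left : V ≤ U)).toEquiv, inf_relIndex_left]
    have := Nat.mul_le_mul_left (Nat.card ↥V) h1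
    omega
  obtain ⟨H, hH⟩ : ∃ H : Subgroup ↥V, Nat.card ↥H = 2 ^ 4 := by
    refine Sylow.exists_subgroup_card_pow_prime 2 ?_
    obtain ⟨m, hm⟩ := (isPGroup_of_sq (P := V) fun a ha => hU.1 a ha.1).exists_card_eq
    rw [hm] at h16 ⊢
    exact Nat.pow_dvd_pow 2 ((Nat.pow_le_pow_iff_right (by norm_num)).1 h16)
  let W := H.map V.subtype
  have hW : IsSixteen W := by
    refine ⟨?_, by rw [← Nat.card_congr (H.equivMapOfInjective _ V.subtype_injective).toEquiv, hH]; norm_num⟩
    rintro _ ⟨a, -, rfl⟩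
    exact hU.1 _ a.2.1
  have hWU : W ≤ U := by rintro _ ⟨a, -, rfl⟩; exact a.2.1
  have hWI : W ≤ innerPair := by rintro _ ⟨a, -, rfl⟩; exact a.2.2
  have hcomm : ∀ x ∈ U, ∀ y ∈ U, x * y = y * x := fun x hx y hy => by
    calc x * y = x * y * (y * x * (y * x)) := by rw [hU.1 _ (U.mul_mem hy hx), mul_one]
      _ = x * (y * y) * x * (y * x) := by simp only [mul_assoc]
      _ = y * x := by rw [hU.1 y hy, mul_one, hU.1 x hx, one_mul]
  have key : ∀ (L : List ℕ) (hL : groupList L = true), W = listSub L hL → ∀ u ∈ U, ∀ a ∈ L,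
      packMulS 24 (code u) a = packMulS 24 a (code u) := by
    intro L hL e u hu a ha
    obtain ⟨σ, rfl⟩ := exists_code hL ha
    exact code_comm (hcomm u hu σ (hWU (e ▸ ha)))
  rcases sixteen_in_syl hW hWI (hWU.trans hS) with h | h
  · exfalso
    have hle : U ≤ U0 := fun u hu =>
      (centralising _ (mem_S0.1 (hS hu)) (code_sq (hU.1 u hu))).1 (key _ hexList_ok h u hu)
    have := Subgroup.card_le_of_le hle
    rw [hU.2, isSixteen_U0.2] at this
    omega
  · exact eq_listSub elemList_ok small_nodup.2.2.1 (fun u hu =>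
      (centralising _ (mem_S0.1 (hS hu)) (code_sq (hU.1 u hu))).2 (key _ innerElem_ok h u hu))
      (by rw [hU.2, small_nodup.2.2.2.2.2])

theorem exists_conj_A0 {A : Subgroup ↥pairGrp} (hA : IsThirtyTwo A) : ∃ k, A = cj k A0 := by
  obtain ⟨g, hg⟩ := exists_conj_le (isPGroup_of_sq hA.1)
  exact ⟨g⁻¹, cj_inv_eq (thirtyTwo_in_syl ⟨cj_sq hA.1, (card_cj g A).trans hA.2⟩ hg)⟩

theorem conj32 {A A' : Subgroup ↥pairGrp} (hA : IsThirtyTwo A) (hA' : IsThirtyTwo A') :
    ∃ k, A' = cj k A := by
  obtain ⟨k, hk⟩ := exists_conj_A0 hA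
  obtain ⟨k', hk'⟩ := exists_conj_A0 hA'
  exact ⟨k' * k⁻¹, by rw [hk, cj_cj, inv_mul_cancel_right, hk']⟩

theorem innerElem_le : listSub Data.innerElem innerElem_ok ≤ A0 := fun _ h => small_facts.2.2 _ h

theorem classify {U : Subgroup ↥pairGrp} (hI : U ≤ innerPair) (hU : IsSixteen U) :
    (∃ A : Subgroup ↥pairGrp, IsThirtyTwo A ∧ U ≤ A) ∨ ∃ k, U = cj k U0 := by
  obtain ⟨g, hg⟩ := exists_conj_le (isPGroup_of_sq hU.1)
  rcases sixteen_in_syl (isSixteen_cj hU) (cj_le_inner hI) hg with h | h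
  · exact Or.inr ⟨g⁻¹, cj_inv_eq h⟩
  · refine Or.inl ⟨cj g⁻¹ A0, ⟨cj_sq isThirtyTwo_A0.1, (card_cj _ _).trans isThirtyTwo_A0.2⟩, ?_⟩
    rw [cj_inv_eq h]
    exact Subgroup.map_mono innerElem_le

/-- Common fixed points of the two groups. -/
theorem fixed_facts : (∀ i ∈ [0, 1, 2, 3, 5, 14, 17, 23], ∀ l ∈ Data.hexList, app l i = i) ∧
    ∀ i < 24, (∀ l ∈ Data.innerElem, app l i = i) → i ∈ [0, 1, 2, 23] := by
  decide +kernel

theorem not_conj_inner (g : ↥pairGrp) : cj g U0 ≠ listSub Data.innerElem innerElem_ok := by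
  intro h
  have key : ∀ p : Fin 8, (ptEnc ((g : Equiv.Perm GolayPt)
      (idx ptEnc ([0, 1, 2, 3, 5, 14, 17, 23].getD p.val 0)))).val ∈ [0, 1, 2, 23] := by
    intro p
    set i := [0, 1, 2, 3, 5, 14, 17, 23].getD p.val 0 with hi
    have hmem : i ∈ [0, 1, 2, 3, 5, 14, 17, 23] := by
      rw [hi]; revert p; decide
    have hi24 : i < 24 := by revert hmem; generalize i = i; intro h; fin_cases h <;> norm_num
    refine fixed_facts.2 _ (Fin.is_lt _) fun l hl => ?_
    obtain ⟨σ, rfl⟩ := exists_code innerElem_ok hl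
    have hσ : g⁻¹ * σ * g ∈ U0 := cj_mem.1 (h ▸ hl)
    have hf : ((g⁻¹ * σ * g : ↥pairGrp) : Equiv.Perm GolayPt) (idx ptEnc i) = idx ptEnc i :=
      (apply_idx_eq_iff (rep_canon _) hi24 hi24).2 (fixed_facts.1 i hmem _ hσ)
    simp only [coe_mul, coe_inv, Equiv.Perm.mul_apply, Equiv.Perm.inv_def,
      Equiv.symm_apply_eq] at hf
    have := rep_canon (σ : Equiv.Perm GolayPt) ((g : Equiv.Perm GolayPt) (idx ptEnc i))
    rw [hf] at this
    exact this.symm
  let f : Fin 8 → ([0, 1, 2, 23] : List ℕ).toFinset := fun p => ⟨_, List.mem_toFinset.2 (key p)⟩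
  have hf : Function.Injective f := by
    intro p q e
    have h1 : ptEnc.symm.symm ((g : Equiv.Perm GolayPt) _) = ptEnc ((g : Equiv.Perm GolayPt) _) :=
      Fin.ext (congrArg Subtype.val e)
    have h2 := (g : Equiv.Perm GolayPt).injective (ptEnc.injective h1)
    have h3 := congrArg (fun a => (ptEnc a).val) h2
    clear h1 h2 e
    revert p q
    decide
  have := Fintype.card_le_of_injective f hf
  simp at this

theorem weak (k : ↥pairGrp) (h : IsPGroup 2 ↥(U0 ⊔ cj k U0)) : cj k U0 = U0 := by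
  obtain ⟨g, hg⟩ := exists_conj_le h
  have h1 : cj g U0 = U0 :=
    (sixteen_in_syl (isSixteen_cj isSixteen_U0) (cj_le_inner U0_le)
      ((Subgroup.map_mono le_sup_left).trans hg)).resolve_right (not_conj_inner g)
  have h2 : cj (g * k) U0 = U0 :=
    (sixteen_in_syl (isSixteen_cj isSixteen_U0) (cj_le_inner U0_le)
      (by rw [← cj_cj]; exact (Subgroup.map_mono le_sup_right).trans hg)).resolve_right
      (not_conj_inner _)
  have h3 := cj_inv_eq h1
  rw [← cj_cj] at h2
  rw [cj_inv_eq h2, ← h3]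

/-! ### The orbit on the hexad kernel and the six pairs -/

/-- The movers normalise the hexad kernel, are inner and reach all its involutions. -/
def moversOK : Bool :=
  (Data.hexMovers.all fun p => invPair p && app p.1 23 == 23 &&
      (Data.hexList.all fun a => Data.hexList.contains (cjN p a) &&
        Data.hexList.contains (cjN (p.2, p.1) a))) &&
    Data.hexList.all fun b => b == packId 24 || Data.hexMovers.any fun p => cjN p Data.hexBase == b

theorem moversOK_true : moversOK = true := by decide +kernel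

theorem trans : ∀ a ∈ U0, a ≠ 1 → ∀ b ∈ U0, b ≠ 1 →
    ∃ n ∈ innerPair, (∀ u ∈ U0, n * u * n⁻¹ ∈ U0) ∧ n * a * n⁻¹ = b := by
  have hb0 : Data.hexBase ∈ Data.hexList := by decide +kernel
  obtain ⟨u0, hu0⟩ := exists_code hexList_ok hb0
  have h := moversOK_true
  simp only [moversOK, Bool.and_eq_true, List.all_eq_true, List.any_eq_true, Bool.or_eq_true,
    beq_iff_eq, List.contains_iff_mem] at h
  obtain ⟨hall, hreach⟩ := h
  have reach : ∀ b ∈ U0, b ≠ 1 → ∃ n ∈ innerPair, (∀ u ∈ U0, n * u * n⁻¹ ∈ U0) ∧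
      (∀ u ∈ U0, n⁻¹ * u * n ∈ U0) ∧ n * u0 * n⁻¹ = b := by
    intro b hb h1
    obtain ⟨p, hp, e⟩ := (hreach _ hb).resolve_left fun e => h1 (code_injective (e.trans code_one.symm))
    obtain ⟨⟨hinv, hfix⟩, hn⟩ := hall p hp
    obtain ⟨n, hn1, hn2⟩ := exists_of_invPair hinv
    refine ⟨n, fix23_iff.2 (hn1 ▸ hfix), fun u hu => ?_, fun u hu => ?_, code_injective ?_⟩
    · show code _ ∈ Data.hexList
      rw [code_conj hn1 hn2]; exact (hn _ hu).1
    · show code _ ∈ Data.hexList
      have := code_conj (σ := n⁻¹) (p := (p.2, p.1)) hn2 (by rw [inv_inv]; exact hn1) u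
      rw [inv_inv] at this
      rw [this]; exact (hn _ hu).2
    · rw [code_conj hn1 hn2, hu0]; exact e
  intro a ha ha1 b hb hb1
  obtain ⟨n, hnI, hn, hn', hna⟩ := reach a ha ha1
  obtain ⟨m, hmI, hm, -, hmb⟩ := reach b hb hb1
  refine ⟨m * n⁻¹, innerPair.mul_mem hmI (innerPair.inv_mem hnI), fun u hu => ?_, ?_⟩
  · have := hm _ (hn' u hu)
    simpa [mul_assoc] using this
  · rw [← hna, ← hmb]; simp [mul_assoc]

/-- The normaliser test of a pair for the group of order 32. -/
def normA (p : ℕ × ℕ) : Bool := Data.elemList.all fun a => Data.elemList.contains (cjN p a)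

/-- The product of two pairs. -/
def mulP (p q : ℕ × ℕ) : ℕ × ℕ := (packMulS 24 p.1 q.1, packMulS 24 q.2 p.2)

/-- The six pairs form a star. -/
def starOK : Bool :=
  Data.starMovers.length == 6 && Data.starMovers.all invPair &&
  (Data.starMovers.all fun p => (Data.hexList.any fun u =>
      !(u == packId 24) && Data.elemList.contains (cjN (p.2, p.1) u)) &&
    Data.hexList.all fun u => normA (cjN (p.2, p.1) u, cjN (p.2, p.1) u)) &&
  (List.range 6).all fun i => (List.range 6).all fun j =>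
    let p := Data.starMovers.getD i (0, 0)
    let q := Data.starMovers.getD j (0, 0)
    (i == j || !normA (mulP (p.2, p.1) q)) &&
      Data.elemList.any fun a => !(a == packId 24) && app (cjN p a) 23 == 23 &&
        normA (cjN (q.2, q.1) (cjN p a), cjN (q.2, q.1) (cjN p a))

theorem starOK_true : starOK = true := by decide +kernel

theorem normA_iff {σ : ↥pairGrp} {p : ℕ × ℕ} (h1 : code σ = p.1) (h2 : code σ⁻¹ = p.2) :
    normA p = true ↔ σ ∈ normalizer (A0 : Set ↥pairGrp) := by
  simp only [normA, List.all_eq_true, List.contains_iff_mem]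
  constructor
  · intro h
    refine mem_normalizer_iff_map_conj_eq.2 (Subgroup.eq_of_le_of_card_ge ?_ (le_of_eq (card_cj σ A0).symm))
    rintro _ ⟨a, ha, rfl⟩
    show code (σ * a * σ⁻¹) ∈ Data.elemList
    rw [code_conj h1 h2]; exact h _ ha
  · intro h a ha
    obtain ⟨x, rfl⟩ := exists_code elemList_ok ha
    rw [← code_conj h1 h2]
    exact (mem_normalizer_iff.1 h x).1 ha

theorem mem_normalizer_cj {g x : ↥pairGrp} {A : Subgroup ↥pairGrp} :
    x ∈ normalizer (cj g A : Set ↥pairGrp) ↔ g⁻¹ * x * g ∈ normalizer (A : Set ↥pairGrp) := by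
  rw [cj, ← Subgroup.map_equiv_normalizer_eq]
  exact cj_mem

theorem star : ∃ f : Fin 6 → ↥pairGrp, IsStarFamily innerPair A0 U0 f := by
  have h := starOK_true
  simp only [starOK, Bool.and_eq_true, List.all_eq_true, List.any_eq_true, Bool.or_eq_true,
    beq_iff_eq, Bool.not_eq_true', beq_eq_false_iff_ne, List.mem_range, List.contains_iff_mem] at h
  obtain ⟨⟨⟨hlen, hinv⟩, hone⟩, htwo⟩ := h
  have hget : ∀ i : Fin 6, Data.starMovers.getD i.val (0, 0) ∈ Data.starMovers := fun i => by
    rw [List.getD_eq_getElem _ _ (by rw [hlen]; exact i.2)]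
    exact List.getElem_mem _
  choose f hf1 hf2 using fun i : Fin 6 => exists_of_invPair (hinv _ (hget i))
  have hcj : ∀ (i : Fin 6) (x : ↥pairGrp), code ((f i)⁻¹ * x * f i) =
      cjN ((Data.starMovers.getD i.val (0, 0)).2, (Data.starMovers.getD i.val (0, 0)).1) (code x) := by
    intro i x
    have := code_conj (σ := (f i)⁻¹)
      (p := ((Data.starMovers.getD i.val (0, 0)).2, (Data.starMovers.getD i.val (0, 0)).1)) (hf2 i)
      (by rw [inv_inv]; exact hf1 i) x
    rwa [inv_inv] at this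
  refine ⟨f, fun i => ?_, fun i u hu => ?_, fun i j hij => ?_, fun i j => ?_⟩
  · obtain ⟨⟨l, hl, h1, h2⟩, -⟩ := hone _ (hget i)
    obtain ⟨u, rfl⟩ := exists_code hexList_ok hl
    exact ⟨u, hl, fun e => h1 (by rw [e, code_one]),
      cj_mem.2 (show code _ ∈ _ by rw [hcj]; exact h2)⟩
  · rw [mem_normalizer_cj, ← normA_iff (σ := (f i)⁻¹ * u * f i)
      (p := (code ((f i)⁻¹ * u * f i), code ((f i)⁻¹ * u * f i))) rfl ?_]
    · rw [hcj]; exact (hone _ (hget i)).2 _ hu
    · congr 1
      have hu2 : u⁻¹ = u := inv_eq_of_mul_eq_one_right (isSixteen_U0.1 u hu)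
      simp [hu2, mul_assoc]
  · have h2 := (htwo i.val i.2 j.val j.2).1.resolve_left (fun e => hij (Fin.ext e))
    rw [← normA_iff (σ := (f i)⁻¹ * f j) (p := mulP ((Data.starMovers.getD i.val (0, 0)).2,
      (Data.starMovers.getD i.val (0, 0)).1) (Data.starMovers.getD j.val (0, 0)))
      (by rw [code_mul, hf2, hf1, mulP]) (by rw [mul_inv_rev, inv_inv, code_mul, hf2, hf1, mulP])]
    exact Bool.eq_false_iff.1 h2
  · obtain ⟨l, hl, ⟨h1, h2⟩, h3⟩ := (htwo i.val i.2 j.val j.2).2
    obtain ⟨a, rfl⟩ := exists_code elemList_ok hl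
    have hc := code_conj (hf1 i) (hf2 i) a
    refine ⟨f i * a * (f i)⁻¹, ⟨a, hl, rfl⟩, fun e => ?_, fix23_iff.2 (hc ▸ h2), ?_⟩
    · refine h1 ?_
      have : a = 1 := by
        have := congrArg (fun z => (f i)⁻¹ * z * f i) e
        simpa [mul_assoc] using this
      rw [this, code_one]
    · rw [mem_normalizer_cj, ← normA_iff (σ := (f j)⁻¹ * (f i * a * (f i)⁻¹) * f j)
        (p := (code ((f j)⁻¹ * (f i * a * (f i)⁻¹) * f j),
          code ((f j)⁻¹ * (f i * a * (f i)⁻¹) * f j))) rfl ?_]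
      · rw [hcj, hc]; exact h3
      · congr 1
        have ha2 : a⁻¹ = a := inv_eq_of_mul_eq_one_right (isThirtyTwo_A0.1 a hl)
        simp [ha2, mul_assoc]

theorem points {A : Subgroup ↥pairGrp} (hA : IsThirtyTwo A) :
    ∃ f : Fin 6 → ↥pairGrp, IsStarFamily innerPair A U0 f := by
  obtain ⟨k, rfl⟩ := exists_conj_A0 hA
  obtain ⟨f, h1, h2, h3, h4⟩ := star
  have e : ∀ i, cj (f i * k⁻¹) (cj k A0) = cj (f i) A0 := fun i => by
    rw [cj_cj, inv_mul_cancel_right]
  refine ⟨fun i => f i * k⁻¹, fun i => ?_, fun i => ?_, fun i j hij => ?_, fun i j => ?_⟩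
  · rw [e]; exact h1 i
  · rw [e]; exact h2 i
  · rw [mem_normalizer_cj]
    simpa [mul_assoc] using h3 i j hij
  · rw [e, e]; exact h4 i j

theorem hexFacts_pair : HexFacts innerPair U0 where
  sixteen := isSixteen_U0
  le := U0_le
  trans := trans
  points _ hA := points hA
  conj32 _ _ := conj32
  classify _ := classify
  weak := weak

/-! ### Transport -/

theorem map_cj {K L : Type*} [Group K] [Group L] (φ : K ≃* L) (k : K) (A : Subgroup K) :
    (cj k A).map φ.toMonoidHom = cj (φ k) (A.map φ.toMonoidHom) := by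
  rw [cj, cj, Subgroup.map_map, Subgroup.map_map]
  congr 1
  ext x
  simp

theorem mem_map_apply {K L : Type*} [Group K] [Group L] (φ : K ≃* L) {x : K} {A : Subgroup K} :
    φ x ∈ A.map φ.toMonoidHom ↔ x ∈ A :=
  ⟨fun ⟨y, hy, e⟩ => φ.injective e ▸ hy, fun h => ⟨x, h, rfl⟩⟩

theorem mem_normalizer_map {K L : Type*} [Group K] [Group L] (φ : K ≃* L) {x : K} {A : Subgroup K} :
    φ x ∈ normalizer (A.map φ.toMonoidHom : Set L) ↔ x ∈ normalizer (A : Set K) := by
  rw [← Subgroup.map_equiv_normalizer_eq]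
  exact mem_map_apply φ

theorem transport {K L : Type*} [Group K] [Group L] (φ : K ≃* L) {I U : Subgroup K} (h : HexFacts I U) :
    HexFacts (I.map φ.toMonoidHom) (U.map φ.toMonoidHom) := by
  have hcard : ∀ A : Subgroup K, Nat.card ↥(A.map φ.toMonoidHom) = Nat.card ↥A := fun A =>
    (Nat.card_congr (A.equivMapOfInjective _ φ.injective).toEquiv).symm
  have hsq : ∀ A : Subgroup K, (∀ a ∈ A, a * a = 1) → ∀ a ∈ A.map φ.toMonoidHom, a * a = 1 := by
    rintro A hA _ ⟨a, ha, rfl⟩
    rw [← map_mul, hA a ha, map_one]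
  have hback : ∀ B : Subgroup L, ∃ A : Subgroup K, A.map φ.toMonoidHom = B := fun B =>
    ⟨B.comap φ.toMonoidHom, Subgroup.map_comap_eq_self_of_surjective φ.surjective B⟩
  have h32 : ∀ A : Subgroup K, IsThirtyTwo (A.map φ.toMonoidHom) → IsThirtyTwo A := fun A hA =>
    ⟨fun a ha => φ.injective (by rw [map_mul, map_one]; exact hA.1 _ ⟨a, ha, rfl⟩),
      (hcard A).symm.trans hA.2⟩
  refine ⟨⟨hsq U h.sixteen.1, (hcard U).trans h.sixteen.2⟩, Subgroup.map_mono h.le, ?_, ?_, ?_, ?_, ?_⟩
  · rintro _ ⟨a, ha, rfl⟩ ha1 _ ⟨b, hb, rfl⟩ hb1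
    obtain ⟨n, hn, hnu, e⟩ := h.trans a ha (fun e => ha1 (by rw [e, map_one])) b hb
      (fun e => hb1 (by rw [e, map_one]))
    refine ⟨φ n, ⟨n, hn, rfl⟩, ?_, by simp [← e]⟩
    rintro _ ⟨u, hu, rfl⟩
    exact ⟨_, hnu u hu, by simp⟩
  · intro A hA
    obtain ⟨A, rfl⟩ := hback A
    obtain ⟨f, h1, h2, h3, h4⟩ := h.points A (h32 A hA)
    refine ⟨fun i => φ (f i), fun i => ?_, fun i => ?_, fun i j hij => ?_, fun i j => ?_⟩
    · obtain ⟨a, ha, ha1, haA⟩ := h1 i
      refine ⟨φ a, ⟨a, ha, rfl⟩, fun e => ha1 (φ.injective (by rw [e, map_one])), ?_⟩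
      rw [← map_cj]; exact ⟨a, haA, rfl⟩
    · rintro _ ⟨u, hu, rfl⟩
      rw [← map_cj]
      exact (mem_normalizer_map φ).2 (h2 i hu)
    · rw [← map_inv, ← map_mul, mem_normalizer_map]
      exact h3 i j hij
    · obtain ⟨a, ha, ha1, haI, haN⟩ := h4 i j
      refine ⟨φ a, by rw [← map_cj]; exact ⟨a, ha, rfl⟩,
        fun e => ha1 (φ.injective (by rw [e, map_one])), ⟨a, haI, rfl⟩, ?_⟩
      rw [← map_cj]
      exact (mem_normalizer_map φ).2 haN
  · intro A A' hA hA'
    obtain ⟨A, rfl⟩ := hback A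
    obtain ⟨A', rfl⟩ := hback A'
    obtain ⟨k, hk⟩ := h.conj32 A A' (h32 A hA) (h32 A' hA')
    exact ⟨φ k, by rw [hk, map_cj]⟩
  · intro V hV hV16
    obtain ⟨V, rfl⟩ := hback V
    have hVI : V ≤ I := fun v hv => (mem_map_apply φ).1 (hV ⟨v, hv, rfl⟩)
    have hVS : IsSixteen V := ⟨fun a ha => φ.injective (by
      rw [map_mul, map_one]; exact hV16.1 _ ⟨a, ha, rfl⟩), (hcard V).symm.trans hV16.2⟩
    rcases h.classify V hVI hVS with ⟨A, hA, hle⟩ | ⟨k, hk⟩
    · exact Or.inl ⟨A.map φ.toMonoidHom, ⟨hsq A hA.1, (hcard A).trans hA.2⟩, Subgroup.map_mono hle⟩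
    · exact Or.inr ⟨φ k, by rw [hk, map_cj]⟩
  · intro k hk
    obtain ⟨k, rfl⟩ := φ.surjective k
    rw [← map_cj, ← Subgroup.map_sup] at hk
    rw [← map_cj, h.weak k (IsPGroup.of_equiv hk (Subgroup.equivMapOfInjective _ _ φ.injective).symm)]

end Hex

/-- The facts on the subgroups of order 16 of `M₂₂`. -/
theorem exists_hexFacts : ∃ U₀ : Subgroup AutM22, HexFacts innerM22 U₀ :=
  ⟨_, map_innerPair ▸ Hex.transport pairEquiv Hex.hexFacts_pair⟩

end Cfsg.Agent.JankoFour
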