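import Cfsg.Agent.Lib.JankoFour.FusionE
import Cfsg.Agent.Lib.JankoFour.HexFactsProof

/-!
# Janko-four type: fusion of `z` in `E`, with the conjugacy of the elementary 32-subgroups discharged
-/

set_option autoImplicit false

namespace Cfsg.Agent.JankoFour

open Subgroup

/-- The elementary subgroups of order 32 are conjugate. -/
theorem thirtyTwoConj : ThirtyTwoConj AutM22 := by
  obtain ⟨U₀, HF⟩ := exists_hexFacts
  intro U V hU hV
  obtain ⟨k, rfl⟩ := HF.conj32 U V hU hV
  exact ⟨k, fun a ha => ⟨a, ha, rfl⟩⟩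

/-- Two conjugates of `z` in `E` other than `z` are conjugate in `H`. -/
theorem isConj_in_centralizer' {G : Type*} [Group G] {z : G} {P : Subgroup G} [Finite G] (S : Setting z P)
    (F : AutFacts innerM22) (hb : FixBound z) {a b : G} (ha : a ∈ coreE z) (hb' : b ∈ coreE z) (haz : a ≠ z)
    (hbz : b ≠ z) (hca : IsConj z a) (hcb : IsConj z b) :
    ∃ h ∈ centralizer ({z} : Set G), h * a * h⁻¹ = b :=
  isConj_in_centralizer S F hb thirtyTwoConj ha hb' haz hbz hca hcb

end Cfsg.Agent.JankoFour
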