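import Cfsg.Agent.Lib.JankoFour.HexInterface
import Cfsg.Agent.Lib.JankoFour.Pair
import Cfsg.Agent.Lib.JankoFour.Bound

/-!
# Janko-four type: fixed points modulo `z` of elementary abelian 2-subgroups of `H`

* `eqz_of_same`: two inner elements with the same image and square in `E` fix the same points of
  `E` modulo `z`.
* `commute_pt`: conjugates `s`, `s'` of `z` in `E` commute if an inner element of one image
  normalises the other.
* `img_facts`: an elementary abelian subgroup of `H` of order at least `2^11` has inner image of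
  order 16 and meets `E` in `2^7`.
* `exists_sylow_le`: a Sylow 2-subgroup of `G` lies in `H`.
-/

set_option autoImplicit false
set_option linter.unusedSectionVars false

namespace Cfsg.Agent.JankoFour

open Subgroup
open scoped commutatorElement
open LargeExtraspecial (Hub Pair mem_conj_iff)

variable {G : Type*} [Group G] {z : G} {P : Subgroup G}

namespace Ctx

variable [Finite G] (Γ : Ctx z P)

include Γ

/-- `{e ∈ E | v e v⁻¹ ≡ e}`. -/
def fixZ (v : G) : Subgroup G := fixMod (coreE z) (zpowers z) Γ.S.zpowers_le_center v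

theorem mem_fixZ {v e : G} : e ∈ Γ.fixZ v ↔ e ∈ coreE z ∧ Eqz z (v * e * v⁻¹) e := by
  refine ⟨fun h => ⟨h.1, ?_⟩, fun h => ⟨h.1, ?_⟩⟩
  · rcases Γ.S.z_cases h.2 with e1 | e1
    · exact Or.inl (mul_inv_eq_one.1 e1)
    · exact Or.inr (mul_inv_eq_iff_eq_mul.1 e1)
  · rcases h.2 with e1 | e1
    · rw [e1, mul_inv_cancel]; exact one_mem _
    · rw [e1, mul_inv_cancel_right]; exact mem_zpowers z

theorem z_mem_core : z ∈ coreE z := Γ.S.hub.mem

theorem eqz_z {v : G} (hv : v ∈ centralizer ({z} : Set G)) : Eqz z (v * z * v⁻¹) z :=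
  Or.inl (by rw [(mem_H.1 hv).eq, mul_inv_cancel_right])

theorem eqz_trans {a b c : G} : Eqz z a b → Eqz z b c → Eqz z a c := Eqz.trans Γ.S.hub.sq

theorem eqz_symm {a b : G} : Eqz z a b → Eqz z b a := Eqz.symm Γ.S.hub.sq

/-- Two inner elements with the same image, one of square in `E`, fix the same points modulo `z`. -/
theorem eqz_of_same {h c e : G} (hh : h ∈ centralizer ({z} : Set G)) (hc : c ∈ centralizer ({z} : Set G))
    (hi : Γ.ph h ∈ innerM22) (h2 : h * h ∈ coreE z) (heq : Γ.ph h = Γ.ph c) (he : e ∈ coreE z)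
    (hfix : Eqz z (c * e * c⁻¹) e) : Eqz z (h * e * h⁻¹) e := by
  have hk : h * c⁻¹ ∈ centralizer ({z} : Set G) := mul_mem hh (inv_mem hc)
  have h1 : Γ.ph (h * c⁻¹) = 1 := by
    rw [Γ.ph_mul hh (inv_mem hc), Γ.ph_inv hc, heq, mul_inv_cancel]
  obtain ⟨e0, he0, q, hq, hq0⟩ := Γ.exists_ep hk h1
  have hqe : q * e * q⁻¹ ∈ coreE z := Γ.conj_core (Γ.S.P_le hq) he
  -- `h e h⁻¹ ≡ q e q⁻¹`
  have e1 : Eqz z (h * e * h⁻¹) (q * e * q⁻¹) := by
    have hkz : Commute (h * c⁻¹) z := mem_H.1 hk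
    have := Γ.eqz_trans (hfix.conj hkz) (show Eqz z (h * c⁻¹ * e * (h * c⁻¹)⁻¹) (q * e * q⁻¹) by
      rw [hq0, show e0 * q * e * (e0 * q)⁻¹ = e0 * (q * e * q⁻¹) * e0⁻¹ by group]
      exact Γ.eqz_core he0 hqe)
    rwa [show h * c⁻¹ * (c * e * c⁻¹) * (h * c⁻¹)⁻¹ = h * e * h⁻¹ by group] at this
  have hhe : h * e * h⁻¹ ∈ coreE z := Γ.conj_core hh he
  -- `e ≡ q² e q⁻²`
  have e2 : Eqz z e (q * q * e * (q * q)⁻¹) := by
    have a1 := e1.conj (mem_H.1 hh)
    have a2 := Γ.inner_conj hh hi hq he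
    have a3 := e1.conj (Γ.P_comm hq)
    have a0 : Eqz z e (h * (h * e * h⁻¹) * h⁻¹) := by
      rw [show h * (h * e * h⁻¹) * h⁻¹ = h * h * e * (h * h)⁻¹ by group]
      exact Γ.eqz_symm (Γ.eqz_core h2 he)
    have := Γ.eqz_trans a0 (Γ.eqz_trans a1 (Γ.eqz_trans a2 a3))
    rwa [show q * (q * e * q⁻¹) * q⁻¹ = q * q * e * (q * q)⁻¹ by group] at this
  by_cases hq1 : q = 1
  · simpa [hq1] using e1
  · have hqq : q * q ≠ 1 := fun h => hq1 (by
      have := Γ.p_cube hq
      rwa [h, mul_one] at this)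
    rcases Γ.eq_one_or_z_of_fixed (mul_mem hq hq) hqq he (Γ.eqz_symm e2) with rfl | rfl
    · exact Or.inl (by group)
    · exact Γ.eqz_z hh

theorem eqz_P_conj {v q e : G} (hv : v ∈ centralizer ({z} : Set G)) (hi : Γ.ph v ∈ innerM22) (hq : q ∈ P)
    (he : e ∈ coreE z) (hfix : Eqz z (v * e * v⁻¹) e) : Eqz z (v * (q * e * q⁻¹) * v⁻¹) (q * e * q⁻¹) :=
  Γ.eqz_trans (Γ.inner_conj hv hi hq he) (hfix.conj (Γ.P_comm hq))

theorem imgA_conj {g : G} (hg : Pt z g) {h : G} (hh : h ∈ centralizer ({z} : Set G)) :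
    Pt z (h * g) ∧ Γ.imgA (h * g) = cj (Γ.ph h) (Γ.imgA g) := by
  have e1 : h * g * z * (h * g)⁻¹ = h * (g * z * g⁻¹) * h⁻¹ := by group
  have hpt : Pt z (h * g) := by
    refine ⟨e1 ▸ Γ.conj_core hh hg.mem, e1 ▸ fun e => hg.ne ?_⟩
    calc g * z * g⁻¹ = h⁻¹ * (h * (g * z * g⁻¹) * h⁻¹) * h := by group
      _ = h⁻¹ * z * h := by rw [e]
      _ = z := by rw [(mem_H.1 (inv_mem hh)).eq, inv_mul_cancel_right]
  refine ⟨hpt, eq_of_le_of_card_ge ?_ ?_⟩
  · rintro _ ⟨m, rfl⟩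
    have hm1 : h⁻¹ * m * h ∈ conjE z g := by
      rw [mem_conj_iff]
      have := mem_conj_iff.1 m.2.1
      rwa [show g⁻¹ * (h⁻¹ * m * h) * g = (h * g)⁻¹ * m * (h * g) by group]
    have hm : h⁻¹ * m * h ∈ conjE z g ⊓ centralizer ({z} : Set G) :=
      ⟨hm1, Subgroup.mul_mem _ (Subgroup.mul_mem _ (Subgroup.inv_mem _ hh) m.2.2) hh⟩
    refine ⟨Γ.ph (h⁻¹ * m * h), Γ.ph_mem_imgA hg hm, ?_⟩
    rw [Γ.homD_apply]
    show Γ.ph h * Γ.ph (h⁻¹ * m * h) * (Γ.ph h)⁻¹ = _
    rw [← Γ.ph_conj hh hm.2]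
    congr 1; group
  · rw [card_map_of_injective (MulAut.conj (Γ.ph h)).injective, (Γ.card_facts hpt).2.2.2,
      (Γ.card_facts hg).2.2.2]

theorem thirtyTwo_imgA {g : G} (hg : Pt z g) : IsThirtyTwo (Γ.imgA g) :=
  ⟨Γ.imgA_sq hg, (Γ.card_facts hg).2.2.2⟩

theorem exists_imgA_lift {g : G} (hg : Pt z g) {a : AutM22} (ha : a ∈ Γ.imgA g) :
    ∃ m ∈ conjE z g ⊓ centralizer ({z} : Set G), Γ.ph m = a ∧ m * m ∈ coreE z := by
  obtain ⟨⟨m, hm⟩, rfl⟩ := ha
  exact ⟨m, hm, (Γ.homD_apply (g := g) ⟨m, hm⟩).symm, Γ.sq_mem_core hg hm.1⟩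

/-- The conjugate `s = g z g⁻¹` is fixed modulo `z` by inner elements over `N(imgA g)` of square in `E`. -/
theorem eqz_pt {g : G} (hg : Pt z g) {v : G} (hv : v ∈ centralizer ({z} : Set G))
    (hi : Γ.ph v ∈ innerM22) (h2 : v * v ∈ coreE z)
    (hn : Γ.ph v ∈ normalizer (Γ.imgA g : Set AutM22)) :
    Eqz z (v * (g * z * g⁻¹) * v⁻¹) (g * z * g⁻¹) := by
  obtain ⟨c, hc, hcs, hca⟩ := Γ.exists_lift_normalizer hg hn
  exact Γ.eqz_of_same hv hc hi h2 hca.symm hg.mem (Or.inl (by rw [hcs.eq, mul_inv_cancel_right]))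

/-- An element of `E` fixed modulo `z` by an inner member of a nontrivial image commutes with `s`. -/
theorem commute_of_img {g : G} (hg : Pt z g) {a : AutM22} (ha : a ∈ Γ.imgA g) (ha1 : a ≠ 1)
    (hai : a ∈ innerM22) {e v : G} (he : e ∈ coreE z) (hv : v ∈ centralizer ({z} : Set G))
    (hva : Γ.ph v = a) (hfix : Eqz z (v * e * v⁻¹) e) : Commute e (g * z * g⁻¹) := by
  obtain ⟨m, hm, hma, hm2⟩ := Γ.exists_imgA_lift hg ha
  have hmE : m ∉ coreE z := fun h => ha1 (by rw [← hma, Γ.ph_core h])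
  exact Γ.orth hg hm hmE he (Γ.eqz_of_same hm.2 hv (hma ▸ hai) hm2 (hma.trans hva.symm) he hfix)

theorem commute_pt {g g' : G} (hg : Pt z g) (hg' : Pt z g') {a : AutM22} (ha : a ∈ Γ.imgA g) (ha1 : a ≠ 1)
    (hai : a ∈ innerM22) (han : a ∈ normalizer (Γ.imgA g' : Set AutM22)) {q : G} (hq : q ∈ P) :
    Commute (q * (g' * z * g'⁻¹) * q⁻¹) (g * z * g⁻¹) := by
  obtain ⟨m, hm, hma, hm2⟩ := Γ.exists_imgA_lift hg ha
  refine Γ.commute_of_img hg ha ha1 hai (Γ.conj_core (Γ.S.P_le hq) hg'.mem) hm.2 hma ?_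
  exact Γ.eqz_P_conj hm.2 (hma ▸ hai) hq hg'.mem (Γ.eqz_pt hg' hm.2 (hma ▸ hai) hm2 (hma ▸ han))

/-- A commutative subgroup of order `2^7` of a conjugate of `E` is self-centralising there. -/
theorem mem_of_commute_seven {a : G} {W : Subgroup G} (hW : W ≤ conjE z a)
    (hc : ∀ x ∈ W, ∀ y ∈ W, x * y = y * x) (h7 : 2 ^ 7 ≤ Nat.card ↥W) {k : G} (hk : k ∈ conjE z a)
    (hkW : ∀ x ∈ W, k * x = x * k) : k ∈ W := by
  have hab : IsMulCommutative ↥(closure ((W : Set G) ∪ {k})) := by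
    refine isMulCommutative_closure fun x hx y hy => ?_
    rcases hx with hx | hx <;> rcases hy with hy | hy
    · exact hc x hx y hy
    · obtain rfl : y = k := hy; exact (hkW x hx).symm
    · obtain rfl : x = k := hx; exact hkW y hy
    · rw [Set.mem_singleton_iff] at hx hy; rw [hx, hy]
  have hle : closure ((W : Set G) ∪ {k}) ≤ conjE z a :=
    (closure_le _).2 (Set.union_subset hW (Set.singleton_subset_iff.2 hk))
  have h := Γ.abelian_card_le hle fun x hx y hy =>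
    congrArg Subtype.val (hab.1.1 ⟨x, hx⟩ ⟨y, hy⟩)
  have heq : W = closure ((W : Set G) ∪ {k}) :=
    eq_of_le_of_card_ge (fun x hx => subset_closure (Or.inl hx)) (h.trans h7)
  rw [heq]; exact subset_closure (Or.inr rfl)

omit Γ in
/-- The image in `Aut M₂₂` of a subgroup of `H`. -/
noncomputable def img (S : Setting z P) (V : Subgroup G) : Subgroup AutM22 :=
  (V.subgroupOf (centralizer ({z} : Set G))).map S.pi

theorem ph_mem_img {V : Subgroup G} (hV : V ≤ centralizer ({z} : Set G)) {v : G} (hv : v ∈ V) :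
    Γ.ph v ∈ img Γ.S V :=
  ⟨⟨v, hV hv⟩, hv, (Γ.ph_eq (hV hv)).symm⟩

theorem exists_img {V : Subgroup G} {a : AutM22} (ha : a ∈ img Γ.S V) :
    ∃ v ∈ V, v ∈ centralizer ({z} : Set G) ∧ Γ.ph v = a := by
  obtain ⟨v, hv, rfl⟩ := ha
  exact ⟨v, hv, v.2, Γ.ph_eq v.2⟩

/-- `|V| = |img V| |V ∩ E|` for a subgroup `V` of `H` whose squares lie in `E`. -/
theorem card_img {V : Subgroup G} (hV : V ≤ centralizer ({z} : Set G)) (hsq : ∀ v ∈ V, v * v ∈ coreE z) :
    Nat.card ↥(img Γ.S V) * Nat.card ↥(V ⊓ coreE z) = Nat.card ↥V := by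
  have h := (Γ.S.pi.comp (inclusion hV)).ker.card_mul_index
  have hk : (Γ.S.pi.comp (inclusion hV)).ker = (V ⊓ coreE z).subgroupOf V := by
    ext v
    rw [MonoidHom.mem_ker, mem_subgroupOf, Subgroup.mem_inf]
    refine ⟨fun h1 => ⟨v.2, Γ.mem_core_of_sq (hV v.2) ?_ (hsq v v.2)⟩, fun h1 => ?_⟩
    · rw [Γ.ph_eq (hV v.2)]; exact h1
    · exact Γ.S.pi_E h1.2
  have hr : (Γ.S.pi.comp (inclusion hV)).range = img Γ.S V := by
    ext a
    constructor
    · rintro ⟨v, rfl⟩; exact ⟨inclusion hV v, v.2, rfl⟩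
    · rintro ⟨v, hv, rfl⟩; exact ⟨⟨v.1, hv⟩, rfl⟩
  rw [index_ker, hr, hk, Nat.card_congr (subgroupOfEquivOfLe inf_le_left).toEquiv, mul_comm] at h
  exact h

/-- An elementary abelian subgroup of order at least `2^11` of `H`. -/
theorem img_facts {V : Subgroup G} (hV : V ≤ centralizer ({z} : Set G)) (hel : ∀ v ∈ V, v * v = 1)
    (h11 : 2 ^ 11 ≤ Nat.card ↥V) :
    img Γ.S V ≤ innerM22 ∧ IsSixteen (img Γ.S V) ∧ Nat.card ↥(V ⊓ coreE z) = 2 ^ 7 ∧
      Nat.card ↥V = 2 ^ 11 := by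
  have hVE : ∀ v ∈ V, v * v ∈ coreE z := fun v hv => by rw [hel v hv]; exact one_mem _
  have hcomm : ∀ x ∈ V, ∀ y ∈ V, x * y = y * x := by
    intro x hx y hy
    have hxy := hel _ (mul_mem hx hy)
    calc x * y = x * (x * y * (x * y)) * y := by rw [hxy, mul_one]
      _ = (x * x) * (y * x) * (y * y) := by group
      _ = y * x := by rw [hel x hx, hel y hy, one_mul, mul_one]
  have hcard := Γ.card_img hV hVE
  have hsq : ∀ a ∈ img Γ.S V, a * a = 1 := by
    intro a ha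
    obtain ⟨v, hv, hvH, rfl⟩ := Γ.exists_img ha
    rw [← Γ.ph_mul hvH hvH, hel v hv, Γ.ph_one]
  have h32 := Γ.F.elem_card _ hsq
  have hW7 : Nat.card ↥(V ⊓ coreE z) ≤ 2 ^ 7 := by
    refine Γ.abelian_card_le (a := 1) ?_ fun x hx y hy => hcomm x hx.1 y hy.1
    rw [Γ.eq_conjE_one]; exact inf_le_right
  have h16 : 16 ≤ Nat.card ↥(img Γ.S V) := by
    by_contra h
    have := Nat.mul_le_mul (show Nat.card ↥(img Γ.S V) ≤ 15 by omega) hW7
    omega
  have hinner : img Γ.S V ≤ innerM22 := by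
    by_contra hout
    obtain ⟨b, hb, hbi⟩ := Set.not_subset.1 hout
    obtain ⟨u, huV, huH, hub⟩ := Γ.exists_img hb
    -- an inner element outside `E`
    obtain ⟨a, ha, hai, ha1⟩ : ∃ a ∈ img Γ.S V, a ∈ innerM22 ∧ a ≠ 1 := by
      by_contra hno
      push Not at hno
      have hsub : ∀ a ∈ img Γ.S V, a = 1 ∨ a = b := by
        intro a ha
        by_cases hai : a ∈ innerM22
        · exact Or.inl (hno a ha hai)
        · right
          have := hno _ (mul_mem ha hb)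
            ((mul_mem_iff_of_index_two Γ.F.index_two).2 (iff_of_false hai hbi))
          calc a = a * (b * b) := by rw [hsq b hb, mul_one]
            _ = a * b * b := by group
            _ = b := by rw [this, one_mul]
      classical
      have hle : Nat.card ↥(img Γ.S V) ≤ 2 := by
        refine (Nat.card_le_card_of_injective (fun a : ↥(img Γ.S V) => decide ((a : AutM22) = 1)) ?_).trans
          (by simp)
        intro a c hac
        have := decide_eq_decide.1 hac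
        rcases hsub a a.2 with ha | ha <;> rcases hsub c c.2 with hc | hc
        · exact Subtype.ext (ha.trans hc.symm)
        · exact Subtype.ext (ha.trans (this.1 ha).symm)
        · exact Subtype.ext ((this.2 hc).trans hc.symm)
        · exact Subtype.ext (ha.trans hc.symm)
      omega
    obtain ⟨v, hvV, hvH, hva⟩ := Γ.exists_img ha
    have hvE : v ∉ coreE z := fun h => ha1 (by rw [← hva, Γ.ph_core h])
    -- `W` and a translate are fixed by `v` modulo `z`
    obtain ⟨p, hp, hp1⟩ := Γ.exists_generator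
    set W := V ⊓ coreE z with hW
    set W' := W.map (MulAut.conj p).toMonoidHom with hW'
    have hfix : W ⊔ W' ≤ Γ.fixZ v := by
      refine sup_le (fun e he => Γ.mem_fixZ.2 ⟨he.2, Or.inl ?_⟩) ?_
      · rw [hcomm v hvV e he.1, mul_inv_cancel_right]
      · rintro _ ⟨e, he, rfl⟩
        exact Γ.mem_fixZ.2 ⟨Γ.conj_core (Γ.S.P_le hp) he.2, Γ.eqz_P_conj hvH (hva ▸ hai) hp he.2
          (Or.inl (by rw [hcomm v hvV e he.1, mul_inv_cancel_right]))⟩
    have hmeet : W ⊓ W' ≤ zpowers z := by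
      rintro x ⟨hx, e, he, rfl⟩
      have hx1 : p * e * p⁻¹ ∈ W := hx
      have h1 := Γ.outer_conj huH (hub ▸ hbi) hp he.2
      rw [show u * (p * e * p⁻¹) * u⁻¹ = p * e * p⁻¹ by
        rw [hcomm u huV _ hx1.1]; group, show u * e * u⁻¹ = e by
        rw [hcomm u huV e he.1]; group] at h1
      have h2 : Eqz z (p * p * e * (p * p)⁻¹) e := by
        have := h1.conj (Γ.P_comm hp)
        rwa [show p * (p * e * p⁻¹) * p⁻¹ = p * p * e * (p * p)⁻¹ by group,
          show p * (p⁻¹ * e * p) * p⁻¹ = e by group] at this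
      have hpp : p * p ≠ 1 := fun h => hp1 (by
        have := Γ.p_cube hp
        rwa [h, mul_one] at this)
      show p * e * p⁻¹ ∈ zpowers z
      rcases Γ.eq_one_or_z_of_fixed (mul_mem hp hp) hpp he.2 h2 with rfl | rfl
      · rw [mul_one, mul_inv_cancel]; exact one_mem _
      · rw [(Γ.P_comm hp).eq, mul_inv_cancel_right]; exact mem_zpowers _
    have hbig : 2 ^ 10 ≤ Nat.card ↥(W ⊔ W') := by
      have h6 : 2 ^ 6 ≤ Nat.card ↥W := by
        by_contra h
        have := Nat.mul_le_mul h32 (show Nat.card ↥W ≤ 63 by omega)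
        omega
      have h2 : Nat.card ↥(W ⊓ W') ≤ 2 := (Subgroup.card_le_of_le hmeet).trans_eq Γ.S.card_zpowers_eq
      have hrel := relIndex_le_of_le_right (H := W') (le_sup_left : W ≤ W ⊔ W') (by
        simp [relIndex, index_ne_zero_of_finite])
      have e1 := relIndex_mul_card (H := W ⊓ W') (K := W) inf_le_left
      rw [inf_relIndex_left] at e1
      have e2 := relIndex_mul_card (H := W') (K := W ⊔ W') le_sup_right
      have hc' : Nat.card ↥W' = Nat.card ↥W := card_map_of_injective (MulAut.conj p).injective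
      rw [hc'] at e2
      rw [← e2]
      calc 2 ^ 10 ≤ 2 ^ 5 * Nat.card ↥W := by omega
        _ ≤ W'.relIndex (W ⊔ W') * Nat.card ↥W := by
          refine Nat.mul_le_mul_right _ ?_
          refine le_trans ?_ hrel
          by_contra h
          have := Nat.mul_le_mul (show W'.relIndex W ≤ 31 by omega) h2
          omega
    refine hvE (Γ.hb v hvH (hVE v hvV) (W ⊔ W') (hfix.trans (fixMod_le _ _)) ?_ (by omega))
    intro d hd
    have h := (hfix hd).2
    rw [← inv_mem_iff, commutatorElement_inv, commutatorElement_def]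
    exact h
  have h16' : Nat.card ↥(img Γ.S V) = 16 := by
    obtain ⟨n, hn⟩ := (IsPGroup.iff_card (p := 2)).1 (fun a : ↥(img Γ.S V) =>
      ⟨1, Subtype.ext (by simpa [pow_two] using hsq a a.2)⟩)
    have hn32 : Nat.card ↥(img Γ.S V) ≠ 32 := fun h => Γ.F.elem_not_le _ ⟨hsq, h⟩ hinner
    rw [hn] at h16 h32 hn32 ⊢
    have h1 : 4 ≤ n := (Nat.pow_le_pow_iff_right (by norm_num)).1 (h16.trans' (by norm_num))
    have h2 : n ≤ 5 := (Nat.pow_le_pow_iff_right (by norm_num)).1 (h32.trans (by norm_num))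
    interval_cases n <;> simp_all
  rw [h16'] at hcard
  exact ⟨hinner, ⟨hsq, h16'⟩, by omega, by omega⟩

/-- A 2-subgroup of `H` Sylow in `H` is Sylow in `G`: some Sylow 2-subgroup lies in `H`. -/
theorem exists_sylow_le : ∃ T : Sylow 2 G, (T : Subgroup G) ≤ centralizer ({z} : Set G) := by
  have : Fact (Nat.Prime 2) := ⟨Nat.prime_two⟩
  set H := centralizer ({z} : Set G) with hH
  obtain ⟨T₁⟩ := (inferInstance : Nonempty (Sylow 2 ↥H))
  set T := (T₁ : Subgroup ↥H).map H.subtype with hT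
  have hTH : T ≤ H := map_subtype_le _
  have hT2 : IsPGroup 2 ↥T := T₁.isPGroup'.map _
  have hEn : ((coreE z).subgroupOf H).Normal :=
    ⟨fun a ha b => mem_subgroupOf.2 (Γ.conj_core b.2 (mem_subgroupOf.1 ha))⟩
  have hET : coreE z ≤ T := by
    have hE2 : IsPGroup 2 ↥((coreE z).subgroupOf H) :=
      (Γ.core_two).comap_subtype (H := coreE z)
    intro e he
    have := hE2.le_sylow_of_normal T₁ (mem_subgroupOf.2 he : (⟨e, coreE_le_H he⟩ : ↥H) ∈ _)
    exact ⟨_, this, rfl⟩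
  have hNH : normalizer (T : Set G) ≤ H := by
    intro x hx
    have hzT : z ∈ T := hET Γ.z_mem_core
    have hmem : x * z * x⁻¹ ∈ T := (mem_normalizer_iff.1 hx z).1 hzT
    have hcen : ∀ t ∈ T, Commute (x * z * x⁻¹) t := by
      intro t ht
      have ht' : x⁻¹ * t * x ∈ T := by
        have := (mem_normalizer_iff.1 (inv_mem hx) t).1 ht
        rwa [inv_inv] at this
      have hc : Commute (x⁻¹ * t * x) z := mem_H.1 (hTH ht')
      have := hc.symm.map (MulAut.conj x).toMonoidHom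
      simpa [mul_assoc] using this
    rcases Γ.S.hub.self _ (fun e he => hcen e (hET he)) with h | h
    · exact absurd (conj_eq_one_iff.1 h) Γ.S.hub.ne_one
    · exact mem_H.2 (mul_inv_eq_iff_eq_mul.1 h)
  obtain ⟨Q, hQ⟩ := hT2.exists_le_sylow
  refine ⟨Q, ?_⟩
  have := Q.isPGroup'.isNilpotent
  by_contra hne
  have hlt : T.subgroupOf (Q : Subgroup G) < ⊤ := lt_top_iff_ne_top.2 fun e => hne
    ((subgroupOf_eq_top.1 e).trans hTH)
  obtain ⟨y, hy, hyT⟩ := SetLike.exists_of_lt (Group.normalizerCondition_of_isNilpotent _ hlt)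
  set M := (Q : Subgroup G) ⊓ normalizer (T : Set G) with hM
  have hyM : (y : G) ∈ M := by
    refine ⟨y.2, mem_normalizer_iff.2 fun t => ⟨fun ht => ?_, fun ht => ?_⟩⟩
    · exact (mem_normalizer_iff.1 hy ⟨t, hQ ht⟩).1 ht
    · have htQ : (y : G) * t * (y : G)⁻¹ ∈ (Q : Subgroup G) := hQ ht
      have htQ' : t ∈ (Q : Subgroup G) := by
        have := mul_mem (mul_mem (inv_mem y.2) htQ) y.2
        rwa [show (y : G)⁻¹ * ((y : G) * t * (y : G)⁻¹) * y = t by group] at this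
      exact (mem_normalizer_iff.1 hy ⟨t, htQ'⟩).2 ht
  have hM2 : IsPGroup 2 ↥(M.subgroupOf H) :=
    (Q.isPGroup'.to_le (inf_le_left (b := normalizer (T : Set G)))).comap_subtype
  have hle : (T₁ : Subgroup ↥H) ≤ M.subgroupOf H := fun t ht =>
    ⟨hQ ⟨t, ht, rfl⟩, le_normalizer ⟨t, ht, rfl⟩⟩
  have heq := T₁.is_maximal' hM2 hle
  exact hyT (show (y : G) ∈ T from
    ⟨⟨y, hNH hyM.2⟩, heq ▸ (show (⟨y, hNH hyM.2⟩ : ↥H) ∈ M.subgroupOf H from hyM), rfl⟩)

end Ctx

end Cfsg.Agent.JankoFour
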