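import Cfsg.Agent.Lib.JankoFour.HexStar

/-!
# Janko-four type: lifts to involutions of the sixteen `U₀` (S5566)

* `exists_sqz_lift`: an involution of the inner part lifts to `x ∈ X` with `x² ∈ ⟨z⟩`, unique up to `z`.
* `lift_invol`: over `U₀` these lifts are involutions commuting pairwise.
* `exists_elementary`: an elementary abelian subgroup of order `2^11` of `H` with image `U₀`.
-/

set_option autoImplicit false
set_option linter.unusedSectionVars false

namespace Cfsg.Agent.JankoFour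

open Subgroup
open scoped commutatorElement
open LargeExtraspecial (Hub Pair mem_conj_iff)

variable {G : Type*} [Group G] {z : G} {P : Subgroup G}

namespace Ctx

variable [Finite G] (Γ : Ctx z P)

include Γ

/-- `x ∈ X` lifts `a` and has square in `⟨z⟩`. -/
structure Lifts (a : AutM22) (x : G) : Prop where
  mem : x ∈ cX z P
  img : Γ.ph x = a
  sq : x * x ∈ zpowers z

theorem exists_zp {v : G} (hv : v ∈ cX z P) (h1 : Γ.ph v = 1) : ∃ w ∈ zpowers z, ∃ r ∈ P, v = w * r := by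
  rw [Γ.ph_eq hv.1, Γ.S.pi_eq_one] at h1
  exact Γ.S.mem_zpowers_mul_of_mem_sup h1 hv.2

theorem z_comm_X {x : G} (hx : x ∈ cX z P) : Commute x z := mem_H.1 hx.1

theorem P_comm_X {x r : G} (hx : x ∈ cX z P) (hr : r ∈ P) : Commute x r :=
  (mem_centralizer_iff.1 hx.2 r hr).symm

theorem zw_comm {x w : G} (hx : x ∈ cX z P) (hw : w ∈ zpowers z) : Commute x w := by
  rcases Γ.S.z_cases hw with rfl | rfl
  exacts [Commute.one_right x, Γ.z_comm_X hx]

theorem w_sq {w : G} (hw : w ∈ zpowers z) : w * w = 1 := by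
  rcases Γ.S.z_cases hw with rfl | rfl
  exacts [one_mul 1, Γ.S.hub.sq]

theorem z_not_P : z ∉ P := fun h => Γ.S.hub.ne_one (Γ.eq_one_of_mem_core h Γ.z_mem_core)

/-- An element `r` of `P` with `r² ∈ ⟨z⟩` is trivial. -/
theorem P_eq_one {r : G} (hr : r ∈ P) (h : r * r ∈ zpowers z) : r = 1 := by
  have h' : r * r = 1 := (Γ.S.z_cases h).resolve_right fun e => Γ.z_not_P (e ▸ mul_mem hr hr)
  simpa [h'] using Γ.p_cube hr

theorem exists_sqz_lift {a : AutM22} (ha : a ∈ innerM22) (h2 : a * a = 1) : ∃ x, Γ.Lifts a x := by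
  obtain ⟨y, hy, hyb⟩ := Γ.S.exists_lift ha
  have hya : Γ.ph y = a := (Γ.ph_eq hy.1).trans hyb
  obtain ⟨w, hw, r, hr, hyy⟩ := Γ.exists_zp (mul_mem hy hy)
    (by rw [Γ.ph_mul hy.1 hy.1, hya, h2])
  refine ⟨y * r, mul_mem hy (Γ.S.P_le_X hr),
    by rw [Γ.ph_mul hy.1 (Γ.S.P_le hr), hya, Γ.ph_P hr, mul_one], ?_⟩
  rw [show y * r * (y * r) = y * (r * y) * r by group, ← (Γ.P_comm_X hy hr).eq,
    show y * (y * r) * r = y * y * (r * r) by group, hyy, mul_assoc, Γ.p_cube hr, mul_one]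
  exact hw

theorem Lifts.unique {a : AutM22} {x x' : G} (hx : Γ.Lifts a x) (hx' : Γ.Lifts a x') :
    (x' = x ∨ x' = z * x) ∧ x' * x' = x * x := by
  have hm : x⁻¹ * x' ∈ cX z P := mul_mem (inv_mem hx.mem) hx'.mem
  obtain ⟨w, hw, r, hr, he⟩ := Γ.exists_zp hm (by
    rw [Γ.ph_mul (inv_mem hx.mem.1) hx'.mem.1, Γ.ph_inv hx.mem.1, hx.img, hx'.img, inv_mul_cancel])
  have hx'e : x' = x * (w * r) := by rw [← he]; group
  have hwr : Commute w r := (Γ.zw_comm (Γ.S.P_le_X hr) hw).symm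
  have hsq : x' * x' = x * x * (r * r) := by
    have hc : Commute (w * r) x := ((Γ.zw_comm hx.mem hw).mul_right (Γ.P_comm_X hx.mem hr)).symm
    rw [hx'e, show x * (w * r) * (x * (w * r)) = x * ((w * r) * x) * (w * r) by group, hc.eq,
      show x * (x * (w * r)) * (w * r) = x * x * (w * (r * w) * r) by group, ← hwr.eq,
      show x * x * (w * (w * r) * r) = x * x * ((w * w) * (r * r)) by group, Γ.w_sq hw, one_mul]
  have hr1 : r = 1 := Γ.P_eq_one hr (by
    have := mul_mem (inv_mem hx.sq) (hsq ▸ hx'.sq)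
    rwa [inv_mul_cancel_left] at this)
  subst hr1
  refine ⟨?_, by rw [hsq, mul_one, mul_one]⟩
  rw [hx'e, mul_one]
  rcases Γ.S.z_cases hw with rfl | rfl
  · exact Or.inl (mul_one x)
  · exact Or.inr (Γ.z_comm_X hx.mem).eq

/-- The commutator of two lifts of commuting involutions is in `⟨z⟩`, so the product is a lift. -/
theorem Lifts.mul {a b : AutM22} {x y : G} (hx : Γ.Lifts a x) (hy : Γ.Lifts b y) (hab : a * b = b * a) :
    ∃ k ∈ zpowers z, y * x = x * y * k ∧ x * y * (x * y) = x * x * (y * y) * k ∧ Γ.Lifts (a * b) (x * y) := by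
  have hxy : x * y ∈ cX z P := mul_mem hx.mem hy.mem
  obtain ⟨w, hw, r, hr, he⟩ := Γ.exists_zp (mul_mem (inv_mem hxy) (mul_mem hy.mem hx.mem)) (by
    rw [Γ.ph_mul (inv_mem hxy.1) (mul_mem hy.mem.1 hx.mem.1), Γ.ph_inv hxy.1, Γ.ph_mul hx.mem.1 hy.mem.1,
      Γ.ph_mul hy.mem.1 hx.mem.1, hx.img, hy.img, hab, inv_mul_cancel])
  have hyx : y * x = x * y * (w * r) := by rw [← he]; group
  have hkx : Commute x (w * r) := (Γ.zw_comm hx.mem hw).mul_right (Γ.P_comm_X hx.mem hr)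
  have hky : Commute y (w * r) := (Γ.zw_comm hy.mem hw).mul_right (Γ.P_comm_X hy.mem hr)
  have hxxy : Commute y (x * x) := Γ.zw_comm hy.mem hx.sq
  have hk2 : w * r * (w * r) = 1 := by
    have h1 : y * x * x = x * x * y * ((w * r) * (w * r)) := by
      rw [hyx, show x * y * (w * r) * x = x * y * ((w * r) * x) by group, ← hkx.eq,
        show x * y * (x * (w * r)) = x * (y * x) * (w * r) by group, hyx]
      group
    rw [mul_assoc y x x, hxxy.eq] at h1
    exact (mul_eq_left.1 h1.symm)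
  have hr1 : r = 1 := by
    refine Γ.P_eq_one hr ?_
    rw [show w * r * (w * r) = w * (r * w) * r by group, (Γ.zw_comm (Γ.S.P_le_X hr) hw).eq,
      show w * (w * r) * r = w * w * (r * r) by group, Γ.w_sq hw, one_mul] at hk2
    rw [hk2]; exact one_mem _
  subst hr1
  rw [mul_one] at hyx hky
  have hsq : x * y * (x * y) = x * x * (y * y) * w := by
    rw [show x * y * (x * y) = x * (y * x) * y by group, hyx,
      show x * (x * y * w) * y = x * x * y * (w * y) by group, ← hky.eq]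
    group
  refine ⟨w, hw, hyx, hsq, ⟨hxy, by rw [Γ.ph_mul hx.mem.1 hy.mem.1, hx.img, hy.img], ?_⟩⟩
  rw [hsq]; exact mul_mem (mul_mem hx.sq hy.sq) hw

variable {U₀ : Subgroup AutM22} (HF : HexFacts innerM22 U₀)

include HF

theorem comm16 {a b : AutM22} (ha : a ∈ U₀) (hb : b ∈ U₀) : a * b = b * a := by
  have h := HF.sixteen.1
  calc a * b = a * (a * b * (a * b)) * b := by rw [h _ (mul_mem ha hb), mul_one]
    _ = (a * a) * (b * a) * (b * b) := by group
    _ = b * a := by rw [h a ha, h b hb, one_mul, mul_one]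

theorem lift_sq_const {a b : AutM22} (ha : a ∈ U₀) (ha1 : a ≠ 1) (hb : b ∈ U₀) (hb1 : b ≠ 1) {x y : G}
    (hx : Γ.Lifts a x) (hy : Γ.Lifts b y) : x * x = y * y := by
  obtain ⟨n, hn, -, hnab⟩ := HF.trans a ha ha1 b hb hb1
  obtain ⟨c, hc, hcn⟩ := Γ.S.exists_lift hn
  have hcp : Γ.ph c = n := (Γ.ph_eq hc.1).trans hcn
  have e : c * x * c⁻¹ * (c * x * c⁻¹) = x * x := by
    rw [show c * x * c⁻¹ * (c * x * c⁻¹) = c * (x * x) * c⁻¹ by group, (Γ.zw_comm hc hx.sq).eq,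
      mul_inv_cancel_right]
  have hl : Γ.Lifts b (c * x * c⁻¹) :=
    ⟨mul_mem (mul_mem hc hx.mem) (inv_mem hc), by rw [Γ.ph_conj hc.1 hx.mem.1, hcp, hx.img, hnab],
      e.symm ▸ hx.sq⟩
  rw [← e]; exact (hy.unique Γ hl).2

/-- The lifts over `U₀` are involutions. -/
theorem lift_invol {a : AutM22} (ha : a ∈ U₀) (ha1 : a ≠ 1) {x : G} (hx : Γ.Lifts a x) : x * x = 1 := by
  by_contra hne
  have hz : x * x = z := (Γ.S.z_cases hx.sq).resolve_left hne
  have hall : ∀ {b : AutM22} {y : G}, b ∈ U₀ → b ≠ 1 → Γ.Lifts b y → y * y = z := fun hb hb1 hy =>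
    (Γ.lift_sq_const HF hb hb1 ha ha1 hy hx).trans hz
  have anti : ∀ {b c : AutM22} {y w : G}, b ∈ U₀ → b ≠ 1 → c ∈ U₀ → c ≠ 1 → b ≠ c → Γ.Lifts b y →
      Γ.Lifts c w → w * y = y * w * z := by
    intro b c y w hb hb1 hc hc1 hbc hy hw
    obtain ⟨k, -, h1, h2, h3⟩ := hy.mul Γ hw (Γ.comm16 HF hb hc)
    have hbc1 : b * c ≠ 1 := fun e => hbc (by
      calc b = b * (c * c) := by rw [HF.sixteen.1 c hc, mul_one]
        _ = b * c * c := by group
        _ = c := by rw [e, one_mul])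
    rw [hall (mul_mem hb hc) hbc1 h3, hall hb hb1 hy, hall hc hc1 hw, Γ.S.hub.sq, one_mul] at h2
    rw [h1, ← h2]
  classical
  obtain ⟨b, hb, hb1, hba⟩ : ∃ b ∈ U₀, b ≠ 1 ∧ b ≠ a := by
    by_contra hno
    push Not at hno
    have := Set.ncard_le_ncard (show (U₀ : Set AutM22) ⊆ {1, a} from fun u hu => by
      by_cases h : u = 1
      · simp [h]
      · simp [hno u hu h]) (Set.toFinite _)
    rw [← Nat.card_coe_set_eq, SetLike.coe_sort_coe, HF.sixteen.2] at this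
    have := this.trans (Set.ncard_insert_le 1 {a})
    simp at this
  obtain ⟨c, hc, hc1, hca, hcb, hcab⟩ : ∃ c ∈ U₀, c ≠ 1 ∧ c ≠ a ∧ c ≠ b ∧ c ≠ a * b := by
    by_contra hno
    push Not at hno
    have := Set.ncard_le_ncard (show (U₀ : Set AutM22) ⊆ {1, a, b, a * b} from fun u hu => by
      by_cases h : u = 1
      · simp [h]
      · by_cases h' : u = a
        · simp [h']
        · by_cases h'' : u = b
          · simp [h'']
          · simp [hno u hu h h' h'']) (Set.toFinite _)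
    rw [← Nat.card_coe_set_eq, SetLike.coe_sort_coe, HF.sixteen.2] at this
    have h4 : Set.ncard ({1, a, b, a * b} : Set AutM22) ≤ 4 := by
      have i1 := Set.ncard_insert_le (1 : AutM22) {a, b, a * b}
      have i2 := Set.ncard_insert_le a ({b, a * b} : Set AutM22)
      have i3 := Set.ncard_insert_le b ({a * b} : Set AutM22)
      rw [Set.ncard_singleton] at i3
      omega
    omega
  obtain ⟨y, hy⟩ := Γ.exists_sqz_lift (HF.le hb) (HF.sixteen.1 b hb)
  obtain ⟨w, hw⟩ := Γ.exists_sqz_lift (HF.le hc) (HF.sixteen.1 c hc)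
  obtain ⟨k, -, -, -, hyw⟩ := hy.mul Γ hw (Γ.comm16 HF hb hc)
  have hbc1 : b * c ≠ 1 := fun e => hcb (by
    calc c = (b * b) * c := by rw [HF.sixteen.1 b hb, one_mul]
      _ = b * (b * c) := by group
      _ = b := by rw [e, mul_one])
  have hbca : a ≠ b * c := fun e => hcab (by
    rw [e, Γ.comm16 HF (mul_mem hb hc) hb, ← mul_assoc, HF.sixteen.1 b hb, one_mul])
  have e1 := anti ha ha1 hb hb1 (Ne.symm hba) hx hy
  have e2 := anti ha ha1 hc hc1 (Ne.symm hca) hx hw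
  have e3 := anti ha ha1 (mul_mem hb hc) hbc1 hbca hx hyw
  have hzw : Commute z w := (Γ.z_comm_X hw.mem).symm
  have e4 : y * w * x = x * (y * w) := by
    calc y * w * x = y * (w * x) := by group
      _ = (y * x) * w * z := by rw [e2]; group
      _ = x * y * (z * w) * z := by rw [e1]; group
      _ = x * (y * w) * (z * z) := by rw [hzw.eq]; group
      _ = x * (y * w) := by rw [Γ.S.hub.sq, mul_one]
  rw [e4] at e3
  exact Γ.S.hub.ne_one (mul_eq_left.1 e3.symm)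

theorem lift_commute {a b : AutM22} (ha : a ∈ U₀) (hb : b ∈ U₀) {x y : G} (hx : Γ.Lifts a x)
    (hy : Γ.Lifts b y) : x * y = y * x := by
  have h1 : Γ.Lifts 1 1 := ⟨one_mem _, Γ.ph_one, by rw [one_mul]; exact one_mem _⟩
  have sq : ∀ {c : AutM22} {u : G}, c ∈ U₀ → Γ.Lifts c u → u * u = 1 := by
    intro c u hc hu
    by_cases hc1 : c = 1
    · subst hc1; rw [(h1.unique Γ hu).2, one_mul]
    · exact Γ.lift_invol HF hc hc1 hu
  obtain ⟨k, -, e1, e2, h3⟩ := hx.mul Γ hy (Γ.comm16 HF ha hb)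
  rw [sq (mul_mem ha hb) h3, sq ha hx, sq hb hy, one_mul, one_mul] at e2
  rw [e1, ← e2, mul_one]

/-- Lifts centralise `W`. -/
theorem lift_cent_wSpan {gs : Fin 6 → G} (St : Γ.Star U₀ gs) {a : AutM22} (ha : a ∈ U₀) {x : G}
    (hx : Γ.Lifts a x) : x ∈ centralizer (wSpan z P gs : Set G) := by
  intro w hw
  have hfix : ∀ v ∈ wSpan z P gs, Eqz z (x * v * x⁻¹) v := fun v hv =>
    Γ.eqz_wSpan St HF.le hx.mem.1 (hx.img.symm ▸ ha) (zpowers_le.2 Γ.z_mem_core hx.sq) hv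
  rcases hfix w hw with e | e
  · exact (mul_inv_eq_iff_eq_mul.1 e).symm
  exfalso
  obtain ⟨p, hp, hp1⟩ := Γ.exists_generator
  have hxp := Γ.P_comm_X hx.mem hp
  have hwE := Γ.wSpan_le St hw
  obtain ⟨w1, hw1d⟩ : ∃ u, u = p * w * p⁻¹ := ⟨_, rfl⟩
  obtain ⟨w2, hw2d⟩ : ∃ u, u = p * w1 * p⁻¹ := ⟨_, rfl⟩
  have hw1 : w1 ∈ wSpan z P gs := hw1d ▸ wSpan_conj (fun _ h => Γ.P_comm h) hp hw
  have hw2 : w2 ∈ wSpan z P gs := hw2d ▸ wSpan_conj (fun _ h => Γ.P_comm h) hp hw1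
  have hz' : ∀ {u : G}, x * u * x⁻¹ = z * u → x * (p * u * p⁻¹) * x⁻¹ = z * (p * u * p⁻¹) := by
    intro u hu
    rw [show x * (p * u * p⁻¹) * x⁻¹ = (x * p) * u * (x * p)⁻¹ by group, hxp.eq,
      show p * x * u * (p * x)⁻¹ = p * (x * u * x⁻¹) * p⁻¹ by group, hu,
      show p * (z * u) * p⁻¹ = (p * z) * (u * p⁻¹) by group, (Γ.P_comm hp).eq]
    group
  have e1 : x * w1 * x⁻¹ = z * w1 := hw1d ▸ hz' e
  have e2 : x * w2 * x⁻¹ = z * w2 := hw2d ▸ hz' e1
  have hc := Γ.wSpan_comm St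
  have hp3 : p * w2 * p⁻¹ = w := by
    rw [hw2d, hw1d, show p * (p * (p * w * p⁻¹) * p⁻¹) * p⁻¹ = p * (p * p) * w * (p * (p * p))⁻¹ by group,
      Γ.p_cube hp]
    group
  obtain ⟨v, hvd⟩ : ∃ u, u = w * w1 * w2 := ⟨_, rfl⟩
  have hv : v ∈ coreE z := hvd ▸ Γ.wSpan_le St (mul_mem (mul_mem hw hw1) hw2)
  have hpv : p * v * p⁻¹ = v := by
    have hcm : ∀ a b c : G, p * (a * b * c) * p⁻¹ = p * a * p⁻¹ * (p * b * p⁻¹) * (p * c * p⁻¹) :=
      fun a b c => by group
    rw [hvd, hcm, hp3, ← hw1d, ← hw2d, hc _ (mul_mem hw1 hw2) _ hw, mul_assoc]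
  have hzv : x * v * x⁻¹ = v := by
    rcases Γ.eq_one_or_z_of_fixed hp hp1 hv (Or.inl hpv) with h | h <;> rw [h]
    · group
    · rw [(Γ.z_comm_X hx.mem).eq, mul_inv_cancel_right]
  rw [hvd, show x * (w * w1 * w2) * x⁻¹ = (x * w * x⁻¹) * (x * w1 * x⁻¹) * (x * w2 * x⁻¹) by group,
    e, e1, e2,
    show z * w * (z * w1) * (z * w2) = z * (w * z) * w1 * z * w2 by group,
    (Γ.S.hub.central w hwE).eq,
    show z * (z * w) * w1 * z * w2 = z * z * w * (w1 * z) * w2 by group,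
    (Γ.S.hub.central w1 (Γ.wSpan_le St hw1)).eq, Γ.S.hub.sq, one_mul,
    show w * (z * w1) * w2 = w * z * w1 * w2 by group, (Γ.S.hub.central w hwE).eq,
    show z * w * w1 * w2 = z * (w * w1 * w2) by group] at hzv
  exact Γ.S.hub.ne_one (mul_eq_right.1 hzv)

/-- An elementary abelian subgroup of order `2^11` of `H`. -/
theorem exists_elementary {gs : Fin 6 → G} (St : Γ.Star U₀ gs) : ∃ V : Subgroup G,
    V ≤ centralizer ({z} : Set G) ∧ (∀ v ∈ V, v * v = 1) ∧ Nat.card ↥V = 2 ^ 11 := by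
  set L : Set G := (wSpan z P gs : Set G) ∪ {x | ∃ a ∈ U₀, Γ.Lifts a x} with hL
  set V := Subgroup.closure L with hV
  have hVH : V ≤ centralizer ({z} : Set G) := by
    rw [hV, closure_le]
    rintro x (hx | ⟨a, ha, hx⟩)
    exacts [coreE_le_H (Γ.wSpan_le St hx), hx.mem.1]
  have hab : IsMulCommutative ↥V := by
    refine isMulCommutative_closure fun x hx y hy => ?_
    rcases hx with hx | ⟨a, ha, hx⟩ <;> rcases hy with hy | ⟨b, hb, hy⟩
    exacts [Γ.wSpan_comm St x hx y hy, Γ.lift_cent_wSpan HF St hb hy x hx,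
      (Γ.lift_cent_wSpan HF St ha hx y hy).symm, Γ.lift_commute HF ha hb hx hy]
  have hel : ∀ v ∈ V, v * v = 1 := by
    intro v hv
    have hc : ∀ x ∈ V, ∀ y ∈ V, x * y = y * x := fun x hx y hy =>
      congrArg Subtype.val (hab.1.1 ⟨x, hx⟩ ⟨y, hy⟩)
    induction hv using Subgroup.closure_induction with
    | mem x hx =>
      rcases hx with hx | ⟨a, ha, hx⟩
      · exact Γ.wSpan_sq St hx
      · by_cases ha1 : a = 1
        · subst ha1
          rw [((⟨one_mem _, Γ.ph_one, by rw [one_mul]; exact one_mem _⟩ : Γ.Lifts 1 1).unique Γ hx).2,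
            one_mul]
        · exact Γ.lift_invol HF ha ha1 hx
    | one => exact one_mul 1
    | mul a b ha hb iha ihb =>
      calc a * b * (a * b) = a * (b * a) * b := by group
        _ = a * (a * b) * b := by rw [hc b hb a ha]
        _ = (a * a) * (b * b) := by group
        _ = 1 := by rw [iha, ihb, one_mul]
    | inv a _ iha => rw [← mul_inv_rev, iha, inv_one]
  have h11 : 2 ^ 11 ≤ Nat.card ↥V := by
    rw [← Γ.card_img hVH fun v hv => by rw [hel v hv]; exact one_mem _]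
    refine le_trans (by norm_num : 2 ^ 11 ≤ 16 * 2 ^ 7)
      (Nat.mul_le_mul (HF.sixteen.2.ge.trans (Subgroup.card_le_of_le fun a ha => ?_))
        ((Γ.card_wSpan St).ge.trans (Subgroup.card_le_of_le fun w hw =>
          Subgroup.mem_inf.2 ⟨subset_closure (Or.inl hw), Γ.wSpan_le St hw⟩)))
    obtain ⟨x, hx⟩ := Γ.exists_sqz_lift (HF.le ha) (HF.sixteen.1 a ha)
    exact hx.img ▸ Γ.ph_mem_img hVH (subset_closure (Or.inr ⟨a, ha, hx⟩))
  exact ⟨V, hVH, hel, (Γ.img_facts hVH hel h11).2.2.2⟩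

end Ctx

end Cfsg.Agent.JankoFour
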