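import Cfsg.Agent.Lib.JankoFour.PairBase
import Cfsg.Agent.Lib.LargeFischer.LocalHub
import Cfsg.Agent.Lib.LocalStructure.Basic

/-!
# Janko-four type: the group of order 8 generated by `z`, `s` and a conjugate of `s` under `P`

`Tri`: `s = g z g⁻¹` and a generator `p` of `P`.  `trB` is `⟨z, s, p s p⁻¹⟩` and `trM` is `E E^g P`.
Main facts: `three_free` (no element of order 3 in `trM ∩ C(trB)`), `three_card` (`9 ∤ |trM|`),
`exists_rot` (a conjugate `q` of `p` permuting the involutions of `⟨z, s⟩` cyclically).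
-/

set_option autoImplicit false
set_option linter.unusedSectionVars false

namespace Cfsg.Agent.JankoFour

open Subgroup
open scoped commutatorElement
open LargeExtraspecial (Hub Pair mem_conj_iff mem_four)

variable {G : Type*} [Group G] {z : G} {P : Subgroup G}

/-- Equality modulo `⟨z⟩`. -/
def Eqz (z a b : G) : Prop := a = b ∨ a = z * b

theorem Eqz.refl (a : G) : Eqz z a a := Or.inl rfl

theorem Eqz.symm (hz : z * z = 1) {a b : G} : Eqz z a b → Eqz z b a := by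
  rintro (rfl | rfl)
  · exact Or.inl rfl
  · right; rw [← mul_assoc, hz, one_mul]

theorem Eqz.trans (hz : z * z = 1) {a b c : G} : Eqz z a b → Eqz z b c → Eqz z a c := by
  rintro (rfl | rfl) (rfl | rfl)
  · exact Or.inl rfl
  · exact Or.inr rfl
  · exact Or.inr rfl
  · left; rw [← mul_assoc, hz, one_mul]

theorem Eqz.conj {h a b : G} (hc : Commute h z) : Eqz z a b → Eqz z (h * a * h⁻¹) (h * b * h⁻¹) := by
  rintro (rfl | rfl)
  · exact Or.inl rfl
  · right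
    rw [← mul_assoc h z b, hc.eq]; group

theorem Eqz.mul (hz : z * z = 1) {a a' b b' : G} (hc : Commute z a') :
    Eqz z a a' → Eqz z b b' → Eqz z (a * b) (a' * b') := by
  rintro (rfl | rfl) (rfl | rfl)
  · exact Or.inl rfl
  · right; rw [← mul_assoc, ← hc.eq, mul_assoc]
  · right; rw [mul_assoc]
  · left
    rw [show z * a' * (z * b') = z * (a' * z) * b' by group, ← hc.eq, ← mul_assoc z z, hz, one_mul]

/-- In a finite group a subgroup closure is the closure under products. -/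
theorem closure_induction_finite [Finite G] {S : Set G} {p : G → Prop} (hS : ∀ x ∈ S, p x) (h1 : p 1)
    (hm : ∀ a b, p a → p b → p (a * b)) {x : G} (hx : x ∈ closure S) : p x := by
  induction hx using Subgroup.closure_induction with
  | mem x hx => exact hS x hx
  | one => exact h1
  | mul a b _ _ ha hb => exact hm a b ha hb
  | inv a _ ha =>
    have hp : ∀ n : ℕ, p (a ^ n) := by
      intro n
      induction n with
      | zero => rw [pow_zero]; exact h1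
      | succ n ih => rw [pow_succ]; exact hm _ _ ih ha
    have e : a⁻¹ = a ^ (orderOf a - 1) := by
      refine inv_eq_of_mul_eq_one_right ?_
      rw [← pow_succ', Nat.sub_add_cancel (orderOf_pos a), pow_orderOf_eq_one]
    rw [e]; exact hp _

theorem mem_normalizer_closure [Finite G] {S : Set G} {u : G} (h : ∀ x ∈ S, u * x * u⁻¹ ∈ closure S) :
    u ∈ normalizer (closure S : Set G) := by
  have hle : (closure S).map (MulAut.conj u).toMonoidHom ≤ closure S := by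
    rw [MonoidHom.map_closure, closure_le]
    rintro _ ⟨x, hx, rfl⟩
    exact h x hx
  exact LocalStructure.mem_normalizer_of_map_conj_le hle

theorem exists_conj_zpowers [Finite G] {L : Subgroup G} (h9 : ¬ 9 ∣ Nat.card ↥L) {t t' : G} (ht : t ∈ L)
    (ht' : t' ∈ L) (h3 : orderOf t = 3) (h3' : orderOf t' = 3) :
    ∃ l ∈ L, l * t * l⁻¹ ∈ zpowers t' := by
  have : Fact (Nat.Prime 3) := ⟨Nat.prime_three⟩
  have key : ∀ (x : ↥L), orderOf x = 3 → ∃ T : Sylow 3 ↥L, (T : Subgroup ↥L) = zpowers x := by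
    intro x hx
    have hp : IsPGroup 3 ↥(zpowers x) := IsPGroup.of_card (n := 1) (by rw [Nat.card_zpowers, hx, pow_one])
    obtain ⟨T, hT⟩ := hp.exists_le_sylow
    refine ⟨T, (eq_of_le_of_card_ge hT ?_).symm⟩
    obtain ⟨k, hk⟩ := IsPGroup.iff_card.1 T.2
    have hk1 : k ≤ 1 := by
      by_contra hk'
      exact h9 (((pow_dvd_pow 3 (by omega : 2 ≤ k)).trans (hk ▸ dvd_rfl)).trans
        (card_subgroup_dvd_card (T : Subgroup ↥L)))
    rw [hk, Nat.card_zpowers, hx]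
    exact (Nat.pow_le_pow_right (by norm_num) hk1).trans (by norm_num)
  obtain ⟨T, hT⟩ := key ⟨t, ht⟩ (by rw [Subgroup.orderOf_mk]; exact h3)
  obtain ⟨T', hT'⟩ := key ⟨t', ht'⟩ (by rw [Subgroup.orderOf_mk]; exact h3')
  obtain ⟨l, hl⟩ := MulAction.exists_smul_eq ↥L T T'
  refine ⟨l, l.2, ?_⟩
  have hm : l * ⟨t, ht⟩ * l⁻¹ ∈ (T' : Subgroup ↥L) := by
    rw [← hl, Sylow.coe_subgroup_smul]
    exact ⟨⟨t, ht⟩, hT ▸ mem_zpowers _, rfl⟩
  rw [hT'] at hm
  obtain ⟨n, hn⟩ := mem_zpowers_iff.1 hm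
  exact mem_zpowers_iff.2 ⟨n, congrArg Subtype.val hn⟩

theorem cases_zpowers_three {t x : G} (ht : t ^ 3 = 1) (hx : x ∈ zpowers t) : x = 1 ∨ x = t ∨ x = t⁻¹ := by
  obtain ⟨n, rfl⟩ := mem_zpowers_iff.1 hx
  have h3 : t ^ (3 : ℤ) = 1 := by rw [show (3 : ℤ) = ((3 : ℕ) : ℤ) from rfl, zpow_natCast, ht]
  have e : t ^ n = t ^ (n % 3) := by
    conv_lhs => rw [← Int.emod_add_mul_ediv n 3, zpow_add, zpow_mul, h3, one_zpow, mul_one]
  have h1 := Int.emod_nonneg n (by norm_num : (3 : ℤ) ≠ 0)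
  have h2 := Int.emod_lt_of_pos n (by norm_num : (0 : ℤ) < 3)
  obtain hn | hn | hn : n % 3 = 0 ∨ n % 3 = 1 ∨ n % 3 = 2 := by omega
  · left; rw [e, hn, zpow_zero]
  · right; left; rw [e, hn, zpow_one]
  · right; right
    rw [e, hn, zpow_two]
    exact (inv_eq_of_mul_eq_one_right (by rw [← pow_three]; exact ht)).symm

/-- `s = g z g⁻¹` together with a generator `p` of `P`. -/
structure Tri (z : G) (P : Subgroup G) (g p : G) : Prop where
  pt : Pt z g
  mem : p ∈ P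
  ne : p ≠ 1

/-- `⟨z, s, p s p⁻¹⟩`. -/
abbrev trB (z g p : G) : Subgroup G :=
  closure ({z, g * z * g⁻¹, p * (g * z * g⁻¹) * p⁻¹} : Set G)

/-- `E E^g P`. -/
abbrev trM (z : G) (P : Subgroup G) (g : G) : Subgroup G := coreE z ⊔ conjE z g ⊔ P

theorem z_mem_trB {g p : G} : z ∈ trB z g p := subset_closure (by simp)
theorem s_mem_trB {g p : G} : g * z * g⁻¹ ∈ trB z g p := subset_closure (by simp)
theorem s'_mem_trB {g p : G} : p * (g * z * g⁻¹) * p⁻¹ ∈ trB z g p := subset_closure (by simp)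

theorem mem_cent_trB {g p c : G} : c ∈ centralizer (trB z g p : Set G) ↔
    Commute c z ∧ Commute c (g * z * g⁻¹) ∧ Commute c (p * (g * z * g⁻¹) * p⁻¹) := by
  constructor
  · intro h
    exact ⟨(h _ z_mem_trB).symm, (h _ s_mem_trB).symm, (h _ s'_mem_trB).symm⟩
  · rintro ⟨h1, h2, h3⟩ b hb
    have hle : trB z g p ≤ centralizer ({c} : Set G) := by
      rw [closure_le]
      intro x hx
      simp only [Set.mem_insert_iff, Set.mem_singleton_iff] at hx
      refine mem_centralizer_singleton_iff.2 ?_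
      rcases hx with rfl | rfl | rfl
      exacts [h1.eq.symm, h2.eq.symm, h3.eq.symm]
    exact mem_centralizer_singleton_iff.1 (hle hb)

namespace Ctx

variable [Finite G] (Γ : Ctx z P)

include Γ

theorem eqz_core {e u : G} (he : e ∈ coreE z) (hu : u ∈ coreE z) : Eqz z (e * u * e⁻¹) u :=
  Γ.comm_core he hu

theorem P_comm {p : G} (hp : p ∈ P) : Commute p z := mem_H.1 (Γ.S.P_le hp)

theorem zpowers_eq {p : G} (hp : p ∈ P) (hp1 : p ≠ 1) : zpowers p = P := by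
  have : Fact (Nat.Prime 3) := ⟨Nat.prime_three⟩
  refine eq_of_le_of_card_ge (zpowers_le.2 hp) ?_
  rw [Γ.S.card_P, Nat.card_zpowers, orderOf_eq_prime (by rw [pow_three]; exact Γ.p_cube hp) hp1]

/-- An inner element commutes with `P` modulo `E`. -/
theorem inner_conj {h : G} (hh : h ∈ centralizer ({z} : Set G)) (hi : Γ.ph h ∈ innerM22) {p u : G}
    (hp : p ∈ P) (hu : u ∈ coreE z) :
    Eqz z (h * (p * u * p⁻¹) * h⁻¹) (p * (h * u * h⁻¹) * p⁻¹) := by
  rw [Γ.ph_eq hh] at hi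
  obtain ⟨e, he, x, hx, rfl⟩ := (Γ.S.pi_mem_inner _).1 hi
  have hxp : p * x = x * p := mem_centralizer_iff.1 hx.2 p hp
  have hx' : x * u * x⁻¹ ∈ coreE z := Γ.conj_core hx.1 hu
  have e1 : e * x * (p * u * p⁻¹) * (e * x)⁻¹ = e * (p * (x * u * x⁻¹) * p⁻¹) * e⁻¹ := by
    rw [show e * x * (p * u * p⁻¹) * (e * x)⁻¹ = e * ((x * p) * u * (x * p)⁻¹) * e⁻¹ by group, ← hxp]
    group
  have e2 : p * (e * x * u * (e * x)⁻¹) * p⁻¹ = p * (e * (x * u * x⁻¹) * e⁻¹) * p⁻¹ := by group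
  rw [e1, e2]
  exact (Γ.eqz_core he (Γ.conj_core (Γ.S.P_le hp) hx')).trans Γ.S.hub.sq
    (((Γ.eqz_core he hx').conj (Γ.P_comm hp)).symm Γ.S.hub.sq)

/-- An outer element inverts `P` modulo `E`. -/
theorem outer_conj {h : G} (hh : h ∈ centralizer ({z} : Set G)) (hi : Γ.ph h ∉ innerM22) {p u : G}
    (hp : p ∈ P) (hu : u ∈ coreE z) :
    Eqz z (h * (p * u * p⁻¹) * h⁻¹) (p⁻¹ * (h * u * h⁻¹) * p) := by
  obtain ⟨e, he, y, hy, rfl⟩ := Γ.S.factor h hh
  have hyX : y ∉ cX z P := fun hX => hi (by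
    rw [Γ.ph_eq hh]; exact (Γ.S.pi_mem_inner _).2 ⟨e, he, y, hX, rfl⟩)
  have hyp : y * p = p⁻¹ * y := mul_inv_eq_iff_eq_mul.1 (Γ.S.inverts y hy hyX p hp)
  have hy' : y * u * y⁻¹ ∈ coreE z := Γ.conj_core hy.1 hu
  have e1 : e * y * (p * u * p⁻¹) * (e * y)⁻¹ = e * (p⁻¹ * (y * u * y⁻¹) * p⁻¹⁻¹) * e⁻¹ := by
    rw [show e * y * (p * u * p⁻¹) * (e * y)⁻¹ = e * ((y * p) * u * (y * p)⁻¹) * e⁻¹ by group, hyp]
    group
  have e2 : p⁻¹ * (e * y * u * (e * y)⁻¹) * p = p⁻¹ * (e * (y * u * y⁻¹) * e⁻¹) * p⁻¹⁻¹ := by group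
  rw [e1, e2]
  exact (Γ.eqz_core he (Γ.conj_core (Γ.S.P_le (inv_mem hp)) hy')).trans Γ.S.hub.sq
    (((Γ.eqz_core he hy').conj (Γ.P_comm (inv_mem hp))).symm Γ.S.hub.sq)

theorem mem_core_sq {u : G} (hu : u ∈ coreE z) (h3 : u ^ 3 = 1) : u = 1 := by
  rw [pow_three] at h3
  rcases Γ.S.hub.sq_cases u hu with e | e <;> rw [e] at h3
  · rwa [mul_one] at h3
  · exfalso
    have : u = z := by
      have := congrArg (· * z) h3
      simpa [mul_assoc, Γ.S.hub.sq] using this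
    rw [this, Γ.S.hub.sq] at e
    exact Γ.S.hub.ne_one e.symm

variable {g : G}

/-- A nontrivial element of `E` fixed modulo `z` by the inner part of `E^g ∩ H` is in `E^g`. -/
theorem mem_conjE_of_inner (hg : Pt z g) {e : G} (he : e ∈ coreE z)
    (hfix : ∀ m ∈ conjE z g ⊓ centralizer ({z} : Set G), Γ.ph m ∈ innerM22 → Eqz z (m * e * m⁻¹) e) :
    e ∈ conjE z g := by
  obtain ⟨m, hm, hmi⟩ : ∃ m ∈ conjE z g ⊓ centralizer ({z} : Set G),
      Γ.ph m ∈ innerM22 ∧ m ∉ coreE z := by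
    obtain ⟨m0, hm0, h0⟩ := Γ.exists_outer hg
    by_contra hno
    push Not at hno
    -- every inner member would be trivial, so the image has at most two elements
    have h2 : ∀ a ∈ Γ.imgA g, a = 1 ∨ a = Γ.ph m0 := by
      rintro _ ⟨m, rfl⟩
      rw [Γ.homD_apply]
      by_cases hmi : Γ.ph m ∈ innerM22
      · exact Or.inl (Γ.ph_core (hno m m.2 hmi))
      · right
        have hmm : (m : G) * m0 ∈ conjE z g ⊓ centralizer ({z} : Set G) := mul_mem m.2 hm0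
        have hi : Γ.ph ((m : G) * m0) ∈ innerM22 := by
          rw [Γ.ph_mul m.2.2 hm0.2]
          exact (mul_mem_iff_of_index_two Γ.F.index_two).2 (iff_of_false hmi h0)
        have h1 := Γ.ph_core (hno _ hmm hi)
        rw [Γ.ph_mul m.2.2 hm0.2, mul_eq_one_iff_eq_inv] at h1
        rw [h1, inv_eq_of_mul_eq_one_right (Γ.imgA_sq hg _ (Γ.ph_mem_imgA hg hm0))]
    have hle : Nat.card ↥(Γ.imgA g) ≤ 2 := by
      classical
      refine (Nat.card_le_card_of_injective (fun a : ↥(Γ.imgA g) => decide ((a : AutM22) = 1)) ?_).trans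
        (by simp)
      intro a b hab
      have := decide_eq_decide.1 hab
      rcases h2 a a.2 with ha | ha <;> rcases h2 b b.2 with hb | hb
      · exact Subtype.ext (ha.trans hb.symm)
      · exact Subtype.ext (ha.trans (this.1 ha).symm)
      · exact Subtype.ext ((this.2 hb).trans hb.symm)
      · exact Subtype.ext (ha.trans hb.symm)
    rw [(Γ.card_facts hg).2.2.2] at hle
    omega
  have hes := Γ.orth hg hm hmi.2 he (hfix m hm hmi.1)
  set D := conjE z g ⊓ centralizer ({z} : Set G) with hD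
  let K : Subgroup G := ((innerM22.comap (Γ.homD g)).map D.subtype)
  refine Γ.mem_conjE_of_fix hg he hes K (map_subtype_le _) ?_ ?_
  · rw [card_map_of_injective D.subtype_injective, ← (Γ.card_facts hg).2.1]
    have h := (innerM22.comap (Γ.homD g)).card_mul_index
    have hi : (innerM22.comap (Γ.homD g)).index ≤ 2 := by
      rw [index_comap]
      refine Nat.le_of_dvd (by norm_num) ?_
      have : innerM22.Normal := normal_of_index_eq_two Γ.F.index_two
      exact Γ.F.index_two ▸ relIndex_dvd_index_of_normal innerM22 _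
    rw [← h, mul_comm]
    exact Nat.mul_le_mul_right _ hi
  · rintro _ ⟨k, hk, rfl⟩
    refine hfix k k.2 ?_
    rw [← Γ.homD_apply]
    exact hk

variable {p : G} (ht : Tri z P g p)
include ht

theorem s'_mem_core : p * (g * z * g⁻¹) * p⁻¹ ∈ coreE z := Γ.conj_core (Γ.S.P_le ht.mem) ht.pt.mem

theorem inner_fix {h : G} (hh : h ∈ centralizer ({z} : Set G)) (hi : Γ.ph h ∈ innerM22)
    (hs : Eqz z (h * (g * z * g⁻¹) * h⁻¹) (g * z * g⁻¹)) :
    Eqz z (h * (p * (g * z * g⁻¹) * p⁻¹) * h⁻¹) (p * (g * z * g⁻¹) * p⁻¹) :=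
  (Γ.inner_conj hh hi ht.mem ht.pt.mem).trans Γ.S.hub.sq (hs.conj (Γ.P_comm ht.mem))

theorem s_ne_one : g * z * g⁻¹ ≠ 1 := (Γ.hub_pt g).ne_one

theorem s'_ne : p * (g * z * g⁻¹) * p⁻¹ ≠ 1 ∧ p * (g * z * g⁻¹) * p⁻¹ ≠ z ∧
    p * (g * z * g⁻¹) * p⁻¹ ≠ g * z * g⁻¹ ∧ p * (g * z * g⁻¹) * p⁻¹ ≠ z * (g * z * g⁻¹) := by
  refine ⟨fun e => Γ.s_ne_one ht (conj_eq_one_iff.1 e), fun e => ht.pt.ne ?_, fun e => ?_, fun e => ?_⟩
  · have hc := Γ.P_comm (inv_mem ht.mem)
    calc g * z * g⁻¹ = p⁻¹ * (p * (g * z * g⁻¹) * p⁻¹) * p := by group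
      _ = z := by rw [e, hc.eq, inv_mul_cancel_right]
  · exact (Γ.eq_one_or_z_of_fixed ht.mem ht.ne ht.pt.mem (Or.inl e)).elim (Γ.s_ne_one ht) ht.pt.ne
  · exact (Γ.eq_one_or_z_of_fixed ht.mem ht.ne ht.pt.mem (Or.inr e)).elim (Γ.s_ne_one ht) ht.pt.ne

theorem s'_mem_W : p * (g * z * g⁻¹) * p⁻¹ ∈ coreE z ⊓ conjE z g := by
  refine Subgroup.mem_inf.2 ⟨Γ.s'_mem_core ht, Γ.mem_conjE_of_inner ht.pt (Γ.s'_mem_core ht) ?_⟩
  intro m hm hmi
  exact Γ.inner_fix ht hm.2 hmi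
    (Or.inl (by rw [((Γ.hub_pt g).central m hm.1).eq, mul_inv_cancel_right]))

theorem trB_le : trB z g p ≤ coreE z ⊓ conjE z g := by
  rw [closure_le]
  intro x hx
  simp only [Set.mem_insert_iff, Set.mem_singleton_iff] at hx
  rcases hx with rfl | rfl | rfl
  exacts [⟨Γ.S.hub.mem, Γ.z_mem ht.pt⟩, ⟨ht.pt.mem, (Γ.hub_pt g).mem⟩, Γ.s'_mem_W ht]

theorem trB_le_core : trB z g p ≤ coreE z := (Γ.trB_le ht).trans inf_le_left

theorem s_sq : g * z * g⁻¹ * (g * z * g⁻¹) = 1 := (Γ.hub_pt g).sq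

theorem s'_sq : p * (g * z * g⁻¹) * p⁻¹ * (p * (g * z * g⁻¹) * p⁻¹) = 1 :=
  (Γ.pair ht.pt).E_sq (Γ.s'_mem_W ht)

theorem s_s'_comm : Commute (g * z * g⁻¹) (p * (g * z * g⁻¹) * p⁻¹) :=
  (Γ.pair ht.pt).E_commute ⟨ht.pt.mem, (Γ.hub_pt g).mem⟩ (Γ.s'_mem_W ht)

/-- `p² s p⁻² ≡ s (p s p⁻¹)`. -/
theorem s''_eqz : Eqz z (p * (p * (g * z * g⁻¹) * p⁻¹) * p⁻¹) (g * z * g⁻¹ * (p * (g * z * g⁻¹) * p⁻¹)) := by
  set s := g * z * g⁻¹ with hs
  set t := p * s * p⁻¹ with htt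
  set u := p * t * p⁻¹ with huu
  have hcs := Γ.s_s'_comm ht
  have hu3 : p * u * p⁻¹ = s := by
    rw [huu, htt, show p * (p * (p * s * p⁻¹) * p⁻¹) * p⁻¹ = (p * (p * p)) * s * (p * (p * p))⁻¹ by group,
      Γ.p_cube ht.mem]
    group
  have htu : Commute t u := by
    have := hcs.map (MulAut.conj p).toMonoidHom
    simpa [huu, htt] using this
  have hus : Commute u s := by
    have := htu.map (MulAut.conj p).toMonoidHom
    simp only [MulEquiv.coe_toMonoidHom, MulAut.conj_apply] at this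
    rwa [hu3, ← huu] at this
  have huE : u ∈ coreE z := Γ.conj_core (Γ.S.P_le ht.mem) (Γ.s'_mem_core ht)
  have hw : s * t * u ∈ coreE z := mul_mem (mul_mem ht.pt.mem (Γ.s'_mem_core ht)) huE
  have hfx : p * (s * t * u) * p⁻¹ = s * t * u := by
    rw [show p * (s * t * u) * p⁻¹ = (p * s * p⁻¹) * (p * t * p⁻¹) * (p * u * p⁻¹) by group, hu3,
      ← htt, ← huu]
    exact (hcs.mul_right hus.symm).eq.symm.trans (mul_assoc _ _ _).symm
  have hst : s * t * (s * t) = 1 := by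
    rw [mul_assoc, ← mul_assoc t s t, ← hcs.eq, mul_assoc s t t, Γ.s'_sq ht, mul_one, Γ.s_sq ht]
  rcases Γ.eq_one_or_z_of_fixed ht.mem ht.ne hw (Or.inl hfx) with e | e
  · left
    calc u = s * t * (s * t * u) := by rw [← mul_assoc (s * t), hst, one_mul]
      _ = s * t := by rw [e, mul_one]
  · right
    calc u = s * t * (s * t * u) := by rw [← mul_assoc (s * t), hst, one_mul]
      _ = z * (s * t) := by rw [e]; exact Γ.S.hub.central _ (mul_mem ht.pt.mem (Γ.s'_mem_core ht))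

/-- Every element of `trB` outside `⟨z⟩` is taken to `s` modulo `z` by `P`. -/
theorem exists_rotate {b : G} (hb : b ∈ trB z g p) (h1 : b ≠ 1) (h2 : b ≠ z) :
    ∃ r ∈ P, Eqz z (r * b * r⁻¹) (g * z * g⁻¹) := by
  have hz := Γ.S.hub.sq
  set s := g * z * g⁻¹ with hs
  set t := p * s * p⁻¹ with htt
  have key : ∃ v ∈ closure ({s, t} : Set G), Eqz z b v := by
    refine closure_induction_finite (p := fun x => ∃ v ∈ closure ({s, t} : Set G), Eqz z x v) ?_ ?_ ?_ hb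
    · intro x hx
      simp only [Set.mem_insert_iff, Set.mem_singleton_iff] at hx
      rcases hx with rfl | rfl | rfl
      · exact ⟨1, one_mem _, Or.inr (mul_one x).symm⟩
      · exact ⟨_, subset_closure (Set.mem_insert _ _), Eqz.refl _⟩
      · exact ⟨_, subset_closure (Set.mem_insert_of_mem _ rfl), Eqz.refl _⟩
    · exact ⟨1, one_mem _, Eqz.refl _⟩
    · rintro a c ⟨v, hv, hav⟩ ⟨w, hw, hcw⟩
      have hvE : v ∈ coreE z :=
        (closure_le (coreE z)).2 (Set.insert_subset_iff.2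
          ⟨ht.pt.mem, Set.singleton_subset_iff.2 (Γ.s'_mem_core ht)⟩) hv
      exact ⟨v * w, mul_mem hv hw, Eqz.mul hz (Γ.S.hub.central v hvE).symm hav hcw⟩
  obtain ⟨v, hv, hbv⟩ := key
  rcases mem_four (Γ.s_sq ht) (Γ.s'_sq ht) (Γ.s_s'_comm ht) hv with rfl | rfl | rfl | rfl
  · rcases hbv with e | e
    exacts [absurd e h1, absurd (e.trans (mul_one z)) h2]
  · exact ⟨1, one_mem _, by simpa using hbv⟩
  · refine ⟨p⁻¹, inv_mem ht.mem, ?_⟩
    have := hbv.conj (Γ.P_comm (inv_mem ht.mem))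
    rwa [show p⁻¹ * t * p⁻¹⁻¹ = s by rw [htt]; group] at this
  · refine ⟨p, ht.mem, ?_⟩
    have h3 := (hbv.trans hz ((Γ.s''_eqz ht).symm hz)).conj (Γ.P_comm ht.mem)
    rwa [show p * (p * t * p⁻¹) * p⁻¹ = s by
      rw [htt, show p * (p * (p * s * p⁻¹) * p⁻¹) * p⁻¹ = (p * (p * p)) * s * (p * (p * p))⁻¹ by group,
        Γ.p_cube ht.mem]
      group] at h3

theorem core_normalizes_trB {u : G} (hu : u ∈ coreE z) : u ∈ normalizer (trB z g p : Set G) := by
  have h : ∀ x ∈ coreE z, x ∈ trB z g p → u * x * u⁻¹ ∈ trB z g p := fun x hx hxB => by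
    rcases Γ.eqz_core hu hx with e | e <;> rw [e]
    exacts [hxB, mul_mem z_mem_trB hxB]
  exact mem_normalizer_closure fun x hx =>
    h x (Γ.trB_le_core ht (subset_closure hx)) (subset_closure hx)

theorem conjE_normalizes_trB {u : G} (hu : u ∈ conjE z g) : u ∈ normalizer (trB z g p : Set G) := by
  refine mem_normalizer_closure fun x hx => ?_
  have hxB : x ∈ trB z g p := subset_closure hx
  rcases (Γ.hub_pt g).comm u hu x (Γ.trB_le ht hxB).2 with e | e <;> rw [e]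
  exacts [hxB, mul_mem hxB s_mem_trB]

theorem P_normalizes_trB : P ≤ normalizer (trB z g p : Set G) := by
  rw [← Γ.zpowers_eq ht.mem ht.ne, zpowers_le]
  refine mem_normalizer_closure fun x hx => ?_
  simp only [Set.mem_insert_iff, Set.mem_singleton_iff] at hx
  rcases hx with rfl | rfl | rfl
  · rw [(Γ.P_comm ht.mem).eq, mul_inv_cancel_right]; exact z_mem_trB
  · exact s'_mem_trB
  · rcases Γ.s''_eqz ht with e | e <;> rw [e]
    exacts [mul_mem s_mem_trB s'_mem_trB, mul_mem z_mem_trB (mul_mem s_mem_trB s'_mem_trB)]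

theorem trM_normalizes_trB : trM z P g ≤ normalizer (trB z g p : Set G) :=
  sup_le (sup_le (fun _ h => Γ.core_normalizes_trB ht h) fun _ h => Γ.conjE_normalizes_trB ht h)
    (Γ.P_normalizes_trB ht)

/-- Inner elements of `N(imgA)` lift into `C(trB)`. -/
theorem exists_lift_cent {a : AutM22} (ha : a ∈ normalizer (Γ.imgA g : Set AutM22)) (hi : a ∈ innerM22) :
    ∃ c ∈ centralizer (trB z g p : Set G), Γ.ph c = a := by
  obtain ⟨c, hc, hcs, hca⟩ := Γ.exists_lift_normalizer ht.pt ha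
  have hcz := mem_H.1 hc
  obtain ⟨n1, n2, n3, n4⟩ := Γ.s'_ne ht
  rcases Γ.inner_fix ht hc (hca.symm ▸ hi) (Or.inl (by rw [hcs.eq, mul_inv_cancel_right])) with e | e
  · exact ⟨c, mem_cent_trB.2 ⟨hcz, hcs, mul_inv_eq_iff_eq_mul.1 e⟩, hca⟩
  · obtain ⟨f, hf, hfs, hft⟩ := LargeFischer.Loc.exists_commute_not Γ.S.hub ht.pt.mem (Γ.s'_mem_core ht)
      (Γ.s_sq ht) n1 n2 n3 n4
    refine ⟨f * c, mem_cent_trB.2 ⟨(Γ.S.hub.central f hf).mul_left hcz, hfs.mul_left hcs, ?_⟩, ?_⟩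
    · refine mul_inv_eq_iff_eq_mul.1 ?_
      calc f * c * (p * (g * z * g⁻¹) * p⁻¹) * (f * c)⁻¹
          = f * (c * (p * (g * z * g⁻¹) * p⁻¹) * c⁻¹) * f⁻¹ := by group
        _ = (f * z * f⁻¹) * (f * (p * (g * z * g⁻¹) * p⁻¹) * f⁻¹) := by rw [e]; group
        _ = p * (g * z * g⁻¹) * p⁻¹ := by
            rw [(Γ.S.hub.central f hf).eq, mul_inv_cancel_right, hft,
              (Γ.S.hub.central _ (Γ.s'_mem_core ht)).eq, ← mul_assoc, Γ.S.hub.sq, one_mul]
    · rw [Γ.ph_mul (coreE_le_H hf) hc, Γ.ph_core hf, one_mul, hca]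

theorem comm_pCore {u c : G} (hu : u ∈ trM z P g) (hc : c ∈ centralizer (trB z g p : Set G)) :
    ⁅u, c⁆ ∈ Cfsg.pCoreOf 2 (centralizer (trB z g p : Set G)) := by
  set C := centralizer (trB z g p : Set G) with hC
  set R := Cfsg.pCoreOf 2 C with hR
  have hNC : ∀ v ∈ normalizer (trB z g p : Set G), ∀ d ∈ C, v * d * v⁻¹ ∈ C := by
    intro v hv d hd b hb
    have hb' : v⁻¹ * b * v ∈ trB z g p := by
      have := (mem_normalizer_iff.1 (inv_mem hv) b).1 hb
      rwa [inv_inv] at this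
    have h1 : v⁻¹ * b * v * d = d * (v⁻¹ * b * v) := hd _ hb'
    calc b * (v * d * v⁻¹) = v * (v⁻¹ * b * v * d) * v⁻¹ := by group
      _ = v * (d * (v⁻¹ * b * v)) * v⁻¹ := by rw [h1]
      _ = v * d * v⁻¹ * b := by group
  have hMC : ∀ v ∈ trM z P g, v ∈ normalizer (C : Set G) := fun v hv =>
    LargeExtraspecial.mem_normalizer_of_conj (hNC v (Γ.trM_normalizes_trB ht hv)) fun d hd => by
      have := hNC v⁻¹ (inv_mem (Γ.trM_normalizes_trB ht hv)) d hd
      rwa [inv_inv] at this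
  have hCN : C ≤ normalizer (R : Set G) := LocalStructure.le_normalizer_pCoreOf 2 C
  have hMR : ∀ v ∈ trM z P g, v ∈ normalizer (R : Set G) := fun v hv =>
    LocalStructure.normalizer_le_normalizer_pCoreOf C (hMC v hv)
  have hCcs : ∀ d ∈ C, Commute d z ∧ Commute d (g * z * g⁻¹) := fun d hd =>
    ⟨(mem_cent_trB.1 hd).1, (mem_cent_trB.1 hd).2.1⟩
  -- the intersections with the two cores
  have hcore : ∀ (N : Subgroup G), IsPGroup 2 ↥N → (∀ d ∈ C, ∀ n ∈ N, d * n * d⁻¹ ∈ N) →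
      ∀ n ∈ N, n ∈ C → n ∈ R := by
    intro N hN hn n hnN hnC
    refine LocalStructure.le_pCoreOf (N := N ⊓ C) inf_le_right ?_ (hN.to_le inf_le_left) ⟨hnN, hnC⟩
    intro d hd
    refine LargeExtraspecial.mem_normalizer_of_conj (fun w hw => Subgroup.mem_inf.2 ⟨hn d hd w hw.1, ?_⟩) fun w hw => Subgroup.mem_inf.2 ⟨?_, ?_⟩
    · exact mul_mem (mul_mem hd hw.2) (inv_mem hd)
    · have := hn d⁻¹ (inv_mem hd) w hw.1
      rwa [inv_inv] at this
    · exact mul_mem (mul_mem (inv_mem hd) hw.2) hd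
  have hE : ∀ n ∈ coreE z, n ∈ C → n ∈ R :=
    hcore _ Γ.core_two fun d hd n hn => Γ.S.hub.normalizes d (hCcs d hd).1 n hn
  have hEg : ∀ n ∈ conjE z g, n ∈ C → n ∈ R :=
    hcore _ (Γ.core_two.map _) fun d hd n hn => (Γ.hub_pt g).normalizes d (hCcs d hd).2 n hn
  suffices h : u ∈ trM z P g ∧ ∀ d ∈ C, ⁅u, d⁆ ∈ R from h.2 c hc
  have hu' : u ∈ closure ((coreE z : Set G) ∪ conjE z g ∪ P) := by
    have hle : trM z P g ≤ closure ((coreE z : Set G) ∪ conjE z g ∪ P) :=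
      sup_le (sup_le (fun x hx => subset_closure (Or.inl (Or.inl hx)))
        fun x hx => subset_closure (Or.inl (Or.inr hx))) fun x hx => subset_closure (Or.inr hx)
    exact hle hu
  refine closure_induction_finite (p := fun v => v ∈ trM z P g ∧ ∀ d ∈ C, ⁅v, d⁆ ∈ R) ?_ ?_ ?_ hu'
  · intro v hv
    have hvM : v ∈ trM z P g := by
      rcases hv with (hv | hv) | hv
      exacts [mem_sup_left (mem_sup_left hv), mem_sup_left (mem_sup_right hv), mem_sup_right hv]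
    refine ⟨hvM, fun d hd => ?_⟩
    have hdC : ⁅v, d⁆ ∈ C := by
      rw [commutatorElement_def]
      exact mul_mem ((mem_normalizer_iff.1 (hMC v hvM) d).1 hd) (inv_mem hd)
    rcases hv with (hv | hv) | hv
    · refine hE _ ?_ hdC
      rw [commutatorElement_def, show v * d * v⁻¹ * d⁻¹ = v * (d * v⁻¹ * d⁻¹) by group]
      exact mul_mem hv (Γ.S.hub.normalizes d (hCcs d hd).1 _ (inv_mem hv))
    · refine hEg _ ?_ hdC
      rw [commutatorElement_def, show v * d * v⁻¹ * d⁻¹ = v * (d * v⁻¹ * d⁻¹) by group]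
      exact mul_mem hv ((Γ.hub_pt g).normalizes d (hCcs d hd).2 _ (inv_mem hv))
    · have hvH : v ∈ centralizer ({z} : Set G) := Γ.S.P_le hv
      have hdH : d ∈ centralizer ({z} : Set G) := mem_H.2 (hCcs d hd).1
      refine hE _ (Γ.mem_core_of_stab ht.pt.mem (Γ.s_ne_one ht) ht.pt.ne (mem_H.2 (hCcs _ hdC).1) ?_
        (hCcs _ hdC).2) hdC
      rw [commutatorElement_def, Γ.ph_mul (mul_mem (mul_mem hvH hdH) (inv_mem hvH)) (inv_mem hdH),
        Γ.ph_conj hvH hdH, Γ.ph_P hv, Γ.ph_inv hdH]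
      group
  · exact ⟨one_mem _, fun d _ => by rw [commutatorElement_one_left]; exact one_mem _⟩
  · rintro a b ⟨ha, ha'⟩ ⟨hb, hb'⟩
    refine ⟨mul_mem ha hb, fun d hd => ?_⟩
    rw [show ⁅a * b, d⁆ = a * ⁅b, d⁆ * a⁻¹ * ⁅a, d⁆ by simp only [commutatorElement_def]; group]
    exact mul_mem ((mem_normalizer_iff.1 (hMR a ha) _).1 (hb' d hd)) (ha' d hd)

/-- No element of order 3 of `trM` centralises `trB`. -/
theorem three_free {t : G} (htM : t ∈ trM z P g) (htC : t ∈ centralizer (trB z g p : Set G))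
    (h3 : t ^ 3 = 1) : t = 1 := by
  obtain ⟨htz, hts, -⟩ := mem_cent_trB.1 htC
  have htH := mem_H.2 htz
  by_cases h1 : Γ.ph t = 1
  · exact Γ.mem_core_sq (Γ.mem_core_of_stab ht.pt.mem (Γ.s_ne_one ht) ht.pt.ne htH h1 hts) h3
  exfalso
  have h3' : Γ.ph t ^ 3 = 1 := by
    rw [pow_three, ← Γ.ph_mul htH htH, ← Γ.ph_mul htH (mul_mem htH htH), ← pow_three, h3, Γ.ph_one]
  have : Fact (Nat.Prime 3) := ⟨Nat.prime_three⟩
  have ho : orderOf (Γ.ph t) = 3 := orderOf_eq_prime h3' h1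
  have hti : Γ.ph t ∈ innerM22 := by
    have h := mul_mem (mul_self_mem_of_index_two Γ.F.index_two (Γ.ph t))
      (mul_self_mem_of_index_two Γ.F.index_two (Γ.ph t))
    rwa [show Γ.ph t * Γ.ph t * (Γ.ph t * Γ.ph t) = Γ.ph t ^ 3 * Γ.ph t by rw [pow_three]; group,
      h3', one_mul] at h
  obtain ⟨m, hmi, hmN, hm⟩ := Γ.F.elem_moved _ (Γ.card_facts ht.pt).2.2 _ hti
    (Γ.ph_mem_normalizer ht.pt htH hts) ho
  obtain ⟨c, hc, hcm⟩ := Γ.exists_lift_cent ht hmN hmi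
  have hcH := mem_H.2 (mem_cent_trB.1 hc).1
  obtain ⟨n, hn⟩ := (LocalStructure.isPGroup_pCoreOf 2 _) ⟨_, Γ.comm_pCore ht htM hc⟩
  have hn' : ⁅t, c⁆ ^ 2 ^ n = 1 := congrArg Subtype.val hn
  have hph : Γ.ph ⁅t, c⁆ = ⁅Γ.ph t, m⁆ := by
    rw [commutatorElement_def, commutatorElement_def,
      Γ.ph_mul (mul_mem (mul_mem htH hcH) (inv_mem htH)) (inv_mem hcH), Γ.ph_conj htH hcH, Γ.ph_inv hcH, hcm]
  have hcomH : ⁅t, c⁆ ∈ centralizer ({z} : Set G) := by
    rw [commutatorElement_def]; exact mul_mem (mul_mem (mul_mem htH hcH) (inv_mem htH)) (inv_mem hcH)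
  have hpow : ∀ k : ℕ, Γ.ph (⁅t, c⁆ ^ k) = ⁅Γ.ph t, m⁆ ^ k := by
    intro k
    induction k with
    | zero => rw [pow_zero, pow_zero, Γ.ph_one]
    | succ k ih => rw [pow_succ, pow_succ, Γ.ph_mul (pow_mem hcomH k) hcomH, ih, hph]
  have h := hpow (2 ^ n)
  rw [hn', Γ.ph_one] at h
  obtain ⟨j, -, hj⟩ := (Nat.dvd_prime_pow Nat.prime_two).1 (orderOf_dvd_of_pow_eq_one h.symm)
  exact hm j hj

/-- A 3-element of `trM` centralising `P` is in `P`. -/
theorem mem_P_of_commute {u : G} (huM : u ∈ trM z P g) (hup : Commute u p) {k : ℕ} (hk : u ^ 3 ^ k = 1) :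
    u ∈ P := by
  have hN := Γ.trM_normalizes_trB ht huM
  have hB : u * z * u⁻¹ ∈ trB z g p := (mem_normalizer_iff.1 hN z).1 z_mem_trB
  have huz : Commute u z := by
    have hf : p * (u * z * u⁻¹) * p⁻¹ = u * z * u⁻¹ := by
      rw [show p * (u * z * u⁻¹) * p⁻¹ = p * u * z * (p * u)⁻¹ by group, ← hup.eq,
        show u * p * z * (u * p)⁻¹ = u * (p * z * p⁻¹) * u⁻¹ by group, (Γ.P_comm ht.mem).eq,
        mul_inv_cancel_right]
    rcases Γ.eq_one_or_z_of_fixed ht.mem ht.ne (Γ.trB_le_core ht hB) (Or.inl hf) with e | e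
    · exact absurd (conj_eq_one_iff.1 e) Γ.S.hub.ne_one
    · exact mul_inv_eq_iff_eq_mul.1 e
  obtain ⟨r, hr, hrs⟩ := Γ.exists_rotate ht ((mem_normalizer_iff.1 hN _).1 (s_mem_trB (z := z) (g := g)))
    (fun e => Γ.s_ne_one ht (conj_eq_one_iff.1 e)) fun e => ht.pt.ne (by
      calc g * z * g⁻¹ = u⁻¹ * (u * (g * z * g⁻¹) * u⁻¹) * u := by group
        _ = z := by rw [e, huz.inv_left.eq, inv_mul_cancel_right])
  rw [show r * (u * (g * z * g⁻¹) * u⁻¹) * r⁻¹ = r * u * (g * z * g⁻¹) * (r * u)⁻¹ by group] at hrs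
  set v := r * u with hv
  have hrp : r ∈ zpowers p := (Γ.zpowers_eq ht.mem ht.ne).symm ▸ hr
  have hru : Commute r u := by
    obtain ⟨n, rfl⟩ := mem_zpowers_iff.1 hrp
    exact hup.symm.zpow_left n
  have hvp : Commute v p := by
    obtain ⟨n, rfl⟩ := mem_zpowers_iff.1 hrp
    exact ((Commute.refl p).zpow_left n).mul_left hup
  have hvz : Commute v z := (Γ.P_comm hr).mul_left huz
  have hr3 : r ^ 3 = 1 := by rw [pow_three]; exact Γ.p_cube hr
  have hv3 : v ^ 3 ^ (k + 1) = 1 := by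
    rw [hv, hru.mul_pow, pow_succ 3 k, pow_mul u, hk, one_pow, mul_one, mul_comm, pow_mul, hr3, one_pow]
  have hvs2 : Commute (v ^ 2) (g * z * g⁻¹) := by
    refine mul_inv_eq_iff_eq_mul.1 ?_
    rw [show v ^ 2 * (g * z * g⁻¹) * (v ^ 2)⁻¹ = v * (v * (g * z * g⁻¹) * v⁻¹) * v⁻¹ by rw [pow_two]; group]
    rcases hrs with e | e
    · rw [e, e]
    · rw [e, show v * (z * (g * z * g⁻¹)) * v⁻¹ = v * z * v⁻¹ * (v * (g * z * g⁻¹) * v⁻¹) by group, e,
        hvz.eq, mul_inv_cancel_right, ← mul_assoc, Γ.S.hub.sq, one_mul]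
  have hvs : Commute v (g * z * g⁻¹) := by
    obtain ⟨j, hj⟩ := (show Odd (3 ^ (k + 1)) from Odd.pow (by decide))
    have e : v = (v ^ 2) ^ (j + 1) := by
      rw [← pow_mul, show 2 * (j + 1) = 3 ^ (k + 1) + 1 by omega, pow_succ v, hv3, one_mul]
    rw [e]; exact hvs2.pow_left _
  have hvs' : Commute v (p * (g * z * g⁻¹) * p⁻¹) := (hvp.mul_right hvs).mul_right hvp.inv_right
  have hvC : v ∈ centralizer (trB z g p : Set G) := mem_cent_trB.2 ⟨hvz, hvs, hvs'⟩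
  have hvM : v ∈ trM z P g := mul_mem (mem_sup_right hr) huM
  have key : ∀ j : ℕ, v ^ 3 ^ j = 1 → v = 1 := by
    intro j
    induction j with
    | zero => intro h; rwa [pow_zero, pow_one] at h
    | succ j ih =>
      intro h
      exact ih (Γ.three_free ht (pow_mem hvM _) (pow_mem hvC _) (by rw [← pow_mul, ← pow_succ]; exact h))
  have hv1 := key _ hv3
  rw [hv] at hv1
  rw [eq_inv_of_mul_eq_one_right hv1]
  exact inv_mem hr

theorem three_card : ¬ 9 ∣ Nat.card ↥(trM z P g) := by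
  intro h9
  have : Fact (Nat.Prime 3) := ⟨Nat.prime_three⟩
  set M := trM z P g with hM
  have hP : P ≤ M := le_sup_right
  obtain ⟨K, hK, hPK⟩ := Sylow.exists_subgroup_card_pow_succ (G := ↥M) (p := 3) (n := 1) h9
    (H := P.subgroupOf M) (by rw [Nat.card_congr (subgroupOfEquivOfLe hP).toEquiv, Γ.S.card_P, pow_one])
  have hle : K ≤ P.subgroupOf M := by
    intro u hu
    have hcm := IsPGroup.commutative_of_card_eq_prime_sq hK
    refine mem_subgroupOf.2 (Γ.mem_P_of_commute ht u.2 ?_ (k := 2) ?_)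
    · have := hcm ⟨u, hu⟩ ⟨⟨p, hP ht.mem⟩, hPK (mem_subgroupOf.2 ht.mem)⟩
      exact congrArg (fun x : ↥K => ((x : ↥M) : G)) this
    · have := pow_card_eq_one' (x := (⟨u, hu⟩ : ↥K))
      rw [hK] at this
      exact congrArg (fun x : ↥K => ((x : ↥M) : G)) this
  have h := card_dvd_of_le hle
  rw [hK, Nat.card_congr (subgroupOfEquivOfLe hP).toEquiv, Γ.S.card_P] at h
  norm_num at h

/-- `q`, conjugate to `p` by `k ∈ trM`, permutes the involutions of `⟨z, s⟩` cyclically. -/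
theorem exists_rot : ∃ q ∈ coreE z ⊔ conjE z g, ∃ k ∈ trM z P g, q ^ 3 = 1 ∧ q ≠ 1 ∧
    (∀ v ∈ closure ({z, g * z * g⁻¹} : Set G), Commute q v → v = 1) ∧
    ∃ r ∈ P, r ≠ 1 ∧ k * r * k⁻¹ = q := by
  have hP := Γ.pair ht.pt
  have hz := Γ.S.hub.sq
  set s := g * z * g⁻¹ with hs
  obtain ⟨f, hf, -, hfs, hfz⟩ := hP.exists_out
  obtain ⟨f', hf', -, hfz', hfs'⟩ := hP.symm.exists_out
  set u := f * f' with hu
  have huz : u * z * u⁻¹ = s := by
    rw [hu, show f * f' * z * (f * f')⁻¹ = f * (f' * z * f'⁻¹) * f⁻¹ by group, hfz',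
      show f * (s * z) * f⁻¹ = (f * s * f⁻¹) * (f * z * f⁻¹) by group, hfs, hfz, mul_assoc,
      ← hP.commute_zy.eq, ← mul_assoc, hz, one_mul]
  have hus : u * s * u⁻¹ = z * s := by
    rw [hu, show f * f' * s * (f * f')⁻¹ = f * (f' * s * f'⁻¹) * f⁻¹ by group, hfs', hfs]
  have huzs : u * (z * s) * u⁻¹ = z := by
    rw [show u * (z * s) * u⁻¹ = (u * z * u⁻¹) * (u * s * u⁻¹) by group, huz, hus, ← mul_assoc,
      ← hP.commute_zy.eq, mul_assoc, Γ.s_sq ht, mul_one]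
  have hu3z : Commute (u ^ 3) z := by
    refine mul_inv_eq_iff_eq_mul.1 ?_
    rw [show u ^ 3 * z * (u ^ 3)⁻¹ = u * (u * (u * z * u⁻¹) * u⁻¹) * u⁻¹ by rw [pow_three]; group, huz, hus, huzs]
  have hu3s : Commute (u ^ 3) s := by
    refine mul_inv_eq_iff_eq_mul.1 ?_
    rw [show u ^ 3 * s * (u ^ 3)⁻¹ = u * (u * (u * s * u⁻¹) * u⁻¹) * u⁻¹ by rw [pow_three]; group, hus, huzs, huz]
  have hfree : ∀ v ∈ closure ({z, s} : Set G), Commute u v → v = 1 := by
    intro v hv hc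
    have h := hc.eq
    rw [← mul_inv_eq_iff_eq_mul] at h
    rcases hP.mem_V_iff.1 hv with rfl | rfl | rfl | rfl
    · rfl
    · rw [huz] at h; exact absurd h hP.ne
    · rw [hus] at h; exact absurd (mul_eq_right.1 h) Γ.S.hub.ne_one
    · rw [huzs] at h; exact absurd (mul_eq_left.1 h.symm) (Γ.s_ne_one ht)
  have huL : u ∈ coreE z ⊔ conjE z g := mul_mem (mem_sup_left hf) (mem_sup_right hf')
  have hLM : coreE z ⊔ conjE z g ≤ trM z P g := le_sup_left
  set n := orderOf u with hn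
  have hdvd : n ∣ Nat.card ↥(trM z P g) := by
    have := orderOf_dvd_natCard (⟨u, hLM huL⟩ : ↥(trM z P g))
    rwa [Subgroup.orderOf_mk, ← hn] at this
  have h9 : ¬ 9 ∣ n := fun h => Γ.three_card ht (h.trans hdvd)
  have h3 : 3 ∣ n := by
    by_contra h
    have hc : ∀ j, Commute (u ^ (3 * j)) z := fun j => by rw [pow_mul]; exact hu3z.pow_left j
    have hpos := orderOf_pos u
    have hz' : Commute u z := by
      obtain hm | hm : n % 3 = 1 ∨ n % 3 = 2 := by omega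
      · have e : u ^ (n / 3 * 3) * u = 1 := by
          rw [← pow_succ, show n / 3 * 3 + 1 = n by omega, hn, pow_orderOf_eq_one]
        rw [eq_inv_of_mul_eq_one_right e, mul_comm (n / 3) 3]
        exact (hc _).inv_left
      · have e : u ^ ((n + 1) / 3 * 3) = u := by
          rw [show (n + 1) / 3 * 3 = n + 1 by omega, pow_succ, hn, pow_orderOf_eq_one, one_mul]
        rw [← e, mul_comm ((n + 1) / 3) 3]
        exact hc _
    exact Γ.S.hub.ne_one (hfree z (subset_closure (Set.mem_insert _ _)) hz')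
  obtain ⟨i, hi⟩ := h3
  set q := u ^ i with hq
  have hq3 : q ^ 3 = 1 := by rw [hq, ← pow_mul, mul_comm, ← hi, hn, pow_orderOf_eq_one]
  have hqfree : ∀ v ∈ closure ({z, s} : Set G), Commute q v → v = 1 := by
    intro v hv hc
    refine hfree v hv ?_
    have hu3v : Commute (u ^ 3) v := by
      rcases hP.mem_V_iff.1 hv with rfl | rfl | rfl | rfl
      exacts [Commute.one_right _, hu3z, hu3s, hu3z.mul_right hu3s]
    have hi3 : ¬ 3 ∣ i := fun ⟨l, hl⟩ => h9 ⟨l, by rw [hi, hl]; ring⟩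
    obtain hm | hm : i % 3 = 1 ∨ i % 3 = 2 := by omega
    · have e : u = ((u ^ 3) ^ (i / 3))⁻¹ * q := by
        rw [eq_inv_mul_iff_mul_eq, hq, ← pow_mul, ← pow_succ, show 3 * (i / 3) + 1 = i by omega]
      rw [e]; exact (hu3v.pow_left _).inv_left.mul_left hc
    · have e : u = (u ^ 3) ^ ((i + 1) / 3) * q⁻¹ := by
        rw [eq_mul_inv_iff_mul_eq, hq, ← pow_mul, ← pow_succ', show 3 * ((i + 1) / 3) = i + 1 by omega]
      rw [e]; exact (hu3v.pow_left _).mul_left hc.inv_left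
  have hq1 : q ≠ 1 := fun e => Γ.S.hub.ne_one
    (hqfree z (subset_closure (Set.mem_insert _ _)) (e ▸ Commute.one_left z))
  have : Fact (Nat.Prime 3) := ⟨Nat.prime_three⟩
  have hqL : q ∈ coreE z ⊔ conjE z g := pow_mem huL i
  obtain ⟨l, hl, hlq⟩ := exists_conj_zpowers (Γ.three_card ht) (hLM hqL) (mem_sup_right ht.mem)
    (orderOf_eq_prime hq3 hq1) (orderOf_eq_prime (by rw [pow_three]; exact Γ.p_cube ht.mem) ht.ne)
  have hr : l * q * l⁻¹ ∈ P := (Γ.zpowers_eq ht.mem ht.ne) ▸ hlq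
  exact ⟨q, hqL, l⁻¹, inv_mem hl, hq3, hq1, hqfree, _, hr, fun e => hq1 (conj_eq_one_iff.1 e),
    by group⟩

end Ctx

end Cfsg.Agent.JankoFour
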