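import Cfsg.Agent.Lib.JankoFour.InvFacts
import Cfsg.Agent.Lib.JankoFour.HexFactsProof
import Cfsg.Agent.Lib.JankoFour.Data.InvData
import Cfsg.Agent.Lib.JankoFour.PairTriple

/-!
# The facts used for the classes of involutions (S5569): certificate

Computed in `pairGrp`: seven conjugates of the group of order 32 cover the involutions of the Sylow
2-subgroup; it has at least 231 conjugates; the 77 conjugates of the hexad kernel are permuted by the
generators, and for one in either other orbit of the stabiliser the inner part of some group of order 32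
is written in the two kernels.
-/

set_option autoImplicit false
set_option maxRecDepth 20000
set_option maxHeartbeats 4000000
set_option linter.style.haveILetI false

namespace Cfsg.Agent.JankoFour

open Cfsg Subgroup Cfsg.Agent.Mathieu

namespace InvCert

open Hex (code code_mul code_one code_injective cjN mulP invPair exists_of_invPair code_conj exists_code
  fix23_iff mem_listSub cj_mem cj_cj cj_one cj_inv_eq exists_conj_le exists_conj_A0 A0 U0)

/-- The inverse pair. -/
def flipP (p : ℕ × ℕ) : ℕ × ℕ := (p.2, p.1)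

/-- The Sylow involutions are covered. -/
def coverOK : Bool :=
  Data.coverMovers.all invPair && Hex.sylList.all fun l =>
    l == packId 24 || !(packMulS 24 l l == packId 24) ||
      Data.coverMovers.any fun p => Data.elemList.contains (cjN (flipP p) l)

theorem coverOK_true : coverOK = true := by decide +kernel

/-- The sum of the codes of a conjugate of the group of order 32. -/
def key (p : ℕ × ℕ) : ℕ := (Data.elemList.map (cjN p)).sum

theorem orbitOK : Data.elemOrbit.all invPair = true ∧ Data.elemOrbit.length = 231 ∧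
    (Data.elemOrbit.map key).Nodup := by decide +kernel

/-- The mover with the given number. -/
def rep (i : ℕ) : ℕ × ℕ := Data.hexReps.getD i (0, 0)

/-- Movers to the 77 hexads. -/
def hexOrb : List (ℕ × ℕ) :=
  (packId 24, packId 24) :: Data.hexSub.map fun e => mulP e.1 (rep e.2)

/-- The parts of the hexad list. -/
def subOK : Bool :=
  Data.hexReps.all invPair && Data.hexReps.length == 2 && Data.hexSub.all fun e =>
    decide (e.2 < 2) && invPair e.1 && Data.hexList.all fun a => Data.hexList.contains (cjN e.1 a) &&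
      Data.hexList.contains (cjN (flipP e.1) a)

theorem subOK_true : subOK = true := by decide +kernel

/-- The generators permute the 77 hexads. -/
def tableOK : Bool :=
  Data.genPairs.all invPair && gens22.all (fun g => (Data.genPairs.map Prod.fst).contains g) &&
  Data.genPairs.any (fun p => !(app p.1 23 == 23)) &&
  (List.range Data.genPairs.length).all fun g => (List.range hexOrb.length).all fun j =>
    let l := (Data.hexTable.getD g []).getD j 0
    decide (l < hexOrb.length) && Data.hexList.all fun a => Data.hexList.contains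
      (cjN (mulP (flipP (hexOrb.getD l (0, 0))) (mulP (Data.genPairs.getD g (0, 0)) (hexOrb.getD j (0, 0)))) a)

theorem tableOK_true : tableOK = true := by decide +kernel

/-- The inner part of the group of order 32. -/
def innerA : List ℕ := Data.elemList.filter fun e => app e 23 == 23

/-- The words. -/
def wordsOK : Bool :=
  (List.range 2).all fun i =>
    let w := Data.hexWords.getD i ((0, 0), [])
    invPair w.1 && (List.range innerA.length).all fun k =>
      (w.2.getD k []).foldl (packMulS 24) (packId 24) == cjN w.1 (innerA.getD k 0) &&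
        (w.2.getD k []).all fun g => Data.hexList.contains g || Data.hexList.any fun u => cjN (rep i) u == g

theorem wordsOK_true : wordsOK = true := by decide +kernel

/-! ### The cover -/

theorem cover {a : ↥pairGrp} (ha : orderOf a = 2) : ∃ U : Subgroup ↥pairGrp, IsThirtyTwo U ∧ a ∈ U := by
  have ha2 : a * a = 1 := by
    have := pow_orderOf_eq_one a
    rwa [ha, pow_two] at this
  obtain ⟨g, hg⟩ := exists_conj_le (P := zpowers a) (Hex.isPGroup_of_sq (by
    rintro _ ⟨n, rfl⟩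
    show a ^ n * a ^ n = 1
    rw [← (Commute.refl a).mul_zpow, ha2, one_zpow]))
  have hb : g * a * g⁻¹ ∈ Hex.S0 := hg ⟨a, mem_zpowers a, rfl⟩
  set b := g * a * g⁻¹ with hbd
  have hb1 : b ≠ 1 := fun e => by
    rw [conj_eq_one_iff.1 e, orderOf_one] at ha
    exact absurd ha (by norm_num)
  have hb2 : b * b = 1 := by
    rw [hbd, show g * a * g⁻¹ * (g * a * g⁻¹) = g * (a * a) * g⁻¹ by group, ha2]; group
  have h := coverOK_true
  simp only [coverOK, Bool.and_eq_true, List.all_eq_true, List.any_eq_true, Bool.or_eq_true, beq_iff_eq,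
    Bool.not_eq_true', beq_eq_false_iff_ne, List.contains_iff_mem] at h
  obtain ⟨hinv, hcov⟩ := h
  obtain ⟨p, hp, hpl⟩ := (hcov _ (Hex.mem_S0.1 hb)).resolve_left (by
    rintro (e | e)
    · exact hb1 (code_injective (e.trans code_one.symm))
    · exact e (Hex.code_sq hb2))
  obtain ⟨n, hn1, hn2⟩ := exists_of_invPair (hinv p hp)
  refine ⟨cj (g⁻¹ * n) A0, ⟨Hex.cj_sq Hex.isThirtyTwo_A0.1, (Hex.card_cj _ _).trans Hex.isThirtyTwo_A0.2⟩,
    cj_mem.2 ?_⟩
  show code _ ∈ Data.elemList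
  rw [show (g⁻¹ * n)⁻¹ * a * (g⁻¹ * n) = n⁻¹ * b * n⁻¹⁻¹ by rw [hbd]; group,
    code_conj (p := flipP p) hn2 (by rw [inv_inv]; exact hn1)]
  exact hpl

/-! ### The normaliser of the group of order 32 -/

theorem key_eq {σ τ : ↥pairGrp} {p q : ℕ × ℕ} (hσ : code σ = p.1) (hσ' : code σ⁻¹ = p.2) (hτ : code τ = q.1)
    (hτ' : code τ⁻¹ = q.2) (h : cj σ A0 = cj τ A0) : key p = key q := by
  have hmem : ∀ {σ : ↥pairGrp} {p : ℕ × ℕ}, code σ = p.1 → code σ⁻¹ = p.2 → ∀ x,
      x ∈ Data.elemList.map (cjN p) ↔ ∃ b ∈ cj σ A0, code b = x := by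
    intro σ p h1 h2 x
    rw [List.mem_map]
    constructor
    · rintro ⟨a, ha, rfl⟩
      obtain ⟨y, rfl⟩ := exists_code Hex.elemList_ok ha
      exact ⟨σ * y * σ⁻¹, ⟨y, ha, rfl⟩, code_conj h1 h2 y⟩
    · rintro ⟨_, ⟨y, hy, rfl⟩, rfl⟩
      exact ⟨code y, hy, (code_conj h1 h2 y).symm⟩
  have hnd : ∀ {σ : ↥pairGrp} {p : ℕ × ℕ}, code σ = p.1 → code σ⁻¹ = p.2 →
      (Data.elemList.map (cjN p)).Nodup := by
    intro σ p h1 h2
    refine List.Nodup.map_on (fun a ha b hb e => ?_) Hex.small_nodup.2.2.1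
    obtain ⟨x, rfl⟩ := exists_code Hex.elemList_ok ha
    obtain ⟨y, rfl⟩ := exists_code Hex.elemList_ok hb
    rw [← code_conj h1 h2, ← code_conj h1 h2] at e
    rw [mul_left_cancel (mul_right_cancel (code_injective e))]
  exact ((List.perm_ext_iff_of_nodup (hnd hσ hσ') (hnd hτ hτ')).2 fun x => by
    rw [hmem hσ hσ', hmem hτ hτ', h]).sum_eq

theorem norm_A0 : Nat.card ↥(normalizer (A0 : Set ↥pairGrp)) ≤ 3840 := by
  obtain ⟨hinv, hlen, hnd⟩ := orbitOK
  rw [List.all_eq_true] at hinv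
  choose f hf1 hf2 using fun i : Fin Data.elemOrbit.length =>
    exists_of_invPair (hinv _ (List.getElem_mem i.2))
  have hinj : Function.Injective
      (fun i => (f i : ↥pairGrp ⧸ normalizer (A0 : Set ↥pairGrp))) := by
    intro i j hij
    have hn : (f i)⁻¹ * f j ∈ normalizer (A0 : Set ↥pairGrp) := QuotientGroup.eq.1 hij
    have hk := key_eq (hf1 i) (hf2 i) (hf1 j) (hf2 j) (by
      have hn' : cj ((f i)⁻¹ * f j) A0 = A0 := mem_normalizer_iff_map_conj_eq.1 hn
      calc cj (f i) A0 = cj (f i) (cj ((f i)⁻¹ * f j) A0) := by rw [hn']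
        _ = cj (f j) A0 := by rw [cj_cj, mul_inv_cancel_left])
    refine Fin.ext ((hnd.getElem_inj_iff (hi := by simp) (hj := by simp)).1 ?_)
    rw [List.getElem_map, List.getElem_map]
    exact hk
  have h := Nat.card_le_card_of_injective _ hinj
  rw [Nat.card_fin, hlen, ← index_eq_card] at h
  have hm := (normalizer (A0 : Set ↥pairGrp)).card_mul_index
  rw [card_pairGrp] at hm
  by_contra hlt
  have := Nat.mul_le_mul (show 3841 ≤ Nat.card ↥(normalizer (A0 : Set ↥pairGrp)) by omega) h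
  omega

theorem norm32 {A : Subgroup ↥pairGrp} (hA : IsThirtyTwo A) :
    Nat.card ↥(normalizer (A : Set ↥pairGrp)) ≤ 3840 := by
  obtain ⟨k, rfl⟩ := exists_conj_A0 hA
  rw [← Subgroup.map_equiv_normalizer_eq,
    card_map_of_injective (f := (MulAut.conj k).toMonoidHom) (MulAut.conj k).injective]
  exact norm_A0

/-! ### The hexads -/

theorem conj_U0 {σ : ↥pairGrp} {p : ℕ × ℕ} (h1 : code σ = p.1) (h2 : code σ⁻¹ = p.2)
    (h : ∀ a ∈ Data.hexList, cjN p a ∈ Data.hexList) : cj σ U0 = U0 := by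
  refine Subgroup.eq_of_le_of_card_ge ?_ (Hex.card_cj _ _).ge
  rintro _ ⟨a, ha, rfl⟩
  show code (σ * a * σ⁻¹) ∈ Data.hexList
  rw [code_conj h1 h2]
  exact h _ ha

theorem code_mulP {σ τ : ↥pairGrp} {p q : ℕ × ℕ} (a : code σ = p.1) (b : code σ⁻¹ = p.2) (c : code τ = q.1)
    (d : code τ⁻¹ = q.2) : code (σ * τ) = (mulP p q).1 ∧ code (σ * τ)⁻¹ = (mulP p q).2 :=
  ⟨by rw [code_mul, a, c]; rfl, by rw [_root_.mul_inv_rev, code_mul, b, d]; rfl⟩

theorem orb_mover : ∀ p ∈ hexOrb, ∃ σ : ↥pairGrp, code σ = p.1 ∧ code σ⁻¹ = p.2 ∧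
    (cj σ U0 = U0 ∨ ∃ n r : ↥pairGrp, cj n U0 = U0 ∧ cj σ U0 = cj (n * r) U0 ∧
      ∃ i < 2, code r = (rep i).1 ∧ code r⁻¹ = (rep i).2) := by
  have h := subOK_true
  simp only [subOK, Bool.and_eq_true, List.all_eq_true, beq_iff_eq, decide_eq_true_eq,
    List.contains_iff_mem] at h
  obtain ⟨⟨hreps, hlen⟩, hsub⟩ := h
  intro p hp
  rcases List.mem_cons.1 hp with rfl | hp
  · exact ⟨1, code_one, by rw [inv_one]; exact code_one, Or.inl (cj_one U0)⟩
  obtain ⟨e, he, rfl⟩ := List.mem_map.1 hp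
  obtain ⟨⟨hi, hn⟩, hfix⟩ := hsub e he
  obtain ⟨n, hn1, hn2⟩ := exists_of_invPair hn
  obtain ⟨r, hr1, hr2⟩ := exists_of_invPair (hreps (rep e.2) (by
    rw [rep, List.getD_eq_getElem _ _ (by omega)]; exact List.getElem_mem _))
  obtain ⟨c1, c2⟩ := code_mulP hn1 hn2 hr1 hr2
  exact ⟨n * r, c1, c2, Or.inr ⟨n, r, conj_U0 hn1 hn2 fun a ha => (hfix a ha).1, rfl, e.2, hi, hr1, hr2⟩⟩

/-- `k` moves the hexad to one of the list. -/
def InOrb (k : ↥pairGrp) : Prop := ∃ p ∈ hexOrb, ∃ σ : ↥pairGrp, code σ = p.1 ∧ code σ⁻¹ = p.2 ∧ cj k U0 = cj σ U0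

theorem inOrb (k : ↥pairGrp) : InOrb k := by
  have h := tableOK_true
  simp only [tableOK, Bool.and_eq_true, List.all_eq_true, List.any_eq_true, List.mem_range, decide_eq_true_eq,
    List.contains_iff_mem, Bool.not_eq_true', beq_eq_false_iff_ne] at h
  obtain ⟨⟨⟨hinv, hg22⟩, ⟨po, hpo, hpo23⟩⟩, htab⟩ := h
  set S : Set ↥pairGrp := {γ | ∃ p ∈ Data.genPairs, code γ = p.1} with hS
  have hgen : ∀ γ : ↥pairGrp, γ ∈ innerPair → γ ∈ closure S := by
    have hle : Spor.M22 ≤ (closure S).map pairGrp.subtype := by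
      rw [← M22_cert.1]
      refine genGroup_le fun σ l hl hσ => ?_
      obtain ⟨p, hp, hpl⟩ := List.mem_map.1 (hg22 l hl)
      have hσp : σ ∈ pairGrp := memPair_sound hσ (by
        have := hinv p hp
        simp only [invPair, Bool.and_eq_true] at this
        rw [← hpl]; exact this.1.1.1.1)
      refine ⟨⟨σ, hσp⟩, subset_closure ⟨p, hp, ?_⟩, rfl⟩
      show canon σ = p.1
      have := hinv p hp
      simp only [invPair, Bool.and_eq_true, beq_iff_eq] at this
      rw [canon_eq hσ, ← hpl, this.1.1.2]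
    intro γ hγ
    obtain ⟨δ, hδ, e⟩ := hle hγ
    rwa [Subtype.ext (show (δ : Equiv.Perm GolayPt) = γ from e)] at hδ
  have hk : k ∈ closure S := by
    obtain ⟨o, ho1, -⟩ := exists_of_invPair (hinv po hpo)
    have hoI : o ∉ innerPair := fun h => hpo23 (ho1 ▸ fix23_iff.1 h)
    have hoS : o ∈ closure S := subset_closure ⟨po, hpo, ho1⟩
    by_cases hkI : k ∈ innerPair
    · exact hgen k hkI
    · have := mul_mem hoS (hgen (o⁻¹ * k) ((mul_mem_iff_of_index_two innerPair_index).2
        (iff_of_false (fun h => hoI (inv_mem_iff.1 h)) hkI)))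
      rwa [mul_inv_cancel_left] at this
  have key : ∀ j, InOrb j → InOrb (k * j) := by
    refine closure_induction_finite (p := fun g => ∀ j, InOrb j → InOrb (g * j)) ?_ ?_ ?_ hk
    · rintro γ ⟨q, hq, hqγ⟩ j ⟨p, hp, σ, hσ1, hσ2, hj⟩
      obtain ⟨γ', hγ1, hγ2⟩ := exists_of_invPair (hinv q hq)
      obtain rfl : γ' = γ := code_injective (hγ1.trans hqγ.symm)
      obtain ⟨g, hgl, rfl⟩ := List.getElem_of_mem hq
      obtain ⟨i, hil, rfl⟩ := List.getElem_of_mem hp
      obtain ⟨hl, hfix⟩ := htab g hgl i hil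
      set l := (Data.hexTable.getD g []).getD i 0 with hld
      have hlm : hexOrb.getD l (0, 0) ∈ hexOrb := by
        rw [List.getD_eq_getElem _ _ hl]; exact List.getElem_mem _
      obtain ⟨τ, hτ1, hτ2, -⟩ := orb_mover _ hlm
      obtain ⟨a1, a2⟩ := code_mulP hγ1 hγ2 hσ1 hσ2
      obtain ⟨b1, b2⟩ := code_mulP (σ := τ⁻¹) (p := flipP (hexOrb.getD l (0, 0))) hτ2
        (by rw [inv_inv]; exact hτ1) a1 a2
      refine ⟨_, hlm, τ, hτ1, hτ2, ?_⟩
      rw [List.getD_eq_getElem _ _ hgl, List.getD_eq_getElem _ _ hil] at hfix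
      have hfx := conj_U0 b1 b2 hfix
      rw [← cj_cj, hj, cj_cj]
      calc cj (γ' * σ) U0 = cj τ (cj (τ⁻¹ * (γ' * σ)) U0) := by rw [cj_cj, mul_inv_cancel_left]
        _ = cj τ U0 := by rw [hfx]
    · intro j hj; rwa [one_mul]
    · intro a b ha hb j hj
      rw [mul_assoc]; exact ha _ (hb j hj)
  have := key 1 ⟨(packId 24, packId 24), List.mem_cons_self, 1, code_one, by rw [inv_one]; exact code_one, rfl⟩
  rwa [mul_one] at this

theorem foldl_mem {M : Subgroup ↥pairGrp} : ∀ (L : List ℕ), (∀ g ∈ L, ∃ x ∈ M, code x = g) →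
    ∀ s ∈ M, ∃ x ∈ M, code x = L.foldl (packMulS 24) (code s) := by
  intro L
  induction L with
  | nil => exact fun _ s hs => ⟨s, hs, rfl⟩
  | cons g L ih =>
    intro hL s hs
    obtain ⟨x, hx, rfl⟩ := hL g List.mem_cons_self
    obtain ⟨y, hy, e⟩ := ih (fun g' hg' => hL g' (List.mem_cons_of_mem _ hg')) (s * x) (mul_mem hs hx)
    exact ⟨y, hy, by rw [e, List.foldl_cons, code_mul]⟩

theorem two_hexads (k : ↥pairGrp) (hk : cj k U0 ≠ U0) :
    ∃ A : Subgroup ↥pairGrp, IsThirtyTwo A ∧ A ⊓ innerPair ≤ U0 ⊔ cj k U0 := by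
  obtain ⟨p, hp, σ, hσ1, hσ2, hkσ⟩ := inOrb k
  obtain ⟨σ', hs1, -, hcase⟩ := orb_mover p hp
  obtain rfl : σ' = σ := code_injective (hs1.trans hσ1.symm)
  obtain h | ⟨n, r, hn, hnr, i, hi, hr1, hr2⟩ := hcase
  · exact absurd (hkσ.trans h) hk
  have h := wordsOK_true
  simp only [wordsOK, Bool.and_eq_true, List.all_eq_true, List.any_eq_true, Bool.or_eq_true, List.mem_range,
    beq_iff_eq, List.contains_iff_mem] at h
  obtain ⟨hinv, hw⟩ := h i hi
  set w := Data.hexWords.getD i ((0, 0), []) with hwd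
  obtain ⟨α, hα1, hα2⟩ := exists_of_invPair hinv
  refine ⟨cj (n * α) A0, ⟨Hex.cj_sq Hex.isThirtyTwo_A0.1, (Hex.card_cj _ _).trans Hex.isThirtyTwo_A0.2⟩, ?_⟩
  rintro _ ⟨⟨e, he, rfl⟩, hI⟩
  have hI' : n * α * e * (n * α)⁻¹ ∈ innerPair := hI
  have heI : e ∈ innerPair := by
    have := Hex.innerPair_normal.conj_mem _ hI' (n * α)⁻¹
    rwa [show (n * α)⁻¹ * (n * α * e * (n * α)⁻¹) * (n * α)⁻¹⁻¹ = e by group] at this
  obtain ⟨t, htl, hte⟩ := List.getElem_of_mem (show code e ∈ innerA from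
    List.mem_filter.2 ⟨he, beq_iff_eq.2 (fix23_iff.1 heI)⟩)
  obtain ⟨hprod, hlet⟩ := hw t htl
  rw [List.getD_eq_getElem innerA _ htl, hte] at hprod
  obtain ⟨x, hx, hxc⟩ := foldl_mem (M := U0 ⊔ cj r U0) (w.2.getD t []) (fun g hg => by
    rcases hlet g hg with h | ⟨u, hu, h⟩
    · obtain ⟨y, rfl⟩ := exists_code Hex.hexList_ok h
      exact ⟨y, mem_sup_left h, rfl⟩
    · obtain ⟨y, rfl⟩ := exists_code Hex.hexList_ok hu
      exact ⟨r * y * r⁻¹, mem_sup_right ⟨y, hu, rfl⟩, by rw [code_conj hr1 hr2]; exact h⟩) 1 (one_mem _)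
  rw [code_one, hprod, ← code_conj hα1 hα2] at hxc
  have hx' : n * x * n⁻¹ ∈ (U0 ⊔ cj r U0).map (MulAut.conj n).toMonoidHom := ⟨x, hx, rfl⟩
  rw [Subgroup.map_sup] at hx'
  show n * α * e * (n * α)⁻¹ ∈ U0 ⊔ cj k U0
  rw [hkσ, hnr, show n * α * e * (n * α)⁻¹ = n * x * n⁻¹ by rw [code_injective hxc]; group, ← cj_cj]
  conv => enter [1, 1]; rw [← hn]
  exact hx'

theorem invFacts_pair : InvFacts innerPair U0 :=
  ⟨fun _ ha => cover ha, fun _ hA => norm32 hA, two_hexads⟩

/-! ### Transport -/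

theorem transport {K L : Type*} [Group K] [Group L] (φ : K ≃* L) {I U : Subgroup K} (h : InvFacts I U) :
    InvFacts (I.map φ.toMonoidHom) (U.map φ.toMonoidHom) := by
  have hcard : ∀ A : Subgroup K, Nat.card ↥(A.map φ.toMonoidHom) = Nat.card ↥A := fun A =>
    (Nat.card_congr (A.equivMapOfInjective _ φ.injective).toEquiv).symm
  have hback : ∀ B : Subgroup L, ∃ A : Subgroup K, A.map φ.toMonoidHom = B := fun B =>
    ⟨B.comap φ.toMonoidHom, Subgroup.map_comap_eq_self_of_surjective φ.surjective B⟩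
  have h32 : ∀ A : Subgroup K, IsThirtyTwo (A.map φ.toMonoidHom) ↔ IsThirtyTwo A := fun A => by
    refine ⟨fun hA => ⟨fun a ha => φ.injective (by rw [map_mul, map_one]; exact hA.1 _ ⟨a, ha, rfl⟩),
      (hcard A).symm.trans hA.2⟩, fun hA => ⟨?_, (hcard A).trans hA.2⟩⟩
    rintro _ ⟨a, ha, rfl⟩
    rw [← map_mul, hA.1 a ha, map_one]
  refine ⟨fun b hb => ?_, fun B hB => ?_, fun k hk => ?_⟩
  · obtain ⟨a, rfl⟩ := φ.surjective b
    obtain ⟨A, hA, haA⟩ := h.cover a (by rwa [MulEquiv.orderOf_eq] at hb)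
    exact ⟨A.map φ.toMonoidHom, (h32 A).2 hA, a, haA, rfl⟩
  · obtain ⟨A, rfl⟩ := hback B
    rw [← Subgroup.map_equiv_normalizer_eq, card_map_of_injective (f := φ.toMonoidHom) φ.injective]
    exact h.norm32 A ((h32 A).1 hB)
  · obtain ⟨k, rfl⟩ := φ.surjective k
    rw [← Hex.map_cj] at hk ⊢
    obtain ⟨A, hA, hle⟩ := h.two_hexads k fun e => hk (by rw [e])
    refine ⟨A.map φ.toMonoidHom, (h32 A).2 hA, ?_⟩
    rw [← Subgroup.map_sup, ← Subgroup.map_inf _ _ _ φ.injective]
    exact Subgroup.map_mono hle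

end InvCert

/-- The hexad kernel in the automorphism group of M₂₂. -/
noncomputable abbrev hexKer : Subgroup AutM22 := Hex.U0.map pairEquiv.toMonoidHom

theorem hexFacts_hexKer : HexFacts innerM22 hexKer :=
  map_innerPair ▸ Hex.transport pairEquiv Hex.hexFacts_pair

/-- The facts used for the classes of involutions. -/
theorem invFacts_hexKer : InvFacts innerM22 hexKer :=
  map_innerPair ▸ InvCert.transport pairEquiv InvCert.invFacts_pair

end Cfsg.Agent.JankoFour
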