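import Cfsg.Agent.Lib.JankoFour.HexOrbProof
import Cfsg.Agent.Lib.JankoFour.InvFactsProof

/-!
# The facts on the normaliser of `hexKer` (S5568, S5569)
-/

set_option autoImplicit false

namespace Cfsg.Agent.JankoFour

/-- The facts on the normaliser of the hexad kernel. -/
theorem hexOrbFacts_hexKer : HexOrbFacts innerM22 hexKer :=
  map_innerPair ▸ Hex.transportOrb pairEquiv Hex.hexOrbFacts_pair

end Cfsg.Agent.JankoFour
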