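import Cfsg.Agent.Lib.JankoFour.HexInterface

/-!
# Further facts on the sixteen `U₀` of `M₂₂` (S5568 orbits, S5567)

In the hexad picture `duads` counts the fifteen pairs inside the hexad of `U₀`.
-/

set_option autoImplicit false

namespace Cfsg.Agent.JankoFour

open Subgroup

/-- The facts used for the orbits of the normaliser of the elementary subgroup of order `2^11`. -/
structure HexOrbFacts {K : Type*} [Group K] (I U₀ : Subgroup K) : Prop where
  duads : Nat.card {A : Subgroup K // IsThirtyTwo A ∧ U₀ ≤ normalizer (A : Set K)} = 15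
  five : ∃ d ∈ I, (∀ u ∈ U₀, d * u * d⁻¹ ∈ U₀) ∧ orderOf d = 5
  adj : ∃ A : Subgroup K, IsThirtyTwo A ∧ U₀ ≤ normalizer (A : Set K) ∧
    ∀ a ∈ A ⊓ I, ∀ u ∈ U₀, a * u * a⁻¹ ∈ U₀
  self : ∀ a : K, (∀ u ∈ U₀, a * u = u * a) → a ∈ U₀
  meet : ∀ k : K, ∀ a ∈ U₀, a ≠ 1 → a ∈ cj k U₀ → cj k U₀ = U₀
  card_norm : Nat.card ↥(normalizer (U₀ : Set K)) = 11520

end Cfsg.Agent.JankoFour
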