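import Cfsg.Agent.Lib.JankoFour.HexFactsProof
import Cfsg.Agent.Lib.JankoFour.HexOrbInterface
import Cfsg.Agent.Lib.JankoFour.FusionE
import Cfsg.Agent.Lib.JankoFour.Data.OrbData

/-!
# The normaliser of the hexad kernel of `M₂₂` (S5568, S5567)

`exists_hexOrbFacts`: the subgroup of `exists_hexFacts` satisfies `HexOrbFacts`.
`thirtyTwoConj_autM22`: the elementary subgroups of order 32 of `Aut M₂₂` are conjugate.
-/

set_option autoImplicit false
set_option maxRecDepth 20000
set_option maxHeartbeats 4000000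
set_option linter.style.haveILetI false

namespace Cfsg.Agent.JankoFour

open Cfsg Subgroup Cfsg.Agent.Mathieu

namespace Hex

/-- All products of sublists. -/
def spanL : List ℕ → List ℕ
  | [] => [packId 24]
  | g :: gs => spanL gs ++ (spanL gs).map fun a => packMulS 24 g a

/-- `l` conjugates each of `gens` into `L`. -/
def normL (L gens : List ℕ) (l : ℕ) : Bool :=
  gens.all fun a => L.any fun b => (List.range 24).all fun i => appS b (appS l i) == appS l (appS a i)

theorem gens_ok :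
    (∀ g ∈ Data.hexGens, g ∈ Data.hexList) ∧ (∀ u ∈ Data.hexList, u ∈ spanL Data.hexGens) ∧
    (∀ g ∈ Data.elemGens, g ∈ Data.elemList) ∧ (∀ u ∈ Data.elemList, u ∈ spanL Data.elemGens) := by
  decide +kernel

theorem exists_mem_of_spanL {H : Subgroup ↥pairGrp} : ∀ {gens : List ℕ},
    (∀ g ∈ gens, ∃ σ ∈ H, code σ = g) → ∀ l ∈ spanL gens, ∃ σ ∈ H, code σ = l := by
  intro gens
  induction gens with
  | nil =>
    intro _ l hl
    simp only [spanL, List.mem_singleton] at hl
    exact ⟨1, H.one_mem, by rw [hl, code_one]⟩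
  | cons g gs ih =>
    intro h l hl
    simp only [spanL, List.mem_append, List.mem_map] at hl
    have h' : ∀ g ∈ gs, ∃ σ ∈ H, code σ = g := fun x hx => h x (List.mem_cons_of_mem _ hx)
    rcases hl with hl | ⟨a, ha, rfl⟩
    · exact ih h' l hl
    · obtain ⟨σ, hσ, rfl⟩ := h g List.mem_cons_self
      obtain ⟨τ, hτ, rfl⟩ := ih h' a ha
      exact ⟨σ * τ, H.mul_mem hσ hτ, code_mul σ τ⟩

theorem code_rep (σ : ↥pairGrp) : Rep ptEnc (σ : Equiv.Perm GolayPt) (code σ) := rep_canon _

theorem mem_normalizer_listSub {L gens : List ℕ} {h : groupList L = true}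
    (hsub : ∀ g ∈ gens, g ∈ L) (hspan : ∀ u ∈ L, u ∈ spanL gens) {x : ↥pairGrp}
    (hx : normL L gens (code x) = true) : x ∈ normalizer (listSub L h : Set ↥pairGrp) := by
  simp only [normL, List.all_eq_true, List.any_eq_true, List.mem_range, beq_iff_eq, appS_eq] at hx
  have hgen : ∀ g ∈ gens, ∃ σ ∈ (listSub L h).comap (MulAut.conj x).toMonoidHom, code σ = g := by
    intro g hg
    obtain ⟨σ, hσ⟩ := exists_code h (hsub g hg)
    obtain ⟨b, hb, he⟩ := hx g hg
    obtain ⟨τ, hτ⟩ := exists_code h hb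
    have heq : τ * x = x * σ := code_injective (by
      rw [code_mul, code_mul, packMulS_eq, packMulS_eq, hτ, hσ]
      exact canon_congr he)
    refine ⟨σ, ?_, hσ⟩
    show code (x * σ * x⁻¹) ∈ L
    rw [← heq, mul_inv_cancel_right, hτ]
    exact hb
  refine mem_normalizer_iff_map_conj_eq.2 (Subgroup.eq_of_le_of_card_ge ?_
    (le_of_eq (card_cj x (listSub L h)).symm))
  rintro _ ⟨a, ha, rfl⟩
  obtain ⟨σ, hσ, e⟩ := exists_mem_of_spanL hgen _ (hspan _ ha)
  rw [code_injective e] at hσ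
  exact hσ

theorem mem_normalizer_U0 {x : ↥pairGrp} (hx : normL Data.hexList Data.hexGens (code x) = true) :
    x ∈ normalizer (U0 : Set ↥pairGrp) := mem_normalizer_listSub gens_ok.1 gens_ok.2.1 hx

theorem mem_normalizer_A0 {x : ↥pairGrp} (hx : normL Data.elemList Data.elemGens (code x) = true) :
    x ∈ normalizer (A0 : Set ↥pairGrp) := mem_normalizer_listSub gens_ok.2.2.1 gens_ok.2.2.2 hx

theorem syl_facts : (sylList.all fun l => normL Data.hexList Data.hexGens l &&
      normL Data.elemList Data.elemGens l) = true ∧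
    (∀ l ∈ Data.hexList, l ∈ sylList) ∧ (∀ l ∈ Data.elemList, l ∈ sylList) := by
  decide +kernel

theorem S0_le : S0 ≤ normalizer (U0 : Set ↥pairGrp) ⊓ normalizer (A0 : Set ↥pairGrp) := fun σ hσ => by
  have h := List.all_eq_true.1 syl_facts.1 _ (mem_S0.1 hσ)
  rw [Bool.and_eq_true] at h
  exact ⟨mem_normalizer_U0 h.1, mem_normalizer_A0 h.2⟩

theorem U0_le_S0 : U0 ≤ S0 := fun _ h => mem_S0.2 (syl_facts.2.1 _ h)

theorem A0_le_S0 : A0 ≤ S0 := fun _ h => mem_S0.2 (syl_facts.2.2 _ h)

theorem mem_normalizer_of_conj {U : Subgroup ↥pairGrp} {n : ↥pairGrp}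
    (h : ∀ u ∈ U, n * u * n⁻¹ ∈ U) : n ∈ normalizer (U : Set ↥pairGrp) :=
  mem_normalizer_iff_map_conj_eq.2 (Subgroup.eq_of_le_of_card_ge
    (by rintro _ ⟨a, ha, rfl⟩; exact h a ha) (le_of_eq (card_cj n U).symm))

/-! ### The centraliser of an involution of the hexad kernel -/

/-- The test of one element commuting with the base involution. -/
def centTest (l : ℕ) : Bool :=
  normL Data.hexList Data.hexGens l &&
    (!(Data.hexGens.all fun g => commP 24 l g) || Data.hexList.contains l)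

/-- The candidates for the centraliser of the base involution. -/
def centList : List ℕ :=
  (solutions 24 Data.baseMoved Data.baseMoved pairLevels).map fun l =>
    cjN (Data.baseMover.2, Data.baseMover.1) (canonNum l)

theorem mover_facts : invPair Data.baseMover = true ∧
    cjN Data.baseMover Data.hexBase = Data.baseMoved := by
  decide +kernel

/-- The test on a list of at most `k` elements, in one pass. -/
def centAll : List ℕ → ℕ → Bool
  | [], _ => true
  | _ :: _, 0 => false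
  | l :: ls, k + 1 => centTest l && centAll ls k

theorem centAll_sound : ∀ {L : List ℕ} {k : ℕ}, centAll L k = true →
    L.all centTest = true ∧ L.length ≤ k
  | [], _, _ => ⟨rfl, Nat.zero_le _⟩
  | _ :: _, 0, h => Bool.noConfusion h
  | l :: ls, k + 1, h => by
    rw [centAll, Bool.and_eq_true] at h
    have h' := centAll_sound h.2
    exact ⟨by rw [List.all_cons, h.1, h'.1]; rfl, Nat.succ_le_succ h'.2⟩

theorem cent_search : centAll centList 768 = true := by
  decide +kernel

theorem cent_facts : centList.all centTest = true ∧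
    centList.length ≤ 768 ∧
    Data.hexBase ∈ Data.hexList ∧ Data.hexBase ≠ packId 24 :=
  ⟨(centAll_sound cent_search).1, (centAll_sound cent_search).2, by decide +kernel, by decide +kernel⟩

theorem exists_base : ∃ u ∈ U0, u ≠ 1 ∧ code u = Data.hexBase := by
  obtain ⟨u, hu⟩ := exists_code hexList_ok cent_facts.2.2.1
  refine ⟨u, ?_, fun e => cent_facts.2.2.2 (by rw [← hu, e, code_one]), hu⟩
  show code u ∈ Data.hexList
  rw [hu]
  exact cent_facts.2.2.1

theorem cent_sound {u c : ↥pairGrp} (hu : code u = Data.hexBase) (hc : c * u = u * c) :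
    code c ∈ centList ∧ centTest (code c) = true := by
  obtain ⟨g, hg1, hg2⟩ := exists_of_invPair mover_facts.1
  have hw : code (g * u * g⁻¹) = Data.baseMoved := by rw [code_conj hg1 hg2, hu, mover_facts.2]
  have hr : Rep ptEnc ((g * u * g⁻¹ : ↥pairGrp) : Equiv.Perm GolayPt) Data.baseMoved := hw ▸ code_rep _
  have hcomm : g * c * g⁻¹ * (g * u * g⁻¹) = g * u * g⁻¹ * (g * c * g⁻¹) := by
    calc g * c * g⁻¹ * (g * u * g⁻¹) = g * (c * u) * g⁻¹ := by simp [mul_assoc]
      _ = g * (u * c) * g⁻¹ := by rw [hc]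
      _ = g * u * g⁻¹ * (g * c * g⁻¹) := by simp [mul_assoc]
  obtain ⟨l, hl, hgl⟩ :=
    pairStab_cert.exists_solution hr hr (g * c * g⁻¹).2 (congrArg Subtype.val hcomm)
  have hmem : code c ∈ centList := by
    refine List.mem_map.2 ⟨l, hl, ?_⟩
    have := code_conj (σ := g⁻¹) (p := (Data.baseMover.2, Data.baseMover.1)) hg2
      (by rw [inv_inv]; exact hg1) (g * c * g⁻¹)
    rw [inv_inv, show g⁻¹ * (g * c * g⁻¹) * g = c by simp [mul_assoc],
      show code (g * c * g⁻¹) = canonNum l from canon_eq hgl] at this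
    exact this.symm
  exact ⟨hmem, List.all_eq_true.1 cent_facts.1 _ hmem⟩

theorem cent_normalises {u c : ↥pairGrp} (hu : code u = Data.hexBase) (hc : c * u = u * c) :
    c ∈ normalizer (U0 : Set ↥pairGrp) := by
  have ht := (cent_sound hu hc).2
  simp only [centTest, Bool.and_eq_true] at ht
  exact mem_normalizer_U0 ht.1

theorem self (a : ↥pairGrp) (ha : ∀ u ∈ U0, a * u = u * a) : a ∈ U0 := by
  obtain ⟨u, hu, -, hcode⟩ := exists_base
  have ht := (cent_sound hcode (ha u hu)).2
  simp only [centTest, Bool.and_eq_true, Bool.or_eq_true, Bool.not_eq_true'] at ht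
  refine List.contains_iff_mem.1 (ht.2.resolve_left fun h => ?_)
  have hall : (Data.hexGens.all fun g => commP 24 (code a) g) = true := by
    rw [List.all_eq_true]
    intro g hg
    obtain ⟨σ, rfl⟩ := exists_code hexList_ok (gens_ok.1 g hg)
    exact (commP_iff (code_rep a) (code_rep σ)).2 (congrArg Subtype.val (ha σ (gens_ok.1 _ hg)))
  rw [hall] at h
  exact Bool.noConfusion h

theorem meet (k a : ↥pairGrp) (ha : a ∈ U0) (h1 : a ≠ 1) (hk : a ∈ cj k U0) : cj k U0 = U0 := by
  obtain ⟨u, hu, hu1, hcode⟩ := exists_base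
  rw [cj_mem] at hk
  have hb1 : k⁻¹ * a * k ≠ 1 := fun e => h1 (by
    have := congrArg (fun x => k * x * k⁻¹) e
    simpa [mul_assoc] using this)
  obtain ⟨n, -, hn, hna⟩ := trans u hu hu1 a ha h1
  obtain ⟨m, -, hm, hmb⟩ := trans u hu hu1 _ hk hb1
  have hn' := mem_normalizer_of_conj hn
  have hm' := mem_normalizer_of_conj hm
  have hc : n⁻¹ * k * m * u = u * (n⁻¹ * k * m) := by
    calc n⁻¹ * k * m * u = n⁻¹ * k * (m * u * m⁻¹) * m := by simp [mul_assoc]
      _ = n⁻¹ * (n * u * n⁻¹) * k * m := by rw [hmb, hna]; simp [mul_assoc]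
      _ = u * (n⁻¹ * k * m) := by simp [mul_assoc]
  have hcn := cent_normalises hcode hc
  have : k ∈ normalizer (U0 : Set ↥pairGrp) := by
    have := mul_mem (mul_mem hn' hcn) (inv_mem hm')
    simpa [mul_assoc] using this
  exact mem_normalizer_iff_map_conj_eq.1 this

/-! ### Orders -/

theorem card_eq_mul_of_fibres {H : Type*} [Group H] {T : Type*} (K : Subgroup H) (f : H → T)
    (hf : Function.Surjective f) (h : ∀ a b, f a = f b ↔ a⁻¹ * b ∈ K) :
    Nat.card H = Nat.card T * Nat.card ↥K := by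
  have e : H ⧸ K ≃ T := Equiv.ofBijective
    (fun q => Quotient.liftOn' q f fun a b hab => (h a b).2 (QuotientGroup.leftRel_apply.1 hab))
    ⟨fun a b hab => by
      induction a using QuotientGroup.induction_on with | _ a => ?_
      induction b using QuotientGroup.induction_on with | _ b => ?_
      exact QuotientGroup.eq.2 ((h a b).1 hab),
    fun t => ⟨QuotientGroup.mk (hf t).choose, (hf t).choose_spec⟩⟩
  rw [Subgroup.card_eq_card_quotient_mul_card_subgroup K, Nat.card_congr e]

/-- The elements used for the order of the normaliser. -/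
def orderOK : Bool :=
  memPair Data.fiveNorm && canonNum Data.fiveNorm == Data.fiveNorm && app Data.fiveNorm 23 == 23 &&
    normL Data.hexList Data.hexGens Data.fiveNorm && packPowS 24 Data.fiveNorm 5 == packId 24 &&
    !(Data.fiveNorm == packId 24) &&
  (memPair Data.threeBoth && canonNum Data.threeBoth == Data.threeBoth &&
    normL Data.hexList Data.hexGens Data.threeBoth && normL Data.elemList Data.elemGens Data.threeBoth &&
    packPowS 24 Data.threeBoth 3 == packId 24 && !(Data.threeBoth == packId 24)) &&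
  (groupList Data.nineList && Data.nineList.all fun l => normL Data.hexList Data.hexGens l)

theorem orderOK_true : orderOK = true := by decide +kernel

theorem code_pow (σ : ↥pairGrp) : ∀ k, code (σ ^ k) = packPowS 24 (code σ) k
  | 0 => by rw [pow_zero, code_one, packPowS]
  | k + 1 => by rw [pow_succ', code_mul, code_pow σ k, packPowS]

theorem exists_five : ∃ d ∈ innerPair, (∀ u ∈ U0, d * u * d⁻¹ ∈ U0) ∧ orderOf d = 5 := by
  have h := orderOK_true
  simp only [orderOK, Bool.and_eq_true, beq_iff_eq, Bool.not_eq_true', beq_eq_false_iff_ne] at h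
  obtain ⟨⟨⟨⟨⟨⟨⟨hmem, hcan⟩, h23⟩, hn⟩, h5⟩, hne⟩, -⟩, -⟩ := h
  obtain ⟨d, hd⟩ := exists_rep_pair hmem
  have hc : code d = Data.fiveNorm := by rw [code, canon_eq hd, hcan]
  haveI : Fact (Nat.Prime 5) := ⟨by norm_num⟩
  exact ⟨d, fix23_iff.2 (hc ▸ h23), fun u hu =>
    (mem_normalizer_iff.1 (mem_normalizer_U0 (hc ▸ hn)) u).1 hu,
    orderOf_eq_prime (code_injective (by rw [code_pow, hc, h5, code_one]))
      fun e => hne (by rw [← hc, e, code_one])⟩

theorem exists_three : ∃ t : ↥pairGrp,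
    t ∈ normalizer (U0 : Set ↥pairGrp) ⊓ normalizer (A0 : Set ↥pairGrp) ∧ orderOf t = 3 := by
  have h := orderOK_true
  simp only [orderOK, Bool.and_eq_true, beq_iff_eq, Bool.not_eq_true', beq_eq_false_iff_ne] at h
  obtain ⟨⟨-, ⟨⟨⟨⟨hmem, hcan⟩, hn⟩, hna⟩, h3⟩, hne⟩, -⟩ := h
  obtain ⟨d, hd⟩ := exists_rep_pair hmem
  have hc : code d = Data.threeBoth := by rw [code, canon_eq hd, hcan]
  haveI : Fact (Nat.Prime 3) := ⟨by norm_num⟩
  exact ⟨d, ⟨mem_normalizer_U0 (hc ▸ hn), mem_normalizer_A0 (hc ▸ hna)⟩,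
    orderOf_eq_prime (code_injective (by rw [code_pow, hc, h3, code_one]))
      fun e => hne (by rw [← hc, e, code_one])⟩

theorem nine_nodup : Data.nineList.Nodup ∧ Data.nineList.length = 9 := by decide +kernel

theorem dvd_card_normalizer : 11520 ∣ Nat.card ↥(normalizer (U0 : Set ↥pairGrp)) := by
  have h256 : 256 ∣ Nat.card ↥(normalizer (U0 : Set ↥pairGrp)) :=
    card_S0 ▸ Subgroup.card_dvd_of_le (S0_le.trans inf_le_left)
  obtain ⟨d, -, hd, hd5⟩ := exists_five
  have h5 : 5 ∣ Nat.card ↥(normalizer (U0 : Set ↥pairGrp)) :=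
    hd5 ▸ Subgroup.orderOf_dvd_natCard _ (mem_normalizer_of_conj hd)
  have h := orderOK_true
  simp only [orderOK, Bool.and_eq_true, List.all_eq_true] at h
  obtain ⟨-, hg, hn⟩ := h
  have h9 : 9 ∣ Nat.card ↥(normalizer (U0 : Set ↥pairGrp)) := by
    have := Subgroup.card_dvd_of_le (H := listSub Data.nineList hg)
      (K := normalizer (U0 : Set ↥pairGrp)) fun σ hσ => mem_normalizer_U0 (hn _ hσ)
    rwa [card_listSub hg nine_nodup.1, nine_nodup.2] at this
  exact Nat.Coprime.mul_dvd_of_dvd_of_dvd (m := 256 * 9) (n := 5) (by norm_num)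
    (Nat.Coprime.mul_dvd_of_dvd_of_dvd (by norm_num) h256 h9) h5

theorem card_norm : Nat.card ↥(normalizer (U0 : Set ↥pairGrp)) = 11520 := by
  obtain ⟨u, hu, hu1, hcode⟩ := exists_base
  let C := Subgroup.centralizer ({u} : Set ↥pairGrp)
  have hCN : C ≤ normalizer (U0 : Set ↥pairGrp) := fun c hc =>
    cent_normalises hcode (Subgroup.mem_centralizer_singleton_iff.1 hc)
  have hC : Nat.card ↥C ≤ 768 := by
    have hsol : ∀ c : ↥C, code c.1 ∈ centList :=
      fun c => (cent_sound hcode (Subgroup.mem_centralizer_singleton_iff.1 c.2)).1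
    have := Nat.card_le_card_of_injective
      (fun c : ↥C => (⟨_, List.mem_toFinset.2 (hsol c)⟩ :
        (centList).toFinset))
      fun c c' e => Subtype.ext (code_injective (congrArg Subtype.val e))
    rw [Nat.card_eq_finsetCard] at this
    exact this.trans ((List.toFinset_card_le _).trans cent_facts.2.1)
  let f : ↥(normalizer (U0 : Set ↥pairGrp)) → ↥((U0 : Set ↥pairGrp) \ {1}) := fun n =>
    ⟨n.1 * u * n.1⁻¹, (mem_normalizer_iff.1 n.2 u).1 hu, by
      intro e
      rw [Set.mem_singleton_iff] at e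
      apply hu1
      have := congrArg (fun x => n.1⁻¹ * x * n.1) e
      simpa [mul_assoc] using this⟩
  have hcard := card_eq_mul_of_fibres (C.subgroupOf (normalizer (U0 : Set ↥pairGrp))) f ?_ ?_
  · rw [Nat.card_congr (Subgroup.subgroupOfEquivOfLe hCN).toEquiv, Nat.card_coe_set_eq,
      Set.ncard_sdiff_singleton_of_mem U0.one_mem, ← Nat.card_coe_set_eq,
      show Nat.card ↥(U0 : Set ↥pairGrp) = 16 from isSixteen_U0.2] at hcard
    have := Nat.le_of_dvd Nat.card_pos dvd_card_normalizer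
    omega
  · rintro ⟨b, hb, hb1⟩
    obtain ⟨n, -, hn, e⟩ := trans u hu hu1 b hb hb1
    exact ⟨⟨n, mem_normalizer_of_conj hn⟩, Subtype.ext e⟩
  · intro a b
    rw [mem_subgroupOf, Subgroup.mem_centralizer_singleton_iff, Subtype.ext_iff]
    show a.1 * u * a.1⁻¹ = b.1 * u * b.1⁻¹ ↔ a.1⁻¹ * b.1 * u = u * (a.1⁻¹ * b.1)
    constructor
    · intro e
      calc a.1⁻¹ * b.1 * u = a.1⁻¹ * (b.1 * u * b.1⁻¹) * b.1 := by simp [mul_assoc]
        _ = a.1⁻¹ * (a.1 * u * a.1⁻¹) * b.1 := by rw [e]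
        _ = u * (a.1⁻¹ * b.1) := by simp [mul_assoc]
    · intro e
      calc a.1 * u * a.1⁻¹ = a.1 * (u * (a.1⁻¹ * b.1)) * b.1⁻¹ := by simp [mul_assoc]
        _ = a.1 * (a.1⁻¹ * b.1 * u) * b.1⁻¹ := by rw [e]
        _ = b.1 * u * b.1⁻¹ := by simp [mul_assoc]

/-! ### The fifteen conjugates of the pair kernel -/

/-- The fifteen conjugates are normalised by the hexad kernel and differ. -/
def duadsOK : Bool :=
  Data.duadMovers.length == 15 && Data.duadMovers.all invPair &&
  (Data.duadMovers.all fun p =>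
    Data.hexList.all fun u => normL Data.elemList Data.elemGens (cjN (p.2, p.1) u)) &&
  (List.range 15).all fun i => (List.range 15).all fun j =>
    i == j || !normA (mulP ((Data.duadMovers.getD i (0, 0)).2, (Data.duadMovers.getD i (0, 0)).1)
      (Data.duadMovers.getD j (0, 0)))

theorem duadsOK_true : duadsOK = true := by decide +kernel

theorem duads : Nat.card {A : Subgroup ↥pairGrp // IsThirtyTwo A ∧ U0 ≤ normalizer (A : Set ↥pairGrp)}
    = 15 := by
  have hnorm : ∀ n : ↥pairGrp, n ∈ normalizer (U0 : Set ↥pairGrp) →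
      IsThirtyTwo (cj n A0) ∧ U0 ≤ normalizer (cj n A0 : Set ↥pairGrp) := fun n hn =>
    ⟨⟨cj_sq isThirtyTwo_A0.1, (card_cj n A0).trans isThirtyTwo_A0.2⟩, fun v hv => by
      rw [mem_normalizer_cj]
      exact (S0_le (U0_le_S0 ((mem_normalizer_iff''.1 hn v).1 hv))).2⟩
  let f : ↥(normalizer (U0 : Set ↥pairGrp)) →
      {A : Subgroup ↥pairGrp // IsThirtyTwo A ∧ U0 ≤ normalizer (A : Set ↥pairGrp)} := fun n =>
    ⟨cj n.1 A0, hnorm n.1 n.2⟩
  have hcard := card_eq_mul_of_fibres
    ((normalizer (A0 : Set ↥pairGrp)).subgroupOf (normalizer (U0 : Set ↥pairGrp))) f ?_ ?_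
  · rw [card_norm] at hcard
    set K := (normalizer (A0 : Set ↥pairGrp)).subgroupOf (normalizer (U0 : Set ↥pairGrp)) with hK
    have hK768 : 768 ∣ Nat.card ↥K := by
      have e : Nat.card ↥K =
          Nat.card ↥(normalizer (A0 : Set ↥pairGrp) ⊓ normalizer (U0 : Set ↥pairGrp)) := by
        rw [hK, ← Subgroup.inf_subgroupOf_right]
        exact Nat.card_congr (Subgroup.subgroupOfEquivOfLe inf_le_right).toEquiv
      rw [e, inf_comm]
      obtain ⟨t, ht, ht3⟩ := exists_three
      exact Nat.Coprime.mul_dvd_of_dvd_of_dvd (m := 256) (n := 3) (by norm_num)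
        (card_S0 ▸ Subgroup.card_dvd_of_le S0_le) (ht3 ▸ Subgroup.orderOf_dvd_natCard _ ht)
    have h := duadsOK_true
    simp only [duadsOK, Bool.and_eq_true, List.all_eq_true, beq_iff_eq, List.mem_range,
      Bool.or_eq_true, Bool.not_eq_true'] at h
    obtain ⟨⟨⟨hlen, hinv⟩, hu⟩, hdiff⟩ := h
    have hget : ∀ i : Fin 15, Data.duadMovers.getD i.val (0, 0) ∈ Data.duadMovers := fun i => by
      rw [List.getD_eq_getElem _ _ (by rw [hlen]; exact i.2)]
      exact List.getElem_mem _
    choose g hg1 hg2 using fun i : Fin 15 => exists_of_invPair (hinv _ (hget i))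
    let F : Fin 15 → {A : Subgroup ↥pairGrp // IsThirtyTwo A ∧ U0 ≤ normalizer (A : Set ↥pairGrp)} :=
      fun i => ⟨cj (g i) A0, ⟨cj_sq isThirtyTwo_A0.1, (card_cj _ A0).trans isThirtyTwo_A0.2⟩,
        fun v hv => by
          rw [mem_normalizer_cj]
          refine mem_normalizer_A0 ?_
          have := code_conj (σ := (g i)⁻¹)
            (p := ((Data.duadMovers.getD i.val (0, 0)).2, (Data.duadMovers.getD i.val (0, 0)).1))
            (hg2 i) (by rw [inv_inv]; exact hg1 i) v
          rw [inv_inv] at this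
          rw [this]
          exact hu _ (hget i) _ hv⟩
    have hF : Function.Injective F := by
      intro i j e
      by_contra hij
      have h2 := (hdiff i.val i.2 j.val j.2).resolve_left fun e' => hij (Fin.ext e')
      have e' : cj (g i) A0 = cj (g j) A0 := congrArg Subtype.val e
      have hmem : (g i)⁻¹ * g j ∈ normalizer (A0 : Set ↥pairGrp) := by
        refine mem_normalizer_iff_map_conj_eq.2 ?_
        show cj ((g i)⁻¹ * g j) A0 = A0
        rw [← cj_cj, ← e', cj_cj, inv_mul_cancel, cj_one]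
      rw [← normA_iff (σ := (g i)⁻¹ * g j) (p := mulP ((Data.duadMovers.getD i.val (0, 0)).2,
        (Data.duadMovers.getD i.val (0, 0)).1) (Data.duadMovers.getD j.val (0, 0)))
        (by rw [code_mul, hg2, hg1, mulP]) (by rw [mul_inv_rev, inv_inv, code_mul, hg2, hg1, mulP]),
        h2] at hmem
      exact Bool.noConfusion hmem
    have h15 := Nat.card_le_card_of_injective F hF
    rw [Nat.card_eq_fintype_card, Fintype.card_fin] at h15
    obtain ⟨m, hm⟩ := hK768
    have hm0 : 0 < m := Nat.pos_of_ne_zero fun e => by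
      rw [e, mul_zero] at hm; exact Nat.card_pos.ne' hm
    rw [hm, show (11520 : ℕ) = 15 * 768 by norm_num, ← mul_assoc, mul_comm (_ * 768)] at hcard
    nlinarith
  · rintro ⟨A, hA, hUA⟩
    have hP : IsPGroup 2 ↥(U0 ⊔ A) :=
      IsPGroup.to_sup_of_normal_right' (isPGroup_of_sq isSixteen_U0.1) (isPGroup_of_sq hA.1) hUA
    obtain ⟨g, hg⟩ := exists_conj_le hP
    have h1 : cj g U0 = U0 :=
      (sixteen_in_syl (isSixteen_cj isSixteen_U0) (cj_le_inner U0_le)
        ((Subgroup.map_mono le_sup_left).trans hg)).resolve_right (not_conj_inner g)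
    have h2 : cj g A = A0 := thirtyTwo_in_syl ⟨cj_sq hA.1, (card_cj g A).trans hA.2⟩
      ((Subgroup.map_mono le_sup_right).trans hg)
    exact ⟨⟨g⁻¹, inv_mem (mem_normalizer_iff_map_conj_eq.2 h1)⟩, Subtype.ext (cj_inv_eq h2).symm⟩
  · intro a b
    rw [mem_subgroupOf, mem_normalizer_iff_map_conj_eq, Subtype.ext_iff]
    show cj a.1 A0 = cj b.1 A0 ↔ cj (a.1⁻¹ * b.1) A0 = A0
    constructor
    · intro e; rw [← cj_cj, ← e, cj_cj, inv_mul_cancel, cj_one]
    · intro e
      conv_lhs => rw [← e, cj_cj, mul_inv_cancel_left]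

theorem hexOrbFacts_pair : HexOrbFacts innerPair U0 where
  duads := duads
  five := exists_five
  adj := ⟨A0, isThirtyTwo_A0, fun _ h => (S0_le (U0_le_S0 h)).2,
    fun a ha u hu => (mem_normalizer_iff.1 (S0_le (A0_le_S0 ha.1)).1 u).1 hu⟩
  self := self
  meet := meet
  card_norm := card_norm

/-! ### Transport -/

theorem transportOrb {K L : Type*} [Group K] [Group L] (φ : K ≃* L) {I U : Subgroup K}
    (h : HexOrbFacts I U) : HexOrbFacts (I.map φ.toMonoidHom) (U.map φ.toMonoidHom) := by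
  have hcard : ∀ A : Subgroup K, Nat.card ↥(A.map φ.toMonoidHom) = Nat.card ↥A := fun A =>
    (Nat.card_congr (A.equivMapOfInjective _ φ.injective).toEquiv).symm
  have hback : ∀ B : Subgroup L, ∃ A : Subgroup K, A.map φ.toMonoidHom = B := fun B =>
    ⟨B.comap φ.toMonoidHom, Subgroup.map_comap_eq_self_of_surjective φ.surjective B⟩
  have h32 : ∀ A : Subgroup K, IsThirtyTwo (A.map φ.toMonoidHom) ↔ IsThirtyTwo A := fun A =>
    ⟨fun hA => ⟨fun a ha => φ.injective (by rw [map_mul, map_one]; exact hA.1 _ ⟨a, ha, rfl⟩),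
      (hcard A).symm.trans hA.2⟩, fun hA => ⟨by
        rintro _ ⟨a, ha, rfl⟩; rw [← map_mul, hA.1 a ha, map_one], (hcard A).trans hA.2⟩⟩
  have hle : ∀ A : Subgroup K, U.map φ.toMonoidHom ≤ normalizer (A.map φ.toMonoidHom : Set L) ↔
      U ≤ normalizer (A : Set K) := fun A =>
    ⟨fun hA u hu => (mem_normalizer_map φ).1 (hA ⟨u, hu, rfl⟩),
      fun hA => by rintro _ ⟨u, hu, rfl⟩; exact (mem_normalizer_map φ).2 (hA hu)⟩
  refine ⟨?_, ?_, ?_, ?_, ?_, ?_⟩
  · rw [← h.duads]
    refine (Nat.card_congr (Equiv.ofBijective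
      (fun A => ⟨A.1.map φ.toMonoidHom, (h32 _).2 A.2.1, (hle _).2 A.2.2⟩) ⟨fun A B e => ?_, ?_⟩)).symm
    · exact Subtype.ext (Subgroup.map_injective φ.injective (congrArg Subtype.val e))
    · rintro ⟨B, hB, hB'⟩
      obtain ⟨A, rfl⟩ := hback B
      exact ⟨⟨A, (h32 A).1 hB, (hle A).1 hB'⟩, rfl⟩
  · obtain ⟨d, hd, hn, h5⟩ := h.five
    refine ⟨φ d, ⟨d, hd, rfl⟩, ?_, by rw [MulEquiv.orderOf_eq, h5]⟩
    rintro _ ⟨u, hu, rfl⟩
    exact ⟨_, hn u hu, by simp⟩
  · obtain ⟨A, hA, hUA, hn⟩ := h.adj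
    refine ⟨A.map φ.toMonoidHom, (h32 A).2 hA, (hle A).2 hUA, ?_⟩
    rintro _ ⟨⟨a, ha, rfl⟩, haI⟩ _ ⟨u, hu, rfl⟩
    exact ⟨_, hn a ⟨ha, (mem_map_apply φ).1 haI⟩ u hu, by simp⟩
  · intro a ha
    obtain ⟨a, rfl⟩ := φ.surjective a
    refine ⟨a, h.self a fun u hu => φ.injective ?_, rfl⟩
    rw [map_mul, map_mul]
    exact ha _ ⟨u, hu, rfl⟩
  · intro k a ha h1 hk
    obtain ⟨k, rfl⟩ := φ.surjective k
    obtain ⟨a, hu, rfl⟩ := ha
    rw [← map_cj] at hk ⊢
    rw [h.meet k a hu (fun e => h1 (by rw [e, map_one])) ((mem_map_apply φ).1 hk)]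
  · rw [← Subgroup.map_equiv_normalizer_eq, hcard, h.card_norm]

end Hex

/-- The facts on the subgroups of order 16 of `M₂₂`, with those on the normaliser. -/
theorem exists_hexOrbFacts :
    ∃ U₀ : Subgroup AutM22, HexFacts innerM22 U₀ ∧ HexOrbFacts innerM22 U₀ :=
  ⟨_, map_innerPair ▸ Hex.transport pairEquiv Hex.hexFacts_pair,
    map_innerPair ▸ Hex.transportOrb pairEquiv Hex.hexOrbFacts_pair⟩

/-- The elementary subgroups of order 32 of `Aut M₂₂` are conjugate. -/
theorem thirtyTwoConj_autM22 : ThirtyTwoConj AutM22 := by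
  intro U V hU hV
  obtain ⟨U₀, hU₀⟩ := exists_hexFacts
  obtain ⟨k, rfl⟩ := hU₀.conj32 U V hU hV
  exact ⟨k, fun a ha => ⟨a, ha, rfl⟩⟩

end Cfsg.Agent.JankoFour
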