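import Cfsg.Agent.Lib.JankoFour.HexBase

/-!
# Janko-four type: six conjugates of `z` in `E` attached to a sixteen of `M₂₂` (S5566)

* `IsStarFamily.conj`: a star family is transported by conjugation.
* `Star U gs`: points `gs i` whose images form a star family of `U`.
* `wSpan gs`: the span `W` of `z` and the `P`-translates of these conjugates; elementary of order `2^7`.
* `eq_wSpan`: a subgroup of `H` with image `U` meeting `E` in order `2^7` meets it in `W`.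
* `pullU`: the elements over `U` centralising `W`; at most `2^11` of them.
-/

set_option autoImplicit false
set_option linter.unusedSectionVars false

namespace Cfsg.Agent.JankoFour

open Subgroup
open scoped commutatorElement
open LargeExtraspecial (Hub Pair mem_conj_iff)

theorem mem_cj_iff {K : Type*} [Group K] {k a : K} {A : Subgroup K} : a ∈ cj k A ↔ k⁻¹ * a * k ∈ A :=
  mem_conj_iff

theorem cj_mul {K : Type*} [Group K] (k l : K) (A : Subgroup K) : cj (k * l) A = cj k (cj l A) := by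
  ext a
  rw [mem_cj_iff, mem_cj_iff, mem_cj_iff]
  rw [show (k * l)⁻¹ * a * (k * l) = l⁻¹ * (k⁻¹ * a * k) * l by group]

theorem cj_one {K : Type*} [Group K] (A : Subgroup K) : cj 1 A = A := by
  ext a; rw [mem_cj_iff]; simp

theorem mem_cj_conj {K : Type*} [Group K] {k a : K} {A : Subgroup K} (ha : a ∈ A) : k * a * k⁻¹ ∈ cj k A := by
  rw [mem_cj_iff, show k⁻¹ * (k * a * k⁻¹) * k = a by group]; exact ha

theorem mem_normalizer_cj {K : Type*} [Group K] {k u : K} {A : Subgroup K}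
    (hu : u ∈ normalizer (A : Set K)) : k * u * k⁻¹ ∈ normalizer (cj k A : Set K) := by
  refine mem_normalizer_iff.2 fun x => ?_
  show x ∈ cj k A ↔ _ ∈ cj k A
  rw [mem_cj_iff, mem_cj_iff,
    show k⁻¹ * (k * u * k⁻¹ * x * (k * u * k⁻¹)⁻¹) * k = u * (k⁻¹ * x * k) * u⁻¹ by group]
  exact mem_normalizer_iff.1 hu _

theorem IsStarFamily.conj {K : Type*} [Group K] {I A U : Subgroup K} {f : Fin 6 → K} (hI : I.Normal)
    (h : IsStarFamily I A U f) (k : K) : IsStarFamily I A (cj k U) fun i => k * f i := by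
  obtain ⟨h1, h2, h3, h4⟩ := h
  refine ⟨fun i => ?_, fun i => ?_, fun i j hij => ?_, fun i j => ?_⟩
  · obtain ⟨a, ha, ha1, haA⟩ := h1 i
    refine ⟨k * a * k⁻¹, mem_cj_conj ha, fun e => ha1 (conj_eq_one_iff.1 e), ?_⟩
    rw [cj_mul]; exact mem_cj_conj haA
  · rintro _ ⟨u, hu, rfl⟩
    rw [cj_mul]; exact mem_normalizer_cj (h2 i hu)
  · rw [show (k * f i)⁻¹ * (k * f j) = (f i)⁻¹ * f j by group]
    exact h3 i j hij
  · obtain ⟨a, ha, ha1, haI, haN⟩ := h4 i j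
    refine ⟨k * a * k⁻¹, ?_, fun e => ha1 (conj_eq_one_iff.1 e), hI.conj_mem a haI k, ?_⟩
    · rw [cj_mul]; exact mem_cj_conj ha
    · rw [cj_mul]; exact mem_normalizer_cj haN

variable {G : Type*} [Group G] {z : G} {P : Subgroup G}

/-- The subgroup generated by `z` and the `P`-translates of the conjugates `gs i`. -/
def wSpan (z : G) (P : Subgroup G) (gs : Fin 6 → G) : Subgroup G :=
  Subgroup.closure ({z} ∪ {e | ∃ i, ∃ q ∈ P, e = q * (gs i * z * (gs i)⁻¹) * q⁻¹})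

theorem z_mem_wSpan {gs : Fin 6 → G} : z ∈ wSpan z P gs := subset_closure (Or.inl rfl)

theorem pt_mem_wSpan {gs : Fin 6 → G} (i : Fin 6) {q : G} (hq : q ∈ P) :
    q * (gs i * z * (gs i)⁻¹) * q⁻¹ ∈ wSpan z P gs := subset_closure (Or.inr ⟨i, q, hq, rfl⟩)

theorem wSpan_conj {gs : Fin 6 → G} (hPz : ∀ p ∈ P, Commute p z) {p w : G} (hp : p ∈ P)
    (hw : w ∈ wSpan z P gs) : p * w * p⁻¹ ∈ wSpan z P gs := by
  have hle : (wSpan z P gs).map (MulAut.conj p).toMonoidHom ≤ wSpan z P gs := by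
    rw [wSpan, MonoidHom.map_closure, closure_le]
    rintro _ ⟨x, hx, rfl⟩
    show p * x * p⁻¹ ∈ Subgroup.closure _
    rcases hx with hx | ⟨i, q, hq, rfl⟩
    · rw [Set.mem_singleton_iff.1 hx, (hPz p hp).eq, mul_inv_cancel_right]
      exact subset_closure (Or.inl rfl)
    · rw [show p * (q * (gs i * z * (gs i)⁻¹) * q⁻¹) * p⁻¹ =
        p * q * (gs i * z * (gs i)⁻¹) * (p * q)⁻¹ by group]
      exact pt_mem_wSpan i (mul_mem hp hq)
  exact hle ⟨w, hw, rfl⟩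

namespace Ctx

variable [Finite G] (Γ : Ctx z P)

include Γ

/-- Points whose images form a star family of `U`. -/
structure Star (U : Subgroup AutM22) (gs : Fin 6 → G) : Prop where
  pt : ∀ i, Pt z (gs i)
  meets : ∀ i, ∃ a ∈ U, a ≠ 1 ∧ a ∈ Γ.imgA (gs i)
  norm : ∀ i, U ≤ normalizer (Γ.imgA (gs i) : Set AutM22)
  distinct : ∀ i j, i ≠ j → Γ.imgA (gs i) ≠ Γ.imgA (gs j)
  pairs : ∀ i j, ∃ a ∈ Γ.imgA (gs i), a ≠ 1 ∧ a ∈ innerM22 ∧ a ∈ normalizer (Γ.imgA (gs j) : Set AutM22)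

theorem inner_normal : (innerM22 : Subgroup AutM22).Normal := normal_of_index_eq_two Γ.F.index_two

theorem exists_star {U₀ : Subgroup AutM22} (HF : HexFacts innerM22 U₀) {g : G} (hg : Pt z g) (k : AutM22) :
    ∃ gs, Γ.Star (cj k U₀) gs := by
  obtain ⟨f0, hf0⟩ := HF.points _ (Γ.thirtyTwo_imgA hg)
  obtain ⟨h1, h2, h3, h4⟩ := hf0.conj Γ.inner_normal k
  choose hs hsH hsph using fun i => Γ.exists_ph (k * f0 i)
  have hA : ∀ i, Γ.imgA (hs i * g) = cj (k * f0 i) (Γ.imgA g) := fun i => by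
    rw [(Γ.imgA_conj hg (hsH i)).2, hsph]
  refine ⟨fun i => hs i * g, ⟨fun i => (Γ.imgA_conj hg (hsH i)).1, fun i => ?_, fun i => ?_,
    fun i j hij e => ?_, fun i j => ?_⟩⟩
  · rw [hA]; exact h1 i
  · rw [hA]; exact h2 i
  · rw [hA, hA] at e
    refine h3 i j hij (mem_normalizer_iff.2 fun x => ?_)
    show x ∈ Γ.imgA g ↔ _ ∈ Γ.imgA g
    have key := SetLike.ext_iff.1 e (k * f0 j * x * (k * f0 j)⁻¹)
    rw [mem_cj_iff, mem_cj_iff,
      show (k * f0 j)⁻¹ * (k * f0 j * x * (k * f0 j)⁻¹) * (k * f0 j) = x by group] at key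
    rw [show (k * f0 i)⁻¹ * (k * f0 j) * x * ((k * f0 i)⁻¹ * (k * f0 j))⁻¹ =
      (k * f0 i)⁻¹ * (k * f0 j * x * (k * f0 j)⁻¹) * (k * f0 i) by group]
    exact key.symm
  · rw [hA, hA]; exact h4 i j

/-- Points with the same conjugate of `z` have the same image. -/
theorem imgA_eq_of_eq {g g' : G} (hg : Pt z g) (hg' : Pt z g') (h : g * z * g⁻¹ = g' * z * g'⁻¹) :
    Γ.imgA g' = Γ.imgA g := by
  have hc : Commute (g⁻¹ * g') z := by
    show g⁻¹ * g' * z = z * (g⁻¹ * g')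
    calc g⁻¹ * g' * z = g⁻¹ * (g' * z * g'⁻¹) * g' := by group
      _ = g⁻¹ * (g * z * g⁻¹) * g' := by rw [h]
      _ = z * (g⁻¹ * g') := by group
  have hle : conjE z g' ≤ conjE z g := by
    intro x hx
    rw [mem_conj_iff] at hx ⊢
    have := Γ.conj_core (mem_H.2 hc) hx
    rwa [show g⁻¹ * g' * (g'⁻¹ * x * g') * (g⁻¹ * g')⁻¹ = g⁻¹ * x * g by group] at this
  refine eq_of_le_of_card_ge ?_ (by rw [(Γ.card_facts hg).2.2.2, (Γ.card_facts hg').2.2.2])
  rintro _ ⟨m, rfl⟩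
  rw [Γ.homD_apply]
  exact Γ.ph_mem_imgA hg (Subgroup.mem_inf.2 ⟨hle m.2.1, m.2.2⟩)

/-- Points with the same conjugate of `z` modulo `z` have the same image. -/
theorem imgA_eq_of_eqz {g g' : G} (hg : Pt z g) (hg' : Pt z g')
    (h : Eqz z (g' * z * g'⁻¹) (g * z * g⁻¹)) : Γ.imgA g' = Γ.imgA g := by
  rcases h with h | h
  · exact Γ.imgA_eq_of_eq hg hg' h.symm
  · obtain ⟨e, he, hec⟩ : ∃ e ∈ coreE z, e * (g * z * g⁻¹) * e⁻¹ = z * (g * z * g⁻¹) := by
      by_contra hno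
      push Not at hno
      rcases Γ.S.hub.self _ (fun e he => show Commute (g * z * g⁻¹) e from
        ((mul_inv_eq_iff_eq_mul.1 ((Γ.comm_core he hg.mem).resolve_right (hno e he)) :
          Commute e (g * z * g⁻¹))).symm) with e' | e'
      exacts [(Γ.hub_pt g).ne_one e', hg.ne e']
    obtain ⟨hpt, himg⟩ := Γ.imgA_conj hg (coreE_le_H he)
    rw [Γ.imgA_eq_of_eq hpt hg' (by rw [h, ← hec]; group), himg, Γ.ph_core he, cj_one]

theorem imgA_P {g q : G} (hg : Pt z g) (hq : q ∈ P) : Pt z (q * g) ∧ Γ.imgA (q * g) = Γ.imgA g := by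
  obtain ⟨hpt, himg⟩ := Γ.imgA_conj hg (Γ.S.P_le hq)
  exact ⟨hpt, by rw [himg, Γ.ph_P hq, cj_one]⟩

variable {U : Subgroup AutM22} {gs : Fin 6 → G} (St : Γ.Star U gs)

include St

theorem wSpan_le : wSpan z P gs ≤ coreE z := by
  rw [wSpan, closure_le]
  rintro x (hx | ⟨i, q, hq, rfl⟩)
  · rw [Set.mem_singleton_iff.1 hx]; exact Γ.z_mem_core
  · exact Γ.conj_core (Γ.S.P_le hq) (St.pt i).mem

theorem wSpan_comm : ∀ x ∈ wSpan z P gs, ∀ y ∈ wSpan z P gs, x * y = y * x := by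
  have hz : ∀ {e : G}, e ∈ coreE z → z * e = e * z := fun he => (Γ.S.hub.central _ he).eq.symm
  have key : ∀ i j, ∀ q ∈ P, Commute (q * (gs i * z * (gs i)⁻¹) * q⁻¹) (gs j * z * (gs j)⁻¹) := by
    intro i j q hq
    obtain ⟨a, ha, ha1, hai, han⟩ := St.pairs j i
    exact Γ.commute_pt (St.pt j) (St.pt i) ha ha1 hai han hq
  have hab : IsMulCommutative ↥(wSpan z P gs) := by
    refine isMulCommutative_closure fun x hx y hy => ?_
    rcases hx with hx | ⟨i, q, hq, rfl⟩ <;> rcases hy with hy | ⟨j, q', hq', rfl⟩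
    · rw [Set.mem_singleton_iff.1 hx, Set.mem_singleton_iff.1 hy]
    · rw [Set.mem_singleton_iff.1 hx]; exact hz (Γ.conj_core (Γ.S.P_le hq') (St.pt j).mem)
    · rw [Set.mem_singleton_iff.1 hy]; exact (hz (Γ.conj_core (Γ.S.P_le hq) (St.pt i).mem)).symm
    · have := (key i j (q'⁻¹ * q) (mul_mem (inv_mem hq') hq)).map (MulAut.conj q').toMonoidHom
      simp only [MulEquiv.toMonoidHom_eq_coe, MonoidHom.coe_coe, MulAut.conj_apply] at this
      rw [show q' * (q'⁻¹ * q * (gs i * z * (gs i)⁻¹) * (q'⁻¹ * q)⁻¹) * q'⁻¹ =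
        q * (gs i * z * (gs i)⁻¹) * q⁻¹ by group] at this
      exact this.eq
  exact fun x hx y hy => congrArg Subtype.val (hab.1.1 ⟨x, hx⟩ ⟨y, hy⟩)

theorem wSpan_sq {w : G} (hw : w ∈ wSpan z P gs) : w * w = 1 := by
  have hc := Γ.wSpan_comm St
  rw [wSpan] at hw
  induction hw using Subgroup.closure_induction with
  | mem x hx =>
    rcases hx with hx | ⟨i, q, hq, rfl⟩
    · rw [Set.mem_singleton_iff.1 hx]; exact Γ.S.hub.sq
    · rw [show q * (gs i * z * (gs i)⁻¹) * q⁻¹ * (q * (gs i * z * (gs i)⁻¹) * q⁻¹) =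
        q * (gs i * z * (gs i)⁻¹ * (gs i * z * (gs i)⁻¹)) * q⁻¹ by group, (Γ.hub_pt (gs i)).sq]
      group
  | one => exact one_mul 1
  | mul a b ha hb iha ihb =>
    calc a * b * (a * b) = a * (b * a) * b := by group
      _ = a * (a * b) * b := by rw [hc b hb a ha]
      _ = (a * a) * (b * b) := by group
      _ = 1 := by rw [iha, ihb, one_mul]
  | inv a _ iha => rw [← mul_inv_rev, iha, inv_one]

theorem pt_inj {i j : Fin 6} {q q' : G} (hq : q ∈ P) (hq' : q' ∈ P)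
    (h : Eqz z (q * (gs i * z * (gs i)⁻¹) * q⁻¹) (q' * (gs j * z * (gs j)⁻¹) * q'⁻¹)) : i = j ∧ q = q' := by
  have hij : i = j := by
    by_contra hne
    obtain ⟨hp, hi⟩ := Γ.imgA_P (St.pt i) hq
    obtain ⟨hp', hj⟩ := Γ.imgA_P (St.pt j) hq'
    refine St.distinct i j hne ?_
    rw [← hi, ← hj]
    refine Γ.imgA_eq_of_eqz hp' hp ?_
    rwa [show q * gs i * z * (q * gs i)⁻¹ = q * (gs i * z * (gs i)⁻¹) * q⁻¹ by group,
      show q' * gs j * z * (q' * gs j)⁻¹ = q' * (gs j * z * (gs j)⁻¹) * q'⁻¹ by group]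
  refine ⟨hij, ?_⟩
  subst hij
  by_contra hne
  have hc := h.conj (Γ.P_comm (inv_mem hq'))
  rw [show q'⁻¹ * (q * (gs i * z * (gs i)⁻¹) * q⁻¹) * q'⁻¹⁻¹ =
      q'⁻¹ * q * (gs i * z * (gs i)⁻¹) * (q'⁻¹ * q)⁻¹ by group,
    show q'⁻¹ * (q' * (gs i * z * (gs i)⁻¹) * q'⁻¹) * q'⁻¹⁻¹ = gs i * z * (gs i)⁻¹ by group] at hc
  rcases Γ.eq_one_or_z_of_fixed (mul_mem (inv_mem hq') hq)
    (fun e => hne (inv_mul_eq_one.1 e).symm) (St.pt i).mem hc with e | e
  exacts [(Γ.hub_pt (gs i)).ne_one e, (St.pt i).ne e]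

theorem card_wSpan : Nat.card ↥(wSpan z P gs) = 2 ^ 7 := by
  classical
  set W := wSpan z P gs with hW
  have hle : Nat.card ↥W ≤ 2 ^ 7 :=
    Γ.abelian_card_le (a := 1) (by rw [Γ.eq_conjE_one]; exact Γ.wSpan_le St) (Γ.wSpan_comm St)
  let f : Fin 6 × ↥P × Bool → ↥W := fun x =>
    ⟨(if x.2.2 then z else 1) * ((x.2.1 : G) * (gs x.1 * z * (gs x.1)⁻¹) * (x.2.1 : G)⁻¹), by
      refine mul_mem ?_ (pt_mem_wSpan x.1 x.2.1.2)
      split_ifs
      exacts [z_mem_wSpan, one_mem _]⟩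
  have hf : Function.Injective f := by
    rintro ⟨i, ⟨q, hq⟩, b⟩ ⟨j, ⟨q', hq'⟩, b'⟩ h
    have h' := congrArg Subtype.val h
    simp only [f] at h'
    have hEq : Eqz z (q * (gs i * z * (gs i)⁻¹) * q⁻¹) (q' * (gs j * z * (gs j)⁻¹) * q'⁻¹) := by
      rcases b <;> rcases b' <;>
        simp only [Bool.false_eq_true, if_false, if_true, one_mul] at h'
      · exact Or.inl h'
      · exact Or.inr h'
      · exact Γ.eqz_symm (Or.inr h'.symm)
      · exact Or.inl (mul_left_cancel h')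
    obtain ⟨rfl, rfl⟩ := Γ.pt_inj St hq hq' hEq
    have hb : (if b then z else (1 : G)) = if b' then z else 1 := mul_right_cancel h'
    rcases b <;> rcases b' <;> first | rfl | (exfalso; simp at hb)
    · exact Γ.S.hub.ne_one hb.symm
    · exact Γ.S.hub.ne_one hb
  have h36 := Nat.card_le_card_of_injective f hf
  simp only [Nat.card_prod, Nat.card_eq_fintype_card (α := Fin 6), Fintype.card_fin, Γ.S.card_P,
    Nat.card_eq_fintype_card (α := Bool), Fintype.card_bool] at h36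
  have : Fact (Nat.Prime 2) := ⟨Nat.prime_two⟩
  obtain ⟨n, hn⟩ := IsPGroup.iff_card.1 (Γ.core_two.to_le (Γ.wSpan_le St))
  rw [hn] at hle h36 ⊢
  have hn6 : 6 ≤ n := (Nat.pow_lt_pow_iff_right (by norm_num)).1 (show 2 ^ 5 < 2 ^ n by omega)
  have hn7 : n ≤ 7 := (Nat.pow_le_pow_iff_right (by norm_num)).1 hle
  suffices n ≠ 6 by rw [show n = 7 by omega]
  rintro rfl
  -- `P` fixes exactly two points
  have : Fact (Nat.Prime 3) := ⟨Nat.prime_three⟩
  letI : MulAction ↥P ↥W :=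
    { smul := fun p w => ⟨(p : G) * w * (p : G)⁻¹, wSpan_conj (fun _ h => Γ.P_comm h) p.2 w.2⟩
      one_smul := fun w => Subtype.ext (show ((1 : ↥P) : G) * w * ((1 : ↥P) : G)⁻¹ = w by simp)
      mul_smul := fun a b w => Subtype.ext (show ((a * b : ↥P) : G) * w * ((a * b : ↥P) : G)⁻¹ =
        (a : G) * ((b : G) * w * (b : G)⁻¹) * (a : G)⁻¹ by push_cast; group) }
  have hmod := (IsPGroup.of_card (n := 1) (by rw [Γ.S.card_P, pow_one]) : IsPGroup 3 ↥P)
    |>.card_modEq_card_fixedPoints ↥W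
  obtain ⟨p, hp, hp1⟩ := Γ.exists_generator
  have hfix : MulAction.fixedPoints ↥P ↥W = {1, ⟨z, z_mem_wSpan⟩} := by
    ext w
    simp only [MulAction.mem_fixedPoints, Set.mem_insert_iff, Set.mem_singleton_iff]
    constructor
    · intro hw
      exact (Γ.eq_one_or_z_of_fixed hp hp1 (Γ.wSpan_le St w.2)
        (Or.inl (congrArg Subtype.val (hw ⟨p, hp⟩)))).imp (fun e => Subtype.ext e) fun e => Subtype.ext e
    · rintro (rfl | rfl) q <;> refine Subtype.ext ?_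
      · show (q : G) * 1 * (q : G)⁻¹ = 1; group
      · show (q : G) * z * (q : G)⁻¹ = z; rw [(Γ.P_comm q.2).eq, mul_inv_cancel_right]
  rw [hfix, hn, Nat.card_coe_set_eq, Set.ncard_pair
    (fun e => Γ.S.hub.ne_one (congrArg Subtype.val e).symm)] at hmod
  exact absurd hmod (by decide)

/-- An inner element over `U` of square in `E` fixes `W` modulo `z`. -/
theorem eqz_wSpan (hU : U ≤ innerM22) {v : G} (hv : v ∈ centralizer ({z} : Set G)) (hvU : Γ.ph v ∈ U)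
    (h2 : v * v ∈ coreE z) {w : G} (hw : w ∈ wSpan z P gs) : Eqz z (v * w * v⁻¹) w := by
  have hle : wSpan z P gs ≤ Γ.fixZ v := by
    rw [wSpan, closure_le]
    rintro x (hx | ⟨i, q, hq, rfl⟩)
    · rw [Set.mem_singleton_iff.1 hx]; exact Γ.mem_fixZ.2 ⟨Γ.z_mem_core, Γ.eqz_z hv⟩
    · exact Γ.mem_fixZ.2 ⟨Γ.conj_core (Γ.S.P_le hq) (St.pt i).mem,
        Γ.eqz_P_conj hv (hU hvU) hq (St.pt i).mem (Γ.eqz_pt (St.pt i) hv (hU hvU) h2 (St.norm i hvU))⟩
  exact (Γ.mem_fixZ.1 (hle hw)).2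

/-- An element of `E` commuting with `W` is in `W`. -/
theorem mem_wSpan_of_commute {e : G} (he : e ∈ coreE z) (h : ∀ w ∈ wSpan z P gs, e * w = w * e) :
    e ∈ wSpan z P gs :=
  Γ.mem_of_commute_seven (a := 1) (by rw [Γ.eq_conjE_one]; exact Γ.wSpan_le St) (Γ.wSpan_comm St)
    (Γ.card_wSpan St).ge (by rw [Γ.eq_conjE_one]; exact he) h

/-- A commutative subgroup of `H` with image `U` meeting `E` in order `2^7` meets it in `W`. -/
theorem eq_wSpan (hU : U ≤ innerM22) {V : Subgroup G} (hV : V ≤ centralizer ({z} : Set G))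
    (hc : ∀ x ∈ V, ∀ y ∈ V, x * y = y * x) (himg : img Γ.S V = U)
    (h7 : Nat.card ↥(V ⊓ coreE z) = 2 ^ 7) : V ⊓ coreE z = wSpan z P gs := by
  refine eq_of_le_of_card_ge ?_ (by rw [Γ.card_wSpan St, h7])
  intro e he
  refine Γ.mem_wSpan_of_commute St he.2 fun w hw => ?_
  have hle : wSpan z P gs ≤ centralizer ({e} : Set G) := by
    rw [wSpan, closure_le]
    rintro x (hx | ⟨i, q, hq, rfl⟩)
    · rw [Set.mem_singleton_iff.1 hx]
      exact mem_centralizer_singleton_iff.2 (Γ.S.hub.central e he.2).eq.symm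
    · obtain ⟨a, haU, ha1, haA⟩ := St.meets i
      obtain ⟨hpt, himgA⟩ := Γ.imgA_P (St.pt i) hq
      obtain ⟨v, hv, hvH, hva⟩ := Γ.exists_img (himg.symm ▸ haU : a ∈ img Γ.S V)
      have := Γ.commute_of_img hpt (himgA.symm ▸ haA) ha1 (hU haU) he.2 hvH hva
        (Or.inl (by rw [hc v hv e he.1, mul_inv_cancel_right]))
      rw [show q * gs i * z * (q * gs i)⁻¹ = q * (gs i * z * (gs i)⁻¹) * q⁻¹ by group] at this
      exact mem_centralizer_singleton_iff.2 this.eq.symm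
  exact (mem_centralizer_singleton_iff.1 (hle hw)).symm

/-- An element centralising `W` with trivial image lies in `E`. -/
theorem mem_core_of_cent {v : G} (hv : v ∈ centralizer ({z} : Set G)) (h1 : Γ.ph v = 1)
    (hc : v ∈ centralizer (wSpan z P gs : Set G)) : v ∈ coreE z := by
  refine Γ.mem_core_of_stab (St.pt 0).mem (Γ.hub_pt (gs 0)).ne_one (St.pt 0).ne hv h1 ?_
  have := hc _ (pt_mem_wSpan (z := z) (gs := gs) 0 P.one_mem)
  simp only [one_mul, inv_one, mul_one] at this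
  exact this.symm

omit St in
/-- The elements over `U` centralising `W`. -/
noncomputable def pullU (U : Subgroup AutM22) (gs : Fin 6 → G) : Subgroup G :=
  (U.comap Γ.S.pi).map (centralizer ({z} : Set G)).subtype ⊓ centralizer (wSpan z P gs : Set G)

omit St in
theorem mem_pullU {v : G} : v ∈ Γ.pullU U gs ↔
    v ∈ centralizer ({z} : Set G) ∧ Γ.ph v ∈ U ∧ v ∈ centralizer (wSpan z P gs : Set G) := by
  constructor
  · rintro ⟨⟨c, hc, rfl⟩, hv⟩
    exact ⟨c.2, by rw [subtype_apply, Γ.ph_eq c.2]; exact hc, hv⟩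
  · rintro ⟨hH, hU, hv⟩
    exact ⟨⟨⟨v, hH⟩, by rw [SetLike.mem_coe, mem_comap, ← Γ.ph_eq hH]; exact hU, rfl⟩, hv⟩

theorem pullU_card (hU : IsSixteen U) : Nat.card ↥(Γ.pullU U gs) ≤ 2 ^ 11 := by
  have hH : Γ.pullU U gs ≤ centralizer ({z} : Set G) := fun v hv => (Γ.mem_pullU.1 hv).1
  have hsq : ∀ v ∈ Γ.pullU U gs, v * v ∈ coreE z := fun v hv => by
    obtain ⟨h1, h2, h3⟩ := Γ.mem_pullU.1 hv
    exact Γ.mem_core_of_cent St (mul_mem h1 h1) (by rw [Γ.ph_mul h1 h1, hU.1 _ h2]) (mul_mem h3 h3)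
  rw [← Γ.card_img hH hsq]
  refine (Nat.mul_le_mul ((Subgroup.card_le_of_le ?_).trans_eq hU.2)
    ((Subgroup.card_le_of_le ?_).trans_eq (Γ.card_wSpan St))).trans (by norm_num)
  · intro a ha
    obtain ⟨v, hv, -, rfl⟩ := Γ.exists_img ha
    exact (Γ.mem_pullU.1 hv).2.1
  · intro e he
    exact Γ.mem_wSpan_of_commute St he.2 fun w hw => ((Γ.mem_pullU.1 he.1).2.2 w hw).symm

/-- An elementary subgroup of order at least `2^11` with image `U` is `pullU U gs`. -/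
theorem eq_pullU (hU : U ≤ innerM22) (h16 : IsSixteen U) {V : Subgroup G}
    (hV : V ≤ centralizer ({z} : Set G)) (hel : ∀ v ∈ V, v * v = 1) (h11 : 2 ^ 11 ≤ Nat.card ↥V)
    (himg : img Γ.S V = U) : V = Γ.pullU U gs := by
  have hc : ∀ x ∈ V, ∀ y ∈ V, x * y = y * x := by
    intro x hx y hy
    have hxy := hel _ (mul_mem hx hy)
    calc x * y = x * (x * y * (x * y)) * y := by rw [hxy, mul_one]
      _ = (x * x) * (y * x) * (y * y) := by group
      _ = y * x := by rw [hel x hx, hel y hy, one_mul, mul_one]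
  have hW := Γ.eq_wSpan St hU hV hc himg (Γ.img_facts hV hel h11).2.2.1
  refine eq_of_le_of_card_ge (fun v hv => Γ.mem_pullU.2 ⟨hV hv, himg ▸ Γ.ph_mem_img hV hv, ?_⟩)
    ((Γ.pullU_card St h16).trans h11)
  intro w hw
  exact (hc v hv w ((hW.symm ▸ hw : w ∈ V ⊓ coreE z).1)).symm

end Ctx

end Cfsg.Agent.JankoFour
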