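import Cfsg.Agent.Lib.JankoFour.HexLift

/-!
# Janko-four type: one elementary abelian subgroup of order `2^11` in a Sylow 2-subgroup (S5566)

* `not_duad`: the inner image of such a subgroup of `H` lies in no 32.
* `img_conj`: it is a conjugate of `U₀`.
* `unique_in`: two of them in one 2-subgroup of `H` coincide.
* `unique_in_sylow`: exactly one in each Sylow 2-subgroup of `G`.
-/

set_option autoImplicit false
set_option linter.unusedSectionVars false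

namespace Cfsg.Agent.JankoFour

open Subgroup
open scoped commutatorElement Pointwise
open LargeExtraspecial (Hub Pair mem_conj_iff)

variable {G : Type*} [Group G] {z : G} {P : Subgroup G}

namespace Ctx

variable [Finite G] (Γ : Ctx z P) {U₀ : Subgroup AutM22} (HF : HexFacts innerM22 U₀)
  {g : G} (hg : Pt z g)

include Γ HF hg

theorem not_duad {V : Subgroup G} (hV : V ≤ centralizer ({z} : Set G)) (hel : ∀ v ∈ V, v * v = 1)
    (h11 : 2 ^ 11 ≤ Nat.card ↥V) {A : Subgroup AutM22} (hA : IsThirtyTwo A) : ¬ img Γ.S V ≤ A := by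
  intro hUA
  obtain ⟨hUI, ⟨hUsq, hU16⟩, hW7, -⟩ := Γ.img_facts hV hel h11
  obtain ⟨k, hk⟩ := HF.conj32 _ A (Γ.thirtyTwo_imgA hg) hA
  obtain ⟨h, hh, hhk⟩ := Γ.exists_ph k
  obtain ⟨hg', hA'⟩ := Γ.imgA_conj hg hh
  rw [hhk, ← hk] at hA'
  have hc : ∀ x ∈ V, ∀ y ∈ V, x * y = y * x := by
    intro x hx y hy
    have hxy := hel _ (mul_mem hx hy)
    calc x * y = x * (x * y * (x * y)) * y := by rw [hxy, mul_one]
      _ = (x * x) * (y * x) * (y * y) := by group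
      _ = y * x := by rw [hel x hx, hel y hy, one_mul, mul_one]
  -- fixed modulo `z` by all inner elements over `U`
  have hfix : ∀ e ∈ V ⊓ coreE z, ∀ m ∈ centralizer ({z} : Set G), Γ.ph m ∈ img Γ.S V → m * m ∈ coreE z →
      Eqz z (m * e * m⁻¹) e := by
    intro e he m hm hmU hm2
    obtain ⟨v, hv, hvH, hva⟩ := Γ.exists_img hmU
    exact Γ.eqz_of_same hm hvH (hUI hmU) hm2 hva.symm he.2
      (Or.inl (by rw [hc v hv e he.1, mul_inv_cancel_right]))
  have hAI : A ⊓ innerM22 = img Γ.S V := by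
    refine (eq_of_le_of_card_ge (le_inf hUA hUI) ?_).symm
    have h1 := relIndex_mul_card (H := A ⊓ innerM22) (K := A) inf_le_left
    rw [hA.2, inf_relIndex_left] at h1
    have h2 : innerM22.relIndex A ≤ 2 := by
      have := relIndex_le_of_le_right (H := innerM22) (K := A) (L := ⊤) le_top
        (by rw [relIndex_top_right, Γ.F.index_two]; norm_num)
      rwa [relIndex_top_right, Γ.F.index_two] at this
    have h3 : innerM22.relIndex A ≠ 1 := fun e => Γ.F.elem_not_le A hA (relIndex_eq_one.1 e)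
    rw [hU16]
    have h4 : innerM22.relIndex A ≠ 0 := fun e => by simp [e] at h1
    have h5 : innerM22.relIndex A = 2 := by omega
    rw [h5] at h1
    omega
  -- `V ∩ E ≤ E^g'`
  have hWE : V ⊓ coreE z ≤ conjE z (h * g) := fun e he => Γ.mem_conjE_of_inner hg' he.2 fun m hm hmi =>
    hfix e he m hm.2 (hAI ▸ Subgroup.mem_inf.2 ⟨hA' ▸ Γ.ph_mem_imgA hg' hm, hmi⟩)
      (Γ.sq_mem_core hg' hm.1)
  obtain ⟨a, ha, ha1⟩ : ∃ a ∈ img Γ.S V, a ≠ 1 := by
    by_contra hno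
    push Not at hno
    rw [(eq_bot_iff_forall _).2 hno, card_bot] at hU16
    omega
  obtain ⟨m, hm, hma, hm2⟩ := Γ.exists_imgA_lift hg' (hA'.symm ▸ hUA ha)
  have hmW : m ∈ V ⊓ coreE z := by
    refine Γ.mem_of_commute_seven hWE (fun x hx y hy => hc x hx.1 y hy.1) hW7.ge hm.1 fun e he => ?_
    have hcz := Γ.hub_pt (h * g)
    rcases hcz.comm m hm.1 e (hWE he) with e1 | e1
    · exact mul_inv_eq_iff_eq_mul.1 e1
    exfalso
    rcases hfix e he m hm.2 (hma ▸ ha) hm2 with e2 | e2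
    · rw [e1] at e2
      exact hcz.ne_one (mul_eq_left.1 e2)
    · rw [e1, ← (Γ.S.hub.central e he.2).eq] at e2
      exact hg'.ne (mul_left_cancel e2)
  exact ha1 (by rw [← hma, Γ.ph_core hmW.2])

theorem img_conj {V : Subgroup G} (hV : V ≤ centralizer ({z} : Set G)) (hel : ∀ v ∈ V, v * v = 1)
    (h11 : 2 ^ 11 ≤ Nat.card ↥V) : ∃ k, img Γ.S V = cj k U₀ := by
  obtain ⟨hUI, h16, -, -⟩ := Γ.img_facts hV hel h11
  exact (HF.classify _ hUI h16).resolve_left fun ⟨_, hA, hle⟩ => Γ.not_duad HF hg hV hel h11 hA hle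

theorem unique_in {T : Subgroup G} (hT : T ≤ centralizer ({z} : Set G)) (hT2 : IsPGroup 2 ↥T)
    {V V' : Subgroup G} (hV : V ≤ T) (hV' : V' ≤ T) (hel : ∀ v ∈ V, v * v = 1) (hel' : ∀ v ∈ V', v * v = 1)
    (h11 : 2 ^ 11 ≤ Nat.card ↥V) (h11' : 2 ^ 11 ≤ Nat.card ↥V') : V = V' := by
  obtain ⟨k, hk⟩ := Γ.img_conj HF hg (hV.trans hT) hel h11
  obtain ⟨k', hk'⟩ := Γ.img_conj HF hg (hV'.trans hT) hel' h11'
  have h2 : IsPGroup 2 ↥(U₀ ⊔ cj (k⁻¹ * k') U₀) := by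
    refine IsPGroup.to_le (K := cj k⁻¹ (img Γ.S T)) ((hT2.comap_subtype.map Γ.S.pi).map _) (sup_le ?_ ?_)
    · intro a ha
      rw [mem_cj_iff, inv_inv]
      obtain ⟨v, hv, hvH, he⟩ := Γ.exists_img (hk.symm ▸ mem_cj_conj ha : k * a * k⁻¹ ∈ img Γ.S V)
      exact he ▸ Γ.ph_mem_img hT (hV hv)
    · intro a ha
      rw [mem_cj_iff, inv_inv]
      have h0 : k * a * k⁻¹ ∈ cj k' U₀ := by
        rw [mem_cj_iff] at ha ⊢
        rwa [show k'⁻¹ * (k * a * k⁻¹) * k' = (k⁻¹ * k')⁻¹ * a * (k⁻¹ * k') by group]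
      obtain ⟨v, hv, hvH, he⟩ := Γ.exists_img (hk'.symm ▸ h0 : k * a * k⁻¹ ∈ img Γ.S V')
      exact he ▸ Γ.ph_mem_img hT (hV' hv)
  have heq : cj k' U₀ = cj k U₀ := by
    have hw := HF.weak _ h2
    rw [show k' = k * (k⁻¹ * k') by group, cj_mul, hw]
  obtain ⟨gs, St⟩ := Γ.exists_star HF hg k
  have hU : cj k U₀ ≤ innerM22 := by
    rintro _ ⟨u, hu, rfl⟩
    exact Γ.inner_normal.conj_mem u (HF.le hu) k
  have h16 : IsSixteen (cj k U₀) := hk ▸ (Γ.img_facts (hV.trans hT) hel h11).2.1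
  rw [Γ.eq_pullU St hU h16 (hV.trans hT) hel h11 hk,
    Γ.eq_pullU St hU h16 (hV'.trans hT) hel' h11' (hk'.trans heq)]

omit hg in
theorem exists_elementary_H {g : G} (hg : Pt z g) : ∃ V : Subgroup G,
    V ≤ centralizer ({z} : Set G) ∧ (∀ v ∈ V, v * v = 1) ∧ Nat.card ↥V = 2 ^ 11 := by
  obtain ⟨gs, St⟩ := Γ.exists_star HF hg 1
  rw [cj_one] at St
  exact Γ.exists_elementary HF St

theorem unique_in_sylow (T : Sylow 2 G) : ∃! V : Subgroup G,
    V ≤ (T : Subgroup G) ∧ Cfsg.IsElementaryAbelian 2 V ∧ Nat.card ↥V = 2 ^ 11 := by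
  have : Fact (Nat.Prime 2) := ⟨Nat.prime_two⟩
  obtain ⟨T₀, hT₀⟩ := Γ.exists_sylow_le
  obtain ⟨V₀, hV₀H, hel₀, h₀⟩ := Γ.exists_elementary_H HF hg
  obtain ⟨T₁, hT₁⟩ := (IsPGroup.of_card h₀ : IsPGroup 2 ↥V₀).exists_le_sylow
  obtain ⟨x, hx⟩ := MulAction.exists_smul_eq G T₁ T
  obtain ⟨y, hy⟩ := MulAction.exists_smul_eq G T T₀
  have hmove : ∀ {x : G} {A B : Sylow 2 G}, x • A = B → ∀ {V : Subgroup G}, V ≤ (A : Subgroup G) →
      V.map (MulAut.conj x).toMonoidHom ≤ (B : Subgroup G) := by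
    intro x A B e V hV
    rw [← e, Sylow.coe_subgroup_smul]
    rintro _ ⟨v, hv, rfl⟩
    exact ⟨v, hV hv, rfl⟩
  have hsq : ∀ {V : Subgroup G}, Cfsg.IsElementaryAbelian 2 V → ∀ v ∈ V, v * v = 1 := fun hV v hv => by
    have := hV.2 v hv
    rwa [pow_two] at this
  have hel_map : ∀ (x : G) {V : Subgroup G}, (∀ v ∈ V, v * v = 1) →
      ∀ v ∈ V.map (MulAut.conj x).toMonoidHom, v * v = 1 := by
    rintro x V hV _ ⟨v, hv, rfl⟩
    rw [← map_mul, hV v hv, map_one]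
  have hcard : ∀ (x : G) (V : Subgroup G), Nat.card ↥(V.map (MulAut.conj x).toMonoidHom) = Nat.card ↥V :=
    fun x V => card_map_of_injective (MulAut.conj x).injective
  have hun : ∀ V V' : Subgroup G, V ≤ (T : Subgroup G) → V' ≤ (T : Subgroup G) → (∀ v ∈ V, v * v = 1) →
      (∀ v ∈ V', v * v = 1) → Nat.card ↥V = 2 ^ 11 → Nat.card ↥V' = 2 ^ 11 → V = V' := fun V V' h h' e e' c c' =>
    map_injective (MulAut.conj y).injective (Γ.unique_in HF hg hT₀ T₀.isPGroup' (hmove hy h) (hmove hy h')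
      (hel_map y e) (hel_map y e') (by rw [hcard, c]) (by rw [hcard, c']))
  set V := V₀.map (MulAut.conj x).toMonoidHom with hV
  have hVel : ∀ v ∈ V, v * v = 1 := hel_map x hel₀
  refine ⟨V, ⟨hmove hx hT₁, ⟨?_, fun v hv => by rw [pow_two]; exact hVel v hv⟩, (hcard x V₀).trans h₀⟩,
    fun V' ⟨h1, h2, h3⟩ => hun V' V h1 (hmove hx hT₁) (hsq h2) hVel h3 ((hcard x V₀).trans h₀)⟩
  refine ⟨⟨fun ⟨a, ha⟩ ⟨b, hb⟩ => Subtype.ext ?_⟩⟩
  show a * b = b * a
  have hxy := hVel _ (mul_mem ha hb)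
  calc a * b = a * (a * b * (a * b)) * b := by rw [hxy, mul_one]
    _ = (a * a) * (b * a) * (b * b) := by group
    _ = b * a := by rw [hVel a ha, hVel b hb, one_mul, mul_one]

end Ctx

end Cfsg.Agent.JankoFour
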