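import Cfsg.Agent.Lib.JankoFour.HexUnique
import Cfsg.Agent.Lib.JankoFour.HexOrbInterface

/-!
# Janko-four type: the elementary subgroup `V` of order `2^11` of `H` over the sixteen `U₀`

`VData V gs`: `V ≤ H` elementary of order `2^11` with image `U₀`.  Results:
* `inf_core`: `V ∩ E = W`; `mem_of_fix`, `fix_of_mem`: `W/⟨z⟩` is the set of fixed points of `U₀` on `E/⟨z⟩`.
* `eq_of_data`: the image determines `V`; `mem_normalizer_iff_ph`: `N_H(V)` is the preimage of `N(U₀)`.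
* `pt_mem_iff`: a conjugate of `z` in `E` is in `V` iff `U₀` normalises its 32.
* `exists_data`, `conj_in_H`, `exists_normalizer_conj`: conjugates of `z` in `V` form one orbit of `N(V)`.
* `centralizer_le_of_data`: `C(V) ≤ V`.
-/

set_option autoImplicit false
set_option linter.unusedSectionVars false

namespace Cfsg.Agent.JankoFour

open Subgroup
open scoped commutatorElement
open LargeExtraspecial (Hub Pair mem_conj_iff)

theorem comm_of_sq {K : Type*} [Group K] {V : Subgroup K} (h : ∀ v ∈ V, v * v = 1) :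
    ∀ x ∈ V, ∀ y ∈ V, x * y = y * x := by
  intro x hx y hy
  have hxy := h _ (mul_mem hx hy)
  calc x * y = x * (x * y * (x * y)) * y := by rw [hxy, mul_one]
    _ = (x * x) * (y * x) * (y * y) := by group
    _ = y * x := by rw [h x hx, h y hy, one_mul, mul_one]

theorem mem_normalizer_of_cj_eq {K : Type*} [Group K] {k : K} {A : Subgroup K} (h : cj k A = A) :
    k ∈ normalizer (A : Set K) := by
  refine mem_normalizer_iff.2 fun x => ?_
  show x ∈ A ↔ k * x * k⁻¹ ∈ A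
  conv_rhs => rw [← h, mem_cj_iff, show k⁻¹ * (k * x * k⁻¹) * k = x by group]

theorem cj_eq_of_mem_normalizer {K : Type*} [Group K] {k : K} {A : Subgroup K}
    (h : k ∈ normalizer (A : Set K)) : cj k A = A := by
  ext x
  rw [mem_cj_iff]
  have := mem_normalizer_iff.1 h (k⁻¹ * x * k)
  rwa [show k * (k⁻¹ * x * k) * k⁻¹ = x by group] at this

variable {G : Type*} [Group G] {z : G} {P : Subgroup G}

namespace Ctx

variable [Finite G] (Γ : Ctx z P)

include Γ

/-- An elementary subgroup of order `2^11` of `H` with image `U₀`, and a star of `U₀`. -/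
structure VData (U₀ : Subgroup AutM22) (V : Subgroup G) (gs : Fin 6 → G) : Prop where
  le_H : V ≤ centralizer ({z} : Set G)
  sq : ∀ v ∈ V, v * v = 1
  card : Nat.card ↥V = 2 ^ 11
  img_eq : img Γ.S V = U₀
  star : Γ.Star U₀ gs

theorem img_map_conj {V : Subgroup G} (hV : V ≤ centralizer ({z} : Set G)) {h : G}
    (hh : h ∈ centralizer ({z} : Set G)) :
    img Γ.S (V.map (MulAut.conj h).toMonoidHom) = cj (Γ.ph h) (img Γ.S V) := by
  have hV' : V.map (MulAut.conj h).toMonoidHom ≤ centralizer ({z} : Set G) := by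
    rintro _ ⟨v, hv, rfl⟩
    exact mul_mem (mul_mem hh (hV hv)) (inv_mem hh)
  ext a
  constructor
  · intro ha
    obtain ⟨w, ⟨v, hv, rfl⟩, -, rfl⟩ := Γ.exists_img ha
    show Γ.ph (h * v * h⁻¹) ∈ _
    rw [Γ.ph_conj hh (hV hv)]
    exact mem_cj_conj (Γ.ph_mem_img hV hv)
  · rintro ⟨b, hb, rfl⟩
    obtain ⟨v, hv, hvH, rfl⟩ := Γ.exists_img hb
    show Γ.ph h * Γ.ph v * (Γ.ph h)⁻¹ ∈ _
    rw [← Γ.ph_conj hh hvH]
    exact Γ.ph_mem_img hV' ⟨v, hv, rfl⟩

variable {U₀ : Subgroup AutM22} (HF : HexFacts innerM22 U₀) {V : Subgroup G} {gs : Fin 6 → G}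
  (D : Γ.VData U₀ V gs)

include HF

theorem VData.comm (D : Γ.VData U₀ V gs) : ∀ x ∈ V, ∀ y ∈ V, x * y = y * x := comm_of_sq D.sq

include D

theorem inf_core : V ⊓ coreE z = wSpan z P gs :=
  Γ.eq_wSpan D.star HF.le D.le_H (comm_of_sq D.sq) D.img_eq
    (Γ.img_facts D.le_H D.sq D.card.ge).2.2.1

theorem card_inf_core : Nat.card ↥(V ⊓ coreE z) = 2 ^ 7 := (Γ.img_facts D.le_H D.sq D.card.ge).2.2.1

theorem z_mem_V : z ∈ V :=
  ((Γ.inf_core HF D).symm ▸ (z_mem_wSpan : z ∈ wSpan z P gs) : z ∈ V ⊓ coreE z).1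

theorem exists_over {a : AutM22} (ha : a ∈ U₀) : ∃ v ∈ V, v ∈ centralizer ({z} : Set G) ∧ Γ.ph v = a :=
  Γ.exists_img (D.img_eq.symm ▸ ha)

/-- A point of `E` fixed modulo `z` by all of `V` lies in `V`. -/
theorem mem_of_fix {e : G} (he : e ∈ coreE z) (hfix : ∀ v ∈ V, Eqz z (v * e * v⁻¹) e) : e ∈ V := by
  refine ((Γ.inf_core HF D).symm ▸ Γ.mem_wSpan_of_commute D.star he fun w hw => ?_ : e ∈ V ⊓ coreE z).1
  have hle : wSpan z P gs ≤ centralizer ({e} : Set G) := by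
    rw [wSpan, closure_le]
    rintro x (hx | ⟨i, q, hq, rfl⟩)
    · rw [Set.mem_singleton_iff.1 hx]
      exact mem_centralizer_singleton_iff.2 (Γ.S.hub.central e he).eq.symm
    · obtain ⟨a, haU, ha1, haA⟩ := D.star.meets i
      obtain ⟨hpt, himgA⟩ := Γ.imgA_P (D.star.pt i) hq
      obtain ⟨v, hv, hvH, hva⟩ := Γ.exists_over HF D haU
      have := Γ.commute_of_img hpt (himgA.symm ▸ haA) ha1 (HF.le haU) he hvH hva (hfix v hv)
      rw [show q * gs i * z * (q * gs i)⁻¹ = q * (gs i * z * (gs i)⁻¹) * q⁻¹ by group] at this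
      exact mem_centralizer_singleton_iff.2 this.eq.symm
  exact (mem_centralizer_singleton_iff.1 (hle hw)).symm

theorem mem_iff_fix {e : G} (he : e ∈ coreE z) : e ∈ V ↔ ∀ v ∈ V, Eqz z (v * e * v⁻¹) e :=
  ⟨fun h v hv => Or.inl (by rw [comm_of_sq D.sq v hv e h, mul_inv_cancel_right]), Γ.mem_of_fix HF D he⟩

/-- The image determines `V`. -/
theorem eq_of_data {V' : Subgroup G} (h : V' ≤ centralizer ({z} : Set G)) (hsq : ∀ v ∈ V', v * v = 1)
    (hc : 2 ^ 11 ≤ Nat.card ↥V') (himg : img Γ.S V' = U₀) : V' = V := by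
  rw [Γ.eq_pullU D.star HF.le HF.sixteen h hsq hc himg,
    ← Γ.eq_pullU D.star HF.le HF.sixteen D.le_H D.sq D.card.ge D.img_eq]

/-- `N_H(V)` is the preimage of `N(U₀)`. -/
theorem mem_normalizer_iff_ph {h : G} (hh : h ∈ centralizer ({z} : Set G)) :
    h ∈ normalizer (V : Set G) ↔ Γ.ph h ∈ normalizer (U₀ : Set AutM22) := by
  have himg := Γ.img_map_conj D.le_H hh
  rw [D.img_eq] at himg
  constructor
  · intro hn
    refine mem_normalizer_of_cj_eq ?_
    rw [← himg, show V.map (MulAut.conj h).toMonoidHom = V from cj_eq_of_mem_normalizer hn, D.img_eq]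
  · intro hn
    refine mem_normalizer_of_cj_eq (Γ.eq_of_data HF D ?_ ?_ ?_ (himg.trans (cj_eq_of_mem_normalizer hn)))
    · rintro _ ⟨v, hv, rfl⟩
      exact mul_mem (mul_mem hh (D.le_H hv)) (inv_mem hh)
    · rintro _ ⟨v, hv, rfl⟩
      rw [← map_mul, D.sq v hv, map_one]
    · rw [card_map_of_injective (MulAut.conj h).injective, D.card]

theorem core_le_normalizer : coreE z ≤ normalizer (V : Set G) := fun e he =>
  (Γ.mem_normalizer_iff_ph HF D (coreE_le_H he)).2 (by rw [Γ.ph_core he]; exact one_mem _)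

theorem P_le_normalizer_V : P ≤ normalizer (V : Set G) := fun p hp =>
  (Γ.mem_normalizer_iff_ph HF D (Γ.S.P_le hp)).2 (by rw [Γ.ph_P hp]; exact one_mem _)

/-- A conjugate of `z` in `E` lies in `V` exactly when `U₀` normalises its 32. -/
theorem pt_mem_iff {g : G} (hg : Pt z g) :
    g * z * g⁻¹ ∈ V ↔ U₀ ≤ normalizer (Γ.imgA g : Set AutM22) := by
  constructor
  · intro hs u hu
    obtain ⟨v, hv, hvH, rfl⟩ := Γ.exists_over HF D hu
    exact Γ.ph_mem_normalizer hg hvH (comm_of_sq D.sq v hv _ hs)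
  · intro hle
    refine Γ.mem_of_fix HF D hg.mem fun v hv => ?_
    have hvU : Γ.ph v ∈ U₀ := D.img_eq ▸ Γ.ph_mem_img D.le_H hv
    exact Γ.eqz_pt hg (D.le_H hv) (HF.le hvU) (by rw [D.sq v hv]; exact one_mem _) (hle hvU)

/-- `C(V) ≤ V`. -/
theorem centralizer_le_of_data (HO : HexOrbFacts innerM22 U₀) : centralizer (V : Set G) ≤ V := by
  intro x hx
  have hxH : x ∈ centralizer ({z} : Set G) :=
    mem_centralizer_singleton_iff.2 (hx z (Γ.z_mem_V HF D)).symm
  have hxU : Γ.ph x ∈ U₀ := by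
    refine HO.self _ fun u hu => ?_
    obtain ⟨v, hv, hvH, rfl⟩ := Γ.exists_over HF D hu
    rw [← Γ.ph_mul hxH hvH, ← Γ.ph_mul hvH hxH, hx v hv]
  rw [Γ.eq_pullU D.star HF.le HF.sixteen D.le_H D.sq D.card.ge D.img_eq]
  exact Γ.mem_pullU.2 ⟨hxH, hxU, fun w hw =>
    hx w ((Γ.inf_core HF D).symm ▸ hw : w ∈ V ⊓ coreE z).1⟩

omit D in
/-- Every elementary `2^11` containing `z` is an `H`-conjugate of one with image `U₀`. -/
theorem exists_data (St : Γ.Star U₀ gs) {g : G} (hg : Pt z g) {V' : Subgroup G}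
    (hsq : ∀ v ∈ V', v * v = 1) (hc : Nat.card ↥V' = 2 ^ 11) (hz : z ∈ V') :
    ∃ h ∈ centralizer ({z} : Set G), Γ.VData U₀ (V'.map (MulAut.conj h).toMonoidHom) gs := by
  have hV' : V' ≤ centralizer ({z} : Set G) := fun v hv =>
    mem_centralizer_singleton_iff.2 (comm_of_sq hsq v hv z hz)
  obtain ⟨k, hk⟩ := Γ.img_conj HF hg hV' hsq hc.ge
  obtain ⟨h, hh, hhk⟩ := Γ.exists_ph k⁻¹
  refine ⟨h, hh, ?_, ?_, by rw [card_map_of_injective (MulAut.conj h).injective, hc], ?_, St⟩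
  · rintro _ ⟨v, hv, rfl⟩
    exact mul_mem (mul_mem hh (hV' hv)) (inv_mem hh)
  · rintro _ ⟨v, hv, rfl⟩
    rw [← map_mul, hsq v hv, map_one]
  · rw [Γ.img_map_conj hV' hh, hhk, hk, ← cj_mul, inv_mul_cancel, cj_one]

/-- The conjugates of `z` in `V` are one orbit of `N(V)`. -/
theorem exists_normalizer_conj {g₀ : G} (hg₀ : Pt z g₀) {z' : G} (hz' : z' ∈ V) (hc : IsConj z z') :
    ∃ n ∈ normalizer (V : Set G), n * z * n⁻¹ = z' := by
  obtain ⟨g, rfl⟩ := isConj_iff.1 hc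
  set V' := V.map (MulAut.conj g⁻¹).toMonoidHom with hV'
  have hsq : ∀ v ∈ V', v * v = 1 := by
    rintro _ ⟨v, hv, rfl⟩
    rw [← map_mul, D.sq v hv, map_one]
  obtain ⟨h, hh, D'⟩ := Γ.exists_data HF D.star hg₀ hsq
    (by rw [hV', card_map_of_injective (MulAut.conj g⁻¹).injective, D.card])
    ⟨g * z * g⁻¹, hz', show g⁻¹ * (g * z * g⁻¹) * g⁻¹⁻¹ = z by group⟩
  have heq : cj (h * g⁻¹) V = V := by
    rw [cj_mul]; exact Γ.eq_of_data HF D D'.le_H D'.sq D'.card.ge D'.img_eq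
  refine ⟨g * h⁻¹, ?_, ?_⟩
  · have := inv_mem (mem_normalizer_of_cj_eq heq)
    rwa [show (h * g⁻¹)⁻¹ = g * h⁻¹ by group] at this
  · rw [show g * h⁻¹ * z * (g * h⁻¹)⁻¹ = g * (h⁻¹ * z * h⁻¹⁻¹) * g⁻¹ by group,
      (mem_H.1 (inv_mem hh)).eq, mul_inv_cancel_right]

end Ctx

end Cfsg.Agent.JankoFour
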