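import Cfsg.Prelude.Def_JankoFourType
import Cfsg.Agent.Lib.LargeExtraspecial.Setting

/-!
# Interface for groups of Janko-four type (S5563, S5565)

`AutFacts`: what is used about the automorphism group of the Mathieu group on 22 points.
`Setting z P`: what is used about the centraliser `H` of `z`, with `X = H ∩ C(P)`, `Y = H ∩ N(P)`.
`FixBound z`: an involution of `H/E` outside `E` fixes at most a sixteenth of `E/⟨z⟩`.
-/

set_option autoImplicit false

namespace Cfsg.Agent.JankoFour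

open Subgroup
open scoped commutatorElement

/-- An elementary abelian subgroup of order 32. -/
def IsThirtyTwo {K : Type*} [Group K] (U : Subgroup K) : Prop :=
  (∀ a ∈ U, a * a = 1) ∧ Nat.card ↥U = 32

/-- The facts on the automorphism group of the Mathieu group on 22 points, `I` the inner part. -/
structure AutFacts {K : Type*} [Group K] (I : Subgroup K) : Prop where
  index_two : I.index = 2
  inner_unique : ∀ L : Subgroup K, L.index = 2 → L = I
  simple : IsSimpleGroup ↥I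
  card_inner : Nat.card ↥I = 443520
  invol_sq : ∀ a ∈ I, orderOf a = 2 → ∃ b ∈ I, b * b = a
  invol_triple : ∀ a ∈ I, orderOf a = 2 →
    ∃ k ∈ I, ∃ l ∈ I, orderOf (a * (k * a * k⁻¹) * (l * a * l⁻¹)) = 11
  elem_card : ∀ U : Subgroup K, (∀ a ∈ U, a * a = 1) → Nat.card ↥U ≤ 32
  elem_not_le : ∀ U : Subgroup K, IsThirtyTwo U → ¬ U ≤ I
  elem_center : ∀ U : Subgroup K, IsThirtyTwo U → ∀ k ∈ normalizer (U : Set K),
    (∀ m ∈ normalizer (U : Set K), Commute k m) → k = 1
  elem_moved : ∀ U : Subgroup K, IsThirtyTwo U → ∀ t ∈ I, t ∈ normalizer (U : Set K) → orderOf t = 3 →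
    ∃ m ∈ I, m ∈ normalizer (U : Set K) ∧ ∀ n : ℕ, orderOf ⁅t, m⁆ ≠ 2 ^ n
  elem_adjacent : ∀ U : Subgroup K, IsThirtyTwo U → ∃ h ∉ normalizer (U : Set K),
    16 ≤ Nat.card ↥(U ⊓ (normalizer (U : Set K)).map (MulAut.conj h).toMonoidHom) ∧
      ¬ (U ⊓ (normalizer (U : Set K)).map (MulAut.conj h).toMonoidHom) ≤ I
  three_cent : ∀ t a : K, orderOf t = 3 → Commute t a → Nat.Prime (orderOf a) → orderOf a ≤ 3
  three_exp : ∀ a : K, a ^ 9 = 1 → a ^ 3 = 1
  three_inv : ∀ Q : Subgroup K, Nat.card ↥Q = 9 → ∃ k ∈ I, ∀ a ∈ Q, k * a * k⁻¹ = a⁻¹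
  three_norm : ∀ Q : Subgroup K, Nat.card ↥Q = 9 → Nat.card ↥(normalizer (Q : Set K)) = 144

/-- The automorphism group of the Mathieu group on 22 points. -/
abbrev AutM22 : Type := MulAut ↥Cfsg.Spor.M22

/-- Its inner part. -/
abbrev innerM22 : Subgroup AutM22 :=
  (MulAut.conj : ↥Cfsg.Spor.M22 →* MulAut ↥Cfsg.Spor.M22).range

variable {G : Type*} [Group G]

/-- `E`: the largest normal 2-subgroup of the centraliser. -/
abbrev coreE (z : G) : Subgroup G := Cfsg.twoCoreOfCentralizer z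

/-- `X = H ∩ C(P)`. -/
abbrev cX (z : G) (P : Subgroup G) : Subgroup G :=
  centralizer ({z} : Set G) ⊓ centralizer (P : Set G)

/-- `Y = H ∩ N(P)`. -/
abbrev cY (z : G) (P : Subgroup G) : Subgroup G :=
  centralizer ({z} : Set G) ⊓ normalizer (P : Set G)

/-- Janko-four type at `z` with `P`, in the form used here. -/
structure Setting (z : G) (P : Subgroup G) where
  hub : LargeExtraspecial.Hub (coreE z) z
  extra : Cfsg.IsExtraspecial 2 ↥(coreE z)
  card_E : Nat.card ↥(coreE z) = 2 ^ 13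
  card_P : Nat.card ↥P = 3
  P_le : P ≤ centralizer ({z} : Set G)
  fix : coreE z ⊓ centralizer (P : Set G) = zpowers z
  pi : ↥(centralizer ({z} : Set G)) →* AutM22
  pi_surjective : Function.Surjective pi
  pi_eq_one : ∀ h, pi h = 1 ↔ (h : G) ∈ coreE z ⊔ P
  pi_mem_inner : ∀ h, pi h ∈ innerM22 ↔ ∃ e ∈ coreE z, ∃ x ∈ cX z P, (h : G) = e * x
  factor : ∀ h ∈ centralizer ({z} : Set G), ∃ e ∈ coreE z, ∃ y ∈ cY z P, h = e * y
  exists_inverting : ∃ y ∈ cY z P, y ∉ cX z P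
  inverts : ∀ y ∈ cY z P, y ∉ cX z P → ∀ p ∈ P, y * p * y⁻¹ = p⁻¹
  card_H : Nat.card ↥(centralizer ({z} : Set G)) = 2 ^ 13 * 3 * 887040
  P_le_derived : P ≤ ⁅cX z P, cX z P⁆

/-- An element of `H` whose square is in `E` and which fixes an eighth of `E` modulo `⟨z⟩` is in `E`. -/
def FixBound (z : G) : Prop :=
  ∀ u ∈ centralizer ({z} : Set G), u * u ∈ coreE z → ∀ D : Subgroup G, D ≤ coreE z →
    (∀ d ∈ D, ⁅d, u⁆ ∈ zpowers z) → 2 ^ 13 ≤ 8 * Nat.card ↥D → u ∈ coreE z

/-- Bound on odd subgroups centralising an element of order 3 of `H` outside `EP`. -/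
def ThreeBound (z : G) (P : Subgroup G) : Prop :=
  ∀ t ∈ centralizer ({z} : Set G), t ^ 3 = 1 → t ∉ coreE z ⊔ P → ∀ D : Subgroup G,
    D ≤ centralizer ({z} : Set G) → (∀ d ∈ D, Commute d t) → Odd (Nat.card ↥D) → Nat.card ↥D ≤ 9

/-- `z` is isolated in the centraliser of `P`. -/
def IsolatedIn (z : G) (P : Subgroup G) : Prop :=
  ∀ h ∈ centralizer (P : Set G), Commute z (h * z * h⁻¹) → h * z * h⁻¹ = z

end Cfsg.Agent.JankoFour
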