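import Cfsg.Agent.Lib.JankoFour.InvTools

/-!
# Janko-four type: the group `E^g ∩ E^(pg)` for a straight pair (S5569)

`Line z g p`: the conjugates `s, t, u` of `s` under `P` satisfy `u = s t`.  Then `E^g ∩ E^(pg)` is an
elementary group of order `2^7` in `H`, invariant under `p`, meeting `E` in at most 8 elements and
covering the inner part of the image of `E^g ∩ H`; so that part lifts to involutions of `X`.
-/

set_option autoImplicit false
set_option linter.unusedSectionVars false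

namespace Cfsg.Agent.JankoFour

open Subgroup
open LargeExtraspecial (Hub Pair mem_conj_iff)

variable {G : Type*} [Group G] {z : G} {P : Subgroup G}

/-- `p² s p⁻² = s (p s p⁻¹)`. -/
def Line (z g p : G) : Prop :=
  p * (p * (g * z * g⁻¹) * p⁻¹) * p⁻¹ = g * z * g⁻¹ * (p * (g * z * g⁻¹) * p⁻¹)

theorem conj_mem_conjE {h x : G} (k : G) (hx : x ∈ conjE z h) : k * x * k⁻¹ ∈ conjE z (k * h) := by
  rw [mem_conj_iff] at hx ⊢
  rwa [show (k * h)⁻¹ * (k * x * k⁻¹) * (k * h) = h⁻¹ * x * h by group]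

/-- `E^g ∩ E^(pg)`. -/
abbrev lineT (z g p : G) : Subgroup G := conjE z g ⊓ conjE z (p * g)

namespace Ctx

variable [Finite G] (Γ : Ctx z P)

include Γ

theorem imgA_core {g : G} (hg : Pt z g) {f : G} (hf : f ∈ coreE z) :
    Pt z (f * g) ∧ Γ.imgA (f * g) = Γ.imgA g := by
  obtain ⟨hp, he⟩ := Γ.imgA_conj hg (coreE_le_H hf)
  refine ⟨hp, he.trans ?_⟩
  rw [Γ.ph_core hf]
  ext a
  simp

/-- A straight pair over the same image. -/
theorem exists_line {g : G} (hg : Pt z g) :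
    ∃ g' p, Tri z P g' p ∧ Line z g' p ∧ Γ.imgA g' = Γ.imgA g := by
  obtain ⟨p, hp, hp1⟩ := Γ.exists_generator
  have ht : Tri z P g p := ⟨hg, hp, hp1⟩
  rcases Γ.s''_eqz ht with h | h
  · exact ⟨g, p, ht, h, rfl⟩
  set s := g * z * g⁻¹ with hs
  obtain ⟨f, hf, hfs⟩ := LargeFischer.Loc.exists_flip Γ.S.hub hg.mem (Γ.s_ne_one ht) hg.ne
  obtain ⟨hpt, hA⟩ := Γ.imgA_core hg hf
  refine ⟨f * g, p, ⟨hpt, hp, hp1⟩, ?_, hA⟩
  have e1 : f * g * z * (f * g)⁻¹ = z * s := by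
    rw [show f * g * z * (f * g)⁻¹ = f * (g * z * g⁻¹) * f⁻¹ by group, ← hs, hfs,
      (Γ.S.hub.central s hg.mem).eq]
  unfold Line
  rw [e1, show p * (z * s) * p⁻¹ = (p * z * p⁻¹) * (p * s * p⁻¹) by group, (Γ.P_comm hp).eq,
    mul_inv_cancel_right,
    show p * (z * (p * s * p⁻¹)) * p⁻¹ = (p * z * p⁻¹) * (p * (p * s * p⁻¹) * p⁻¹) by group,
    (Γ.P_comm hp).eq, mul_inv_cancel_right, h, ← mul_assoc z z, Γ.S.hub.sq, one_mul]
  rw [show z * s * (z * (p * s * p⁻¹)) = z * (s * z) * (p * s * p⁻¹) by group,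
    (Γ.S.hub.central s hg.mem).eq, ← mul_assoc z z s, Γ.S.hub.sq, one_mul]

variable {g p : G} (ht : Tri z P g p)
include ht

theorem pt_p : Pt z (p * g) := (Γ.imgA_conj ht.pt (Γ.S.P_le ht.mem)).1

theorem pair_T : Pair (conjE z g) (conjE z (p * g)) (g * z * g⁻¹) (p * (g * z * g⁻¹) * p⁻¹) := by
  have h32 : 32 ≤ Nat.card ↥(conjE z g) := by
    rw [card_map_of_injective (MulAut.conj g).injective, Γ.S.card_E]; norm_num
  have hy := (Γ.s'_mem_W ht).2
  have e : conjE z (p * g) = (conjE z g).map (MulAut.conj p).toMonoidHom := by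
    rw [map_map]; congr 1; ext x; simp [mul_assoc]
  rw [e]
  exact Pair.of_conj (Γ.hub_pt g) p hy (Γ.s'_ne ht).2.2.1
    ((Γ.hub_pt g).exists_noncommuting_pair h32 hy (Γ.s'_sq ht))

theorem T_sq {x : G} (hx : x ∈ lineT z g p) : x * x = 1 := (Γ.pair_T ht).E_sq hx

theorem T_comm {x y : G} (hx : x ∈ lineT z g p) (hy : y ∈ lineT z g p) : x * y = y * x :=
  (Γ.pair_T ht).E_commute hx hy

theorem card_T : Nat.card ↥(lineT z g p) = 2 ^ 7 := by
  have hpt : Pt z (g⁻¹ * (p * g)) := by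
    have e : g⁻¹ * (p * g) * z * (g⁻¹ * (p * g))⁻¹ = g⁻¹ * (p * (g * z * g⁻¹) * p⁻¹) * g := by group
    refine ⟨e ▸ mem_conj_iff.1 (Γ.s'_mem_W ht).2, e ▸ fun h => (Γ.s'_ne ht).2.2.1 ?_⟩
    calc p * (g * z * g⁻¹) * p⁻¹ = g * (g⁻¹ * (p * (g * z * g⁻¹) * p⁻¹) * g) * g⁻¹ := by group
      _ = g * z * g⁻¹ := by rw [h]
  have e : lineT z g p = (coreE z ⊓ conjE z (g⁻¹ * (p * g))).map (MulAut.conj g).toMonoidHom := by
    ext x
    rw [mem_conj_iff, Subgroup.mem_inf, Subgroup.mem_inf, mem_conj_iff, mem_conj_iff, mem_conj_iff,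
      show (g⁻¹ * (p * g))⁻¹ * (g⁻¹ * x * g) * (g⁻¹ * (p * g)) = (p * g)⁻¹ * x * (p * g) by group]
  rw [e, card_map_of_injective (MulAut.conj g).injective, (Γ.card_facts hpt).1]

theorem T_le_H : lineT z g p ≤ centralizer ({z} : Set G) := by
  intro x hx
  refine mem_H.2 (mul_inv_eq_iff_eq_mul.1 ?_)
  have h2 := (Γ.hub_pt (p * g)).comm x hx.2 z (Γ.z_mem (Γ.pt_p ht))
  rw [show p * g * z * (p * g)⁻¹ = p * (g * z * g⁻¹) * p⁻¹ by group] at h2
  rcases (Γ.hub_pt g).comm x hx.1 z (Γ.z_mem ht.pt) with h1 | h1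
  · exact h1
  · rcases h2 with h2 | h2
    · exact h2
    · exact absurd (mul_left_cancel (h1.symm.trans h2)).symm (Γ.s'_ne ht).2.2.1

theorem T_inner {x : G} (hx : x ∈ lineT z g p) : Γ.ph x ∈ innerM22 := by
  by_contra ho
  have hxH := Γ.T_le_H ht hx
  have h1 : x * (g * z * g⁻¹) * x⁻¹ = g * z * g⁻¹ := by
    rw [((Γ.hub_pt g).central x hx.1).eq, mul_inv_cancel_right]
  have h2 : x * (p * (g * z * g⁻¹) * p⁻¹) * x⁻¹ = p * (g * z * g⁻¹) * p⁻¹ := by
    have h := (Γ.hub_pt (p * g)).central x hx.2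
    rw [show p * g * z * (p * g)⁻¹ = p * (g * z * g⁻¹) * p⁻¹ by group] at h
    rw [h.eq, mul_inv_cancel_right]
  have h3 := Γ.outer_conj hxH ho ht.mem ht.pt.mem
  rw [h1, h2] at h3
  have h4 := h3.conj (Γ.P_comm ht.mem)
  rw [show p * (p⁻¹ * (g * z * g⁻¹) * p) * p⁻¹ = g * z * g⁻¹ by group] at h4
  have h5 := Γ.eqz_trans (Γ.eqz_symm (Γ.s''_eqz ht)) h4
  obtain ⟨n1, n2, -, -⟩ := Γ.s'_ne ht
  rcases h5 with e | e
  · exact n1 (mul_eq_left.1 e)
  · refine n2 (mul_left_cancel (a := g * z * g⁻¹) ?_)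
    rw [e, (Γ.S.hub.central _ ht.pt.mem).eq]

variable (hl : Line z g p)
include hl

/-- `E^g ∩ E^(pg) ≤ E^(p²g)`. -/
theorem T_le_third : lineT z g p ≤ conjE z (p * (p * g)) := by
  intro x hx
  have hp := Γ.pair_T ht
  obtain ⟨a, ha, -, hat, -⟩ := hp.exists_out
  have hx' : a⁻¹ * x * a ∈ lineT z g p := by
    have := hp.conj_Q_E ((conjE z g).inv_mem ha) hx
    rwa [inv_inv] at this
  have h1 : x ∈ conjE z (a * (p * g)) := by
    have := conj_mem_conjE a hx'.2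
    rwa [show a * (a⁻¹ * x * a) * a⁻¹ = x by group] at this
  have e : (coreE z).map (MulAut.conj (a * (p * g))).toMonoidHom = conjE z (p * (p * g)) := by
    refine Γ.S.hub.conj_eq ?_
    rw [show a * (p * g) * z * (a * (p * g))⁻¹ = a * (p * (g * z * g⁻¹) * p⁻¹) * a⁻¹ by group, hat,
      show p * (p * g) * z * (p * (p * g))⁻¹ = p * (p * (g * z * g⁻¹) * p⁻¹) * p⁻¹ by group, hl]
  exact e ▸ h1

/-- `p` normalises `E^g ∩ E^(pg)`. -/
theorem T_rot {x : G} (hx : x ∈ lineT z g p) : p * x * p⁻¹ ∈ lineT z g p := by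
  have h : lineT z g p = (lineT z g p).map (MulAut.conj p).toMonoidHom := by
    refine eq_of_le_of_card_ge (fun y hy => ?_) (by rw [card_map_of_injective (MulAut.conj p).injective])
    rw [mem_conj_iff]
    have h3 := Γ.T_le_third ht hl hy
    refine Subgroup.mem_inf.2 ⟨?_, ?_⟩ <;> rw [mem_conj_iff]
    · rw [show g⁻¹ * (p⁻¹ * y * p) * g = (p * g)⁻¹ * y * (p * g) by group]
      exact mem_conj_iff.1 hy.2
    · rw [show (p * g)⁻¹ * (p⁻¹ * y * p) * (p * g) = (p * (p * g))⁻¹ * y * (p * (p * g)) by group]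
      exact mem_conj_iff.1 h3
  rw [h]
  exact ⟨x, hx, rfl⟩

omit hl in
/-- `E^g ∩ E^(pg)` meets `E` in at most eight elements. -/
theorem card_cap : Nat.card ↥(coreE z ⊓ lineT z g p) ≤ 8 := by
  set D := conjE z g ⊓ centralizer ({z} : Set G) with hD
  set K := (innerM22.comap (Γ.homD g)).map D.subtype with hK
  have hK2 : 2 ^ 12 ≤ 2 * Nat.card ↥K := by
    rw [hK, card_map_of_injective D.subtype_injective, ← (Γ.card_facts ht.pt).2.1]
    have h := (innerM22.comap (Γ.homD g)).card_mul_index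
    have hi : (innerM22.comap (Γ.homD g)).index ≤ 2 := by
      rw [index_comap]
      refine Nat.le_of_dvd (by norm_num) ?_
      have : innerM22.Normal := normal_of_index_eq_two Γ.F.index_two
      exact Γ.F.index_two ▸ relIndex_dvd_index_of_normal innerM22 _
    rw [← h, mul_comm]
    exact Nat.mul_le_mul_right _ hi
  obtain ⟨n1, n2, n3, n4⟩ := Γ.s'_ne ht
  have hcomm : ∀ j ∈ K, ∀ w ∈ coreE z ⊓ lineT z g p, Commute j w := by
    rintro _ ⟨j, hj, rfl⟩ w ⟨hwE, hwg, hwp⟩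
    have hjH : (j : G) ∈ centralizer ({z} : Set G) := j.2.2
    have hji : Γ.ph j ∈ innerM22 := by
      have : Γ.homD g j ∈ innerM22 := hj
      rwa [Γ.homD_apply] at this
    rw [Γ.ph_eq hjH] at hji
    obtain ⟨e0, he0, x, hx, hjx⟩ := (Γ.S.pi_mem_inner _).1 hji
    have hjx' : (j : G) = e0 * x := hjx
    set s := g * z * g⁻¹ with hs
    set t := p * s * p⁻¹ with htdef
    set j' := p * (j : G) * p⁻¹ with hj'
    set f := p * e0 * p⁻¹ * e0⁻¹ with hf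
    have hfE : f ∈ coreE z := mul_mem (Γ.conj_core (Γ.S.P_le ht.mem) he0) (inv_mem he0)
    have hj'f : j' = f * j := by
      have hxp : p * x = x * p := mem_centralizer_iff.1 hx.2 p ht.mem
      rw [hj', hf, hjx', show p * (e0 * x) * p⁻¹ = p * e0 * p⁻¹ * ((p * x) * p⁻¹) by group, hxp]
      group
    have hjw : (j : G) * w * (j : G)⁻¹ ∈ coreE z := Γ.conj_core hjH hwE
    have hq : Eqz z (j' * w * j'⁻¹) ((j : G) * w * (j : G)⁻¹) := by
      rw [hj'f, show f * (j : G) * w * (f * (j : G))⁻¹ = f * ((j : G) * w * (j : G)⁻¹) * f⁻¹ by group]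
      exact Γ.eqz_core hfE hjw
    rcases (Γ.hub_pt g).comm j j.2.1 w hwg with h1 | h1
    · exact mul_inv_eq_iff_eq_mul.1 h1
    exfalso
    have hp' := (Γ.hub_pt (p * g)).comm j' (conj_mem_conjE p j.2.1) w hwp
    rw [show p * g * z * (p * g)⁻¹ = t by rw [htdef, hs]; group] at hp'
    rw [h1] at hq
    have hwz := (Γ.S.hub.central w hwE).eq
    rcases hp' with h2 | h2 <;> rw [h2] at hq <;> rcases hq with e | e
    · exact Γ.s_ne_one ht (mul_eq_left.1 e.symm)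
    · refine ht.pt.ne ?_
      show s = z
      rw [← mul_assoc z w, ← hwz, mul_assoc w z] at e
      have e1 : z * s = 1 := mul_eq_left.1 e.symm
      rw [eq_inv_of_mul_eq_one_right e1, Γ.S.hub.inv_z]
    · exact n3 (mul_left_cancel e)
    · rw [← mul_assoc z w, ← hwz, mul_assoc w z] at e
      exact n4 (mul_left_cancel e)
  set K' := K.map (MulAut.conj g⁻¹).toMonoidHom ⊔ zpowers z with hK'
  have hKE : K.map (MulAut.conj g⁻¹).toMonoidHom ≤ coreE z := by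
    rintro _ ⟨_, ⟨j, -, rfl⟩, rfl⟩
    have := mem_conj_iff.1 j.2.1
    simpa using this
  have hK'E : K' ≤ coreE z := sup_le hKE (zpowers_le.2 Γ.z_mem_core)
  have hc := Γ.card_centralizer hK'E (mem_sup_right (mem_zpowers z))
  have hle : (coreE z ⊓ lineT z g p).map (MulAut.conj g⁻¹).toMonoidHom ≤
      coreE z ⊓ centralizer (K' : Set G) := by
    rintro _ ⟨w, hw, rfl⟩
    have hwE : g⁻¹ * w * g⁻¹⁻¹ ∈ coreE z := by
      rw [inv_inv]; exact mem_conj_iff.1 hw.2.1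
    refine ⟨hwE, ?_⟩
    show g⁻¹ * w * g⁻¹⁻¹ ∈ centralizer (K' : Set G)
    have hsub : K' ≤ centralizer ({g⁻¹ * w * g⁻¹⁻¹} : Set G) := by
      refine sup_le ?_ (zpowers_le.2 (mem_centralizer_singleton_iff.2
        ((Γ.S.hub.central _ hwE).eq.symm)))
      rintro _ ⟨j, hj, rfl⟩
      refine mem_centralizer_singleton_iff.2 ?_
      show g⁻¹ * j * g⁻¹⁻¹ * (g⁻¹ * w * g⁻¹⁻¹) = g⁻¹ * w * g⁻¹⁻¹ * (g⁻¹ * j * g⁻¹⁻¹)
      rw [show g⁻¹ * j * g⁻¹⁻¹ * (g⁻¹ * w * g⁻¹⁻¹) = g⁻¹ * (j * w) * g by group, (hcomm j hj w hw).eq]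
      group
    exact fun k hk => mem_centralizer_singleton_iff.1 (hsub hk)
  have h1 := Subgroup.card_le_of_le hle
  rw [card_map_of_injective (MulAut.conj g⁻¹).injective] at h1
  have h2 := Subgroup.card_le_of_le (le_sup_left : K.map (MulAut.conj g⁻¹).toMonoidHom ≤ K')
  rw [card_map_of_injective (MulAut.conj g⁻¹).injective] at h2
  refine h1.trans ?_
  by_contra h8
  have h3 : Nat.card ↥K ≤ Nat.card ↥K' := h2
  have := Nat.mul_le_mul (show 2 ^ 11 ≤ Nat.card ↥K' by omega) (not_le.1 h8)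
  omega

/-- The inner part of the image lifts to involutions of `X` in `E^g ∩ E^(pg)`. -/
theorem exists_X_lift {a : AutM22} (ha : a ∈ Γ.imgA g) (hai : a ∈ innerM22) :
    ∃ x ∈ lineT z g p, Γ.ph x = a ∧ p * x * p⁻¹ = x := by
  set T := lineT z g p with hT
  have hTD : T ≤ conjE z g ⊓ centralizer ({z} : Set G) := le_inf inf_le_left (Γ.T_le_H ht)
  set ψ := (Γ.homD g).comp (inclusion hTD) with hψ
  have hψap : ∀ x : ↥T, ψ x = Γ.ph x := fun x => Γ.homD_apply (g := g) _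
  have hker : Nat.card ↥ψ.ker ≤ 8 := by
    refine le_trans ?_ (Γ.card_cap ht)
    refine Nat.card_le_card_of_injective (fun x => ⟨(x.1 : G), ?_, x.1.2⟩) fun a b h =>
      Subtype.ext (Subtype.ext (congrArg Subtype.val h :))
    refine Γ.mem_core_of_ph ht.pt (hTD x.1.2) ?_
    rw [← hψap]; exact x.2
  have hmul := ψ.ker.card_mul_index
  rw [Subgroup.index_ker, Γ.card_T ht] at hmul
  have hrange : ψ.range ≤ Γ.imgA g ⊓ innerM22 := by
    rintro _ ⟨x, rfl⟩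
    exact ⟨⟨inclusion hTD x, rfl⟩, by rw [hψap]; exact Γ.T_inner ht x.2⟩
  have h16 : Nat.card ↥(Γ.imgA g ⊓ innerM22) ≤ 16 := by
    have hA := Γ.thirtyTwo_imgA ht.pt
    have hne : Γ.imgA g ⊓ innerM22 ≠ Γ.imgA g := fun h => Γ.F.elem_not_le _ hA (h ▸ inf_le_right)
    have hd := card_dvd_of_le (inf_le_left : Γ.imgA g ⊓ innerM22 ≤ Γ.imgA g)
    have hlt : Nat.card ↥(Γ.imgA g ⊓ innerM22) ≠ 32 := fun h =>
      hne (eq_of_le_of_card_ge inf_le_left (by rw [hA.2, h]))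
    rw [hA.2] at hd
    obtain ⟨k, hk5, hk⟩ := (Nat.dvd_prime_pow Nat.prime_two).1 (show _ ∣ 2 ^ 5 from hd)
    rw [hk] at hlt ⊢
    have : k ≠ 5 := fun h => hlt (by rw [h]; norm_num)
    exact le_trans (Nat.pow_le_pow_right (by norm_num) (show k ≤ 4 by omega)) (by norm_num)
  have hge : 16 ≤ Nat.card ↥ψ.range := by
    by_contra h
    have := Nat.mul_le_mul hker (show Nat.card ↥ψ.range ≤ 15 by omega)
    omega
  have heq : ψ.range = Γ.imgA g ⊓ innerM22 := eq_of_le_of_card_ge hrange (h16.trans hge)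
  obtain ⟨⟨m, hm⟩, hma⟩ : a ∈ ψ.range := by rw [heq]; exact ⟨ha, hai⟩
  rw [hψap] at hma
  set m1 := p * m * p⁻¹ with hm1
  set m2 := p * m1 * p⁻¹ with hm2
  have h1 : m1 ∈ T := Γ.T_rot ht hl hm
  have h2 : m2 ∈ T := Γ.T_rot ht hl h1
  have hpH := Γ.S.P_le ht.mem
  have ph1 : Γ.ph m1 = a := by
    rw [hm1, Γ.ph_conj hpH (Γ.T_le_H ht hm), Γ.ph_P ht.mem, hma]; group
  have ph2 : Γ.ph m2 = a := by
    rw [hm2, Γ.ph_conj hpH (Γ.T_le_H ht h1), Γ.ph_P ht.mem, ph1]; group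
  refine ⟨m * m1 * m2, mul_mem (mul_mem hm h1) h2, ?_, ?_⟩
  · rw [Γ.ph_mul (mul_mem (Γ.T_le_H ht hm) (Γ.T_le_H ht h1)) (Γ.T_le_H ht h2),
      Γ.ph_mul (Γ.T_le_H ht hm) (Γ.T_le_H ht h1), hma, ph1, ph2, Γ.imgA_sq ht.pt a ha, one_mul]
  · have e3 : p * m2 * p⁻¹ = m := by
      rw [hm2, hm1, show p * (p * (p * m * p⁻¹) * p⁻¹) * p⁻¹ = (p * (p * p)) * m * (p * (p * p))⁻¹ by group,
        Γ.p_cube ht.mem]
      group
    rw [show p * (m * m1 * m2) * p⁻¹ = (p * m * p⁻¹) * (p * m1 * p⁻¹) * (p * m2 * p⁻¹) by group, e3,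
      ← hm1, ← hm2, Γ.T_comm ht (mul_mem h1 h2) hm, ← mul_assoc]

end Ctx

end Cfsg.Agent.JankoFour
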