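import Cfsg.Agent.Lib.JankoFour.InvOuter
import Cfsg.Agent.Lib.JankoFour.InvPair

/-!
# Janko-four type: an inner involution of `H` over the image of `E^g ∩ H` is conjugate into `E` (S5569)

With `x` an involution of `X ∩ E^g ∩ E^(pg)` over the same image, `C_E(x)` is the product of
`C = C_W(x)` and `C' = p C p⁻¹`, and `R = C_E(C_E(x))` consists of the values `f x f⁻¹ x⁻¹` up to `z`.
The involution is `w w' x`, and one of `w`, `w'`, `(p²wp⁻²)⁻¹ w w'` lies in `R`.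
-/

set_option autoImplicit false
set_option linter.unusedSectionVars false

namespace Cfsg.Agent.JankoFour

open Subgroup
open LargeExtraspecial (mem_conj_iff)

variable {G : Type*} [Group G] {z : G} {P : Subgroup G}

theorem commute_of_invol {a b : G} (ha : a * a = 1) (hb : b * b = 1) (hab : a * b * (a * b) = 1) :
    Commute a b := by
  show a * b = b * a
  calc a * b = a * b * (a * b) * (a * b)⁻¹ := by group
    _ = b⁻¹ * a⁻¹ := by rw [hab]; group
    _ = b * a := by rw [inv_eq_of_mul_eq_one_right ha, inv_eq_of_mul_eq_one_right hb]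

namespace Ctx

variable [Finite G] (Γ : Ctx z P)

include Γ

/-- `c [f, x] x` is conjugate into `E` if `c` and `x` lie in `E^h`. -/
theorem intoCore_close {h c f x : G} (hh : Pt z h) (hc : c ∈ coreE z) (hc' : c ∈ conjE z h)
    (hx : x ∈ conjE z h) (hf : f ∈ coreE z) : IntoCore z (c * (f * x * f⁻¹ * x⁻¹) * x) := by
  refine IntoCore.of_conj f⁻¹ (IntoCore.of_conjE (g := h) ?_)
  rw [show f⁻¹ * (c * (f * x * f⁻¹ * x⁻¹) * x) * f⁻¹⁻¹ = f⁻¹ * c * f⁻¹⁻¹ * x by group]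
  refine mul_mem ?_ hx
  rcases Γ.S.hub.comm _ (inv_mem hf) c hc with e | e <;> rw [e]
  exacts [hc', mul_mem hc' (Γ.z_mem hh)]

theorem intoCore_inner {g u : G} (hg : Pt z g) (hu : u ∈ centralizer ({z} : Set G)) (hu2 : u * u = 1)
    (hA : Γ.ph u ∈ Γ.imgA g) (hi : Γ.ph u ∈ innerM22) (h1 : Γ.ph u ≠ 1) : IntoCore z u := by
  obtain ⟨g, p, ht, hl, hgg⟩ := Γ.exists_line hg
  rw [← hgg] at hA
  obtain ⟨x, hxT, hxa, hxp⟩ := Γ.exists_X_lift ht hl hA hi
  have hxH := Γ.T_le_H ht hxT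
  have hx2 := Γ.T_sq ht hxT
  obtain ⟨r0, hr0, e, he, hre⟩ := Γ.exists_coset hu hxH (by rw [hu2]; exact one_mem _)
    (by rw [hx2]; exact one_mem _) hxa.symm
  refine IntoCore.of_conj r0 ?_
  rw [hre]
  have hxE : x ∉ coreE z := fun h => h1 (by rw [← hxa, Γ.ph_core h])
  have hem : e * x * (e * x) = 1 := by
    rw [← hre, show r0 * u * r0⁻¹ * (r0 * u * r0⁻¹) = r0 * (u * u) * r0⁻¹ by group, hu2]; group
  have hpg := Γ.pt_p ht
  have hppg : Pt z (p * (p * g)) := (Γ.imgA_conj hpg (Γ.S.P_le ht.mem)).1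
  have hpH := Γ.S.P_le ht.mem
  set C := coreE z ⊓ conjE z g ⊓ centralizer ({x} : Set G) with hC
  set C' := coreE z ⊓ conjE z (p * g) ⊓ centralizer ({x} : Set G) with hC'
  set F0 := coreE z ⊓ centralizer ({x} : Set G) with hF0
  have hCF : C ≤ F0 := inf_le_inf_right _ inf_le_left
  have hC'F : C' ≤ F0 := inf_le_inf_right _ inf_le_left
  have cE : ∀ {c}, c ∈ F0 → c ∈ coreE z := fun hc => hc.1
  have cx : ∀ {c}, c ∈ F0 → c * x = x * c := fun hc => mem_centralizer_singleton_iff.1 hc.2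
  have hpx : p * x = x * p := mul_inv_eq_iff_eq_mul.1 hxp
  have hrotF : ∀ c ∈ F0, p * c * p⁻¹ ∈ F0 := fun c hc => ⟨Γ.conj_core hpH (cE hc),
    mem_centralizer_singleton_iff.2 (by
      calc p * c * p⁻¹ * x = p * c * (p⁻¹ * (x * p)) * p⁻¹ := by group
        _ = p * (c * x) * p⁻¹ := by rw [← hpx]; group
        _ = p * x * c * p⁻¹ := by rw [cx hc]; group
        _ = x * (p * c * p⁻¹) := by rw [hpx]; group)⟩
  have hCC' : ∀ {c}, c ∈ C → p * c * p⁻¹ ∈ C' := fun hc =>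
    ⟨⟨(hrotF _ (hCF hc)).1, conj_mem_conjE p hc.1.2⟩, (hrotF _ (hCF hc)).2⟩
  have hWc : ∀ {a b}, a ∈ C → b ∈ C → a * b = b * a := fun ha hb => (Γ.pair ht.pt).E_commute ha.1 hb.1
  have hWc' : ∀ {a b}, a ∈ C' → b ∈ C' → a * b = b * a := fun ha hb => (Γ.pair hpg).E_commute ha.1 hb.1
  have hsq : ∀ {a}, a ∈ C → a * a = 1 := fun ha => (Γ.pair ht.pt).E_sq ha.1
  have hsq' : ∀ {a}, a ∈ C' → a * a = 1 := fun ha => (Γ.pair hpg).E_sq ha.1
  have hC6 : Nat.card ↥C = 2 ^ 6 := Γ.not_commute_W ht.pt hxT.1 hxE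
  have hC'6 : Nat.card ↥C' = 2 ^ 6 := Γ.not_commute_W hpg hxT.2 hxE
  have hmeetle : C ⊓ C' ≤ coreE z ⊓ lineT z g p := fun a ha => ⟨ha.1.1.1, ha.1.1.2, ha.2.1.2⟩
  have hnC : C ≤ normalizer (C' : Set G) := by
    have key : ∀ c ∈ C, ∀ d ∈ C', c * d * c⁻¹ ∈ C' := fun c hc d hd =>
      ⟨(Γ.pair hpg).conj_Q_E hc.1.1 hd.1, (centralizer _).mul_mem ((centralizer _).mul_mem hc.2 hd.2) ((centralizer _).inv_mem hc.2)⟩
    exact fun c hc => LargeExtraspecial.mem_normalizer_of_conj (key c hc) fun d hd => by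
      simpa using key c⁻¹ (inv_mem hc) d hd
  -- `C C' = C_E(x) = ` fixed points modulo `z`
  set F := Γ.fixZ x with hF
  have hF0F : F0 ≤ F := Γ.cent_le_fixZ x
  have hF9 : Nat.card ↥F ≤ 2 ^ 9 := Γ.fixZ_inner hxH (by rw [hx2]; exact one_mem _) hxE
  have hprod := card_sup_mul_card_inf hnC
  rw [hC6, hC'6] at hprod
  have hcap : Nat.card ↥(C ⊓ C') ≤ 8 := (Subgroup.card_le_of_le hmeetle).trans (Γ.card_cap ht)
  have hsup9 : 2 ^ 9 ≤ Nat.card ↥(C ⊔ C') := by
    by_contra h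
    have := Nat.mul_le_mul (show Nat.card ↥(C ⊔ C') ≤ 2 ^ 9 - 1 by omega) hcap
    omega
  have hsupF : C ⊔ C' = F :=
    eq_of_le_of_card_ge ((sup_le hCF hC'F).trans hF0F) (hF9.trans hsup9)
  have hF0eq : F0 = F := le_antisymm hF0F (hsupF ▸ sup_le hCF hC'F)
  have hsup : C ⊔ C' = F0 := hsupF.trans hF0eq.symm
  have hF09 : Nat.card ↥F0 = 2 ^ 9 :=
    le_antisymm (hF0eq ▸ hF9) (hsup ▸ hsup9)
  have hmeet : Nat.card ↥(C ⊓ C') = 8 := by
    rw [hsup, hF09] at hprod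
    omega
  have hdec : ∀ y ∈ F0, ∃ c ∈ C, ∃ c' ∈ C', c * c' = y := by
    intro y hy
    rw [← hsup, ← SetLike.mem_coe, coe_mul_of_left_le_normalizer_right C C' hnC] at hy
    exact Set.mem_mul.1 hy
  -- `R`
  set R := coreE z ⊓ centralizer (F0 : Set G) with hR
  have hzF0 : z ∈ F0 :=
    ⟨Γ.z_mem_core, mem_centralizer_singleton_iff.2 (mem_H.1 hxH).symm.eq⟩
  have hR32 : Nat.card ↥R = 32 := by
    have := Γ.card_centralizer (inf_le_left : F0 ≤ coreE z) hzF0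
    rw [hF09, ← hR] at this
    omega
  set O := (fun f => f * x * f⁻¹ * x⁻¹) '' (coreE z : Set G) with hO
  have hOR : O ⊆ (R : Set G) := by
    rintro v ⟨f, hf, rfl⟩
    have hv : f * x * f⁻¹ * x⁻¹ ∈ F := Γ.orbit_subset_fixZ hxH hx2 ⟨f, hf, rfl⟩
    refine ⟨(Γ.mem_fixZ.1 hv).1, fun c hc => ?_⟩
    have hcE := cE hc
    have hcfx : c * (f * x * f⁻¹) * c⁻¹ = f * x * f⁻¹ := by
      have hcx : c * x * c⁻¹ = x := by rw [cx hc, mul_inv_cancel_right]
      rw [show c * (f * x * f⁻¹) * c⁻¹ = (c * f * c⁻¹) * (c * x * c⁻¹) * (c * f * c⁻¹)⁻¹ by group, hcx]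
      rcases Γ.S.hub.comm c hcE f hf with e | e <;> rw [e]
      rw [show f * z * x * (f * z)⁻¹ = f * ((z * x) * z⁻¹) * f⁻¹ by group, (mem_H.1 hxH).symm.eq,
        mul_inv_cancel_right]
    have h2 : Commute c (f * x * f⁻¹) := mul_inv_eq_iff_eq_mul.1 hcfx
    exact (h2.mul_right (Commute.inv_right (cx hc : Commute c x))).eq
  have hzR : z ∈ R := ⟨Γ.z_mem_core, fun c hc => ((Γ.S.hub.central c (cE hc)).eq)⟩
  have hRrep : ∀ r ∈ R, ∃ f ∈ coreE z, r = f * x * f⁻¹ * x⁻¹ ∨ r = z * (f * x * f⁻¹ * x⁻¹) := by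
    intro r hr
    have hOR2 : O ∪ (fun v => z * v) '' O = (R : Set G) := by
      refine Set.eq_of_subset_of_ncard_le (Set.union_subset hOR ?_) ?_ (Set.toFinite _)
      · rintro _ ⟨v, hv, rfl⟩
        exact mul_mem hzR (hOR hv)
      have horb := card_le_orbit (coreE z) x
      rw [← hO, ← hF0, Γ.S.card_E, hF09] at horb
      have hdisj : Disjoint O ((fun v => z * v) '' O) := by
        rw [Set.disjoint_left]
        rintro _ ⟨f, hf, rfl⟩ ⟨_, ⟨f', hf', rfl⟩, h⟩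
        have h : z * (f' * x * f'⁻¹ * x⁻¹) = f * x * f⁻¹ * x⁻¹ := h
        have hkF : f'⁻¹ * f ∈ F0 := by
          rw [hF0eq]
          refine Γ.mem_fixZ.2 ⟨mul_mem (inv_mem hf') hf, Or.inr ?_⟩
          have e1 : f'⁻¹ * f * x * (f'⁻¹ * f)⁻¹ = z * x := by
            calc f'⁻¹ * f * x * (f'⁻¹ * f)⁻¹ = f'⁻¹ * ((f * x * f⁻¹ * x⁻¹) * x) * f' := by group
              _ = f'⁻¹ * z * f' * x := by rw [← h]; group
              _ = z * x := by rw [(Γ.S.hub.central f'⁻¹ (inv_mem hf')).eq, inv_mul_cancel_right]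
          calc x * (f'⁻¹ * f) * x⁻¹
              = (f'⁻¹ * f * x * (f'⁻¹ * f)⁻¹ * x⁻¹)⁻¹ * (f'⁻¹ * f) := by group
            _ = z * (f'⁻¹ * f) := by rw [e1, mul_inv_cancel_right, Γ.S.hub.inv_z]
        have e2 := cx hkF
        refine Γ.S.hub.ne_one ?_
        calc z = z * (f' * x * f'⁻¹ * x⁻¹) * (f' * x * f'⁻¹ * x⁻¹)⁻¹ := by group
          _ = f * x * f⁻¹ * x⁻¹ * (f' * x * f'⁻¹ * x⁻¹)⁻¹ := by rw [h]
          _ = f' * ((f'⁻¹ * f * x) * (f'⁻¹ * f)⁻¹ * x⁻¹) * f'⁻¹ := by group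
          _ = 1 := by rw [e2]; group
      rw [Set.ncard_union_eq hdisj (Set.toFinite _) (Set.toFinite _),
        Set.ncard_image_of_injective _ (mul_right_injective z), ← Nat.card_coe_set_eq (R : Set G)]
      show Nat.card ↥R ≤ _
      rw [hR32]
      omega
    have hr' : r ∈ O ∪ (fun v => z * v) '' O := by rw [hOR2]; exact hr
    rcases hr' with ⟨f, hf, rfl⟩ | ⟨_, ⟨f, hf, rfl⟩, rfl⟩
    exacts [⟨f, hf, Or.inl rfl⟩, ⟨f, hf, Or.inr rfl⟩]
  have hRF : R ≤ F0 := by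
    rw [hF0eq]
    intro r hr
    obtain ⟨f, hf, rfl | rfl⟩ := hRrep r hr
    · exact Γ.orbit_subset_fixZ hxH hx2 ⟨f, hf, rfl⟩
    · exact mul_mem (Γ.z_mem_fixZ hxH) (Γ.orbit_subset_fixZ hxH hx2 ⟨f, hf, rfl⟩)
  -- the closing step
  have close : ∀ {h c r : G}, Pt z h → c ∈ coreE z → c ∈ conjE z h → x ∈ conjE z h → r ∈ R →
      IntoCore z (c * r * x) := by
    intro h c r hh hcE hch hxh hr
    obtain ⟨f, hf, rfl | rfl⟩ := hRrep r hr
    · exact Γ.intoCore_close hh hcE hch hxh hf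
    · rw [← mul_assoc c z]
      exact Γ.intoCore_close hh (mul_mem hcE Γ.z_mem_core) (mul_mem hch (Γ.z_mem hh)) hxh hf
  have hxpp : x ∈ conjE z (p * (p * g)) := by
    have := conj_mem_conjE p hxT.2
    rwa [hxp] at this
  -- decompose
  have heF : e ∈ F0 := hF0eq ▸ Γ.mem_fixZ_of_invol he hx2 hem
  obtain ⟨w, hw, w', hw', rfl⟩ := hdec e heF
  have hwE : w ∈ coreE z := hw.1.1
  have hw'E : w' ∈ coreE z := hw'.1.1
  have hww' : Commute w w' := by
    refine commute_of_invol (hsq hw) (hsq' hw') ?_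
    have e1 := cx heF
    calc w * w' * (w * w') = w * w' * (w * w') * (x * x) := by rw [hx2, mul_one]
      _ = w * w' * ((w * w' * x) * x) := by group
      _ = w * w' * ((x * (w * w')) * x) := by rw [e1]
      _ = w * w' * x * (w * w' * x) := by group
      _ = 1 := hem
  by_cases hwR : w ∈ R
  · rw [hww'.eq]
    exact close hpg hw'E hw'.1.2 hxT.2 hwR
  by_cases hw'R : w' ∈ R
  · exact close ht.pt hwE hw.1.2 hxT.1 hw'R
  -- `v = p w p⁻¹`, `w'' = p v p⁻¹`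
  set v := p * w * p⁻¹ with hv
  set w'' := p * v * p⁻¹ with hw''
  have hvC : v ∈ C' := hCC' hw
  have hvE : v ∈ coreE z := hvC.1.1
  have hw''E : w'' ∈ coreE z := Γ.conj_core hpH hvE
  have hw''h : w'' ∈ conjE z (p * (p * g)) := conj_mem_conjE p hvC.1.2
  have hw''2 : w'' * w'' = 1 := by
    rw [hw'', show p * v * p⁻¹ * (p * v * p⁻¹) = p * (v * v) * p⁻¹ by group, hsq' hvC]; group
  set y := w * v * w'' with hy
  have hyE : y ∈ coreE z := mul_mem (mul_mem hwE hvE) hw''E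
  have hy01 : y = 1 ∨ y = z := by
    refine Γ.eq_one_or_z_of_fixed ht.mem ht.ne hyE ?_
    have e1 : p * y * p⁻¹ = w⁻¹ * y * w⁻¹⁻¹ := by
      have e2 : p * w'' * p⁻¹ = w := by
        rw [hw'', hv, show p * (p * (p * w * p⁻¹) * p⁻¹) * p⁻¹ = (p * (p * p)) * w * (p * (p * p))⁻¹ by group,
          Γ.p_cube ht.mem]
        group
      rw [hy, show p * (w * v * w'') * p⁻¹ = (p * w * p⁻¹) * (p * v * p⁻¹) * (p * w'' * p⁻¹) by group, e2,
        ← hv, ← hw'']
      group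
    rw [e1]
    exact Γ.eqz_core (inv_mem hwE) hyE
  have hwv : w * v = y * w'' := by rw [hy, mul_assoc, hw''2, mul_one]
  have hwvc : Commute w v := by
    refine commute_of_invol (hsq hw) (hsq' hvC) ?_
    rw [hwv]
    rcases hy01 with h | h <;> rw [h]
    · rw [one_mul, hw''2]
    · rw [← mul_assoc, mul_assoc z w'', (Γ.S.hub.central w'' hw''E).eq, ← mul_assoc z z,
        Γ.S.hub.sq, one_mul, hw''2]
  have hvR : v ∉ R := by
    refine fun h => hwR ⟨hwE, fun c hc => ?_⟩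
    have h2 := mem_centralizer_iff.1 h.2 _ (hrotF c hc)
    rw [hv, show p * c * p⁻¹ * (p * w * p⁻¹) = p * (c * w) * p⁻¹ by group,
      show p * w * p⁻¹ * (p * c * p⁻¹) = p * (w * c) * p⁻¹ by group] at h2
    exact mul_left_cancel (mul_right_cancel h2)
  set S' := C' ⊓ centralizer ({w} : Set G) with hS'
  set S0 := C' ⊓ R with hS0
  have hS0le : S0 ≤ S' := fun a ha => ⟨ha.1, mem_centralizer_singleton_iff.2
    ((mem_centralizer_iff.1 ha.2.2 w (hCF hw)).symm)⟩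
  have hS'32 : Nat.card ↥S' ≤ 32 := by
    have hne : Nat.card ↥S' ≠ 2 ^ 6 := by
      intro h
      have hall : S' = C' := eq_of_le_of_card_ge inf_le_left (by rw [hC'6, h])
      refine hwR ⟨hwE, fun c hc => ?_⟩
      obtain ⟨a, ha, b, hb, rfl⟩ := hdec c hc
      have hbw : Commute b w := mem_centralizer_singleton_iff.1 ((hall.symm ▸ hb : b ∈ S')).2
      exact ((show Commute a w from hWc ha hw).mul_left hbw).eq
    have hd := card_dvd_of_le (inf_le_left : S' ≤ C')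
    rw [hC'6] at hd
    obtain ⟨k, hk6, hk⟩ := (Nat.dvd_prime_pow Nat.prime_two).1 hd
    rw [hk] at hne ⊢
    have : k ≠ 6 := fun h => hne (by rw [h])
    exact (Nat.pow_le_pow_right (by norm_num) (show k ≤ 5 by omega)).trans (by norm_num)
  have hS016 : 16 ≤ Nat.card ↥S0 := by
    have hCR : C ⊓ C' ≤ R := fun a ha => ⟨ha.1.1.1, fun c hc => by
      obtain ⟨c1, hc1, c2, hc2, rfl⟩ := hdec c hc
      exact ((show Commute c1 a from hWc hc1 ha.1).mul_left (show Commute c2 a from hWc' hc2 ha.2)).eq⟩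
    have hnR : C ⊓ R ≤ normalizer (S0 : Set G) := by
      refine le_trans ?_ (centralizer_le_normalizer _)
      exact fun a ha b hb => mem_centralizer_iff.1 ha.2.2 b (hC'F hb.1)
    have hsupR : R ≤ C ⊓ R ⊔ S0 := by
      intro r hr
      obtain ⟨c, hc, c', hc', rfl⟩ := hdec r (hRF hr)
      have hc'R : c' ∈ R := by
        refine ⟨hc'.1.1, fun d hd => ?_⟩
        obtain ⟨d1, hd1, d2, hd2, rfl⟩ := hdec d hd
        have k1 : Commute d1 (c * c') := mem_centralizer_iff.1 hr.2 d1 (hCF hd1)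
        have k2 : Commute d1 c' := by
          have := (Commute.inv_right (show Commute d1 c from hWc hd1 hc)).mul_right k1
          rwa [inv_mul_cancel_left] at this
        exact (k2.mul_left (show Commute d2 c' from hWc' hd2 hc')).eq
      have hcR : c ∈ R := by
        have := mul_mem hr (inv_mem hc'R)
        rwa [mul_inv_cancel_right] at this
      exact mul_mem (mem_sup_left ⟨hc, hcR⟩) (mem_sup_right ⟨hc', hc'R⟩)
    have e1 := card_sup_mul_card_inf hnR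
    have e2 : (C ⊓ R) ⊓ S0 = C ⊓ C' := le_antisymm (fun a ha => ⟨ha.1.1, ha.2.1⟩)
      fun a ha => ⟨⟨ha.1, hCR ha⟩, ha.2, hCR ha⟩
    rw [e2, hmeet] at e1
    have e3 := Subgroup.card_le_of_le hsupR
    rw [hR32] at e3
    have e4 : Nat.card ↥(C ⊓ R) ≤ Nat.card ↥S0 := by
      rw [← card_map_of_injective (f := (MulAut.conj p).toMonoidHom) (MulAut.conj p).injective
        (K := C ⊓ R)]
      refine Subgroup.card_le_of_le ?_
      rintro _ ⟨a, ha, rfl⟩
      refine ⟨hCC' ha.1, ⟨Γ.conj_core hpH ha.2.1, fun c hc => ?_⟩⟩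
      show c * (p * a * p⁻¹) = p * a * p⁻¹ * c
      have hc' : p⁻¹ * c * p ∈ F0 := by
        have := hrotF _ (hrotF c hc)
        rwa [show p * (p * c * p⁻¹) * p⁻¹ = p * p * c * (p * p)⁻¹ by group,
          show p * p = p⁻¹ from (inv_eq_of_mul_eq_one_right (Γ.p_cube ht.mem)).symm, inv_inv] at this
      have k : Commute (p⁻¹ * c * p) a := mem_centralizer_iff.1 ha.2.2 _ hc'
      calc c * (p * a * p⁻¹) = p * ((p⁻¹ * c * p) * a) * p⁻¹ := by group
        _ = p * (a * (p⁻¹ * c * p)) * p⁻¹ := by rw [k.eq]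
        _ = p * a * p⁻¹ * c := by group
    by_contra h16
    have := Nat.mul_le_mul (show Nat.card ↥(C ⊓ R) ≤ 15 by omega) (show Nat.card ↥S0 ≤ 15 by omega)
    omega
  have hvS : v ∈ S' := ⟨hvC, mem_centralizer_singleton_iff.2 hwvc.symm.eq⟩
  have hw'S : w' ∈ S' := ⟨hw', mem_centralizer_singleton_iff.2 hww'.symm.eq⟩
  have hr : v * w' ∈ R := (mul_mem_of_half hS0le (by omega) hvS hw'S (fun h => hvR h.2)
    (fun h => hw'R h.2)).2
  have e5 : w * w' = y * w'' * (v * w') := by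
    rw [← hwv, show w * v * (v * w') = w * (v * v) * w' by group, hsq' hvC, mul_one]
  rw [e5]
  refine close hppg (mul_mem hyE hw''E) (mul_mem ?_ hw''h) hxpp hr
  rcases hy01 with h | h <;> rw [h]
  exacts [one_mem _, Γ.z_mem hppg]

end Ctx

end Cfsg.Agent.JankoFour
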