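import Cfsg.Agent.Lib.JankoFour.InvTools

/-!
# Janko-four type: an outer involution of `H` over the image of `E^g ∩ H` is conjugate into `E` (S5569)

With `m` an involution of `E^g ∩ H` over the same image, the fixed points of `m` modulo `z` have order
at most `2^7`, so all of them are values `f m f⁻¹ m⁻¹` or `z` times one: `u` is conjugate to `m` or `z m`.
-/

set_option autoImplicit false
set_option linter.unusedSectionVars false

namespace Cfsg.Agent.JankoFour

open Subgroup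
open LargeExtraspecial (mem_conj_iff)

variable {G : Type*} [Group G] {z : G} {P : Subgroup G}

/-- `u` is conjugate into `E`. -/
def IntoCore (z u : G) : Prop := ∃ k : G, k * u * k⁻¹ ∈ coreE z

theorem IntoCore.of_conjE {g u : G} (h : u ∈ conjE z g) : IntoCore z u :=
  ⟨g⁻¹, by rw [inv_inv]; exact mem_conj_iff.1 h⟩

theorem IntoCore.of_conj {u : G} (r : G) (h : IntoCore z (r * u * r⁻¹)) : IntoCore z u := by
  obtain ⟨k, hk⟩ := h
  exact ⟨k * r, by rwa [show k * r * u * (k * r)⁻¹ = k * (r * u * r⁻¹) * k⁻¹ by group]⟩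

namespace Ctx

variable [Finite G] (Γ : Ctx z P)

include Γ

/-- An involution of `E^g ∩ H` over a nontrivial element of the image. -/
theorem exists_invol_lift {g : G} (hg : Pt z g) {a : AutM22} (ha : a ∈ Γ.imgA g) (ha1 : a ≠ 1) :
    ∃ m ∈ conjE z g ⊓ centralizer ({z} : Set G), m * m = 1 ∧ Γ.ph m = a := by
  obtain ⟨m, hm, hma, -⟩ := Γ.exists_imgA_lift hg ha
  rcases (Γ.hub_pt g).sq_cases m hm.1 with h | h
  · exact ⟨m, hm, h, hma⟩
  set W := coreE z ⊓ conjE z g with hW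
  have hmE : m ∉ coreE z := fun h' => ha1 (by rw [← hma, Γ.ph_core h'])
  obtain ⟨w, hw, hmw⟩ : ∃ w ∈ W, m * w ≠ w * m := by
    by_contra hall
    push Not at hall
    exact hmE (Γ.mem_of_commute_seven (inf_le_right : W ≤ conjE z g)
      (fun a ha b hb => (Γ.pair hg).E_commute ha hb) (Γ.card_facts hg).1.ge hm.1 hall).1
  refine ⟨m * w, mul_mem hm ⟨hw.2, coreE_le_H hw.1⟩, ?_, ?_⟩
  · have h1 : m * w * m⁻¹ = w * (g * z * g⁻¹) :=
      ((Γ.hub_pt g).comm m hm.1 w hw.2).resolve_left fun e => hmw (mul_inv_eq_iff_eq_mul.1 e)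
    have hsw := ((Γ.hub_pt g).central w hw.2).eq
    have hss := (Γ.hub_pt g).sq
    calc m * w * (m * w) = (m * w * m⁻¹) * (m * m) * w := by group
      _ = w * (g * z * g⁻¹) * (g * z * g⁻¹) * w := by rw [h1, h]
      _ = w * w := by rw [mul_assoc w, hss, mul_one]
      _ = 1 := (Γ.pair hg).E_sq hw
  · rw [Γ.ph_mul hm.2 (coreE_le_H hw.1), Γ.ph_core hw.1, mul_one, hma]

/-- The values `f m f⁻¹ m⁻¹` lie among the fixed points of `m`. -/
theorem orbit_subset_fixZ {m : G} (hm : m ∈ centralizer ({z} : Set G)) (hm2 : m * m = 1) :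
    (fun f => f * m * f⁻¹ * m⁻¹) '' (coreE z : Set G) ⊆ (Γ.fixZ m : Set G) := by
  rintro _ ⟨f, hf, rfl⟩
  refine Γ.mem_fixZ_of_invol ?_ hm2 ?_
  · show f * m * f⁻¹ * m⁻¹ ∈ coreE z
    rw [show f * m * f⁻¹ * m⁻¹ = f * (m * f⁻¹ * m⁻¹) by group]
    exact mul_mem hf (Γ.conj_core hm (inv_mem hf))
  · show f * m * f⁻¹ * m⁻¹ * m * (f * m * f⁻¹ * m⁻¹ * m) = 1
    rw [show f * m * f⁻¹ * m⁻¹ * m * (f * m * f⁻¹ * m⁻¹ * m) = f * (m * m) * f⁻¹ by group, hm2]
    group

theorem intoCore_outer {g u : G} (hg : Pt z g) (hu : u ∈ centralizer ({z} : Set G)) (hu2 : u * u = 1)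
    (hA : Γ.ph u ∈ Γ.imgA g) (ho : Γ.ph u ∉ innerM22) : IntoCore z u := by
  obtain ⟨m, hm, hm2, hma⟩ := Γ.exists_invol_lift hg hA fun h => ho (h ▸ one_mem _)
  have hmi : Γ.ph m ∉ innerM22 := hma.symm ▸ ho
  obtain ⟨r, hr, e, he, hre⟩ := Γ.exists_coset hu hm.2 (by rw [hu2]; exact one_mem _)
    (by rw [hm2]; exact one_mem _) hma.symm
  refine IntoCore.of_conj r ?_
  rw [hre]
  have hem : e * m * (e * m) = 1 := by
    rw [← hre, show r * u * r⁻¹ * (r * u * r⁻¹) = r * (u * u) * r⁻¹ by group, hu2]; group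
  have heF : e ∈ Γ.fixZ m := Γ.mem_fixZ_of_invol he hm2 hem
  set F := Γ.fixZ m with hF
  set C := coreE z ⊓ centralizer ({m} : Set G) with hC
  set O := (fun f => f * m * f⁻¹ * m⁻¹) '' (coreE z : Set G) with hO
  have hzF : z ∈ F := Γ.z_mem_fixZ hm.2
  have hOF : O ⊆ (F : Set G) := Γ.orbit_subset_fixZ hm.2 hm2
  set O2 := (fun x => z * x) '' O with hO2
  have hO2F : O2 ⊆ (F : Set G) := by
    rintro _ ⟨x, hx, rfl⟩
    exact mul_mem hzF (hOF hx)
  have hcard : (F : Set G).ncard ≤ 2 ^ 7 := by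
    rw [← Nat.card_coe_set_eq]; exact Γ.fixZ_outer hm.2 hmi
  have horb := card_le_orbit (coreE z) m
  rw [← hO, ← hC, Γ.S.card_E] at horb
  -- `e` is a value or `z` times one
  have key : e ∈ O ∪ O2 := by
    suffices h : O ∪ O2 = (F : Set G) by rw [h]; exact heF
    refine Set.eq_of_subset_of_ncard_le (Set.union_subset hOF hO2F) ?_ (Set.toFinite _)
    refine hcard.trans ?_
    have hCF : C ≤ F := Γ.cent_le_fixZ m
    by_cases hsmall : Nat.card ↥C ≤ 2 ^ 6
    · refine le_trans ?_ (Set.ncard_le_ncard (s := O) Set.subset_union_left (Set.toFinite _))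
      by_contra hlt
      have := Nat.mul_le_mul (show O.ncard ≤ 2 ^ 7 - 1 by omega) hsmall
      omega
    · have hCeq : C = F := by
        refine eq_of_le_of_card_ge hCF ?_
        have hd := card_dvd_of_le hCF
        have hdE := card_dvd_of_le (Γ.fixZ_le m)
        rw [Γ.S.card_E] at hdE
        obtain ⟨i, -, hi⟩ := (Nat.dvd_prime_pow Nat.prime_two).1 hdE
        have hF7 : Nat.card ↥F ≤ 2 ^ 7 := Γ.fixZ_outer hm.2 hmi
        rw [hi] at hd hF7
        obtain ⟨j, -, hj⟩ := (Nat.dvd_prime_pow Nat.prime_two).1 hd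
        rw [hj] at hsmall
        rw [hi, hj]
        have h1 : i ≤ 7 := (Nat.pow_le_pow_iff_right (by norm_num)).1 hF7
        have h2 : 7 ≤ j := by
          by_contra h
          exact hsmall (Nat.pow_le_pow_right (by norm_num) (by omega))
        exact Nat.pow_le_pow_right (by norm_num) (by omega)
      have hC7 : Nat.card ↥C ≤ 2 ^ 7 := hCeq ▸ Γ.fixZ_outer hm.2 hmi
      have hO6 : 2 ^ 6 ≤ O.ncard := by
        by_contra hlt
        have := Nat.mul_le_mul (show O.ncard ≤ 2 ^ 6 - 1 by omega) hC7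
        omega
      have hdisj : Disjoint O O2 := by
        rw [Set.disjoint_left]
        rintro _ ⟨f, hf, rfl⟩ ⟨_, ⟨f', hf', rfl⟩, h⟩
        have h : z * (f' * m * f'⁻¹ * m⁻¹) = f * m * f⁻¹ * m⁻¹ := h
        have h1 : f'⁻¹ * f * m * (f'⁻¹ * f)⁻¹ = z * m := by
          calc f'⁻¹ * f * m * (f'⁻¹ * f)⁻¹ = f'⁻¹ * ((f * m * f⁻¹ * m⁻¹) * m) * f' := by group
            _ = f'⁻¹ * z * f' * m := by rw [← h]; group
            _ = z * m := by rw [(Γ.S.hub.central f'⁻¹ (inv_mem hf')).eq, inv_mul_cancel_right]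
        set k := f'⁻¹ * f with hk
        have hkE : k ∈ coreE z := mul_mem (inv_mem hf') hf
        have hkF : k ∈ F := by
          refine Γ.mem_fixZ.2 ⟨hkE, Or.inr ?_⟩
          calc m * k * m⁻¹ = (k * m * k⁻¹ * m⁻¹)⁻¹ * k := by group
            _ = z * k := by rw [h1, mul_inv_cancel_right, Γ.S.hub.inv_z]
        rw [← hCeq] at hkF
        rw [mem_centralizer_singleton_iff.1 hkF.2, mul_inv_cancel_right] at h1
        exact Γ.S.hub.ne_one (mul_eq_right.1 h1.symm)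
      rw [Set.ncard_union_eq hdisj (Set.toFinite _) (Set.toFinite _),
        Set.ncard_image_of_injective _ (mul_right_injective z)]
      omega
  rcases key with ⟨f, -, rfl⟩ | ⟨_, ⟨f, hf, rfl⟩, rfl⟩
  · refine IntoCore.of_conj f⁻¹ (IntoCore.of_conjE (g := g) ?_)
    rw [show f⁻¹ * (f * m * f⁻¹ * m⁻¹ * m) * f⁻¹⁻¹ = m by group]
    exact hm.1
  · refine IntoCore.of_conj f⁻¹ (IntoCore.of_conjE (g := g) ?_)
    rw [show f⁻¹ * (z * (f * m * f⁻¹ * m⁻¹) * m) * f⁻¹⁻¹ = f⁻¹ * z * f * m by group,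
      (Γ.S.hub.central f⁻¹ (inv_mem hf)).eq, inv_mul_cancel_right]
    exact mul_mem (Γ.z_mem hg) hm.1

end Ctx

end Cfsg.Agent.JankoFour
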