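import Cfsg.Agent.Lib.JankoFour.HexBase
import Cfsg.Agent.Lib.PGroup.Extraspecial
import Cfsg.Agent.Lib.LargeFischer.LocalHub

/-!
# Janko-four type: tools for the classes of involutions (S5569)

* `card_centralizer`: `|K| |C_E(K)| = 2^14` for `z ∈ K ≤ E`;
* `exists_coset`: an element over the image of `m` is conjugate under `P` into `E m`;
* `fixZ_outer`, `fixZ_inner`: bounds `2^7`, `2^9` for the fixed points modulo `z`;
* `card_cent_W`: an element of `E^g` centralises at least `2^6` of `E ∩ E^g`.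
-/

set_option autoImplicit false
set_option linter.unusedSectionVars false

namespace Cfsg.Agent.JankoFour

open Subgroup
open scoped commutatorElement
open LargeExtraspecial (Hub Pair mem_conj_iff)

variable {G : Type*} [Group G] {z : G} {P : Subgroup G}

theorem card_mul_le_inf [Finite G] {A B K : Subgroup G} (hA : A ≤ K) (hB : B ≤ K) :
    Nat.card ↥A * Nat.card ↥B ≤ Nat.card ↥K * Nat.card ↥(A ⊓ B) := by
  have e1 := relIndex_mul_card (H := A ⊓ B) (K := A) inf_le_left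
  rw [inf_relIndex_left] at e1
  have e2 := relIndex_mul_card (H := B) (K := K) hB
  have hrel : B.relIndex A ≤ B.relIndex K :=
    relIndex_le_of_le_right hA (by simp [relIndex, index_ne_zero_of_finite])
  rw [← e1, ← e2]
  calc B.relIndex A * Nat.card ↥(A ⊓ B) * Nat.card ↥B
      ≤ B.relIndex K * Nat.card ↥(A ⊓ B) * Nat.card ↥B :=
        Nat.mul_le_mul_right _ (Nat.mul_le_mul_right _ hrel)
    _ = B.relIndex K * Nat.card ↥B * Nat.card ↥(A ⊓ B) := mul_right_comm _ _ _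

theorem card_sup_mul_card_inf [Finite G] {A B : Subgroup G} (h : A ≤ normalizer (B : Set G)) :
    Nat.card ↥(A ⊔ B) * Nat.card ↥(A ⊓ B) = Nat.card ↥A * Nat.card ↥B := by
  have e : B.relIndex A = B.relIndex (A ⊔ B) := by
    have := normal_subgroupOf_of_le_normalizer h
    have := normal_subgroupOf_sup_of_le_normalizer h
    simpa only [relIndex, index_eq_card] using
      Nat.card_congr (QuotientGroup.quotientInfEquivProdNormalizerQuotient A B h).toEquiv
  have e1 := relIndex_mul_card (H := A ⊓ B) (K := A) inf_le_left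
  rw [inf_relIndex_left] at e1
  have e2 := relIndex_mul_card (H := B) (K := A ⊔ B) le_sup_right
  rw [← e2, ← e1, e]
  exact mul_right_comm _ _ _

/-- A subgroup of index two is one coset away from its complement. -/
theorem mul_mem_of_half [Finite G] {S T : Subgroup G} (hST : S ≤ T)
    (h : Nat.card ↥T ≤ 2 * Nat.card ↥S) {a b : G} (ha : a ∈ T) (hb : b ∈ T) (haS : a ∉ S) (hbS : b ∉ S) :
    a * b ∈ S := by
  have e := relIndex_mul_card hST
  have h2 : S.relIndex T ≤ 2 := by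
    by_contra hc
    have hp : 0 < Nat.card ↥S := Nat.card_pos
    nlinarith
  have hne : S.relIndex T ≠ 1 := fun h1 => haS (relIndex_eq_one.1 h1 ha)
  have h0 : S.relIndex T ≠ 0 := by simp [relIndex, index_ne_zero_of_finite]
  have hi : (S.subgroupOf T).index = 2 := by
    show S.relIndex T = 2
    omega
  have := (mul_mem_iff_of_index_two hi (a := (⟨a, ha⟩ : ↥T)) (b := ⟨b, hb⟩)).2
    (iff_of_false (fun h => haS (mem_subgroupOf.1 h)) fun h => hbS (mem_subgroupOf.1 h))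
  exact mem_subgroupOf.1 this

/-- The number of values `f m f⁻¹` is the index of the centraliser. -/
theorem card_le_orbit [Finite G] (K : Subgroup G) (m : G) :
    Nat.card ↥K ≤ ((fun f => f * m * f⁻¹ * m⁻¹) '' (K : Set G)).ncard *
      Nat.card ↥(K ⊓ centralizer ({m} : Set G)) := by
  set C := K ⊓ centralizer ({m} : Set G) with hC
  set S := (fun f => f * m * f⁻¹ * m⁻¹) '' (K : Set G) with hS
  have e := relIndex_mul_card (H := C) (K := K) inf_le_left
  rw [← e]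
  refine Nat.mul_le_mul_right _ ?_
  let φ : ↥K ⧸ C.subgroupOf K → ↥S := fun q =>
    ⟨(q.out : G) * m * (q.out : G)⁻¹ * m⁻¹, ⟨q.out, q.out.2, rfl⟩⟩
  have hφ : Function.Injective φ := by
    intro x y hxy
    have h1 : (x.out : G) * m * (x.out : G)⁻¹ = (y.out : G) * m * (y.out : G)⁻¹ :=
      mul_right_cancel (congrArg Subtype.val hxy)
    rw [← QuotientGroup.out_eq' x, ← QuotientGroup.out_eq' y, QuotientGroup.eq, mem_subgroupOf]
    refine ⟨(x.out⁻¹ * y.out).2, mem_centralizer_singleton_iff.2 ?_⟩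
    simp only [Subgroup.coe_mul, Subgroup.coe_inv]
    calc (x.out : G)⁻¹ * y.out * m = (x.out : G)⁻¹ * ((y.out : G) * m * (y.out : G)⁻¹) * y.out := by group
      _ = (x.out : G)⁻¹ * ((x.out : G) * m * (x.out : G)⁻¹) * y.out := by rw [h1]
      _ = m * ((x.out : G)⁻¹ * y.out) := by group
  have := Nat.card_le_card_of_injective φ hφ
  rwa [Nat.card_coe_set_eq] at this

namespace Ctx

variable [Finite G] (Γ : Ctx z P)

include Γ

/-- Every involution is conjugate into `H`. -/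
theorem exists_conj_H {u : G} (hu : u * u = 1) : ∃ k : G, k * u * k⁻¹ ∈ centralizer ({z} : Set G) := by
  have : Fact (Nat.Prime 2) := ⟨Nat.prime_two⟩
  obtain ⟨T, hT⟩ := Γ.exists_sylow_le
  have h2 : IsPGroup 2 ↥(zpowers u) := by
    rintro ⟨x, n, rfl⟩
    refine ⟨1, Subtype.ext ?_⟩
    show (u ^ n) ^ 2 ^ 1 = 1
    rw [pow_one, pow_two, ← (Commute.refl u).mul_zpow, hu, one_zpow]
  obtain ⟨Q, hQ⟩ := h2.exists_le_sylow
  obtain ⟨k, hk⟩ := MulAction.exists_smul_eq G Q T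
  refine ⟨k, hT ?_⟩
  rw [← hk, Sylow.coe_subgroup_smul]
  exact ⟨u, hQ (mem_zpowers u), rfl⟩

/-- `|K| |C_E(K)| = 2^14` for `z ∈ K ≤ E`. -/
theorem card_centralizer {K : Subgroup G} (hK : K ≤ coreE z) (hz : z ∈ K) :
    Nat.card ↥K * Nat.card ↥(coreE z ⊓ centralizer (K : Set G)) = 2 ^ 14 := by
  have : Fact (Nat.Prime 2) := ⟨Nat.prime_two⟩
  have hcen : Subgroup.center ↥(coreE z) ≤ K.subgroupOf (coreE z) := by
    intro c hc
    rw [mem_subgroupOf]
    rcases Γ.S.hub.self c (fun q hq =>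
      (congrArg Subtype.val (mem_center_iff.1 hc ⟨q, hq⟩) : q * (c : G) = c * q).symm) with e | e <;> rw [e]
    exacts [one_mem _, hz]
  have h := PGroup.extraspecial_card_mul_card_centralizer Γ.S.extra hcen
  have e2 : Subgroup.centralizer ((K.subgroupOf (coreE z) : Subgroup ↥(coreE z)) : Set ↥(coreE z)) =
      (coreE z ⊓ centralizer (K : Set G)).subgroupOf (coreE z) := by
    ext c
    rw [mem_centralizer_iff, mem_subgroupOf, Subgroup.mem_inf, mem_centralizer_iff]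
    constructor
    · exact fun hc => ⟨c.2, fun k hk => congrArg Subtype.val (hc ⟨k, hK hk⟩ (mem_subgroupOf.2 hk))⟩
    · exact fun hc k hk => Subtype.ext (hc.2 k (mem_subgroupOf.1 hk))
  rw [e2, Nat.card_congr (subgroupOfEquivOfLe hK).toEquiv,
    Nat.card_congr (subgroupOfEquivOfLe (inf_le_left : coreE z ⊓ centralizer (K : Set G) ≤ coreE z)).toEquiv,
    Γ.S.card_E] at h
  omega

theorem sq_eq_or {e : G} (he : e ∈ coreE z) : Eqz z e⁻¹ e := by
  rcases Γ.S.hub.sq_cases e he with h | h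
  · exact Or.inl (inv_eq_of_mul_eq_one_right h)
  · exact Or.inr (inv_eq_of_mul_eq_one_right (by
      rw [← mul_assoc, (Γ.S.hub.central e he).eq, mul_assoc, h, Γ.S.hub.sq]))

/-- `e m` and `m` involutions: `m` fixes `e` modulo `z`. -/
theorem mem_fixZ_of_invol {e m : G} (he : e ∈ coreE z) (hm : m * m = 1) (hem : e * m * (e * m) = 1) :
    e ∈ Γ.fixZ m := by
  refine Γ.mem_fixZ.2 ⟨he, ?_⟩
  have hmi : m⁻¹ = m := inv_eq_of_mul_eq_one_right hm
  have : m * e * m⁻¹ = e⁻¹ := by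
    rw [hmi]
    refine (inv_eq_of_mul_eq_one_right ?_).symm
    rw [← hem]; group
  rw [this]
  exact Γ.sq_eq_or he

theorem fixZ_le (v : G) : Γ.fixZ v ≤ coreE z := fun _ he => (Γ.mem_fixZ.1 he).1

theorem z_mem_fixZ {v : G} (hv : v ∈ centralizer ({z} : Set G)) : z ∈ Γ.fixZ v :=
  Γ.mem_fixZ.2 ⟨Γ.z_mem_core, Γ.eqz_z hv⟩

theorem cent_le_fixZ (v : G) : coreE z ⊓ centralizer ({v} : Set G) ≤ Γ.fixZ v := fun e he =>
  Γ.mem_fixZ.2 ⟨he.1, Or.inl (by rw [← mem_centralizer_singleton_iff.1 he.2, mul_inv_cancel_right])⟩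

/-- Bound for an outer element. -/
theorem fixZ_outer {v : G} (hv : v ∈ centralizer ({z} : Set G)) (ho : Γ.ph v ∉ innerM22) :
    Nat.card ↥(Γ.fixZ v) ≤ 2 ^ 7 := by
  obtain ⟨p, hp, hp1⟩ := Γ.exists_generator
  have hpp : p * p ≠ 1 := fun h => hp1 (by
    have := Γ.p_cube hp
    rwa [h, mul_one] at this)
  set F := Γ.fixZ v with hF
  set F' := F.map (MulAut.conj p).toMonoidHom with hF'
  have hF'E : F' ≤ coreE z := by
    rintro _ ⟨e, he, rfl⟩
    exact Γ.conj_core (Γ.S.P_le hp) (Γ.fixZ_le v he)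
  have hmeet : F ⊓ F' ≤ zpowers z := by
    rintro x ⟨hx, d, hd, rfl⟩
    have hx' : p * d * p⁻¹ ∈ F := hx
    obtain ⟨hdE, hd2⟩ := Γ.mem_fixZ.1 hd
    obtain ⟨-, hx2⟩ := Γ.mem_fixZ.1 hx'
    have h1 : Eqz z (p⁻¹ * d * p) (p * d * p⁻¹) := by
      have a1 := hd2.conj (Γ.P_comm (inv_mem hp))
      rw [show p⁻¹ * (v * d * v⁻¹) * p⁻¹⁻¹ = p⁻¹ * (v * d * v⁻¹) * p by group,
        show p⁻¹ * d * p⁻¹⁻¹ = p⁻¹ * d * p by group] at a1
      exact Γ.eqz_trans (Γ.eqz_symm (Γ.eqz_trans (Γ.outer_conj hv ho hp hdE) a1)) hx2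
    have h2 := h1.conj (Γ.P_comm hp)
    rw [show p * (p⁻¹ * d * p) * p⁻¹ = d by group,
      show p * (p * d * p⁻¹) * p⁻¹ = p * p * d * (p * p)⁻¹ by group] at h2
    show p * d * p⁻¹ ∈ zpowers z
    rcases Γ.eq_one_or_z_of_fixed (mul_mem hp hp) hpp hdE (Γ.eqz_symm h2) with rfl | rfl
    · rw [mul_one, mul_inv_cancel]; exact one_mem _
    · rw [(Γ.P_comm hp).eq, mul_inv_cancel_right]; exact mem_zpowers _
  have h1 := card_mul_le_inf (Γ.fixZ_le v) hF'E
  have h2 : Nat.card ↥(F ⊓ F') ≤ 2 := (Subgroup.card_le_of_le hmeet).trans_eq Γ.S.card_zpowers_eq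
  rw [Γ.S.card_E, card_map_of_injective (MulAut.conj p).injective] at h1
  by_contra hlt
  have := Nat.mul_le_mul (not_le.1 hlt).le (not_le.1 hlt).le
  nlinarith

/-- Bound for an element outside `E`. -/
theorem fixZ_inner {v : G} (hv : v ∈ centralizer ({z} : Set G)) (h2 : v * v ∈ coreE z) (hvE : v ∉ coreE z) :
    Nat.card ↥(Γ.fixZ v) ≤ 2 ^ 9 := by
  have h : 8 * Nat.card ↥(Γ.fixZ v) < 2 ^ 13 := by
    by_contra hc
    refine hvE (Γ.hb v hv h2 (Γ.fixZ v) (Γ.fixZ_le v) (fun d hd => ?_) (not_lt.1 hc))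
    rw [← inv_mem_iff, commutatorElement_inv, commutatorElement_def]
    exact hd.2
  have hd := card_dvd_of_le (Γ.fixZ_le v)
  rw [Γ.S.card_E] at hd
  obtain ⟨k, -, hk⟩ := (Nat.dvd_prime_pow Nat.prime_two).1 hd
  rw [hk] at h ⊢
  refine Nat.pow_le_pow_right (by norm_num) ?_
  by_contra hk9
  have : (2 : ℕ) ^ 10 ≤ 2 ^ k := Nat.pow_le_pow_right (by norm_num) (by omega)
  omega

/-- An element over the image of `m` is conjugate under `P` into `E m`. -/
theorem exists_coset {u m : G} (hu : u ∈ centralizer ({z} : Set G)) (hm : m ∈ centralizer ({z} : Set G))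
    (hu2 : u * u ∈ coreE z) (hm2 : m * m ∈ coreE z) (h : Γ.ph u = Γ.ph m) :
    ∃ r ∈ P, ∃ e ∈ coreE z, r * u * r⁻¹ = e * m := by
  have hk : u * m⁻¹ ∈ centralizer ({z} : Set G) := mul_mem hu (inv_mem hm)
  obtain ⟨e, he, q, hq, hu0⟩ := Γ.exists_ep hk (by
    rw [Γ.ph_mul hu (inv_mem hm), Γ.ph_inv hm, h, mul_inv_cancel])
  have huq : u = e * q * m := by rw [← hu0]; group
  obtain ⟨e0, he0, y, hy, hm0⟩ := Γ.S.factor m hm
  have hq3 := Γ.p_cube hq
  have hqH := Γ.S.P_le hq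
  by_cases hyX : y ∈ cX z P
  · -- inner: `q = 1`
    refine ⟨1, one_mem _, e, he, ?_⟩
    have hyq : q * y = y * q := mem_centralizer_iff.1 hyX.2 q hq
    have hcm : m * q * m⁻¹ = e0 * q * e0⁻¹ := by
      rw [hm0, show e0 * y * q * (e0 * y)⁻¹ = e0 * (y * q) * y⁻¹ * e0⁻¹ by group, ← hyq]; group
    have hqm : q * m * (q * m) = (q * e0 * q⁻¹) * (q * q) * (e0⁻¹ * (m * m)) := by
      rw [show q * m * (q * m) = q * (m * q * m⁻¹) * (m * m) by group, hcm]; group
    have hu2' : u * u = e * (q * m * e * (q * m)⁻¹) * (q * m * (q * m)) := by rw [huq]; group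
    have hH : q * m ∈ centralizer ({z} : Set G) := mul_mem hqH hm
    have h1 : q * m * (q * m) ∈ coreE z := by
      rw [hu2'] at hu2
      exact ((coreE z).mul_mem_cancel_left (mul_mem he (Γ.conj_core hH he))).1 hu2
    rw [hqm] at h1
    have hqq : q * q ∈ coreE z :=
      ((coreE z).mul_mem_cancel_left (Γ.conj_core hqH he0)).1
        (((coreE z).mul_mem_cancel_right (mul_mem (inv_mem he0) hm2)).1 h1)
    have hq1 : q = 1 := by
      rw [Γ.eq_one_of_mem_core (mul_mem hq hq) hqq, mul_one] at hq3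
      exact hq3
    rw [huq, hq1]; group
  · -- outer: conjugate by `q`
    have hyq : y * q⁻¹ * y⁻¹ = q := by
      have := Γ.S.inverts y hy hyX q⁻¹ (inv_mem hq)
      rwa [inv_inv] at this
    refine ⟨q, hq, (q * e * q⁻¹) * (q * q * e0 * (q * q)⁻¹) * e0⁻¹,
      mul_mem (mul_mem (Γ.conj_core hqH he) (Γ.conj_core (mul_mem hqH hqH) he0)) (inv_mem he0), ?_⟩
    calc q * u * q⁻¹ = (q * e * q⁻¹) * (q * q) * (m * q⁻¹ * m⁻¹) * m := by rw [huq]; group
      _ = (q * e * q⁻¹) * (q * q) * (e0 * (y * q⁻¹ * y⁻¹) * e0⁻¹) * m := by rw [hm0]; group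
      _ = (q * e * q⁻¹) * (q * q * e0 * (q * q)⁻¹) * (q * (q * q)) * e0⁻¹ * m := by rw [hyq]; group
      _ = _ := by rw [hq3, mul_one]

/-- An element of `E^g` centralises at least half of `E ∩ E^g`. -/
theorem card_cent_W {g x : G} (hg : Pt z g) (hx : x ∈ conjE z g) :
    2 ^ 7 ≤ 2 * Nat.card ↥(coreE z ⊓ conjE z g ⊓ centralizer ({x} : Set G)) := by
  have h := card_le_two_inf (coreE z ⊓ conjE z g) x (x * (g * z * g⁻¹)) fun m hm =>
    (Γ.hub_pt g).comm m hm.2 x hx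
  rwa [(Γ.card_facts hg).1] at h

theorem not_commute_W {g x : G} (hg : Pt z g) (hx : x ∈ conjE z g) (hxE : x ∉ coreE z) :
    Nat.card ↥(coreE z ⊓ conjE z g ⊓ centralizer ({x} : Set G)) = 2 ^ 6 := by
  set W := coreE z ⊓ conjE z g with hW
  have hne : W ⊓ centralizer ({x} : Set G) ≠ W := fun h => hxE
    (Γ.mem_of_commute_seven (inf_le_right : W ≤ conjE z g)
      (fun a ha b hb => (Γ.pair hg).E_commute ha hb) (Γ.card_facts hg).1.ge hx
      fun w hw => (mem_centralizer_singleton_iff.1 (h.symm ▸ hw : w ∈ W ⊓ _).2).symm).1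
  have hd := card_dvd_of_le (inf_le_left : W ⊓ centralizer ({x} : Set G) ≤ W)
  have hlt : Nat.card ↥(W ⊓ centralizer ({x} : Set G)) ≠ 2 ^ 7 := fun h =>
    hne (eq_of_le_of_card_ge inf_le_left (by rw [(Γ.card_facts hg).1, h]))
  rw [(Γ.card_facts hg).1] at hd
  obtain ⟨k, hk7, hk⟩ := (Nat.dvd_prime_pow Nat.prime_two).1 hd
  have hge := Γ.card_cent_W hg hx
  rw [hk] at hlt hge ⊢
  congr 1
  have h7 : k ≠ 7 := fun h => hlt (by rw [h])
  by_contra hk6
  have : (2 : ℕ) ^ k ≤ 2 ^ 5 := Nat.pow_le_pow_right (by norm_num) (by omega)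
  omega

end Ctx

end Cfsg.Agent.JankoFour
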