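import Cfsg.Agent.Lib.JankoFour.Interface

/-!
# Janko-four type: facts on `Aut M₂₂` for the local structure at 5 and 7

`LocalFacts innerM22` is proved in `Cfsg.Agent.Lib.JankoFour.LocalChecks`.
-/

set_option autoImplicit false

namespace Cfsg.Agent.JankoFour

open Subgroup

/-- The facts on the automorphism group of the Mathieu group on 22 points used for S5572, S5573. -/
structure LocalFacts {K : Type*} [Group K] (I : Subgroup K) : Prop where
  five_exists : ∀ U : Subgroup K, IsThirtyTwo U → ∃ a ∈ I, a ∈ normalizer (U : Set K) ∧ orderOf a = 5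
  five_unique : ∀ a : K, orderOf a = 5 → ∀ U U' : Subgroup K, IsThirtyTwo U → IsThirtyTwo U' →
    a ∈ normalizer (U : Set K) → a ∈ normalizer (U' : Set K) → U = U'
  five_cent : ∀ a : K, orderOf a = 5 →
    (∀ k ∈ I, Commute k a → k ∈ zpowers a) ∧ ∃ k ∉ I, Commute k a
  five_norm : ∀ a : K, orderOf a = 5 → ∃ k ∈ I, k * a * k⁻¹ = a ^ 2
  seven_cent : ∀ a : K, orderOf a = 7 →
    (∀ k ∈ I, Commute k a → k ∈ zpowers a) ∧ ∃ k ∉ I, Commute k a
  seven_norm : ∀ a : K, orderOf a = 7 → ∃ k ∈ I, orderOf k = 3 ∧ k * a * k⁻¹ = a ^ 2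
  seven_real : ∀ a k : K, orderOf a = 7 → k * a * k⁻¹ ≠ a⁻¹
  eleven : ∃ d y : K, d ∈ I ∧ orderOf d = 11 ∧ y * d * y⁻¹ ∈ zpowers d ∧
    orderOf (y ^ 2) = 5 ∧ y ^ 5 ∉ I ∧ (y ^ 5) ^ 2 = 1
  partition : ∀ U : Subgroup K, IsThirtyTwo U → ∃ d : K, orderOf d = 11 ∧ ∀ i : ℕ, 1 ≤ i → i < 11 →
    ∃ t ∈ I, ∃ v ∈ I,
      t ∈ normalizer (U : Set K) ∧ t ∈ normalizer (U.map (MulAut.conj (d ^ i)).toMonoidHom : Set K) ∧
      v ∈ normalizer (U : Set K) ∧ v ∈ normalizer (U.map (MulAut.conj (d ^ i)).toMonoidHom : Set K) ∧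
      orderOf t = 3 ∧ U.map (MulAut.conj (d ^ i)).toMonoidHom ≠ U ∧
      ∀ U' : Subgroup K, IsThirtyTwo U' → t ∈ normalizer (U' : Set K) → v ∈ normalizer (U' : Set K) →
        U' = U ∨ U' = U.map (MulAut.conj (d ^ i)).toMonoidHom
  outer_seven : ∀ a : K, a ∉ I → a * a = 1 → ∀ t : K, orderOf t = 3 → Commute t a →
    ∃ b : K, orderOf b = 7 ∧ Commute b a

end Cfsg.Agent.JankoFour
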