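import Cfsg.Agent.Lib.JankoFour.PairModel
import Cfsg.Agent.Lib.JankoFour.LocalFacts
import Cfsg.Agent.Lib.JankoFour.Data.LocalData
import Mathlib.GroupTheory.Sylow

/-!
# `Aut M₂₂`: the certificates for `LocalFacts`

`code` is the packed form of an automorphism in the model `pairGrp`.  `stdThirtyTwo` is the standard
elementary subgroup of order 32; `LocalData.cosets` lists representatives of its conjugates.
-/

set_option autoImplicit false
set_option maxRecDepth 20000

namespace Cfsg.Agent.JankoFour

open Cfsg Subgroup Cfsg.Agent.Mathieu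

/-! ### Packed forms of automorphisms -/

/-- The packed form. -/
noncomputable def code (a : AutM22) : ℕ := canon ((pairEquiv.symm a : ↥pairGrp) : Equiv.Perm GolayPt)

theorem code_mul (a b : AutM22) : code (a * b) = packMul 24 (code a) (code b) := by
  rw [code, map_mul, Subgroup.coe_mul, canon_mul]
  rfl

theorem code_one : code 1 = packId 24 := by
  rw [code, map_one, Subgroup.coe_one, canon_one]

theorem code_injective : Function.Injective code := fun _ _ h =>
  pairEquiv.symm.injective (Subtype.ext (canon_injective h))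

theorem rep_code (a : AutM22) :
    Rep ptEnc ((pairEquiv.symm a : ↥pairGrp) : Equiv.Perm GolayPt) (code a) := rep_canon _

theorem code_pow (a : AutM22) : ∀ k, code (a ^ k) = packPow 24 (code a) k
  | 0 => by rw [pow_zero, code_one]; rfl
  | k + 1 => by rw [pow_succ', code_mul, code_pow a k]; rfl

theorem mem_inner_iff (a : AutM22) : a ∈ innerM22 ↔ app (code a) 23 = 23 := by
  rw [← fix_iff_app (pairEquiv.symm a).2 (rep_code a), ← map_innerPair]
  constructor
  · rintro ⟨σ, hσ, rfl⟩
    rw [MulEquiv.coe_toMonoidHom, MulEquiv.symm_apply_apply]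
    exact hσ
  · exact fun h => ⟨pairEquiv.symm a, h, pairEquiv.apply_symm_apply a⟩

/-- `l` is the packed form of an automorphism. -/
def okCode (l : ℕ) : Bool := memPair l && canonNum l == l

theorem exists_code {l : ℕ} (h : okCode l = true) : ∃ a, code a = l := by
  simp only [okCode, Bool.and_eq_true, beq_iff_eq] at h
  obtain ⟨σ, hσ⟩ := exists_rep_pair h.1
  refine ⟨pairEquiv σ, ?_⟩
  rw [code, MulEquiv.symm_apply_apply, canon_eq hσ, h.2]

theorem exists_solution {g a b : AutM22} {u v : ℕ} (ha : code a = u) (hb : code b = v)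
    (h : g * a = b * g) : ∃ l ∈ solutions 24 u v pairLevels, code g = canonNum l := by
  obtain ⟨l, hl, hr⟩ := pairStab_cert.exists_solution (ha ▸ rep_code a) (hb ▸ rep_code b)
    (pairEquiv.symm g).2 (by rw [← Subgroup.coe_mul, ← Subgroup.coe_mul, ← map_mul, ← map_mul, h])
  exact ⟨l, hl, canon_eq hr⟩

theorem orderOf_of_code {a : AutM22} {l p : ℕ} [Fact p.Prime] (ha : code a = l)
    (h : (packPow 24 l p == packId 24 && l != packId 24) = true) : orderOf a = p := by
  simp only [Bool.and_eq_true, beq_iff_eq, bne_iff_ne] at h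
  exact orderOf_eq_prime (code_injective (by rw [code_pow, ha, h.1, code_one]))
    fun e => h.2 (by rw [← ha, e, code_one])

theorem inv_code {a b : AutM22} {l m : ℕ} (ha : code a = l) (hb : code b = m)
    (h : (packMul 24 l m == packId 24) = true) : a⁻¹ = b :=
  inv_eq_of_mul_eq_one_right (code_injective (by rw [code_mul, ha, hb, eq_of_beq h, code_one]))

/-- The powers of `l` up to `n`. -/
def powersOf (l n : ℕ) : List ℕ := (List.range n).map fun k => packPow 24 l k

theorem mem_zpowers_of_code {a k : AutM22} {l n : ℕ} (ha : code a = l)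
    (h : code k ∈ powersOf l n) : k ∈ zpowers a := by
  obtain ⟨j, -, hj⟩ := List.mem_map.1 h
  rw [show k = a ^ j from code_injective (by rw [code_pow, ha, hj])]
  exact pow_mem (mem_zpowers a) j

/-! ### The standard elementary subgroup of order 32 -/

theorem elemList_mul : (Data.elemList.all fun a =>
    (packMul 24 a a == packId 24) && Data.elemList.all fun b => Data.elemList.contains (packMul 24 a b)) =
      true := by
  decide +kernel

theorem packId_mem_elemList : Data.elemList.contains (packId 24) = true := by decide +kernel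

theorem elemList_ok : (Data.elemList.all okCode && decide Data.elemList.Nodup) = true := by decide +kernel

/-- The standard elementary subgroup of order 32. -/
def stdThirtyTwo : Subgroup AutM22 where
  carrier := {a | code a ∈ Data.elemList}
  mul_mem' {a b} ha hb := by
    have h := elemList_mul
    simp only [List.all_eq_true, Bool.and_eq_true] at h
    have := List.contains_iff_mem.1 ((h _ ha).2 _ hb)
    show code (a * b) ∈ Data.elemList
    rwa [code_mul]
  one_mem' := by
    show code 1 ∈ Data.elemList
    rw [code_one]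
    exact List.contains_iff_mem.1 packId_mem_elemList
  inv_mem' {a} ha := by
    have h := elemList_mul
    simp only [List.all_eq_true, Bool.and_eq_true, beq_iff_eq] at h
    show code a⁻¹ ∈ Data.elemList
    rwa [inv_eq_of_mul_eq_one_right (code_injective (by rw [code_mul, (h _ ha).1, code_one]) : a * a = 1)]

theorem mem_stdThirtyTwo {a : AutM22} : a ∈ stdThirtyTwo ↔ code a ∈ Data.elemList := Iff.rfl

theorem isThirtyTwo_std : IsThirtyTwo stdThirtyTwo := by
  have h := elemList_mul
  have hok := elemList_ok
  simp only [List.all_eq_true, Bool.and_eq_true, beq_iff_eq, decide_eq_true_eq] at h hok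
  refine ⟨fun a ha => code_injective (by rw [code_mul, (h _ ha).1, code_one]), ?_⟩
  classical
  have hbij : Function.Bijective fun a : ↥stdThirtyTwo =>
      (⟨code a, List.mem_toFinset.2 a.2⟩ : ↥(Data.elemList.toFinset)) := by
    refine ⟨fun a b e => Subtype.ext (code_injective (congrArg Subtype.val e)), fun l => ?_⟩
    obtain ⟨a, ha⟩ := exists_code (hok.1 l.1 (List.mem_toFinset.1 l.2))
    exact ⟨⟨a, show code a ∈ Data.elemList from ha.symm ▸ List.mem_toFinset.1 l.2⟩, Subtype.ext ha⟩
  rw [Nat.card_eq_of_bijective _ hbij, Nat.card_eq_finsetCard, List.toFinset_card_of_nodup hok.2]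
  rfl

/-- `g * a = b * g`, compared point by point. -/
def twistOK (g a b : ℕ) : Bool :=
  (List.range 24).all fun i => appS g (appS a i) == appS b (appS g i)

theorem twistOK_iff {g a b : ℕ} : twistOK g a b = true ↔ packMul 24 g a = packMul 24 b g := by
  simp only [twistOK, appS_eq, List.all_eq_true, List.mem_range, beq_iff_eq]
  refine ⟨fun h => canon_congr h, fun h i hi => ?_⟩
  have key : ∀ u v : ℕ, app (packMul 24 u v) i = app u (app v i) := fun u v => by
    rw [packMul, app_packMul_aux (fun i => app u (app v i)) _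
      (fun i _ => Nat.mod_lt _ (by norm_num)) _ (by simpa using hi)]
    simp
  rw [← key g a, ← key b g, h]

/-- `g` normalises the standard subgroup. -/
def normU (g : ℕ) : Bool :=
  force g fun g => Data.elemList.all fun a => force a fun a =>
    Data.elemList.any fun b => force b fun b => twistOK g a b

theorem normU_iff {g : AutM22} : normU (code g) = true ↔ g ∈ normalizer (stdThirtyTwo : Set AutM22) := by
  simp only [normU, force_eq, twistOK_iff, List.all_eq_true, List.any_eq_true]
  constructor
  · intro h
    have hle : stdThirtyTwo.map (MulAut.conj g).toMonoidHom ≤ stdThirtyTwo := by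
      rintro _ ⟨a, ha, rfl⟩
      obtain ⟨b, hb, hab⟩ := h _ (mem_stdThirtyTwo.1 ha)
      have hok := elemList_ok
      simp only [List.all_eq_true, Bool.and_eq_true] at hok
      obtain ⟨c, hc⟩ := exists_code (hok.1 b hb)
      have hgc : g * a = c * g := code_injective (by rw [code_mul, code_mul, hab, hc])
      show g * a * g⁻¹ ∈ stdThirtyTwo
      rw [hgc, mul_inv_cancel_right]
      exact mem_stdThirtyTwo.2 (hc.symm ▸ hb)
    have heq := eq_of_le_of_card_ge hle (by rw [card_map_of_injective (MulAut.conj g).injective])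
    refine mem_normalizer_iff.2 fun a => ⟨fun ha => hle ⟨a, ha, rfl⟩, fun ha => ?_⟩
    rw [← heq] at ha
    obtain ⟨b, hb, e⟩ := ha
    rwa [← (MulAut.conj g).injective e]
  · intro h a ha
    have hok := elemList_ok
    simp only [List.all_eq_true, Bool.and_eq_true] at hok
    obtain ⟨c, rfl⟩ := exists_code (hok.1 a ha)
    refine ⟨code (g * c * g⁻¹), mem_stdThirtyTwo.1 ((mem_normalizer_iff.1 h c).1 ha), ?_⟩
    rw [← code_mul, ← code_mul, inv_mul_cancel_right]

/-! ### The duad fixed by the standard subgroup -/

theorem app_code_mul (a b : AutM22) {i : ℕ} (hi : i < 24) :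
    app (code (a * b)) i = app (code a) (app (code b) i) := by
  rw [code_mul, packMul, app_packMul_aux (fun i => app (code a) (app (code b) i)) _
    (fun i _ => Nat.mod_lt _ (by norm_num)) _ (by simpa using hi)]
  simp

theorem app_code_lt (a : AutM22) {i : ℕ} (hi : i < 24) : app (code a) i < 24 :=
  (rep_code a).app_lt hi

theorem app_code_inv (a : AutM22) {i : ℕ} (hi : i < 24) :
    app (code a⁻¹) (app (code a) i) = i := by
  rw [← app_code_mul _ _ hi, inv_mul_cancel, code_one]
  revert i
  decide +kernel

/-- The images of the two points of the standard duad. -/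
def duadOf (l : ℕ) : ℕ × ℕ := (app l 1, app l 2)

/-- The same duad. -/
def samePair (u v : ℕ × ℕ) : Bool := (u.1 == v.1 && u.2 == v.2) || (u.1 == v.2 && u.2 == v.1)

/-- The image of a duad. -/
def moveDuad (l : ℕ) (u : ℕ × ℕ) : ℕ × ℕ := (app l u.1, app l u.2)

theorem samePair_iff {u v : ℕ × ℕ} : samePair u v = true ↔ u = v ∨ u = (v.2, v.1) := by
  obtain ⟨u1, u2⟩ := u
  obtain ⟨v1, v2⟩ := v
  simp [samePair]

theorem duadOf_lt (a : AutM22) : (duadOf (code a)).1 < 24 ∧ (duadOf (code a)).2 < 24 :=
  ⟨app_code_lt a (by norm_num), app_code_lt a (by norm_num)⟩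

theorem duadOf_mul (a b : AutM22) : duadOf (code (a * b)) = moveDuad (code a) (duadOf (code b)) :=
  Prod.ext (app_code_mul a b (by norm_num)) (app_code_mul a b (by norm_num))

theorem samePair_move {l : ℕ} {u v : ℕ × ℕ} (h : samePair u v = true) :
    samePair (moveDuad l u) (moveDuad l v) = true := by
  rcases samePair_iff.1 h with rfl | rfl <;> simp [samePair, moveDuad]

/-- `a` fixes the standard duad. -/
def Keeps (a : AutM22) : Prop := samePair (duadOf (code a)) (1, 2) = true

theorem keeps_of_inv_mul {r g : AutM22} (h : samePair (duadOf (code g)) (duadOf (code r)) = true) :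
    Keeps (r⁻¹ * g) := by
  have := samePair_move (l := code r⁻¹) h
  rw [← duadOf_mul, ← duadOf_mul, inv_mul_cancel] at this
  rw [Keeps]
  have he : duadOf (code 1) = (1, 2) := by rw [code_one]; decide +kernel
  rwa [he] at this

theorem samePair_symm {u v : ℕ × ℕ} (h : samePair u v = true) : samePair v u = true := by
  rcases samePair_iff.1 h with rfl | rfl <;> simp [samePair]

theorem samePair_trans {u v w : ℕ × ℕ} (h : samePair u v = true) (h' : samePair v w = true) :
    samePair u w = true := by
  rcases samePair_iff.1 h with rfl | rfl <;> rcases samePair_iff.1 h' with e | e <;>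
    simp [samePair, e]

theorem duads_ok : (Data.elemList.all fun a => samePair (duadOf a) (1, 2)) = true ∧
    ((List.range 24).all fun x => (List.range 24).all fun y =>
      x == y || x == 0 || x == 23 || y == 0 || y == 23 || samePair (x, y) (1, 2) ||
        Data.elemList.any fun a => !samePair (moveDuad a (x, y)) (x, y)) = true := by
  decide +kernel

theorem keeps_of_normalizes {g : AutM22} (hg : g ∈ normalizer (stdThirtyTwo : Set AutM22)) : Keeps g := by
  have hd := duads_ok
  simp only [List.all_eq_true, List.mem_range, Bool.or_eq_true, List.any_eq_true, Bool.not_eq_true',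
    beq_iff_eq] at hd
  obtain ⟨hlt1, hlt2⟩ := duadOf_lt g
  have hend : ∀ i, i = 0 ∨ i = 23 → app (code g⁻¹) i = 0 ∨ app (code g⁻¹) i = 23 := by
    have hp := mem_pairGrp.1 (pairEquiv.symm g⁻¹).2
    have hr := rep_code g⁻¹
    rintro i (rfl | rfl)
    · rcases hp.2 with ⟨h1, h2⟩ | ⟨h1, h2⟩
      · exact Or.inl ((apply_idx_eq_iff hr (by norm_num) (by norm_num)).1 (by rw [idx_zero]; exact h2))
      · exact Or.inr ((apply_idx_eq_iff hr (by norm_num) (by norm_num)).1 (by rw [idx_zero, idx_none]; exact h2))
    · rcases hp.2 with ⟨h1, h2⟩ | ⟨h1, h2⟩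
      · exact Or.inr ((apply_idx_eq_iff hr (by norm_num) (by norm_num)).1 (by rw [idx_none]; exact h1))
      · exact Or.inl ((apply_idx_eq_iff hr (by norm_num) (by norm_num)).1 (by rw [idx_none, idx_zero]; exact h1))
  have hno : ∀ i, i = 1 ∨ i = 2 → app (code g) i ≠ 0 ∧ app (code g) i ≠ 23 := by
    intro i hi
    constructor <;> intro e
    · have h := hend _ (Or.inl rfl)
      rw [← e, app_code_inv g (by omega)] at h
      omega
    · have h := hend _ (Or.inr rfl)
      rw [← e, app_code_inv g (by omega)] at h
      omega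
  rcases hd.2 _ hlt1 _ hlt2 with (((((h | h) | h) | h) | h) | h) | ⟨a, ha, hna⟩
  · exfalso
    have h1 := app_code_inv g (i := 1) (by norm_num)
    have h2 := app_code_inv g (i := 2) (by norm_num)
    have : app (code g) 1 = app (code g) 2 := h
    rw [this, h2] at h1
    omega
  · exact absurd h (hno 1 (Or.inl rfl)).1
  · exact absurd h (hno 1 (Or.inl rfl)).2
  · exact absurd h (hno 2 (Or.inr rfl)).1
  · exact absurd h (hno 2 (Or.inr rfl)).2
  · exact h
  · exfalso
    have hok := elemList_ok
    simp only [List.all_eq_true, Bool.and_eq_true] at hok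
    obtain ⟨c, rfl⟩ := exists_code (hok.1 a ha)
    have hc : g⁻¹ * c * g ∈ stdThirtyTwo := by
      have := (mem_normalizer_iff.1 (inv_mem hg) c).1 (mem_stdThirtyTwo.2 ha)
      rwa [inv_inv] at this
    have h := samePair_move (l := code g) (hd.1 _ (mem_stdThirtyTwo.1 hc))
    rw [← duadOf_mul, show g * (g⁻¹ * c * g) = c * g by group, duadOf_mul] at h
    have hg12 : moveDuad (code g) (1, 2) = duadOf (code g) := rfl
    rw [hg12] at h
    change samePair (moveDuad (code c) (duadOf (code g))) (duadOf (code g)) = false at hna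
    rw [h] at hna
    exact Bool.noConfusion hna

/-- The levels below the first two. -/
def duadLevels : List CertLevel := levels22.drop 2

theorem reps_normalize : ((allReps duadLevels).all fun t => okCode t && normU t) = true ∧
    (okCode Data.swapFar && normU Data.swapFar) = true ∧
    (okCode Data.swapNear && normU Data.swapNear) = true ∧
    (app Data.swapFar 1 == 1 && app Data.swapFar 2 == 2 && app Data.swapFar 23 == 0) = true ∧
    (app Data.swapNear 1 == 2 && app Data.swapNear 2 == 1) = true ∧
    ((levels22.take 2).map fun p => p.1) = [1, 2] ∧ levelsOK 24 [2, 1] duadLevels = true := by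
  decide +kernel

theorem normalizes_of_code {a : AutM22} {l : ℕ} (h : code a = l) (hn : normU l = true) :
    a ∈ normalizer (stdThirtyTwo : Set AutM22) :=
  normU_iff.1 (h ▸ hn)

theorem normalizes_of_fixed {a : AutM22} (h1 : app (code a) 1 = 1) (h2 : app (code a) 2 = 2)
    (h23 : app (code a) 23 = 23) : a ∈ normalizer (stdThirtyTwo : Set AutM22) := by
  set N := ((normalizer (stdThirtyTwo : Set AutM22)).comap pairEquiv.toMonoidHom).map pairGrp.subtype
    with hN
  have hrep : ∀ t ∈ allReps duadLevels, ∃ σ ∈ N, Rep ptEnc σ t := by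
    intro t ht
    have h := List.all_eq_true.1 reps_normalize.1 t ht
    simp only [Bool.and_eq_true] at h
    obtain ⟨c, hc⟩ := exists_code h.1
    refine ⟨_, ⟨pairEquiv.symm c, ?_, rfl⟩, hc ▸ rep_code c⟩
    show pairEquiv (pairEquiv.symm c) ∈ normalizer (stdThirtyTwo : Set AutM22)
    rw [MulEquiv.apply_symm_apply]
    exact normalizes_of_code hc h.2
  obtain ⟨-, -, -, -, -, htake, hlok⟩ := reps_normalize
  have htake' : (levels22.take 2).map (fun p => idx ptEnc p.1) = [idx ptEnc 1, idx ptEnc 2] := by
    have := congrArg (List.map (idx ptEnc)) htake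
    simpa [List.map_map, Function.comp_def] using this
  set K := fixList Spor.M22 [idx ptEnc 1, idx ptEnc 2] with hK
  have hup : Upper ptEnc K duadLevels := by
    have h := M22_upper.1
    rw [← List.take_append_drop 2 levels22, upper_append, htake'] at h
    exact h.2
  have hbot : fixList K (duadLevels.map fun p => idx ptEnc p.1) = ⊥ := by
    rw [eq_bot_iff]
    intro σ hσ
    obtain ⟨hσK, hσr⟩ := mem_fixList.1 hσ
    obtain ⟨hσM, hσ12⟩ := mem_fixList.1 hσK
    have : σ ∈ fixList Spor.M22 (levels22.map fun p => idx ptEnc p.1) := by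
      refine mem_fixList.2 ⟨hσM, ?_⟩
      rw [← List.take_append_drop 2 levels22, List.map_append, htake']
      intro b hb
      rcases List.mem_append.1 hb with hb | hb
      exacts [hσ12 b hb, hσr b hb]
    rwa [M22_upper.2] at this
  have hM : ((pairEquiv.symm a : ↥pairGrp) : Equiv.Perm GolayPt) ∈ K := by
    have hr := rep_code a
    refine mem_fixList.2 ⟨(fix_iff_app (pairEquiv.symm a).2 hr).2 h23, ?_⟩
    intro b hb
    simp only [List.mem_cons, List.not_mem_nil, or_false] at hb
    rcases hb with rfl | rfl
    · exact (apply_idx_eq_iff hr (by norm_num) (by norm_num)).2 h1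
    · exact (apply_idx_eq_iff hr (by norm_num) (by norm_num)).2 h2
  obtain ⟨l, hl, hlr⟩ := exists_mem_prodList_aux (H := Spor.M22) (by norm_num) duadLevels [2, 1] K
    (by simp)
    (fun σ hσ hfix => mem_fixList.2 ⟨hσ, fun b hb => by
      simp only [List.mem_cons, List.not_mem_nil, or_false] at hb
      rcases hb with rfl | rfl
      exacts [hfix 1 (by simp), hfix 2 (by simp)]⟩)
    hlok
    (fun t ht => M22_reps t (by
      simp only [allReps, duadLevels, List.mem_flatMap] at ht ⊢
      obtain ⟨q, hq, hqt⟩ := ht
      exact ⟨q, List.mem_of_mem_drop hq, hqt⟩))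
    hup hbot _ hM
  obtain ⟨σ, ⟨c, hc, hcσ⟩, hσ⟩ := rep_of_mem_prodList (by norm_num) hrep l hl
  have : c = pairEquiv.symm a := Subtype.ext (hcσ.trans (hσ.unique hlr))
  rw [this] at hc
  change pairEquiv (pairEquiv.symm a) ∈ normalizer (stdThirtyTwo : Set AutM22) at hc
  rwa [MulEquiv.apply_symm_apply] at hc

theorem normalizes_iff {g : AutM22} : g ∈ normalizer (stdThirtyTwo : Set AutM22) ↔ Keeps g := by
  refine ⟨keeps_of_normalizes, fun hg => ?_⟩
  obtain ⟨-, hsf, hsn, hsf', hsn', -, -⟩ := reps_normalize
  simp only [Bool.and_eq_true, beq_iff_eq] at hsf hsn hsf' hsn'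
  obtain ⟨f, hf⟩ := exists_code hsf.1
  obtain ⟨n, hn⟩ := exists_code hsn.1
  have hfN := normalizes_of_code hf hsf.2
  have hnN := normalizes_of_code hn hsn.2
  rw [← hf] at hsf'
  rw [← hn] at hsn'
  obtain ⟨g', hg'1, hg'2, hback⟩ : ∃ g', app (code g') 1 = 1 ∧ app (code g') 2 = 2 ∧
      (g' ∈ normalizer (stdThirtyTwo : Set AutM22) → g ∈ normalizer (stdThirtyTwo : Set AutM22)) := by
    rcases samePair_iff.1 hg with e | e <;> simp only [duadOf, Prod.ext_iff] at e
    · exact ⟨g, e.1, e.2, id⟩
    · refine ⟨n * g, ?_, ?_, fun h => ((normalizer (stdThirtyTwo : Set AutM22)).mul_mem_cancel_left hnN).1 h⟩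
      · rw [app_code_mul _ _ (by norm_num), e.1, hsn'.2]
      · rw [app_code_mul _ _ (by norm_num), e.2, hsn'.1]
  refine hback ?_
  by_cases h23 : app (code g') 23 = 23
  · exact normalizes_of_fixed hg'1 hg'2 h23
  · have h0 : app (code g') 23 = 0 := by
      rcases (mem_pairGrp.1 (pairEquiv.symm g').2).2 with ⟨e, -⟩ | ⟨e, -⟩
      · exact absurd ((apply_idx_eq_iff (rep_code g') (by norm_num) (by norm_num)).1
          (by rw [idx_none]; exact e)) h23
      · exact (apply_idx_eq_iff (rep_code g') (by norm_num) (by norm_num)).1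
          (by rw [idx_none, idx_zero]; exact e)
    refine ((normalizer (stdThirtyTwo : Set AutM22)).mul_mem_cancel_left hfN).1
      (normalizes_of_fixed ?_ ?_ ?_)
    · rw [app_code_mul _ _ (by norm_num), hg'1, hsf'.1.1]
    · rw [app_code_mul _ _ (by norm_num), hg'2, hsf'.1.2]
    · have hf23 : app (code f) 0 = 23 := by rw [hf]; decide +kernel
      rw [app_code_mul _ _ (by norm_num), h0, hf23]

/-! ### The conjugates of the standard subgroup -/

/-- The `j`-th coset representative. -/
def cosetRep (j : ℕ) : ℕ := LocalData.cosets.getD j 0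

theorem cosets_ok : ((List.range 231).all fun k => k == 0 ||
      force ((LocalData.cosetParent.getD k (0, 0)).2) fun j =>
        force ((LocalData.cosetParent.getD k (0, 0)).1) fun i =>
          decide (j < k) && decide (i < 3) &&
            packMulS 24 (LocalData.gens.getD i 0) (cosetRep j) == cosetRep k) = true ∧
    cosetRep 0 = packId 24 ∧ LocalData.gens.all okCode = true ∧ LocalData.gens.length = 3 := by
  decide +kernel

theorem exists_rep_code : ∀ {j : ℕ}, j < 231 → ∃ r : AutM22, code r = cosetRep j := by
  intro j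
  induction j using Nat.strong_induction_on with
  | _ k ih =>
    intro hk
    obtain ⟨h, h0, hg, hlen⟩ := cosets_ok
    simp only [List.all_eq_true, List.mem_range, Bool.or_eq_true, beq_iff_eq, force_eq, Bool.and_eq_true,
      decide_eq_true_eq, packMulS_eq] at h hg
    rcases h k hk with rfl | ⟨⟨hjk, hi⟩, he⟩
    · exact ⟨1, by rw [code_one, h0]⟩
    · obtain ⟨r, hr⟩ := ih _ hjk (by omega)
      rw [List.getD_eq_getElem _ _ (by omega)] at he
      obtain ⟨x, hx⟩ := exists_code (hg _ (List.getElem_mem _))
      exact ⟨x * r, by rw [code_mul, hx, hr]; exact he⟩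

theorem steps_ok : ((List.zip LocalData.gens LocalData.cosetStep).all fun gs =>
    (List.range 231).all fun j => force (gs.2.getD j 0) fun k => decide (k < 231) &&
      samePair (moveDuad gs.1 (duadOf (cosetRep j))) (duadOf (cosetRep k))) = true ∧
    LocalData.gens = gens22 ++ [Data.swapFar] ∧
    (List.zip LocalData.gens LocalData.cosetStep).map Prod.fst = LocalData.gens := by
  decide +kernel

theorem closure_gens : closure {a : AutM22 | code a ∈ LocalData.gens} = ⊤ := by
  set M := closure {a : AutM22 | code a ∈ LocalData.gens} with hM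
  have hsub : ∀ a, code a ∈ LocalData.gens → a ∈ M := fun a ha => subset_closure ha
  have hperm : gens22.all (fun l => okCode l) = true ∧ okCode Data.swapFar = true ∧
      app Data.swapFar 23 ≠ 23 := by decide +kernel
  have hinn : innerM22 ≤ M := by
    intro a ha
    rw [← map_innerPair] at ha
    obtain ⟨σ, hσ, rfl⟩ := ha
    have hle : genGroup ptEnc gens22 ≤
        ((M.comap pairEquiv.toMonoidHom).map pairGrp.subtype) := by
      refine genGroup_le fun τ l hl hτ => ?_
      have hl' := List.all_eq_true.1 hperm.1 l hl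
      simp only [okCode, Bool.and_eq_true, beq_iff_eq] at hl'
      refine ⟨⟨τ, memPair_sound hτ hl'.1⟩, hsub _ ?_, rfl⟩
      rw [code, MulEquiv.coe_toMonoidHom, MulEquiv.symm_apply_apply, canon_eq hτ, hl'.2, steps_ok.2.1]
      exact List.mem_append_left _ hl
    obtain ⟨τ, hτ, e⟩ := hle (M22_cert.1.symm ▸ mem_subgroupOf.1 hσ : (σ : Equiv.Perm GolayPt) ∈ _)
    have : τ = σ := Subtype.ext e
    rw [← this]
    exact hτ
  obtain ⟨s, hs⟩ := exists_code hperm.2.1
  have hsM : s ∈ M := hsub s (by rw [hs, steps_ok.2.1]; exact List.mem_append_right _ List.mem_cons_self)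
  have hidx : innerM22.index = 2 := by
    rw [← map_innerPair, index_map_of_bijective (f := pairEquiv.toMonoidHom) pairEquiv.bijective,
      innerPair_index]
  rw [eq_top_iff]
  intro a _
  by_cases ha : a ∈ innerM22
  · exact hinn ha
  · have hso : s ∉ innerM22 := fun h => hperm.2.2 (hs ▸ (mem_inner_iff s).1 h)
    have := mul_mem (hinn ((mul_mem_iff_of_index_two hidx).2 (iff_of_false ha
      fun h : s⁻¹ ∈ innerM22 => hso (inv_mem_iff.1 h)))) hsM
    rwa [inv_mul_cancel_right] at this

theorem exists_coset (g : AutM22) :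
    ∃ j < 231, samePair (duadOf (code g)) (duadOf (cosetRep j)) = true := by
  have hg : g ∈ Submonoid.closure {a : AutM22 | code a ∈ LocalData.gens} := by
    rw [← Subgroup.closure_toSubmonoid_of_finite, closure_gens]
    exact mem_top g
  induction hg using Submonoid.closure_induction_left with
  | one =>
    refine ⟨0, by norm_num, ?_⟩
    rw [code_one, cosets_ok.2.1]
    decide +kernel
  | mul_left x hx y _ ih =>
    obtain ⟨j, hj, hjy⟩ := ih
    obtain ⟨hst, -, hzip⟩ := steps_ok
    simp only [List.all_eq_true, Bool.and_eq_true, decide_eq_true_eq, force_eq, List.mem_range] at hst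
    have hx' : code x ∈ (List.zip LocalData.gens LocalData.cosetStep).map Prod.fst := hzip.symm ▸ hx
    obtain ⟨⟨γ, st⟩, hgs, hix⟩ := List.mem_map.1 hx'
    obtain ⟨hk, hn⟩ := hst (γ, st) hgs j hj
    dsimp only at hk hn hix
    refine ⟨_, hk, ?_⟩
    rw [duadOf_mul]
    rw [hix] at hn
    exact samePair_trans (samePair_move hjy) hn

end Cfsg.Agent.JankoFour
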