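import Cfsg.Agent.Lib.JankoFour.PairTriple
import Cfsg.Agent.Lib.JankoFour.Isolation
import Mathlib.GroupTheory.SpecificGroups.Alternating

/-!
# Janko-four type: the centraliser of `B = ⟨z, s, p s p⁻¹⟩`

`QuotFact`: `N(U)/U ≅ S₅` for `U` elementary of order 32 in `Aut M₂₂`.
`locL`: the inverse image of the elementary group of order 32 in `C(B)`.  Main facts: `card_core_cenB`
(`|C_E(B)| = 2¹¹`), `card_locL` (`2¹⁵`), `exists_quot` (`C(B)/L ≅ S₅`), `pCore_cenB` (`L = O₂(C(B))`).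
-/

set_option autoImplicit false
set_option linter.unusedSectionVars false

namespace Cfsg.Agent.JankoFour

open Subgroup
open scoped commutatorElement
open LargeExtraspecial (Hub Pair mem_conj_iff mem_four)

/-- `N(U)/U ≅ S₅` for the elementary groups of order 32. -/
def QuotFact (K : Type*) [Group K] : Prop :=
  ∀ U : Subgroup K, IsThirtyTwo U → ∃ φ : ↥(normalizer (U : Set K)) →* Equiv.Perm (Fin 5),
    Function.Surjective φ ∧ φ.ker = U.subgroupOf (normalizer (U : Set K))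

set_option maxRecDepth 20000 in
theorem permFive_center : ∀ a : Equiv.Perm (Fin 5),
    (∀ i : Fin 5, Equiv.swap 0 i * a = a * Equiv.swap 0 i) → a = 1 := by decide

/-- The symmetric group of degree 5 has no nontrivial normal 2-subgroup. -/
theorem permFive_two_normal (R : Subgroup (Equiv.Perm (Fin 5))) [R.Normal] (h2 : IsPGroup 2 ↥R) :
    R = ⊥ := by
  have : Fact (Nat.Prime 2) := ⟨Nat.prime_two⟩
  have hs : IsSimpleGroup ↥(alternatingGroup (Fin 5)) := alternatingGroup.isSimpleGroup_five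
  set A := alternatingGroup (Fin 5) with hA
  have hAi : A.index = 2 := alternatingGroup.index_eq_two
  rcases hs.eq_bot_or_eq_top_of_normal (R.subgroupOf A) inferInstance with h | h
  · have hle : Nat.card ↥R ≤ 2 := by
      have h1 : Disjoint A R := by
        rw [disjoint_iff, inf_comm, ← subgroupOf_eq_bot.trans disjoint_iff]
        exact h
      have h2 : Function.Injective (fun r : ↥R => (QuotientGroup.mk (r : Equiv.Perm (Fin 5)) :
          Equiv.Perm (Fin 5) ⧸ A)) := by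
        intro a b hab
        have hm : (a : Equiv.Perm (Fin 5))⁻¹ * b ∈ A := QuotientGroup.eq.1 hab
        have := disjoint_def.1 h1 hm (mul_mem (inv_mem a.2) b.2)
        exact Subtype.ext (inv_mul_eq_one.1 this)
      have := Nat.card_le_card_of_injective _ h2
      rwa [← index_eq_card, hAi] at this
    refine (eq_bot_iff_forall _).2 fun a ha => ?_
    by_contra ha1
    have hc : a ∈ center (Equiv.Perm (Fin 5)) := mem_center_iff.2 fun x => by
      have hx : x * a * x⁻¹ ∈ R := Normal.conj_mem inferInstance a ha x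
      by_contra hne
      have hxa : x * a * x⁻¹ ≠ a := fun e => hne (mul_inv_eq_iff_eq_mul.1 e)
      have hx1 : x * a * x⁻¹ ≠ 1 := fun e => ha1 (conj_eq_one_iff.1 e)
      have h3 : Function.Injective (fun i : Fin 3 => (![(1 : ↥R), ⟨a, ha⟩, ⟨x * a * x⁻¹, hx⟩] i)) := by
        intro i j hij
        fin_cases i <;> fin_cases j <;> simp [Subtype.ext_iff] at hij ⊢ <;>
          first | exact ha1 hij | exact ha1 hij.symm | exact hx1 hij | exact hx1 hij.symm |
            exact hxa hij | exact hxa hij.symm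
      have := Nat.card_le_card_of_injective _ h3
      rw [Nat.card_fin] at this
      omega
    refine ha1 (permFive_center a fun i => ?_)
    exact (mem_center_iff.1 hc) (Equiv.swap 0 i)
  · exfalso
    have hle : A ≤ R := subgroupOf_eq_top.1 h
    obtain ⟨k, hk⟩ := IsPGroup.iff_card.1 (h2.to_le hle)
    have h60 : 3 ∣ Nat.card ↥A := by
      have := A.card_mul_index
      rw [hAi, Nat.card_perm, Nat.card_fin, show Nat.factorial 5 = 120 from rfl] at this
      exact ⟨20, by omega⟩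
    rw [hk] at h60
    exact absurd ((Nat.prime_three.dvd_of_dvd_pow h60)) (by norm_num)

variable {G : Type*} [Group G] {z : G} {P : Subgroup G}

/-- `C(B)`. -/
abbrev cenB (z g p : G) : Subgroup G := centralizer (trB z g p : Set G)

theorem cenB_le_H {g p : G} : cenB z g p ≤ centralizer ({z} : Set G) := fun _ hc =>
  mem_centralizer_singleton_iff.2 (mem_cent_trB.1 hc).1.eq

namespace Ctx

variable [Finite G] (Γ : Ctx z P)

include Γ

/-- The inverse image of the image of `E^g ∩ H` in `C(B)`. -/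
noncomputable def locL (g p : G) : Subgroup G :=
  cenB z g p ⊓ ((Γ.imgA g).comap Γ.S.pi).map (centralizer ({z} : Set G)).subtype

theorem mem_locL {g p x : G} : x ∈ Γ.locL g p ↔ x ∈ cenB z g p ∧ Γ.ph x ∈ Γ.imgA g := by
  constructor
  · rintro ⟨h1, y, hy, rfl⟩
    exact ⟨h1, (Γ.ph_eq y.2).symm ▸ hy⟩
  · rintro ⟨h1, h2⟩
    refine ⟨h1, ⟨x, cenB_le_H h1⟩, ?_, rfl⟩
    rw [Γ.ph_eq (cenB_le_H h1)] at h2
    exact h2

theorem locL_le_cenB {g p : G} : Γ.locL g p ≤ cenB z g p := inf_le_left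

/-- `C(B) → Aut M₂₂`. -/
noncomputable def homC (g p : G) : ↥(cenB z g p) →* AutM22 :=
  Γ.S.pi.comp (Subgroup.inclusion cenB_le_H)

theorem homC_apply {g p : G} (c : ↥(cenB z g p)) : Γ.homC g p c = Γ.ph c := by
  rw [Γ.ph_eq (cenB_le_H c.2)]; rfl

variable {g p : G} (ht : Tri z P g p)
include ht

theorem trB_comm {a b : G} (ha : a ∈ trB z g p) (hb : b ∈ trB z g p) : Commute a b :=
  (Γ.pair ht.pt).E_commute (Γ.trB_le ht ha) (Γ.trB_le ht hb)

theorem ph_cenB_inner {c : G} (hc : c ∈ cenB z g p) : Γ.ph c ∈ innerM22 := by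
  by_contra hi
  obtain ⟨hcz, hcs, hcs'⟩ := mem_cent_trB.1 hc
  have h := Γ.outer_conj (mem_H.2 hcz) hi ht.mem ht.pt.mem
  rw [hcs'.eq, mul_inv_cancel_right, hcs.eq, mul_inv_cancel_right] at h
  have h2 := h.conj (Γ.P_comm ht.mem)
  rw [show p * (p⁻¹ * (g * z * g⁻¹) * p) * p⁻¹ = g * z * g⁻¹ by group,
    show p * (p * (g * z * g⁻¹) * p⁻¹) * p⁻¹ = p * p * (g * z * g⁻¹) * (p * p)⁻¹ by group] at h2
  refine (Γ.eq_one_or_z_of_fixed (mul_mem ht.mem ht.mem) (fun e => ?_) ht.pt.mem h2).elim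
    (Γ.s_ne_one ht) ht.pt.ne
  have := Γ.p_cube ht.mem
  rw [e, mul_one] at this
  exact ht.ne this

theorem ph_cenB_norm {c : G} (hc : c ∈ cenB z g p) :
    Γ.ph c ∈ normalizer (Γ.imgA g : Set AutM22) :=
  Γ.ph_mem_normalizer ht.pt (mem_H.2 (mem_cent_trB.1 hc).1) (mem_cent_trB.1 hc).2.1

/-- `|C_E(B)| = 2¹¹`. -/
theorem card_core_cenB : Nat.card ↥(coreE z ⊓ cenB z g p) = 2 ^ 11 := by
  set s := g * z * g⁻¹ with hs
  set s' := p * s * p⁻¹ with hs'
  set C1 := coreE z ⊓ centralizer ({s} : Set G) with hC1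
  set C2 := C1 ⊓ centralizer ({s'} : Set G) with hC2
  have e : coreE z ⊓ cenB z g p = C2 := by
    ext x
    constructor
    · rintro ⟨hx, hxc⟩
      obtain ⟨-, h1, h2⟩ := mem_cent_trB.1 hxc
      exact ⟨⟨hx, mem_centralizer_singleton_iff.2 h1.eq⟩, mem_centralizer_singleton_iff.2 h2.eq⟩
    · rintro ⟨⟨hx, h1⟩, h2⟩
      exact ⟨hx, mem_cent_trB.2 ⟨Γ.S.hub.central x hx, mem_centralizer_singleton_iff.1 h1,
        mem_centralizer_singleton_iff.1 h2⟩⟩
  rw [e]
  have b1 : 2 ^ 13 ≤ 2 * Nat.card ↥C1 := Γ.S.card_E ▸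
    card_le_two_inf (coreE z) s (z * s) fun m hm => Γ.comm_core hm ht.pt.mem
  have b2 : Nat.card ↥C1 ≤ 2 * Nat.card ↥C2 :=
    card_le_two_inf C1 s' (z * s') fun m hm => Γ.comm_core hm.1 (Γ.s'_mem_core ht)
  have p1 : Nat.card ↥C1 ∣ 2 ^ 13 := Γ.S.card_E ▸ card_dvd_of_le inf_le_left
  have p2 : Nat.card ↥C2 ∣ Nat.card ↥C1 := card_dvd_of_le inf_le_left
  have n1 : Nat.card ↥C1 ≠ 2 ^ 13 := by
    intro h
    have heq : C1 = coreE z := eq_of_le_of_card_ge inf_le_left (by rw [h, Γ.S.card_E])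
    obtain ⟨f, hf, hfs⟩ := LargeFischer.Loc.exists_flip Γ.S.hub ht.pt.mem (Γ.s_ne_one ht) ht.pt.ne
    rw [← heq] at hf
    rw [← hs, (show Commute f s from mem_centralizer_singleton_iff.1 hf.2).eq, mul_inv_cancel_right,
      left_eq_mul] at hfs
    exact Γ.S.hub.ne_one hfs
  have n2 : Nat.card ↥C2 ≠ Nat.card ↥C1 := by
    intro h
    have heq : C2 = C1 := eq_of_le_of_card_ge inf_le_left h.ge
    obtain ⟨i1, i2, i3, i4⟩ := Γ.s'_ne ht
    obtain ⟨f, hf, hfs, hfs'⟩ := LargeFischer.Loc.exists_commute_not Γ.S.hub ht.pt.mem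
      (Γ.s'_mem_core ht) (Γ.s_sq ht) i1 i2 i3 i4
    have hf' : f ∈ C2 := heq ▸ Subgroup.mem_inf.2 ⟨hf, mem_centralizer_singleton_iff.2 hfs.eq⟩
    rw [← hs, ← hs', (show Commute f s' from mem_centralizer_singleton_iff.1 hf'.2).eq,
      mul_inv_cancel_right, left_eq_mul] at hfs'
    exact Γ.S.hub.ne_one hfs'
  obtain ⟨a, ha, ea⟩ := (Nat.dvd_prime_pow Nat.prime_two).1 p1
  obtain ⟨b, hb, eb⟩ := (Nat.dvd_prime_pow Nat.prime_two).1 (p2.trans p1)
  rw [ea] at b1 b2 n1 n2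
  rw [eb] at b2 n2 ⊢
  rw [ea, eb, Nat.pow_dvd_pow_iff_le_right (by norm_num)] at p2
  have ha' : a = 12 := by
    have : 2 ^ 13 ≤ 2 ^ (a + 1) := by rw [pow_succ]; omega
    rw [Nat.pow_le_pow_iff_right (by norm_num)] at this
    have : a ≠ 13 := fun h => n1 (by rw [h])
    omega
  subst ha'
  have : 2 ^ 12 ≤ 2 ^ (b + 1) := by rw [pow_succ]; omega
  rw [Nat.pow_le_pow_iff_right (by norm_num)] at this
  have : b ≠ 12 := fun h => n2 (by rw [h])
  rw [show b = 11 by omega]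

theorem range_homC : (Γ.homC g p).range = innerM22 ⊓ normalizer (Γ.imgA g : Set AutM22) := by
  refine le_antisymm ?_ fun a ha => ?_
  · rintro _ ⟨c, rfl⟩
    rw [Γ.homC_apply]
    exact ⟨Γ.ph_cenB_inner ht c.2, Γ.ph_cenB_norm ht c.2⟩
  · obtain ⟨c, hc, hca⟩ := Γ.exists_lift_cent ht ha.2 ha.1
    exact ⟨⟨c, hc⟩, by rw [Γ.homC_apply]; exact hca⟩

theorem card_ker_homC : Nat.card ↥(Γ.homC g p).ker = 2 ^ 11 := by
  rw [← Γ.card_core_cenB ht]
  refine Nat.card_congr ⟨fun c => ⟨(c.1 : G), ?_, c.1.2⟩, fun w => ⟨⟨w.1, w.2.2⟩, ?_⟩,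
    fun _ => rfl, fun _ => rfl⟩
  · obtain ⟨hcz, hcs, -⟩ := mem_cent_trB.1 c.1.2
    refine Γ.mem_core_of_stab ht.pt.mem (Γ.s_ne_one ht) ht.pt.ne (mem_H.2 hcz) ?_ hcs
    rw [← Γ.homC_apply]; exact c.2
  · rw [MonoidHom.mem_ker, Γ.homC_apply]; exact Γ.ph_core w.2.1

omit ht in
theorem subgroupOf_locL : (Γ.locL g p).subgroupOf (cenB z g p) = (Γ.imgA g).comap (Γ.homC g p) := by
  ext c
  rw [mem_subgroupOf, Γ.mem_locL, mem_comap, Γ.homC_apply]
  exact and_iff_right c.2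

theorem card_imgA_inner : Nat.card ↥(innerM22 ⊓ Γ.imgA g) = 16 := by
  have h32 := (Γ.card_facts ht.pt).2.2
  have : innerM22.Normal := normal_of_index_eq_two Γ.F.index_two
  have h1 : (innerM22.subgroupOf (Γ.imgA g)).index ∣ 2 :=
    Γ.F.index_two ▸ relIndex_dvd_index_of_normal innerM22 _
  have h2 : (innerM22.subgroupOf (Γ.imgA g)).index = 2 := by
    refine ((Nat.dvd_prime Nat.prime_two).1 h1).resolve_left fun e => Γ.F.elem_not_le _ h32 ?_
    exact subgroupOf_eq_top.1 (index_eq_one.1 e)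
  have h3 := (innerM22.subgroupOf (Γ.imgA g)).card_mul_index
  rw [h2, h32.2, ← inf_subgroupOf_right, Nat.card_congr (subgroupOfEquivOfLe inf_le_right).toEquiv] at h3
  omega

theorem card_locL : Nat.card ↥(Γ.locL g p) = 2 ^ 15 := by
  rw [← Nat.card_congr (subgroupOfEquivOfLe Γ.locL_le_cenB).toEquiv, Γ.subgroupOf_locL,
    ← card_map_mul_ker (Γ.homC g p) (ker_le_comap _ _), Γ.card_ker_homC ht, map_comap_eq,
    Γ.range_homC ht]
  have e : (innerM22 ⊓ normalizer (Γ.imgA g : Set AutM22)) ⊓ Γ.imgA g = innerM22 ⊓ Γ.imgA g := by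
    refine le_antisymm (fun a ha => ⟨ha.1.1, ha.2⟩) fun a ha => ⟨⟨ha.1, le_normalizer ha.2⟩, ha.2⟩
  rw [e, Γ.card_imgA_inner ht]
  norm_num

theorem isPGroup_locL : IsPGroup 2 ↥(Γ.locL g p) := IsPGroup.of_card (Γ.card_locL ht)

/-- `C(B)/L ≅ S₅`. -/
theorem exists_quot (hQ : QuotFact AutM22) :
    ∃ φ : ↥(cenB z g p) →* Equiv.Perm (Fin 5), Function.Surjective φ ∧
      φ.ker = (Γ.locL g p).subgroupOf (cenB z g p) := by
  obtain ⟨φ, hφ, hker⟩ := hQ _ (Γ.card_facts ht.pt).2.2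
  have hmem : ∀ c : ↥(cenB z g p), Γ.homC g p c ∈ normalizer (Γ.imgA g : Set AutM22) := fun c => by
    rw [Γ.homC_apply]; exact Γ.ph_cenB_norm ht c.2
  refine ⟨φ.comp ((Γ.homC g p).codRestrict _ hmem), fun σ => ?_, ?_⟩
  · obtain ⟨⟨a, ha⟩, rfl⟩ := hφ σ
    obtain ⟨b, hb, hbi⟩ : ∃ b ∈ Γ.imgA g, a * b ∈ innerM22 := by
      by_cases hi : a ∈ innerM22
      · exact ⟨1, one_mem _, by rw [mul_one]; exact hi⟩
      · obtain ⟨b, hb, hbo⟩ := SetLike.not_le_iff_exists.1 (Γ.F.elem_not_le _ (Γ.card_facts ht.pt).2.2)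
        exact ⟨b, hb, (mul_mem_iff_of_index_two Γ.F.index_two).2 (iff_of_false hi hbo)⟩
    obtain ⟨c, hc, hca⟩ := Γ.exists_lift_cent ht (mul_mem ha (le_normalizer hb)) hbi
    refine ⟨⟨c, hc⟩, ?_⟩
    have h1 : φ ⟨b, le_normalizer hb⟩ = 1 := by
      rw [← MonoidHom.mem_ker, hker]; exact hb
    have h2 : (Γ.homC g p).codRestrict _ hmem ⟨c, hc⟩ = ⟨a, ha⟩ * ⟨b, le_normalizer hb⟩ := by
      apply Subtype.ext
      show Γ.homC g p ⟨c, hc⟩ = a * b
      rw [Γ.homC_apply]; exact hca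
    rw [MonoidHom.comp_apply, h2, map_mul, h1, mul_one]
  · rw [← MonoidHom.comap_ker, hker, Γ.subgroupOf_locL]
    rfl

theorem cenB_le_normalizer_locL : cenB z g p ≤ normalizer (Γ.locL g p : Set G) := by
  intro c hc
  refine LocalStructure.mem_normalizer_of_map_conj_le ?_
  rintro _ ⟨x, hx, rfl⟩
  obtain ⟨hxc, hxa⟩ := Γ.mem_locL.1 hx
  refine Γ.mem_locL.2 ⟨mul_mem (mul_mem hc hxc) (inv_mem hc), ?_⟩
  show Γ.ph (c * x * c⁻¹) ∈ _
  rw [Γ.ph_conj (cenB_le_H hc) (cenB_le_H hxc)]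
  exact (mem_normalizer_iff.1 (Γ.ph_cenB_norm ht hc) _).1 hxa

/-- `L = O₂(C(B))`. -/
theorem pCore_cenB (hQ : QuotFact AutM22) :
    Cfsg.pCoreOf 2 (cenB z g p) = Γ.locL g p := by
  refine le_antisymm ?_ (LocalStructure.le_pCoreOf Γ.locL_le_cenB
    (Γ.cenB_le_normalizer_locL ht) (Γ.isPGroup_locL ht))
  obtain ⟨φ, hφ, hker⟩ := Γ.exists_quot ht hQ
  set R := (Cfsg.pCoreOf 2 (cenB z g p)).subgroupOf (cenB z g p) with hR
  have hRn : R.Normal := (normal_subgroupOf_iff_le_normalizer (LocalStructure.pCoreOf_le 2 _)).2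
    (LocalStructure.le_normalizer_pCoreOf 2 _)
  have : (R.map φ).Normal := hRn.map φ hφ
  have h2 : IsPGroup 2 ↥R := (LocalStructure.isPGroup_pCoreOf 2 _).of_equiv
    (subgroupOfEquivOfLe (LocalStructure.pCoreOf_le 2 _)).symm
  have hbot := permFive_two_normal (R.map φ) (h2.map φ)
  rw [Subgroup.map_eq_bot_iff, hker] at hbot
  intro x hx
  have hxC := LocalStructure.pCoreOf_le 2 _ hx
  exact mem_subgroupOf.1 (hbot (show (⟨x, hxC⟩ : ↥(cenB z g p)) ∈ R from mem_subgroupOf.2 hx))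

theorem card_cenB (hQ : QuotFact AutM22) : Nat.card ↥(cenB z g p) = 2 ^ 15 * 120 := by
  obtain ⟨φ, hφ, hker⟩ := Γ.exists_quot ht hQ
  have h := φ.ker.card_mul_index
  rw [index_ker, MonoidHom.range_eq_top.2 hφ, card_top, hker,
    Nat.card_congr (subgroupOfEquivOfLe Γ.locL_le_cenB).toEquiv, Γ.card_locL ht, Nat.card_perm,
    Nat.card_fin] at h
  rw [← h]; rfl

end Ctx

end Cfsg.Agent.JankoFour
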