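import Cfsg.Agent.Lib.JankoFour.Main
import Cfsg.Agent.Lib.Mathieu.M22Three

/-!
# Janko-four type: one class of elements of order 3
-/

set_option autoImplicit false

namespace Cfsg.Agent.JankoFour

open Subgroup
open scoped commutatorElement Pointwise

/-- The elements of order 3 of `Aut M22` are conjugate under the inner part. -/
theorem autM22_three_conj (F : AutFacts innerM22) {a b : AutM22} (ha : orderOf a = 3) (hb : orderOf b = 3) :
    ∃ k ∈ innerM22, k * a * k⁻¹ = b := by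
  let f : ↥Cfsg.Spor.M22 →* AutM22 := MulAut.conj
  have hinj : Function.Injective f := by
    have hbij : Function.Bijective f.rangeRestrict :=
      (Nat.bijective_iff_surjective_and_card _).mpr ⟨f.rangeRestrict_surjective, by
        rw [Mathieu.card_M22]; exact F.card_inner.symm⟩
    intro u v huv
    exact hbij.1 (Subtype.ext huv)
  have hmem : ∀ c : AutM22, orderOf c = 3 → c ∈ innerM22 := by
    intro c hc
    have h2 : c * c ∈ innerM22 := mul_self_mem_of_index_two F.index_two c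
    have h3 : c * c * c = 1 := by
      have := pow_orderOf_eq_one c
      rwa [hc, pow_succ, pow_two] at this
    rwa [eq_inv_of_mul_eq_one_left h3, inv_mem_iff] at h2
  obtain ⟨u, rfl⟩ := hmem a ha
  obtain ⟨v, rfl⟩ := hmem b hb
  rw [orderOf_injective f hinj] at ha hb
  obtain ⟨w, hw⟩ := isConj_iff.mp (Mathieu.M22_three_conj ha hb)
  exact ⟨f w, ⟨w, rfl⟩, by rw [← map_inv, ← map_mul, ← map_mul, hw]⟩

/-- A subgroup containing a Sylow 3-subgroup `R` has its elements of order dividing 3 conjugate into `R`. -/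
theorem exists_conj_mem_of_card {G : Type*} [Group G] [Finite G] {K R : Subgroup G} (hR : R ≤ K)
    (hc : Nat.card ↥R = 3 ^ (Nat.card ↥K).factorization 3) {q : G} (hq : q ∈ K) (hq3 : q ^ 3 = 1) :
    ∃ c ∈ K, c * q * c⁻¹ ∈ R := by
  have : Fact (Nat.Prime 3) := ⟨Nat.prime_three⟩
  let T : Sylow 3 ↥K := Sylow.ofCard (R.subgroupOf K) (by
    rw [Nat.card_congr (subgroupOfEquivOfLe hR).toEquiv, hc])
  have hp : IsPGroup 3 ↥(zpowers (⟨q, hq⟩ : ↥K)) := by
    have h3 : (⟨q, hq⟩ : ↥K) ^ 3 = 1 := Subtype.ext hq3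
    obtain ⟨n, -, hn⟩ := (Nat.dvd_prime_pow Nat.prime_three).mp
      (show orderOf (⟨q, hq⟩ : ↥K) ∣ 3 ^ 1 by rw [pow_one]; exact orderOf_dvd_of_pow_eq_one h3)
    exact IsPGroup.of_card (n := n) (by rw [Nat.card_zpowers, hn])
  obtain ⟨Q, hQ⟩ := hp.exists_le_sylow
  obtain ⟨c, hc'⟩ := MulAction.exists_smul_eq ↥K Q T
  refine ⟨c, c.2, ?_⟩
  have hm : c * (⟨q, hq⟩ : ↥K) * c⁻¹ ∈ (T : Subgroup ↥K) := by
    rw [← hc', Sylow.coe_subgroup_smul, mem_pointwise_smul_iff_inv_smul_mem]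
    simp only [MulAut.smul_def, ← map_inv, MulAut.conj_apply, inv_inv]
    rw [show c⁻¹ * (c * (⟨q, hq⟩ : ↥K) * c⁻¹) * c = ⟨q, hq⟩ by group]
    exact hQ (mem_zpowers _)
  exact hm

variable {G : Type*} [Group G] {z : G} {P : Subgroup G}

/-- An element of `X` of order dividing 3 with trivial image lies in `P`. -/
theorem Setting.mem_P_of_pi_eq_one (S : Setting z P) {v : G} (hv : v ∈ cX z P) (hv3 : v ^ 3 = 1)
    (hp : S.pi ⟨v, hv.1⟩ = 1) : v ∈ P := by
  obtain ⟨w, hw, p, hpP, he'⟩ := S.mem_zpowers_mul_of_mem_sup ((S.pi_eq_one _).mp hp) hv.2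
  have he : v = w * p := he'
  rcases S.z_cases hw with rfl | rfl
  · rwa [he, one_mul]
  · exfalso
    have hc : Commute w p := (mem_centralizer_singleton_iff.mp (S.P_le hpP)).symm
    rw [he, hc.mul_pow, S.P_pow_three hpP, mul_one, pow_succ, pow_two, S.hub.sq, one_mul] at hv3
    exact S.hub.ne_one hv3

theorem Setting.orderOf_pi_of_not_mem (S : Setting z P) {v : G} (hv : v ∈ cX z P) (hv3 : v ^ 3 = 1)
    (hvP : v ∉ P) : orderOf (S.pi ⟨v, hv.1⟩) = 3 := by
  have : Fact (Nat.Prime 3) := ⟨Nat.prime_three⟩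
  exact orderOf_eq_prime
    (by rw [← map_pow, show (⟨v, hv.1⟩ : ↥(centralizer ({z} : Set G))) ^ 3 = 1 from Subtype.ext hv3, map_one])
    fun h => hvP (S.mem_P_of_pi_eq_one hv hv3 h)

/-- The elements of `R` outside `P` are conjugate. -/
theorem Setting.isConj_of_not_mem_P [Finite G] (S : Setting z P) (F : AutFacts innerM22) {R : Subgroup G}
    (hR : R ≤ cX z P) (hc : Nat.card ↥R = 27) {r s : G} (hr : r ∈ R) (hs : s ∈ R) (hrP : r ∉ P) (hsP : s ∉ P) :
    IsConj r s := by
  have : Fact (Nat.Prime 3) := ⟨Nat.prime_three⟩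
  have hr3 := S.R_exponent F hR hc r hr
  have hs3 := S.R_exponent F hR hc s hs
  obtain ⟨k, hk, hke⟩ := autM22_three_conj F (S.orderOf_pi_of_not_mem (hR hr) hr3 hrP)
    (S.orderOf_pi_of_not_mem (hR hs) hs3 hsP)
  obtain ⟨y, hy, hyk⟩ := S.exists_lift hk
  have hyr : y * r * y⁻¹ ∈ cX z P := mul_mem (mul_mem hy (hR hr)) (inv_mem hy)
  have hv : s⁻¹ * (y * r * y⁻¹) ∈ cX z P := mul_mem (inv_mem (hR hs)) hyr
  have hpi : S.pi ⟨_, hv.1⟩ = 1 := by
    have : S.pi ((⟨s, (hR hs).1⟩ : ↥(centralizer ({z} : Set G)))⁻¹ *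
        (⟨y, hy.1⟩ * ⟨r, (hR hr).1⟩ * ⟨y, hy.1⟩⁻¹)) = 1 := by
      rw [map_mul, map_inv, map_mul, map_mul, map_inv, hyk, hke, inv_mul_cancel]
    exact this
  obtain ⟨w, hw, p, hp, hwp'⟩ := S.mem_zpowers_mul_of_mem_sup ((S.pi_eq_one _).mp hpi) hv.2
  have hwp : s⁻¹ * (y * r * y⁻¹) = w * p := hwp'
  have hsw : Commute s w := by
    rcases S.z_cases hw with rfl | rfl
    exacts [Commute.one_right s, mem_centralizer_singleton_iff.mp (hR hs).1]
  have hpR := S.P_le_R F hR hc hp
  have hspR : s * p ∈ R := mul_mem hs hpR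
  have heq : y * r * y⁻¹ = w * (s * p) := by
    rw [← mul_assoc w, ← hsw.eq, mul_assoc s, ← hwp, mul_inv_cancel_left]
  have hw1 : w = 1 := by
    rcases S.z_cases hw with rfl | rfl
    · rfl
    · exfalso
      have h3 : (y * r * y⁻¹) ^ 3 = 1 := by rw [conj_pow, hr3, mul_one, mul_inv_cancel]
      have hcw : Commute w (s * p) :=
        hsw.symm.mul_right (mem_centralizer_singleton_iff.mp (S.P_le hp)).symm
      rw [heq, hcw.mul_pow, S.R_exponent F hR hc _ hspR, mul_one, pow_succ, pow_two, S.hub.sq, one_mul] at h3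
      exact S.hub.ne_one h3
  rw [hw1, one_mul] at heq
  refine (isConj_iff.mpr ⟨y, heq⟩ : IsConj r (s * p)).trans ?_
  obtain ⟨hcen, hex⟩ := S.R_center F hR hc
  have hsc : (⟨s, hs⟩ : ↥R) ∉ center ↥R := fun h => hsP (by rw [hcen] at h; exact h)
  obtain ⟨t, ht⟩ := PGroup.exists_commutator_eq hex hsc
    (z := ⟨p, hpR⟩) (by rw [hcen]; exact hp)
  have ht' : (t : G) * s * (t : G)⁻¹ * s⁻¹ = p := congrArg Subtype.val ht
  have hps : p * s = s * p := mem_centralizer_iff.mp (hR hs).2 p hp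
  exact (isConj_iff.mpr ⟨(t : G), by rw [← hps, ← ht', inv_mul_cancel_right]⟩ : IsConj s (s * p)).symm

/-- A group of Janko-four type has one class of elements of order 3. -/
theorem one_class_three [Finite G] [IsSimpleGroup G] (F : AutFacts innerM22) (S : Setting z P) {x y : G}
    (hx : orderOf x = 3) (hy : orderOf y = 3) : IsConj x y := by
  have : Fact (Nat.Prime 3) := ⟨Nat.prime_three⟩
  obtain ⟨-, hN⟩ := normalizer_le F S
  obtain ⟨g, hs, hne⟩ := exists_conj_mem_core S F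
  obtain ⟨j, hj, hjne⟩ := exists_conj_mem_cX S F (fixBound S F) hs hne
  obtain ⟨R, hR, hRc⟩ := S.exists_R F
  set H := centralizer ({z} : Set G)
  have hfacG : (Nat.card ↥(⊤ : Subgroup G)).factorization 3 = 3 := by
    rw [card_top]
    refine le_antisymm ?_ ?_
    · by_contra hgt
      have h81 : 3 ^ (3 + 1) ∣ Nat.card G :=
        (pow_dvd_pow 3 (by omega)).trans (Nat.ordProj_dvd (Nat.card G) 3)
      have h2 := (Sylow.prime_pow_dvd_card_normalizer h81 (by rw [hRc]; norm_num : Nat.card ↥R = 3 ^ 3)).trans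
        (card_dvd_of_le ((S.normalizer_R_le F hR hRc).trans hN))
      have h4 := (Nat.Prime.pow_dvd_iff_le_factorization Nat.prime_three Nat.card_pos.ne').mp h2
      rw [S.three_part_H] at h4
      omega
    · exact (Nat.Prime.pow_dvd_iff_le_factorization Nat.prime_three Nat.card_pos.ne').mp
        (by rw [show 3 ^ 3 = Nat.card ↥R by rw [hRc]; norm_num]; exact card_subgroup_dvd_card R)
  -- an element of `P`
  obtain ⟨⟨p, hp⟩, hpo⟩ := exists_prime_orderOf_dvd_card' (G := ↥P) 3 (by rw [S.card_P])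
  rw [Subgroup.orderOf_mk] at hpo
  have hpz : zpowers p = P := eq_of_le_of_card_ge (zpowers_le.mpr hp) (by rw [Nat.card_zpowers, hpo, S.card_P])
  have hp3 := S.P_pow_three hp
  -- its conjugate centralising `z`
  set q := j⁻¹ * p * j with hq
  have hqH : q ∈ H := by
    have h := mem_centralizer_iff.mp hj.2 p hp
    refine mem_centralizer_singleton_iff.mpr ?_
    calc q * z = j⁻¹ * (p * (j * z * j⁻¹)) * j := by rw [hq]; group
      _ = j⁻¹ * (j * z * j⁻¹ * p) * j := by rw [h]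
      _ = z * q := by rw [hq]; group
  have hq3 : q ^ 3 = 1 := by
    have h := conj_pow (a := j⁻¹) (b := p) (i := 3)
    rw [inv_inv] at h
    rw [hq, h, hp3, mul_one, inv_mul_cancel]
  obtain ⟨c, hcH, hcR⟩ := exists_conj_mem_of_card (hR.trans inf_le_left)
    (by rw [hRc, S.three_part_H]; norm_num) hqH hq3
  set r₀ := c * q * c⁻¹ with hr₀
  have hqr : IsConj p r₀ := isConj_iff.mpr ⟨c * j⁻¹, by rw [hr₀, hq]; group⟩
  have hr₀P : r₀ ∉ P := by
    intro hmem
    have hk : c * j⁻¹ ∈ normalizer (P : Set G) := by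
      have hle : P.map (MulAut.conj (c * j⁻¹)).toMonoidHom ≤ P := by
        rw [map_le_iff_le_comap]
        calc P = zpowers p := hpz.symm
          _ ≤ _ := zpowers_le.mpr (show c * j⁻¹ * p * (c * j⁻¹)⁻¹ ∈ P by
            rw [show c * j⁻¹ * p * (c * j⁻¹)⁻¹ = r₀ by rw [hr₀, hq]; group]; exact hmem)
      have himg := eq_of_le_of_card_ge hle (by rw [card_map_of_injective (MulAut.conj (c * j⁻¹)).injective])
      refine mem_normalizer_iff.mpr fun v => ⟨fun hv => hle ⟨v, hv, rfl⟩, fun hv => ?_⟩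
      rw [← himg] at hv
      obtain ⟨v', hv', he⟩ := hv
      rwa [show v' = v from (MulAut.conj (c * j⁻¹)).injective he] at hv'
    have hjH : j ∈ H := by
      have := mul_mem (inv_mem (hN hk)) hcH
      rwa [show (c * j⁻¹)⁻¹ * c = j by group] at this
    exact hjne (by rw [mem_centralizer_singleton_iff.mp hjH, mul_inv_cancel_right])
  have key : ∀ w : G, orderOf w = 3 → IsConj w r₀ := by
    intro w hw
    obtain ⟨d, -, hd⟩ := exists_conj_mem_of_card (K := ⊤) le_top (by rw [hfacG, hRc]; norm_num)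
      (mem_top w) (by rw [← hw, pow_orderOf_eq_one])
    refine (isConj_iff.mpr ⟨d, rfl⟩ : IsConj w (d * w * d⁻¹)).trans ?_
    by_cases hdP : d * w * d⁻¹ ∈ P
    · have hd1 : d * w * d⁻¹ ≠ 1 := fun h => by
        rw [conj_eq_one_iff] at h
        rw [h, orderOf_one] at hw
        omega
      refine IsConj.trans ?_ hqr
      rw [← hpz] at hdP
      obtain ⟨n, hn⟩ := mem_zpowers_iff.mp hdP
      rw [← zpow_mod_orderOf, hpo] at hn
      rcases (show n % (3 : ℕ) = 0 ∨ n % (3 : ℕ) = 1 ∨ n % (3 : ℕ) = 2 by omega) with h | h | h <;>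
        rw [h] at hn
      · exact absurd (hn.symm.trans (zpow_zero p)) hd1
      · rw [← hn, zpow_one]
      · obtain ⟨u, hu, huX⟩ := S.exists_inverting
        refine (isConj_iff.mpr ⟨u, ?_⟩ : IsConj p _).symm
        rw [S.inverts u hu huX p hp, ← hn]
        exact inv_eq_of_mul_eq_one_right (by rw [zpow_two, ← mul_assoc, ← pow_two, ← pow_succ, hp3])
    · exact S.isConj_of_not_mem_P F hR hRc hd hcR hdP hr₀P
  exact (key x hx).trans (key y hy).symm

end Cfsg.Agent.JankoFour
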