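import Cfsg.Agent.Lib.Mathieu.FreeClasses
import Cfsg.Agent.Lib.Mathieu.OneBlockM22
import Cfsg.Agent.Lib.DihedralCent.Tools
import Mathlib.GroupTheory.GroupAction.Quotient

/-!
# Involutions of `M₂₂`, and a complement in `2³ : SL(3, 2)`

`M22_invol_conj`: one class of involutions.  `exists_sl32`: if a subgroup of `M₂₂` maps onto `SL(3, 2)`
with elementary abelian kernel `U` of order 8 on whose involutions it is transitive, then it contains
a copy of `SL(3, 2)`.  (Some point has trivial stabiliser in `U`; its stabiliser is the copy.)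
-/

set_option autoImplicit false
set_option maxRecDepth 20000

namespace Cfsg.Agent.JankoFour.SplitM22

open Cfsg Subgroup Cfsg.Agent.Mathieu

theorem M22_invol_conj {x y : ↥Spor.M22} (hx : orderOf x = 2) (hy : orderOf y = 2) : IsConj x y := by
  have key : ∀ w : ↥Spor.M22, orderOf w = 2 →
      ∃ c : ↥Spor.M22, Rep ptEnc ((c * w * c⁻¹ : ↥Spor.M22) : Equiv.Perm GolayPt) invol22_8.z := by
    intro w hw
    obtain ⟨z, hz, c, hc⟩ := involution_cases (H := Spor.M22) (by norm_num) mem22_sound
      (C := syl22) (by decide +kernel) (k := 7) (by decide +kernel) M22_factorization_two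
      (cs := involConj22) (zs := [invol22_8.z]) (by decide +kernel) (by decide +kernel) w hw
    rw [List.mem_singleton] at hz
    exact ⟨c, hz ▸ hc⟩
  obtain ⟨c, hc⟩ := key x hx
  obtain ⟨d, hd⟩ := key y hy
  have he : c * x * c⁻¹ = d * y * d⁻¹ :=
    Subtype.ext (Equiv.ext fun a => ptEnc.injective (Fin.ext ((hc a).trans (hd a).symm)))
  exact (isConj_iff.mpr ⟨c, he⟩).trans (isConj_iff.mpr ⟨d, rfl⟩).symm

theorem M22_invol_fix (x : ↥Spor.M22) (h2 : x * x = 1) (h1 : x ≠ 1) :
    (Finset.univ.filter fun p => (x : Equiv.Perm GolayPt) p = p).card = 8 := by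
  rcases involution_fix (M22_le_M24 x.2) (congrArg Subtype.val h2)
    (fun e => h1 (Subtype.ext e)) with h | ⟨h, -⟩
  · exact h
  · exfalso
    rw [Finset.card_eq_zero, Finset.filter_eq_empty_iff] at h
    exact h (Finset.mem_univ (none : GolayPt)) (mem_M22_iff.1 x.2).2.1

theorem card_pts : Fintype.card GolayPt = 24 := by decide

/-- Some point is fixed by no involution of `U`. -/
theorem exists_free (U : Subgroup ↥Spor.M22) (hU : ∀ u ∈ U, u * u = 1) (h8 : Nat.card ↥U = 8)
    (htr : ∀ u ∈ U, u ≠ 1 → ∀ u' ∈ U, u' ≠ 1 → ∃ n : ↥Spor.M22,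
      (∀ w, w ∈ U ↔ n * w * n⁻¹ ∈ U) ∧ n * u * n⁻¹ = u') :
    ∃ p : GolayPt, ∀ u ∈ U, (u : Equiv.Perm GolayPt) p = p → u = 1 := by
  classical
  have := Fintype.ofFinite ↥Spor.M22
  by_contra hno
  push Not at hno
  set Us : Finset ↥Spor.M22 := Finset.univ.filter (fun u => u ∈ U) with hUs
  have hUc : Us.card = 8 := by
    rw [← h8, Nat.card_eq_fintype_card, ← Fintype.card_coe]
    exact Fintype.card_congr (Equiv.subtypeEquivRight fun u => by simp [hUs])
  set U1 := Us.erase 1 with hU1
  have hU1c : U1.card = 7 := by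
    rw [hU1, Finset.card_erase_of_mem (by simp [hUs]), hUc]
  have hmem : ∀ {u}, u ∈ U1 ↔ u ≠ 1 ∧ u ∈ U := by simp [hU1, hUs]
  set S : ↥Spor.M22 → Finset GolayPt := fun u => Finset.univ.filter fun p =>
    ∀ w ∈ Us, (w : Equiv.Perm GolayPt) p = p ↔ (w = 1 ∨ w = u) with hS
  have hcomm : ∀ {a b}, a ∈ U → b ∈ U → a * b = b * a := fun {a b} ha hb => by
    have h := hU _ (mul_mem ha hb)
    calc a * b = (a * b)⁻¹ := (inv_eq_of_mul_eq_one_right h).symm
      _ = b * a := by
        rw [mul_inv_rev, inv_eq_of_mul_eq_one_right (hU a ha), inv_eq_of_mul_eq_one_right (hU b hb)]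
  by_cases hcase : ∃ u ∈ U1, (S u).Nonempty
  · -- seven disjoint sets of at least four points
    obtain ⟨u, hu, p, hp⟩ := hcase
    obtain ⟨hu1, huU⟩ := hmem.1 hu
    have h4 : ∀ u' ∈ U1, 4 ≤ (S u').card := by
      intro u' hu'
      obtain ⟨n, hn, hnu⟩ := htr u huU hu1 u' (hmem.1 hu').2 (hmem.1 hu').1
      have hq : (n : Equiv.Perm GolayPt) p ∈ S u' := by
        simp only [hS, Finset.mem_filter, Finset.mem_univ, true_and] at hp ⊢
        intro w hw
        have hw' : w ∈ U := by simpa [hUs] using hw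
        have hv : n⁻¹ * w * n ∈ U := (hn _).2 (by simpa [mul_assoc] using hw')
        have h := hp (n⁻¹ * w * n) (by simpa [hUs] using hv)
        simp only [Subgroup.coe_mul, Subgroup.coe_inv, Equiv.Perm.mul_apply,
          Equiv.Perm.inv_eq_iff_eq] at h
        rw [h]
        constructor
        · rintro (e | e)
          · left; calc w = n * (n⁻¹ * w * n) * n⁻¹ := by group
              _ = 1 := by rw [e]; group
          · right; rw [← hnu, ← e]; group
        · rintro (rfl | rfl)
          · left; group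
          · right; rw [← hnu]; group
      set q := (n : Equiv.Perm GolayPt) p with hqdef
      have hsub : Us.image (fun v : ↥Spor.M22 => (v : Equiv.Perm GolayPt) q) ⊆ S u' := by
        intro r hr
        simp only [Finset.mem_image] at hr
        obtain ⟨v, hv, rfl⟩ := hr
        simp only [hS, Finset.mem_filter, Finset.mem_univ, true_and] at hq ⊢
        intro w hw
        rw [← hq w hw]
        have hc := congrArg (fun x : ↥Spor.M22 => (x : Equiv.Perm GolayPt) q)
          (hcomm (by simpa [hUs] using hw : w ∈ U) (by simpa [hUs] using hv : v ∈ U))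
        simp only [Subgroup.coe_mul, Equiv.Perm.mul_apply] at hc
        rw [hc]
        exact (v : Equiv.Perm GolayPt).injective.eq_iff
      refine le_trans ?_ (Finset.card_le_card hsub)
      have h2 : Us.card ≤ 2 * (Us.image (fun v : ↥Spor.M22 => (v : Equiv.Perm GolayPt) q)).card := by
        refine Finset.card_le_mul_card_image _ _ fun r hr => ?_
        simp only [Finset.mem_image] at hr
        obtain ⟨v, hv, rfl⟩ := hr
        refine le_trans (Finset.card_le_card (?_ : _ ⊆ ({v, v * u'} : Finset ↥Spor.M22))) Finset.card_le_two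
        intro w hw
        simp only [Finset.mem_filter] at hw
        simp only [hS, Finset.mem_filter, Finset.mem_univ, true_and] at hq
        have hv' : v ∈ U := by simpa [hUs] using hv
        have hw' : w ∈ U := by simpa [hUs] using hw.1
        have hfix : ((v⁻¹ * w : ↥Spor.M22) : Equiv.Perm GolayPt) q = q := by
          simp only [Subgroup.coe_mul, Subgroup.coe_inv, Equiv.Perm.mul_apply, Equiv.Perm.inv_eq_iff_eq]
          exact hw.2
        rcases (hq _ (by simpa [hUs] using mul_mem (inv_mem hv') hw')).1 hfix with e | e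
        · simp [inv_mul_eq_one.1 e]
        · simp [← e]
      omega
    have hd : Set.PairwiseDisjoint (U1 : Set ↥Spor.M22) S := by
      intro a ha b hb hab
      rw [Function.onFun, Finset.disjoint_left]
      intro r hra hrb
      simp only [hS, Finset.mem_filter, Finset.mem_univ, true_and] at hra hrb
      have haU : a ∈ Us := Finset.mem_of_mem_erase ha
      rcases (hrb a haU).1 ((hra a haU).2 (Or.inr rfl)) with e | e
      exacts [(hmem.1 ha).1 e, hab e]
    have h24 := Finset.card_le_univ (U1.biUnion S)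
    rw [Finset.card_biUnion hd, card_pts] at h24
    have := Finset.card_nsmul_le_sum U1 (fun a => (S a).card) 4 h4
    rw [hU1c, smul_eq_mul] at this
    omega
  · -- every point has at least three involutions fixing it
    have h3 : ∀ p : GolayPt, 3 ≤ (U1.filter fun u : ↥Spor.M22 => (u : Equiv.Perm GolayPt) p = p).card := by
      intro p
      obtain ⟨u, hu, hup, hu1⟩ := hno p
      obtain ⟨w, hw, hwp, hw1, hwu⟩ : ∃ w ∈ U, (w : Equiv.Perm GolayPt) p = p ∧ w ≠ 1 ∧ w ≠ u := by
        by_contra hh
        push Not at hh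
        refine hcase ⟨u, hmem.2 ⟨hu1, hu⟩, p, ?_⟩
        simp only [hS, Finset.mem_filter, Finset.mem_univ, true_and]
        intro w hw
        refine ⟨fun h => or_iff_not_imp_left.2 fun h1 => hh w (by simpa [hUs] using hw) h h1, ?_⟩
        rintro (rfl | rfl)
        · rfl
        · exact hup
      have hsub : ({u, w, u * w} : Finset ↥Spor.M22) ⊆
          U1.filter fun u : ↥Spor.M22 => (u : Equiv.Perm GolayPt) p = p := by
        intro v hv
        simp only [Finset.mem_insert, Finset.mem_singleton] at hv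
        rw [Finset.mem_filter, hmem]
        rcases hv with rfl | rfl | rfl
        · exact ⟨⟨hu1, hu⟩, hup⟩
        · exact ⟨⟨hw1, hw⟩, hwp⟩
        · refine ⟨⟨fun e => hwu ?_, mul_mem hu hw⟩, by simp [hwp, hup]⟩
          rw [eq_inv_of_mul_eq_one_right e, inv_eq_of_mul_eq_one_right (hU u hu)]
      refine le_trans ?_ (Finset.card_le_card hsub)
      rw [Finset.card_insert_of_notMem, Finset.card_pair]
      · exact fun e => hu1 (right_eq_mul.1 e)
      · simp only [Finset.mem_insert, Finset.mem_singleton, not_or]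
        exact ⟨fun e => hwu e.symm, fun e => hw1 (left_eq_mul.1 e)⟩
    have h72 := Finset.card_nsmul_le_sum (Finset.univ : Finset GolayPt)
      (fun p => (U1.filter fun u : ↥Spor.M22 => (u : Equiv.Perm GolayPt) p = p).card) 3 fun p _ => h3 p
    have hswap : ∑ p : GolayPt, (U1.filter fun u : ↥Spor.M22 => (u : Equiv.Perm GolayPt) p = p).card =
        ∑ u ∈ U1, (Finset.univ.filter fun p => (u : Equiv.Perm GolayPt) p = p).card := by
      simp only [Finset.card_filter]
      exact Finset.sum_comm
    rw [hswap, Finset.card_univ, card_pts,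
      Finset.sum_congr rfl fun u hu => M22_invol_fix u (hU u (hmem.1 hu).2) (hmem.1 hu).1,
      Finset.sum_const, hU1c] at h72
    norm_num at h72

/-- A copy of `SL(3, 2)` in a subgroup of shape `2³ · SL(3, 2)`. -/
theorem exists_sl32 (N : Subgroup ↥Spor.M22)
    (f : ↥N →* Matrix.SpecialLinearGroup (Fin 3) (ZMod 2)) (hf : Function.Surjective f)
    (hU : ∀ u ∈ f.ker, u * u = 1) (h8 : Nat.card ↥f.ker = 8)
    (htr : ∀ u ∈ f.ker, u ≠ 1 → ∀ u' ∈ f.ker, u' ≠ 1 → ∃ n : ↥N, n * u * n⁻¹ = u') :
    ∃ K ≤ N, Nonempty (↥K ≃* Matrix.SpecialLinearGroup (Fin 3) (ZMod 2)) := by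
  classical
  set U := f.ker.map N.subtype with hUdef
  obtain ⟨p, hp⟩ := exists_free U
    (by rintro _ ⟨u, hu, rfl⟩; exact congrArg Subtype.val (hU u hu))
    (by rw [hUdef, card_map_of_injective N.subtype_injective, h8])
    (by
      rintro _ ⟨u, hu, rfl⟩ hu1 _ ⟨u', hu', rfl⟩ hu1'
      obtain ⟨n, hn⟩ := htr u hu (fun e => hu1 (by rw [e]; rfl)) u' hu' (fun e => hu1' (by rw [e]; rfl))
      refine ⟨n, fun w => ?_, congrArg Subtype.val hn⟩
      have key : ∀ (m : ↥N), ∀ v ∈ U, (m : ↥Spor.M22) * v * (m : ↥Spor.M22)⁻¹ ∈ U := by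
        rintro m _ ⟨v, hv, rfl⟩
        exact ⟨m * v * m⁻¹, (MonoidHom.normal_ker f).conj_mem v hv m, rfl⟩
      refine ⟨key n w, fun hw => ?_⟩
      have := key n⁻¹ _ hw
      simpa [mul_assoc] using this)
  let St : Subgroup ↥N :=
    { carrier := {n | ((n : ↥Spor.M22) : Equiv.Perm GolayPt) p = p}
      one_mem' := rfl
      mul_mem' := fun {a b} (ha : _ = p) (hb : _ = p) => by
        show ((a : ↥Spor.M22) : Equiv.Perm GolayPt) (((b : ↥Spor.M22) : Equiv.Perm GolayPt) p) = p
        rw [hb, ha]
      inv_mem' := fun {a} (ha : _ = p) => by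
        show ((a : ↥Spor.M22) : Equiv.Perm GolayPt)⁻¹ p = p
        rw [Equiv.Perm.inv_eq_iff_eq, ha] }
  have hinj : Function.Injective (f.comp St.subtype) := by
    rw [injective_iff_map_eq_one]
    intro s hs
    exact Subtype.ext (Subtype.ext (hp _ ⟨s.1, hs, rfl⟩ s.2))
  have hidx : St.index ≤ 24 := by
    let o : ↥N ⧸ St → GolayPt := fun x => ((x.out : ↥Spor.M22) : Equiv.Perm GolayPt) p
    have ho : Function.Injective o := by
      intro x y (hxy : _ = _)
      rw [← QuotientGroup.out_eq' x, ← QuotientGroup.out_eq' y, QuotientGroup.eq]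
      show ((((x.out)⁻¹ * y.out : ↥N) : ↥Spor.M22) : Equiv.Perm GolayPt) p = p
      simp only [Subgroup.coe_mul, Subgroup.coe_inv, Equiv.Perm.mul_apply, Equiv.Perm.inv_eq_iff_eq]
      exact hxy.symm
    have := Nat.card_le_card_of_injective o ho
    rwa [← index_eq_card, Nat.card_eq_fintype_card, card_pts] at this
  have hN : Nat.card ↥N = 8 * 168 := by
    have h := f.ker.card_mul_index
    rw [index_ker, MonoidHom.range_eq_top.2 hf, card_top, h8, DihedralCentTools.sl32.2] at h
    exact h.symm
  have h1 := St.card_mul_index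
  set R := (f.comp St.subtype).range with hR
  have hRc : Nat.card ↥R = Nat.card ↥St := (Nat.card_congr (MonoidHom.ofInjective hinj).toEquiv).symm
  have htop : R = ⊤ := by
    by_contra hne
    have h2 := R.card_mul_index
    rw [DihedralCentTools.sl32.2] at h2
    have h3 : R.index ≤ 3 := by
      by_contra h'
      have h5 := Nat.mul_le_mul_left (Nat.card ↥St) hidx
      have h6 := Nat.mul_le_mul_left (Nat.card ↥R) (Nat.lt_of_not_le h')
      rw [h1, hN] at h5
      rw [h2, hRc] at h6
      omega
    have := DihedralCentTools.sl32.1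
    have hk : R.normalCore = ⊥ :=
      (IsSimpleGroup.eq_bot_or_eq_top_of_normal _ inferInstance).resolve_right fun h =>
        hne (top_le_iff.1 (h ▸ normalCore_le R))
    rw [normalCore_eq_ker] at hk
    have h4 := Nat.card_le_card_of_injective _ ((MonoidHom.ker_eq_bot_iff _).1 hk)
    rw [DihedralCentTools.sl32.2, Nat.card_perm, ← index_eq_card] at h4
    interval_cases R.index <;> simp [Nat.factorial] at h4
  refine ⟨St.map N.subtype, map_subtype_le _,
    ⟨(equivMapOfInjective _ _ N.subtype_injective).symm.trans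
      ((MonoidHom.ofInjective hinj).trans ((MulEquiv.subgroupCongr htop).trans topEquiv))⟩⟩

end Cfsg.Agent.JankoFour.SplitM22
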