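import Cfsg.Agent.Lib.JankoFour.NormBLocal
import Cfsg.Agent.Lib.JankoFour.OneClassThree
import Cfsg.Agent.Lib.JankoFour.SplitM22

/-!
# Janko-four type: a copy of `SL(3, 2)` in `N(B)`

An element `t` of order 3 of `C(B)` is conjugate into `P`, so the part of `C(t) ∩ N(B)` over
`1 × SL(3, 2)`, of shape `2³ · SL(3, 2)`, embeds in `M₂₂`, where it contains `SL(3, 2)`.
-/

set_option autoImplicit false
set_option linter.unusedSectionVars false

namespace Cfsg.Agent.JankoFour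

open Subgroup
open scoped commutatorElement
open LargeExtraspecial (Hub Pair mem_conj_iff mem_four)

local notation "SL32" => Matrix.SpecialLinearGroup (Fin 3) (ZMod 2)

theorem sl32_center : center SL32 = ⊥ := by
  have hs := DihedralCentTools.sl32
  have := hs.1
  refine (IsSimpleGroup.eq_bot_or_eq_top_of_normal (center SL32) inferInstance).resolve_right fun h => ?_
  have hc : ∀ a b : SL32, a * b = b * a := fun a b => mem_center_iff.1 (h ▸ mem_top b) a
  have : Fact (Nat.Prime 7) := ⟨by norm_num⟩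
  obtain ⟨a, ha⟩ := exists_prime_orderOf_dvd_card' (G := SL32) 7 (by rw [hs.2]; norm_num)
  rcases IsSimpleGroup.eq_bot_or_eq_top_of_normal (zpowers a)
    ⟨fun x hx b => by rwa [hc b x, mul_inv_cancel_right]⟩ with h' | h'
  · rw [zpowers_eq_bot] at h'; rw [h', orderOf_one] at ha; omega
  · have hc' := Nat.card_zpowers a
    rw [h', card_top, hs.2, ha] at hc'; omega

set_option maxRecDepth 20000 in
theorem perm_three_swap : ∀ σ : Equiv.Perm (Fin 5), σ * (σ * σ) = 1 →
    ∃ i j : Fin 5, i ≠ j ∧ σ * Equiv.swap i j = Equiv.swap i j * σ := by decide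

/-- Elements centralising the image of an element of order 3 lift to its centraliser. -/
theorem exists_cent_lift {N K : Type*} [Group N] [Group K] [Finite N] (f : N →* K)
    (hf : Function.Surjective f) (hk : (Nat.card ↥f.ker).Coprime 3) {t : N} (ht : t ^ 3 = 1) {y : K}
    (hy : Commute y (f t)) : ∃ n : N, Commute n t ∧ f n = y := by
  have : Fact (Nat.Prime 3) := ⟨Nat.prime_three⟩
  have hp : IsPGroup 3 ↥(zpowers t) := by
    obtain ⟨k, -, hk'⟩ := (Nat.dvd_prime_pow Nat.prime_three).1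
      (show orderOf t ∣ 3 ^ 1 by rw [pow_one]; exact orderOf_dvd_of_pow_eq_one ht)
    exact IsPGroup.of_card (n := k) (by rw [Nat.card_zpowers, hk'])
  have hmap := map_normalizer_surj f hf hk hp
  have hyN : y ∈ normalizer ((zpowers t).map f : Set K) := by
    refine centralizer_le_normalizer _ fun x hx => ?_
    rw [MonoidHom.map_zpowers] at hx
    obtain ⟨i, rfl⟩ := mem_zpowers_iff.1 hx
    exact (hy.zpow_right i).eq.symm
  rw [← hmap] at hyN
  obtain ⟨n, hn, rfl⟩ := hyN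
  refine ⟨n, ?_, rfl⟩
  rcases cases_zpowers_three ht ((mem_normalizer_iff.1 hn t).1 (mem_zpowers t)) with e | e | e
  · rw [conj_eq_one_iff] at e
    rw [e]; exact Commute.one_right n
  · exact mul_inv_eq_iff_eq_mul.1 e
  · have h1 : f t * f t = 1 := by
      have := congrArg f e
      rw [map_mul, map_mul, map_inv, map_inv, hy.eq, mul_inv_cancel_right] at this
      nth_rewrite 1 [this]
      exact inv_mul_cancel _
    have h2 : t ∈ f.ker := by
      have h3 := congrArg f ht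
      rw [map_pow, map_one, pow_succ, pow_two, h1, one_mul] at h3
      exact h3
    have h3 : orderOf (⟨t, h2⟩ : ↥f.ker) ∣ 3 := orderOf_dvd_of_pow_eq_one (Subtype.ext ht)
    have h4 := Nat.dvd_gcd (orderOf_dvd_natCard (⟨t, h2⟩ : ↥f.ker)) h3
    rw [hk] at h4
    have ht1 : t = 1 := congrArg Subtype.val (orderOf_eq_one_iff.1 (Nat.dvd_one.1 h4))
    rw [ht1]; exact Commute.one_right n

variable {G : Type*} [Group G] {z : G} {P : Subgroup G}

namespace Ctx

variable [Finite G] [IsSimpleGroup G] (Γ : Ctx z P) {g p : G} (ht : Tri z P g p)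

include Γ ht

set_option maxHeartbeats 1600000 in
/-- `N(B)` contains a copy of `SL(3, 2)`. -/
theorem exists_sl32_local (hQ : QuotFact AutM22) (h7 : SevenFacts z) :
    ∃ K₂ : Subgroup G, K₂ ≤ normalizer (trB z g p : Set G) ∧ Nonempty (↥K₂ ≃* SL32) := by
  have h3f : Fact (Nat.Prime 3) := ⟨Nat.prime_three⟩
  have h7f : Fact (Nat.Prime 7) := ⟨by norm_num⟩
  set N := normalizer (trB z g p : Set G) with hN
  obtain ⟨Φ, hΦ, hker, -, hsnd⟩ := Γ.exists_proj ht hQ
  have hCN : cenB z g p ≤ N := LocalStructure.centralizer_le_normalizer _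
  have hkerc : Nat.card ↥Φ.ker = 2 ^ 15 := by
    have hk : Φ.ker = (Γ.locL g p).subgroupOf N := by ext n; exact hker n
    rw [hk, Nat.card_congr (subgroupOfEquivOfLe (Γ.locL_le_cenB.trans hCN)).toEquiv, Γ.card_locL ht]
  -- an element of order 3 of `C(B)`
  obtain ⟨t0, ht0⟩ := exists_prime_orderOf_dvd_card' (G := ↥(cenB z g p)) 3
    (by rw [Γ.card_cenB ht hQ]; norm_num)
  set t : ↥N := ⟨t0, hCN t0.2⟩ with htdef
  have hto : orderOf (t : G) = 3 := by
    show orderOf ((t0 : ↥(cenB z g p)) : G) = 3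
    rw [Subgroup.orderOf_coe, ht0]
  have ht3 : t ^ 3 = 1 := Subtype.ext (by
    show (t : G) ^ 3 = 1
    rw [← hto]; exact pow_orderOf_eq_one _)
  have htsnd : (Φ t).2 = 1 := (hsnd t).2 t0.2
  set σ := (Φ t).1 with hσdef
  have hσ3 : σ * (σ * σ) = 1 := by
    rw [hσdef, ← pow_three, ← Prod.pow_fst, ← map_pow, ht3, map_one]; rfl
  obtain ⟨i, j, hij, hστ⟩ := perm_three_swap σ hσ3
  have hlift : ∀ (a : Equiv.Perm (Fin 5)) (A : SL32), Commute a σ →
      ∃ n : ↥N, Commute n t ∧ Φ n = (a, A) := fun a A ha =>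
    exists_cent_lift Φ hΦ (by rw [hkerc]; norm_num) ht3
      (Prod.ext ha.eq (by show A * (Φ t).2 = (Φ t).2 * A; rw [htsnd, mul_one, one_mul]))
  set CN : Subgroup ↥N := centralizer ({t} : Set ↥N) with hCNdef
  have memCN : ∀ {n}, n ∈ CN ↔ Commute n t := fun {n} => mem_centralizer_singleton_iff.trans Iff.rfl
  set D0 : Subgroup ↥N := CN ⊓ ((MonoidHom.fst _ _).comp Φ).ker with hD0
  set f0 : ↥D0 →* SL32 := ((MonoidHom.snd _ _).comp Φ).comp D0.subtype with hf0
  have hf0s : Function.Surjective f0 := fun A => by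
    obtain ⟨n, hn, hΦn⟩ := hlift 1 A (Commute.one_left σ)
    exact ⟨⟨n, memCN.2 hn, congrArg Prod.fst hΦn⟩, congrArg Prod.snd hΦn⟩
  set W : Subgroup ↥N := Φ.ker ⊓ CN with hW
  have hWker : ∀ x : ↥D0, x ∈ f0.ker ↔ (x : ↥N) ∈ W := fun x =>
    ⟨fun h => ⟨Prod.ext x.2.2 h, x.2.1⟩, fun h => congrArg Prod.snd h.1⟩
  have hf0c : Nat.card ↥f0.ker = Nat.card ↥W :=
    Nat.card_congr ⟨fun x => ⟨(x : ↥D0), (hWker x).1 x.2⟩,
      fun w => ⟨⟨w, w.2.2, congrArg Prod.fst w.2.1⟩, (hWker _).2 w.2⟩, fun _ => rfl, fun _ => rfl⟩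
  -- `t` is conjugate into `P`
  obtain ⟨q, hq, hq1⟩ := Γ.exists_generator
  have hqo : orderOf q = 3 := orderOf_eq_prime (by rw [pow_three]; exact Γ.p_cube hq) hq1
  obtain ⟨a, ha⟩ := isConj_iff.1 (one_class_three Γ.F Γ.S hto hqo)
  have hX : ∀ n : ↥N, n ∈ CN → a * (n : G) * a⁻¹ ∈ cX z P := by
    intro n hn
    have hc : Commute (a * (n : G) * a⁻¹) q := by
      rw [← ha]
      exact (show Commute (n : G) (t : G) from congrArg Subtype.val (memCN.1 hn).eq).map
        (MulAut.conj a).toMonoidHom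
    have hP : a * (n : G) * a⁻¹ ∈ centralizer (P : Set G) := by
      rw [← Γ.zpowers_eq hq hq1]
      intro r hr
      exact (commute_of_mem_zpowers hr hc.symm).eq
    exact ⟨(normalizer_le Γ.F Γ.S).2 (centralizer_le_normalizer _ hP), hP⟩
  -- `|C_L(t)| ≤ 16`
  have hWle : Nat.card ↥W ∣ 16 := by
    set g2 := Φ.comp CN.subtype with hg2
    have hY : (zpowers (Equiv.swap i j)).prod (⊤ : Subgroup SL32) ≤ g2.range := by
      rintro ⟨b, A⟩ ⟨hb, -⟩
      obtain ⟨n, hn, hΦn⟩ := hlift b A (commute_of_mem_zpowers hb (Commute.symm hστ))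
      exact ⟨⟨n, memCN.2 hn⟩, hΦn⟩
    have h336 : 336 ∣ Nat.card ↥g2.range := by
      refine dvd_trans (dvd_of_eq ?_) (card_dvd_of_le hY)
      rw [Nat.card_congr (prodEquiv _ _).toEquiv, Nat.card_prod, card_top, DihedralCentTools.sl32.2,
        Nat.card_zpowers, orderOf_eq_prime (by rw [pow_two, Equiv.swap_mul_self])
          (fun h => hij ((Equiv.swap_eq_one_iff).1 h))]
    have hCNc : Nat.card ↥CN ∣ 2661120 := by
      rw [← Γ.S.card_X Γ.F, ← card_map_of_injective N.subtype_injective,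
        ← card_map_of_injective (f := (MulAut.conj a).toMonoidHom) (MulAut.conj a).injective]
      refine card_dvd_of_le ?_
      rintro _ ⟨_, ⟨n, hn, rfl⟩, rfl⟩
      exact hX n hn
    have h := g2.ker.card_mul_index
    have e : Nat.card ↥g2.ker = Nat.card ↥W :=
      Nat.card_congr ⟨fun x => ⟨(x : ↥CN), x.2, x.1.2⟩, fun w => ⟨⟨w, w.2.2⟩, w.2.1⟩,
        fun _ => rfl, fun _ => rfl⟩
    rw [index_ker, e] at h
    obtain ⟨k, -, hk⟩ := (Nat.dvd_prime_pow Nat.prime_two).1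
      (hkerc ▸ card_dvd_of_le (inf_le_left : W ≤ Φ.ker))
    have h1 : Nat.card ↥W * 336 ∣ 2661120 := (mul_dvd_mul_left _ h336).trans (h ▸ hCNc)
    rw [show (2661120 : ℕ) = 7920 * 336 by norm_num] at h1
    have h2 := Nat.dvd_of_mul_dvd_mul_right (by norm_num) h1
    rw [hk] at h2 ⊢
    have h3 : (2 ^ k).Coprime 495 := Nat.Coprime.pow_left _ (by norm_num)
    rw [show (7920 : ℕ) = 16 * 495 by norm_num] at h2
    exact h3.dvd_of_dvd_mul_right h2
  set B' := (trB z g p).subgroupOf N with hB'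
  have hB'c : Nat.card ↥B' = 8 := by
    obtain ⟨Fr, -⟩ := Γ.exists_frame ht
    rw [Nat.card_congr (subgroupOfEquivOfLe le_normalizer).toEquiv, Fr.card]
  have hB'W : B' ≤ W := fun b hb =>
    ⟨(hker b).2 (Γ.trB_le_locL ht (mem_subgroupOf.1 hb)),
      memCN.2 (Subtype.ext (t0.2 _ (mem_subgroupOf.1 hb)))⟩
  have hB'comm : ∀ {b c : ↥N}, b ∈ B' → c ∈ B' → Commute b c := fun hb hc =>
    Subtype.ext (Γ.trB_comm ht (mem_subgroupOf.1 hb) (mem_subgroupOf.1 hc)).eq
  -- an element of order 7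
  obtain ⟨d0, hd0⟩ := exists_prime_orderOf_dvd_card' (G := ↥D0) 7 (by
    have h := f0.ker.card_mul_index
    rw [index_ker, MonoidHom.range_eq_top.2 hf0s, card_top, DihedralCentTools.sl32.2] at h
    exact ⟨Nat.card ↥f0.ker * 24, by omega⟩)
  set d : ↥N := (d0 : ↥N) with hd
  have hdo : orderOf (d : G) = 7 := by rw [hd, Subgroup.orderOf_coe, Subgroup.orderOf_coe, hd0]
  obtain ⟨-, -, -, hfree⟩ := Γ.seven_local ht hQ h7 (zpowers (d : G)) (by rw [Nat.card_zpowers, hdo])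
    (zpowers_le.2 d.2)
  have hfree' : ∀ x : ↥N, x ∈ Φ.ker → Commute x d → x = 1 := fun x hx hc =>
    Subtype.ext (hfree x ((hker x).1 hx) fun y hy =>
      (commute_of_mem_zpowers hy (congrArg Subtype.val hc.symm.eq)).symm)
  -- `C_L(t) = B`
  have hWB : W ≤ B' := by
    intro x hx
    by_contra hxB
    have hdB : ∀ b ∈ B', d * b * d⁻¹ ∈ B' := fun b hb =>
      mem_subgroupOf.2 ((mem_normalizer_iff.1 d.2 _).1 (mem_subgroupOf.1 hb))
    have hdB' : ∀ b ∈ B', d⁻¹ * b * d ∈ B' := fun b hb =>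
      mem_subgroupOf.2 ((mem_normalizer_iff''.1 d.2 _).1 (mem_subgroupOf.1 hb))
    have hdW : d * x * d⁻¹ ∈ W :=
      Subgroup.mem_inf.2 ⟨(MonoidHom.normal_ker Φ).conj_mem x hx.1 d,
        CN.mul_mem (CN.mul_mem d0.2.1 hx.2) (CN.inv_mem d0.2.1)⟩
    have h2 : (B'.subgroupOf W).index = 2 := by
      have h := (B'.subgroupOf W).card_mul_index
      rw [Nat.card_congr (subgroupOfEquivOfLe hB'W).toEquiv, hB'c] at h
      have hle : Nat.card ↥W ≤ 16 := Nat.le_of_dvd (by norm_num) hWle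
      have h1 : (B'.subgroupOf W).index ≠ 1 := fun e =>
        hxB (mem_subgroupOf.1 ((index_eq_one.1 e).symm ▸ mem_top (⟨x, hx⟩ : ↥W)))
      have h0 : (B'.subgroupOf W).index ≠ 0 := index_ne_zero_of_finite
      omega
    have he : d * x * d⁻¹ * x⁻¹ ∈ B' := by
      have := (mul_mem_iff_of_index_two h2 (a := ⟨_, hdW⟩) (b := ⟨x, hx⟩⁻¹)).2
        (iff_of_false (fun h => hxB (by
          have := hdB' _ (mem_subgroupOf.1 h)
          simpa [mul_assoc] using this)) fun h => hxB (by simpa using inv_mem (mem_subgroupOf.1 h)))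
      exact mem_subgroupOf.1 this
    set e := d * x * d⁻¹ * x⁻¹ with hedef
    let ψ : ↥B' → ↥B' := fun b => ⟨d * b * d⁻¹ * (b : ↥N)⁻¹, mul_mem (hdB b b.2) (inv_mem b.2)⟩
    have hψ : Function.Injective ψ := by
      intro b c hbc
      obtain ⟨e', he'⟩ : ∃ e', e' = d * (b : ↥N) * d⁻¹ * (b : ↥N)⁻¹ := ⟨_, rfl⟩
      have h1 : d * (b : ↥N) * d⁻¹ = e' * b := by rw [he', inv_mul_cancel_right]
      have h2 : d * (c : ↥N) * d⁻¹ = e' * c := by
        rw [he', show d * (b : ↥N) * d⁻¹ * (b : ↥N)⁻¹ = d * (c : ↥N) * d⁻¹ * (c : ↥N)⁻¹ from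
          congrArg Subtype.val hbc, inv_mul_cancel_right]
      have hfix : d * ((c : ↥N)⁻¹ * b) * d⁻¹ = (c : ↥N)⁻¹ * b := by
        rw [show d * ((c : ↥N)⁻¹ * b) * d⁻¹ = (d * (c : ↥N) * d⁻¹)⁻¹ * (d * b * d⁻¹) by group, h1, h2]
        group
      exact Subtype.ext (inv_mul_eq_one.1 (hfree' _ (hB'W (mul_mem (inv_mem c.2) b.2)).1
        (show Commute d _ from mul_inv_eq_iff_eq_mul.1 hfix).symm)).symm
    obtain ⟨b0, hb0⟩ := (Finite.injective_iff_surjective.1 hψ) ⟨e⁻¹, inv_mem he⟩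
    have hb0' : d * (b0 : ↥N) * d⁻¹ = e⁻¹ * b0 := by
      rw [← show d * (b0 : ↥N) * d⁻¹ * (b0 : ↥N)⁻¹ = e⁻¹ from congrArg Subtype.val hb0,
        inv_mul_cancel_right]
    have hfix : d * ((b0 : ↥N) * x) * d⁻¹ = (b0 : ↥N) * x := by
      rw [show d * ((b0 : ↥N) * x) * d⁻¹ = (d * b0 * d⁻¹) * (d * x * d⁻¹ * x⁻¹) * x by group, hb0',
        ← hedef, mul_assoc _ (b0 : ↥N) e, (hB'comm b0.2 he).eq, inv_mul_cancel_left]
    have h := hfree' _ (mul_mem (hB'W b0.2).1 hx.1)
      (show Commute d _ from mul_inv_eq_iff_eq_mul.1 hfix).symm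
    exact hxB (by rw [eq_inv_of_mul_eq_one_right h]; exact inv_mem b0.2)
  have hWeq : W = B' := le_antisymm hWB hB'W
  -- the map to `M₂₂`
  let f : ↥Cfsg.Spor.M22 →* AutM22 := MulAut.conj
  have hinjc : Function.Injective f := by
    have hbij : Function.Bijective f.rangeRestrict :=
      (Nat.bijective_iff_surjective_and_card _).mpr ⟨f.rangeRestrict_surjective, by
        rw [Mathieu.card_M22]; exact Γ.F.card_inner.symm⟩
    intro u v huv
    exact hbij.1 (Subtype.ext huv)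
  let ι : ↥D0 →* ↥(centralizer ({z} : Set G)) :=
    (((MulAut.conj a).toMonoidHom.comp N.subtype).comp D0.subtype).codRestrict _
      fun n => (hX n n.2.1).1
  have hι : ∀ n : ↥D0, Γ.S.pi (ι n) ∈ f.range := fun n => Γ.S.pi_X_mem (hX n n.2.1)
  let ρ : ↥D0 →* ↥Cfsg.Spor.M22 :=
    (MonoidHom.ofInjective hinjc).symm.toMonoidHom.comp ((Γ.S.pi.comp ι).codRestrict _ hι)
  have hρ : Function.Injective ρ := by
    rw [injective_iff_map_eq_one]
    intro n hn
    have h1 : Γ.S.pi (ι n) = 1 := by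
      have h := congrArg (MonoidHom.ofInjective hinjc) hn
      simp only [ρ, MonoidHom.comp_apply, MulEquiv.coe_toMonoidHom, MulEquiv.apply_symm_apply,
        map_one] at h
      exact congrArg Subtype.val h
    obtain ⟨w, hw, r, hr, hwr⟩ := Γ.S.mem_zpowers_mul_of_mem_sup ((Γ.S.pi_eq_one _).1 h1)
      (hX n n.2.1).2
    have hcomm : ∀ m : ↥D0, m * n = n * m := by
      intro m
      have hm := hX m m.2.1
      have hc : Commute (a * (m : G) * a⁻¹) (w * r) := by
        refine Commute.mul_right ?_ ((mem_centralizer_iff.1 hm.2 r hr).symm)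
        rcases Γ.S.z_cases hw with rfl | rfl
        exacts [Commute.one_right _, mem_H.1 hm.1]
      rw [← hwr] at hc
      have h2 : Commute (a * (m : G) * a⁻¹) (a * (n : G) * a⁻¹) := hc
      have h3 := h2.map (MulAut.conj a⁻¹).toMonoidHom
      refine Subtype.ext (Subtype.ext ?_)
      simpa [mul_assoc] using h3.eq
    have h2 : f0 n ∈ center SL32 := mem_center_iff.2 fun A => by
      obtain ⟨m, rfl⟩ := hf0s A
      rw [← map_mul, ← map_mul, hcomm m]
    rw [sl32_center, mem_bot] at h2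
    have hnW : (n : ↥N) ∈ W := (hWker n).1 h2
    exact Subtype.ext (hfree' _ hnW.1 (congrArg Subtype.val (hcomm d0).symm))
  let ε : ↥D0 ≃* ↥ρ.range := MonoidHom.ofInjective hρ
  let f1 : ↥ρ.range →* SL32 := f0.comp ε.symm.toMonoidHom
  have hmem1 : ∀ u : ↥ρ.range, u ∈ f1.ker ↔ ((ε.symm u : ↥D0) : ↥N) ∈ B' := fun u => by
    rw [← hWeq]; exact hWker _
  obtain ⟨K, hK, ⟨eK⟩⟩ := SplitM22.exists_sl32 ρ.range f1 (hf0s.comp ε.symm.surjective)
    (fun u hu => ε.symm.injective (by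
      rw [map_mul, map_one]
      refine Subtype.ext (Subtype.ext ?_)
      exact (Γ.pair ht.pt).E_sq (Γ.trB_le ht (mem_subgroupOf.1 ((hmem1 u).1 hu)))))
    (by
      rw [show Nat.card ↥f1.ker = Nat.card ↥f0.ker from
        Nat.card_congr (ε.symm.toEquiv.subtypeEquiv fun _ => Iff.rfl), hf0c, hWeq, hB'c])
    (fun u hu hu1 u' hu' hu1' => by
      have e1 : ∀ x : ↥ρ.range, ((ε.symm x : ↥D0) : G) = 1 → x = 1 := fun x h => by
        apply ε.symm.injective
        rw [map_one]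
        exact Subtype.ext (Subtype.ext h)
      obtain ⟨k, hk, hkz⟩ := Γ.exists_move ht (mem_subgroupOf.1 ((hmem1 u).1 hu)) (fun h => hu1 (e1 _ h))
      obtain ⟨k', hk', hkz'⟩ := Γ.exists_move ht (mem_subgroupOf.1 ((hmem1 u').1 hu'))
        (fun h => hu1' (e1 _ h))
      set m : ↥N := ⟨k' * k⁻¹, Γ.trM_normalizes_trB ht (mul_mem hk' (inv_mem hk))⟩ with hm
      obtain ⟨n0, hn0⟩ := hf0s (Φ m).2
      refine ⟨ε n0, ε.symm.injective ?_⟩
      rw [map_mul, map_mul, map_inv, MulEquiv.symm_apply_apply]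
      refine Subtype.ext (Subtype.ext ?_)
      have hc : (m⁻¹ * (n0 : ↥N) : ↥N).1 ∈ cenB z g p := (hsnd _).1 (by
        rw [map_mul, map_inv]
        show ((Φ m).2)⁻¹ * (Φ (n0 : ↥N)).2 = 1
        rw [show (Φ (n0 : ↥N)).2 = (Φ m).2 from hn0, inv_mul_cancel])
      have hcu := hc _ (mem_subgroupOf.1 ((hmem1 u).1 hu))
      simp only [Subgroup.coe_mul, Subgroup.coe_inv, hm] at hcu ⊢
      rw [← hkz', ← hkz]
      rw [← hkz] at hcu
      calc (n0 : G) * (k * z * k⁻¹) * ((n0 : G))⁻¹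
          = k' * k⁻¹ * ((k' * k⁻¹)⁻¹ * (n0 : G) * (k * z * k⁻¹)) * ((n0 : G))⁻¹ := by group
        _ = k' * k⁻¹ * ((k * z * k⁻¹) * ((k' * k⁻¹)⁻¹ * (n0 : G))) * ((n0 : G))⁻¹ := by rw [hcu]
        _ = k' * z * k'⁻¹ := by group)
  refine ⟨(((K.subgroupOf ρ.range).map ε.symm.toMonoidHom).map D0.subtype).map N.subtype,
    map_subtype_le _, ⟨?_⟩⟩
  exact ((equivMapOfInjective _ _ N.subtype_injective).symm.trans
    ((equivMapOfInjective _ _ D0.subtype_injective).symm.trans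
      ((equivMapOfInjective _ _ ε.symm.injective).symm.trans
        ((subgroupOfEquivOfLe hK).trans eK))))

end Ctx

end Cfsg.Agent.JankoFour
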