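import Cfsg.Agent.Lib.JankoFour.NormBSpecial
import Cfsg.Agent.Lib.PCore.Constrained
import Cfsg.Agent.Lib.DihedralCent.Tools
import Cfsg.Prelude.Def_TwoFusion
import Cfsg.Prelude.Def_Transfer

/-!
# Janko-four type: Sylow normalisers in `N(B)`, the symmetric factor, no complement

`FiveFacts`, `SevenFacts`: the structure of the normalisers of subgroups of order 5 and 7 of `H`
(S5572, S5573).  `five_local`, `seven_local`: these normalisers for subgroups of `N(B)` are in `N(B)`.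
`exists_perm_five`: a subgroup `≅ S₅`.  `no_complement`.
-/

set_option autoImplicit false
set_option linter.unusedSectionVars false

namespace Cfsg.Agent.JankoFour

open Subgroup
open scoped commutatorElement
open LargeExtraspecial (Hub Pair mem_conj_iff mem_four)

local notation "SL32" => Matrix.SpecialLinearGroup (Fin 3) (ZMod 2)

variable {G : Type*} [Group G] {z : G} {P : Subgroup G}

/-- What is used about a subgroup of order 5 of `H`. -/
def FiveFacts (z : G) : Prop :=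
  ∀ Q : Subgroup G, Nat.card ↥Q = 5 → Q ≤ centralizer ({z} : Set G) →
    ¬ (25 ∣ Nat.card G) ∧
    (∃ J : Subgroup G, Cfsg.IsInternalDirectProduct Q J (centralizer (Q : Set G)) ∧
      ∃ (E : Subgroup ↥J) (_ : E.Normal), Cfsg.IsElementaryAbelian 2 E ∧ Nat.card ↥E = 8 ∧
        Nonempty (↥J ⧸ E ≃* SL32) ∧ ∀ K : Subgroup ↥J, ¬ E.IsComplement' K) ∧
    Nat.card ↥(normalizer (Q : Set G)) = 2 ^ 8 * 3 * 5 * 7

/-- What is used about a subgroup of order 7 of `H`. -/
def SevenFacts (z : G) : Prop :=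
  ∀ S : Subgroup G, Nat.card ↥S = 7 → S ≤ centralizer ({z} : Set G) →
    ¬ (49 ∣ Nat.card G) ∧
    (∃ I : Subgroup G, Cfsg.IsInternalDirectProduct S I (centralizer (S : Set G)) ∧
      Nonempty (↥I ≃* Equiv.Perm (Fin 5))) ∧
    Nat.card ↥(normalizer (S : Set G)) = 2 ^ 3 * 3 ^ 2 * 5 * 7

theorem le_sylow_normalizer {K : Type*} [Group K] [Finite K] {ℓ c : ℕ} [Fact ℓ.Prime] (T : Sylow ℓ K)
    {i : ℕ} (hi : (T : Subgroup K).index = i) (hK : Nat.card K = c)
    (hn : ∀ n ≤ i, n ∣ i → n % ℓ = 1 → n ≤ c) {b : ℕ} (hb : ∀ n ≤ i, n ∣ i → n % ℓ = 1 → n * b ≤ c) :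
    b ≤ Nat.card ↥(normalizer ((T : Subgroup K) : Set K)) := by
  have h0 : 0 < i := hi ▸ Nat.pos_of_ne_zero Subgroup.index_ne_zero_of_finite
  have h1 : Nat.card (Sylow ℓ K) ∣ i := hi ▸ T.card_dvd_index
  have h2 : Nat.card (Sylow ℓ K) % ℓ = 1 := by
    have := card_sylow_modEq_one ℓ K
    rwa [Nat.ModEq, Nat.one_mod_eq_one.2 (Fact.out : ℓ.Prime).ne_one] at this
  have h3 := hb _ (Nat.le_of_dvd h0 h1) h1 h2
  have h4 := (normalizer ((T : Subgroup K) : Set K)).card_mul_index
  have h5 : (normalizer ((T : Subgroup K) : Set K)).index = Nat.card (Sylow ℓ K) :=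
    T.card_eq_index_normalizer.symm
  rw [h5, hK] at h4
  rw [← h4, mul_comm] at h3
  exact Nat.le_of_mul_le_mul_right h3 Nat.card_pos

theorem card_sylow_of_prime {K : Type*} [Group K] [Finite K] {ℓ : ℕ} [Fact ℓ.Prime] (T : Sylow ℓ K)
    (h : ℓ ∣ Nat.card K) (h' : ¬ ℓ ^ 2 ∣ Nat.card K) : Nat.card ↥(T : Subgroup K) = ℓ := by
  obtain ⟨n, hn⟩ := IsPGroup.iff_card.1 T.isPGroup'
  have h1 := T.dvd_card_of_dvd_card h
  have hle : n ≤ 1 := by
    by_contra hlt
    exact h' ((pow_dvd_pow ℓ (by omega : 2 ≤ n)).trans (hn ▸ card_subgroup_dvd_card (T : Subgroup K)))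
  interval_cases n
  · rw [hn, pow_zero] at h1
    exact absurd (Nat.dvd_one.1 h1) (Fact.out : ℓ.Prime).ne_one
  · rw [hn, pow_one]

theorem five_normalizer_bound (T : Sylow 5 (Equiv.Perm (Fin 5))) [Fact (Nat.Prime 5)] :
    20 ≤ Nat.card ↥(normalizer ((T : Subgroup (Equiv.Perm (Fin 5))) : Set (Equiv.Perm (Fin 5)))) := by
  have hK : Nat.card (Equiv.Perm (Fin 5)) = 120 := by rw [Nat.card_perm, Nat.card_fin]; rfl
  have hc := card_sylow_of_prime T (by rw [hK]; norm_num) (by rw [hK]; norm_num)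
  have hi := (T : Subgroup (Equiv.Perm (Fin 5))).card_mul_index
  rw [hc, hK] at hi
  exact le_sylow_normalizer T (i := 24) (by omega) hK (by decide) (by decide)

theorem seven_normalizer_bound (T : Sylow 7 SL32) [Fact (Nat.Prime 7)] :
    21 ≤ Nat.card ↥(normalizer ((T : Subgroup SL32) : Set SL32)) := by
  have hK : Nat.card SL32 = 168 := DihedralCentTools.sl32.2
  have hc := card_sylow_of_prime T (by rw [hK]; norm_num) (by rw [hK]; norm_num)
  have hi := (T : Subgroup SL32).card_mul_index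
  rw [hc, hK] at hi
  exact le_sylow_normalizer T (i := 24) (by omega) hK (by decide) (by decide)

/-- A surjection with kernel prime to `ℓ` maps `N(T)` onto `N(f T)`. -/
theorem map_normalizer_surj {N K : Type*} [Group N] [Group K] [Finite N] {ℓ : ℕ} [Fact ℓ.Prime]
    (f : N →* K) (hf : Function.Surjective f) (hk : (Nat.card ↥f.ker).Coprime ℓ) {T : Subgroup N}
    (hT : IsPGroup ℓ ↥T) :
    (normalizer (T : Set N)).map f = normalizer (T.map f : Set K) := by
  have e : f = (QuotientGroup.quotientKerEquivOfSurjective f hf).toMonoidHom.comp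
      (QuotientGroup.mk' f.ker) := by
    ext x; rfl
  rw [e, ← map_map, PCore.map_normalizer_mk' f.ker hk hT, map_equiv_normalizer_eq, map_map]

theorem prod_normalizer_le {A B : Type*} [Group A] [Group B] (T : Subgroup A) :
    (normalizer (T : Set A)).prod (⊤ : Subgroup B) ≤
      normalizer ((T.prod (⊥ : Subgroup B)) : Set (A × B)) := by
  rintro ⟨a, b⟩ ⟨ha, -⟩
  refine mem_normalizer_iff.2 fun x => ?_
  simp only [Subgroup.mem_prod, mem_bot, Prod.fst_mul, Prod.snd_mul, Prod.fst_inv, Prod.snd_inv]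
  exact and_congr (mem_normalizer_iff.1 ha x.1) conj_eq_one_iff.symm

theorem prod_normalizer_le' {A B : Type*} [Group A] [Group B] (T : Subgroup B) :
    (⊤ : Subgroup A).prod (normalizer (T : Set B)) ≤
      normalizer (((⊥ : Subgroup A).prod T) : Set (A × B)) := by
  rintro ⟨a, b⟩ ⟨-, hb⟩
  refine mem_normalizer_iff.2 fun x => ?_
  simp only [Subgroup.mem_prod, mem_bot, Prod.fst_mul, Prod.snd_mul, Prod.fst_inv, Prod.snd_inv]
  exact and_congr conj_eq_one_iff.symm (mem_normalizer_iff.1 hb x.2)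

namespace Ctx

variable [Finite G] (Γ : Ctx z P) {g p : G} (ht : Tri z P g p)

include Γ ht

theorem card_normB (hQ : QuotFact AutM22) :
    Nat.card ↥(normalizer (trB z g p : Set G)) = 2 ^ 15 * 20160 := by
  obtain ⟨Φ, hΦ, hker, -, -⟩ := Γ.exists_proj ht hQ
  have hk : Φ.ker = (Γ.locL g p).subgroupOf (normalizer (trB z g p : Set G)) := by
    ext n; exact hker n
  have h := Φ.ker.card_mul_index
  rw [index_ker, MonoidHom.range_eq_top.2 hΦ, card_top, hk,
    Nat.card_congr (subgroupOfEquivOfLe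
      (Γ.locL_le_cenB.trans (LocalStructure.centralizer_le_normalizer _))).toEquiv,
    Γ.card_locL ht, Nat.card_prod, DihedralCentTools.sl32.2, Nat.card_perm, Nat.card_fin] at h
  rw [← h]; rfl

/-- A subgroup of order 5 of `N(B)` centralises `B` and has its normaliser in `N(B)`. -/
theorem five_local (hQ : QuotFact AutM22) (h5 : FiveFacts z) (Q : Subgroup G) (hQ5 : Nat.card ↥Q = 5)
    (hQN : Q ≤ normalizer (trB z g p : Set G)) :
    Q ≤ cenB z g p ∧ normalizer (Q : Set G) ≤ normalizer (trB z g p : Set G) := by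
  have : Fact (Nat.Prime 5) := ⟨by norm_num⟩
  set N := normalizer (trB z g p : Set G) with hN
  obtain ⟨Φ, hΦ, hker, -, hsnd⟩ := Γ.exists_proj ht hQ
  set T := Q.subgroupOf N with hT
  have hTc : Nat.card ↥T = 5 := by rw [Nat.card_congr (subgroupOfEquivOfLe hQN).toEquiv, hQ5]
  have hpow : ∀ x ∈ T, x ^ 5 = 1 := fun x hx => by
    have := pow_card_eq_one' (x := (⟨x, hx⟩ : ↥T))
    rw [hTc] at this
    exact congrArg Subtype.val this
  have hsnd1 : ∀ x ∈ T, (Φ x).2 = 1 := fun x hx => by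
    have h1 : (Φ x).2 ^ 5 = 1 := by rw [← Prod.pow_snd, ← map_pow, hpow x hx, map_one]; rfl
    have h2 : (Φ x).2 ^ 168 = 1 := by rw [← DihedralCentTools.sl32.2]; exact pow_card_eq_one'
    have := pow_gcd_eq_one.2 ⟨h1, h2⟩
    simpa using this
  have hQC : Q ≤ cenB z g p := fun x hx =>
    (hsnd ⟨x, hQN hx⟩).1 (hsnd1 _ (mem_subgroupOf.2 hx))
  obtain ⟨-, -, hNQ⟩ := h5 Q hQ5 (hQC.trans cenB_le_H)
  refine ⟨hQC, ?_⟩
  have hkerc : Nat.card ↥Φ.ker = 2 ^ 15 := by
    have hk : Φ.ker = (Γ.locL g p).subgroupOf N := by ext n; exact hker n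
    rw [hk, Nat.card_congr (subgroupOfEquivOfLe
      (Γ.locL_le_cenB.trans (LocalStructure.centralizer_le_normalizer _))).toEquiv, Γ.card_locL ht]
  have hT' : IsPGroup 5 ↥T := IsPGroup.of_card (n := 1) (by rw [hTc, pow_one])
  have hmap := map_normalizer_surj Φ hΦ (by rw [hkerc]; norm_num) hT'
  -- the image is a Sylow subgroup of the first factor
  set T1 := T.map ((MonoidHom.fst _ _).comp Φ) with hT1
  have hTeq : T.map Φ = T1.prod ⊥ := by
    refine le_antisymm ?_ ?_
    · rintro _ ⟨x, hx, rfl⟩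
      exact ⟨⟨x, hx, rfl⟩, hsnd1 x hx⟩
    · rintro ⟨a, b⟩ ⟨⟨x, hx, rfl⟩, hb⟩
      exact ⟨x, hx, Prod.ext rfl ((hsnd1 x hx).trans (mem_bot.1 hb).symm)⟩
  have hinj : Function.Injective (((MonoidHom.fst _ _).comp Φ).subgroupMap T) := by
    rw [injective_iff_map_eq_one]
    intro x hx
    have h1 : (x : ↥N) ∈ Φ.ker :=
      Prod.ext (congrArg Subtype.val hx) (hsnd1 x x.2)
    have h2 : orderOf (x : ↥N) ∣ 5 := orderOf_dvd_of_pow_eq_one (hpow x x.2)
    have h3 : orderOf (x : ↥N) ∣ 2 ^ 15 := by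
      rw [← hkerc, ← Subgroup.orderOf_mk _ h1]; exact orderOf_dvd_natCard _
    have h4 := Nat.dvd_gcd h2 h3
    exact Subtype.ext (orderOf_eq_one_iff.1 (Nat.dvd_one.1 (by simpa using h4)))
  have hT1c : Nat.card ↥T1 = 5 := by
    exact (Nat.card_eq_of_bijective _ ⟨hinj, MonoidHom.subgroupMap_surjective _ _⟩).symm.trans hTc
  have hperm : Nat.card (Equiv.Perm (Fin 5)) = 5 * 24 := by rw [Nat.card_perm, Nat.card_fin]; rfl
  have hb := five_normalizer_bound (Sylow.ofCard T1 (by
    rw [hT1c, hperm, Nat.factorization_mul (by norm_num) (by norm_num), Finsupp.add_apply,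
      Nat.Prime.factorization_self (by norm_num), Nat.factorization_eq_zero_of_not_dvd (by norm_num),
      add_zero, pow_one]))
  rw [Sylow.coe_ofCard] at hb
  set R := normalizer (T : Set ↥N) with hR
  have himg : 20 * 168 ≤ Nat.card ↥(R.map Φ) := by
    rw [hmap, hTeq]
    refine le_trans ?_ (card_le_of_le (prod_normalizer_le T1))
    rw [Nat.card_congr (prodEquiv _ _).toEquiv, Nat.card_prod, card_top, DihedralCentTools.sl32.2]
    exact Nat.mul_le_mul_right _ hb
  -- `B` lies in the kernel part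
  have hB8 : 8 ≤ Nat.card ↥(Φ.ker ⊓ R) := by
    obtain ⟨Fr, -⟩ := Γ.exists_frame ht
    refine le_trans ?_ (card_le_of_le (H := (trB z g p).subgroupOf N) ?_)
    · rw [Nat.card_congr (subgroupOfEquivOfLe le_normalizer).toEquiv, Fr.card]
    · intro b hb
      refine ⟨(hker b).2 (Γ.trB_le_locL ht (mem_subgroupOf.1 hb)), ?_⟩
      refine centralizer_le_normalizer (T : Set ↥N) fun x hx => Subtype.ext ?_
      exact (hQC (mem_subgroupOf.1 hx) b (mem_subgroupOf.1 hb)).symm
  have hRc : 8 * (20 * 168) ≤ Nat.card ↥R := by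
    have h := ((Φ.comp R.subtype).ker).card_mul_index
    rw [index_ker, MonoidHom.range_comp, range_subtype] at h
    have e : Nat.card ↥(Φ.comp R.subtype).ker = Nat.card ↥(Φ.ker ⊓ R) :=
      Nat.card_congr ⟨fun x => ⟨x.1.1, x.2, x.1.2⟩, fun y => ⟨⟨y.1, y.2.2⟩, y.2.1⟩,
        fun _ => rfl, fun _ => rfl⟩
    rw [e] at h
    rw [← h]
    exact Nat.mul_le_mul hB8 himg
  have hle : (R.map N.subtype) ≤ normalizer (Q : Set G) := by
    have h := le_normalizer_map (H := T) N.subtype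
    rwa [hT, map_subgroupOf_eq_of_le hQN] at h
  have heq : R.map N.subtype = normalizer (Q : Set G) := by
    refine eq_of_le_of_card_ge hle ?_
    rw [hNQ, card_map_of_injective N.subtype_injective]
    exact le_trans (by norm_num) hRc
  rw [← heq]
  exact map_subtype_le _

/-- A subgroup of order 7 of `N(B)`: its normaliser is in `N(B)` and its centraliser contains `S₅`. -/
theorem seven_local (hQ : QuotFact AutM22) (h7 : SevenFacts z) (S : Subgroup G) (hS7 : Nat.card ↥S = 7)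
    (hSN : S ≤ normalizer (trB z g p : Set G)) :
    ¬ (49 ∣ Nat.card G) ∧ normalizer (S : Set G) ≤ normalizer (trB z g p : Set G) ∧
    (∃ I : Subgroup G, I ≤ normalizer (S : Set G) ∧ Nonempty (↥I ≃* Equiv.Perm (Fin 5))) ∧
    ∀ x ∈ Γ.locL g p, (∀ y ∈ S, Commute x y) → x = 1 := by
  have : Fact (Nat.Prime 7) := ⟨by norm_num⟩
  set N := normalizer (trB z g p : Set G) with hN
  obtain ⟨x0, hx0⟩ := exists_prime_orderOf_dvd_card' (G := ↥(centralizer ({z} : Set G))) 7
    (by rw [Γ.S.card_H]; norm_num)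
  set S0 := zpowers (x0 : G) with hS0
  have hS0c : Nat.card ↥S0 = 7 := by rw [Nat.card_zpowers, Subgroup.orderOf_coe, hx0]
  obtain ⟨h49, ⟨I0, hI0, ⟨e0⟩⟩, hN0⟩ := h7 S0 hS0c (zpowers_le.2 x0.2)
  refine ⟨h49, ?_⟩
  have h49' : ¬ 7 ^ 2 ∣ Nat.card G := by norm_num; exact h49
  have hs : ∀ X : Subgroup G, Nat.card ↥X = 7 → ∃ T : Sylow 7 G, (T : Subgroup G) = X := by
    intro X hX
    obtain ⟨T, hT⟩ := (IsPGroup.of_card (p := 7) (n := 1) (by rw [hX, pow_one])).exists_le_sylow
    refine ⟨T, (eq_of_le_of_card_ge hT ?_).symm⟩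
    rw [hX, card_sylow_of_prime T (hX ▸ card_subgroup_dvd_card X) h49']
  obtain ⟨T0, hT0⟩ := hs S0 hS0c
  obtain ⟨T', hT'⟩ := hs S hS7
  obtain ⟨a, ha⟩ := MulAction.exists_smul_eq G T0 T'
  have hconj : S = S0.map (MulAut.conj a).toMonoidHom := by
    rw [← hT', ← ha, Sylow.coe_subgroup_smul, hT0]; rfl
  have hNS : Nat.card ↥(normalizer (S : Set G)) = 2520 := by
    rw [hconj, ← map_equiv_normalizer_eq, card_map_of_injective (MulAut.conj a).injective, hN0]
    norm_num
  have hIN : I0.map (MulAut.conj a).toMonoidHom ≤ normalizer (S : Set G) := by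
    rw [hconj, ← map_equiv_normalizer_eq]
    exact map_mono ((hI0.2.1).trans (centralizer_le_normalizer _))
  suffices hmain : normalizer (S : Set G) ≤ N ∧
      ∀ x ∈ Γ.locL g p, (∀ y ∈ S, Commute x y) → x = 1 from
    ⟨hmain.1, ⟨_, hIN, ⟨((I0.equivMapOfInjective _ (MulAut.conj a).injective).symm).trans e0⟩⟩, hmain.2⟩
  obtain ⟨Φ, hΦ, hker, -, -⟩ := Γ.exists_proj ht hQ
  set T := S.subgroupOf N with hT
  have hTc : Nat.card ↥T = 7 := by rw [Nat.card_congr (subgroupOfEquivOfLe hSN).toEquiv, hS7]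
  have hkerc : Nat.card ↥Φ.ker = 2 ^ 15 := by
    have hk : Φ.ker = (Γ.locL g p).subgroupOf N := by ext n; exact hker n
    rw [hk, Nat.card_congr (subgroupOfEquivOfLe
      (Γ.locL_le_cenB.trans (LocalStructure.centralizer_le_normalizer _))).toEquiv, Γ.card_locL ht]
  have hpow : ∀ x ∈ T, x ^ 7 = 1 := fun x hx => by
    have := pow_card_eq_one' (x := (⟨x, hx⟩ : ↥T))
    rw [hTc] at this
    exact congrArg Subtype.val this
  have hfst1 : ∀ x ∈ T, (Φ x).1 = 1 := fun x hx => by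
    have h1 : (Φ x).1 ^ 7 = 1 := by rw [← Prod.pow_fst, ← map_pow, hpow x hx, map_one]; rfl
    have h2 : (Φ x).1 ^ 120 = 1 := by
      rw [show 120 = Nat.card (Equiv.Perm (Fin 5)) by rw [Nat.card_perm, Nat.card_fin]; rfl]
      exact pow_card_eq_one'
    have := pow_gcd_eq_one.2 ⟨h1, h2⟩
    simpa using this
  have hT' : IsPGroup 7 ↥T := IsPGroup.of_card (n := 1) (by rw [hTc, pow_one])
  have hmap := map_normalizer_surj Φ hΦ (by rw [hkerc]; norm_num) hT'
  set T1 := T.map ((MonoidHom.snd _ _).comp Φ) with hT1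
  have hTeq : T.map Φ = (⊥ : Subgroup _).prod T1 := by
    refine le_antisymm ?_ ?_
    · rintro _ ⟨x, hx, rfl⟩
      exact ⟨hfst1 x hx, ⟨x, hx, rfl⟩⟩
    · rintro ⟨b, c⟩ ⟨hb, ⟨x, hx, rfl⟩⟩
      exact ⟨x, hx, Prod.ext ((hfst1 x hx).trans (mem_bot.1 hb).symm) rfl⟩
  have hinj : Function.Injective (((MonoidHom.snd _ _).comp Φ).subgroupMap T) := by
    rw [injective_iff_map_eq_one]
    intro x hx
    have h1 : (x : ↥N) ∈ Φ.ker :=
      Prod.ext (hfst1 x x.2) (congrArg Subtype.val hx)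
    have h2 : orderOf (x : ↥N) ∣ 7 := orderOf_dvd_of_pow_eq_one (hpow x x.2)
    have h3 : orderOf (x : ↥N) ∣ 2 ^ 15 := by
      rw [← hkerc, ← Subgroup.orderOf_mk _ h1]; exact orderOf_dvd_natCard _
    have h4 := Nat.dvd_gcd h2 h3
    exact Subtype.ext (orderOf_eq_one_iff.1 (Nat.dvd_one.1 (by simpa using h4)))
  have hT1c : Nat.card ↥T1 = 7 := by
    exact (Nat.card_eq_of_bijective _ ⟨hinj, MonoidHom.subgroupMap_surjective _ _⟩).symm.trans hTc
  have hsl : Nat.card SL32 = 7 * 24 := DihedralCentTools.sl32.2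
  have hb := seven_normalizer_bound (Sylow.ofCard T1 (by
    rw [hT1c, hsl, Nat.factorization_mul (by norm_num) (by norm_num), Finsupp.add_apply,
      Nat.Prime.factorization_self (by norm_num), Nat.factorization_eq_zero_of_not_dvd (by norm_num),
      add_zero, pow_one]))
  rw [Sylow.coe_ofCard] at hb
  set R := normalizer (T : Set ↥N) with hR
  have himg : 120 * 21 ≤ Nat.card ↥(R.map Φ) := by
    rw [hmap, hTeq]
    refine le_trans ?_ (card_le_of_le (prod_normalizer_le' T1))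
    rw [Nat.card_congr (prodEquiv _ _).toEquiv, Nat.card_prod, card_top, Nat.card_perm, Nat.card_fin]
    exact Nat.mul_le_mul_left _ hb
  have hle : (R.map N.subtype) ≤ normalizer (S : Set G) := by
    have h := le_normalizer_map (H := T) N.subtype
    rwa [hT, map_subgroupOf_eq_of_le hSN] at h
  have heq : R.map N.subtype = normalizer (S : Set G) := by
    refine eq_of_le_of_card_ge hle ?_
    rw [hNS, card_map_of_injective N.subtype_injective]
    exact himg.trans (Nat.le_of_dvd Nat.card_pos (card_map_dvd R Φ))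
  refine ⟨heq ▸ map_subtype_le _, fun x hx hxS => ?_⟩
  have hRc : Nat.card ↥R = 2520 := by
    rw [← card_map_of_injective N.subtype_injective (K := R), heq, hNS]
  have hmul := ((Φ.comp R.subtype).ker).card_mul_index
  rw [index_ker, MonoidHom.range_comp, range_subtype, hRc] at hmul
  have h1 : Nat.card ↥(Φ.comp R.subtype).ker = 1 := by
    by_contra h
    have h2 : 2 ≤ Nat.card ↥(Φ.comp R.subtype).ker :=
      lt_of_le_of_ne Nat.card_pos (Ne.symm h)
    have := Nat.mul_le_mul h2 himg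
    omega
  have hxN : x ∈ N := LocalStructure.centralizer_le_normalizer _ (Γ.locL_le_cenB hx)
  have hxR : (⟨x, hxN⟩ : ↥N) ∈ R := centralizer_le_normalizer (T : Set ↥N) fun y hy =>
    Subtype.ext (hxS y (mem_subgroupOf.1 hy)).eq.symm
  have hxk : (⟨⟨x, hxN⟩, hxR⟩ : ↥R) ∈ (Φ.comp R.subtype).ker := (hker ⟨x, hxN⟩).2 hx
  rw [eq_bot_of_card_eq _ h1, mem_bot] at hxk
  exact congrArg (fun y : ↥R => ((y : ↥N) : G)) hxk

/-- `L` has no complement in `N(B)`. -/
theorem no_complement (hQ : QuotFact AutM22) (h5 : FiveFacts z)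
    (K : Subgroup ↥(normalizer (trB z g p : Set G))) :
    ¬ ((Γ.locL g p).subgroupOf (normalizer (trB z g p : Set G))).IsComplement' K := by
  intro hK
  have : Fact (Nat.Prime 5) := ⟨by norm_num⟩
  obtain ⟨Φ, hΦ, hker, -, hsnd⟩ := Γ.exists_proj ht hQ
  have hbij : Function.Bijective (Φ.comp K.subtype) := by
    refine ⟨(injective_iff_map_eq_one _).2 fun k hk => ?_, fun y => ?_⟩
    · have h1 : (k : ↥(normalizer (trB z g p : Set G))) ∈ (Γ.locL g p).subgroupOf (normalizer (trB z g p : Set G)) := (hker k).1 hk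
      exact Subtype.ext (disjoint_def.1 hK.disjoint h1 k.2)
    · obtain ⟨n, rfl⟩ := hΦ y
      obtain ⟨⟨l, k⟩, hlk⟩ := hK.2 n
      have hlk' : (l : ↥(normalizer (trB z g p : Set G))) * (k : ↥(normalizer (trB z g p : Set G))) = n := hlk
      refine ⟨k, ?_⟩
      show Φ k = Φ n
      rw [← hlk', map_mul, (hker l).2 (mem_subgroupOf.1 l.2), one_mul]
  let ε : ↥K ≃* Equiv.Perm (Fin 5) × SL32 := MulEquiv.ofBijective _ hbij
  let κ : Equiv.Perm (Fin 5) × SL32 →* G := (normalizer (trB z g p : Set G)).subtype.comp (K.subtype.comp ε.symm.toMonoidHom)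
  have hκ : Function.Injective κ :=
    (normalizer (trB z g p : Set G)).subtype_injective.comp (K.subtype_injective.comp ε.symm.injective)
  obtain ⟨σ, hσ⟩ := exists_prime_orderOf_dvd_card' (G := Equiv.Perm (Fin 5)) 5
    (by rw [Nat.card_perm, Nat.card_fin]; decide)
  set Q := zpowers (κ (σ, 1)) with hQdef
  have hQ5 : Nat.card ↥Q = 5 := by
    rw [Nat.card_zpowers, orderOf_injective κ hκ, Prod.orderOf_mk, hσ, orderOf_one]; rfl
  obtain ⟨hQC, -⟩ := Γ.five_local ht hQ h5 Q hQ5 (zpowers_le.2 (K.subtype (ε.symm (σ, 1))).2)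
  obtain ⟨-, ⟨J, ⟨hQJ1, hJC, hcomm, hdis, hsup⟩, E8, hE8, -, hE8c, ⟨eJ⟩, hsplit⟩, -⟩ :=
    h5 Q hQ5 (hQC.trans cenB_le_H)
  let T := κ.comp (MonoidHom.inr (Equiv.Perm (Fin 5)) SL32)
  have hT : Function.Injective T := hκ.comp fun A B h => congrArg Prod.snd h
  have hTC : T.range ≤ centralizer (Q : Set G) := by
    rintro _ ⟨A, rfl⟩ x hx
    obtain ⟨n, rfl⟩ := mem_zpowers_iff.1 hx
    refine (Commute.zpow_left ?_ n).eq
    exact (show Commute ((σ, 1) : Equiv.Perm (Fin 5) × SL32) (1, A) from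
      Prod.ext (Commute.one_right σ) (Commute.one_left A)).map κ
  have hsimple := DihedralCentTools.sl32
  have hperf : ⁅T.range, T.range⁆ = T.range := by
    rw [MonoidHom.range_eq_map, ← map_commutator]
    congr 1
    have := hsimple.1
    refine ((inferInstance : Subgroup.Normal (⁅(⊤ : Subgroup SL32), (⊤ : Subgroup SL32)⁆)).eq_bot_or_eq_top).resolve_left fun h => ?_
    have hc : ∀ a b : SL32, a * b = b * a := fun a b => commutatorElement_eq_one_iff_mul_comm.1
      (mem_bot.1 (h ▸ commutator_mem_commutator (mem_top a) (mem_top b)))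
    have : Fact (Nat.Prime 7) := ⟨by norm_num⟩
    obtain ⟨a, ha⟩ := exists_prime_orderOf_dvd_card' (G := SL32) 7 (by rw [hsimple.2]; norm_num)
    rcases IsSimpleGroup.eq_bot_or_eq_top_of_normal (zpowers a)
      ⟨fun x hx b => by rwa [hc b x, mul_inv_cancel_right]⟩ with h' | h'
    · rw [zpowers_eq_bot] at h'; rw [h', orderOf_one] at ha; omega
    · have hc' := Nat.card_zpowers a
      rw [h', card_top, hsimple.2, ha] at hc'; omega
  have hTJ : T.range ≤ J := by
    rw [← hperf]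
    refine (commutator_mono hTC hTC).trans ?_
    rw [← hsup, commutator_le]
    intro a ha b hb
    have hJn : J ≤ centralizer (Q : Set G) := hJC
    have hQn : Q ≤ centralizer (J : Set G) := fun x hx y hy => (hcomm x hx y hy).symm
    obtain ⟨a1, ha1, a2, ha2, rfl⟩ : ∃ a1 ∈ Q, ∃ a2 ∈ J, a1 * a2 = a := by
      have : a ∈ ((Q ⊔ J : Subgroup G) : Set G) := ha
      rw [coe_mul_of_left_le_normalizer_right Q J (hQn.trans (centralizer_le_normalizer _))] at this
      exact this
    obtain ⟨b1, hb1, b2, hb2, rfl⟩ : ∃ b1 ∈ Q, ∃ b2 ∈ J, b1 * b2 = b := by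
      have : b ∈ ((Q ⊔ J : Subgroup G) : Set G) := hb
      rw [coe_mul_of_left_le_normalizer_right Q J (hQn.trans (centralizer_le_normalizer _))] at this
      exact this
    have c1 : Commute a1 b2 := hcomm a1 ha1 b2 hb2
    have c2 : Commute a2 b1 := (hcomm b1 hb1 a2 ha2).symm
    have c3 : Commute a1 b1 := by
      have : IsCyclic ↥Q := isCyclic_of_prime_card (p := 5) hQ5
      exact congrArg Subtype.val ((IsCyclic.commGroup (α := ↥Q)).mul_comm ⟨a1, ha1⟩ ⟨b1, hb1⟩)
    have c4 : Commute a1 a2 := hcomm a1 ha1 a2 ha2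
    have c5 : Commute b1 b2 := hcomm b1 hb1 b2 hb2
    have e : ⁅a1 * a2, b1 * b2⁆ = ⁅a2, b2⁆ := by
      simp only [commutatorElement_def, mul_inv_rev]
      calc a1 * a2 * (b1 * b2) * (a2⁻¹ * a1⁻¹) * (b2⁻¹ * b1⁻¹)
          = a1 * (a2 * b1) * b2 * a2⁻¹ * (a1⁻¹ * b2⁻¹) * b1⁻¹ := by group
        _ = a1 * b1 * (a2 * b2 * a2⁻¹ * b2⁻¹) * (a1⁻¹ * b1⁻¹) := by
            rw [c2.eq, (c1.inv_left.inv_right).eq]; group
        _ = (a1 * b1) * (a2 * b2 * a2⁻¹ * b2⁻¹) * (a1 * b1)⁻¹ := by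
            rw [c3.eq, mul_inv_rev]
        _ = a2 * b2 * a2⁻¹ * b2⁻¹ := by
            have hm : a2 * b2 * a2⁻¹ * b2⁻¹ ∈ J :=
              mul_mem (mul_mem (mul_mem ha2 hb2) (inv_mem ha2)) (inv_mem hb2)
            rw [hcomm (a1 * b1) (mul_mem ha1 hb1) _ hm, mul_inv_cancel_right]
    rw [e, commutatorElement_def]
    exact mul_mem (mul_mem (mul_mem ha2 hb2) (inv_mem ha2)) (inv_mem hb2)
  let T' : SL32 →* ↥J := T.codRestrict J fun A => hTJ ⟨A, rfl⟩
  have hT' : Function.Injective T' := fun A B h => by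
    have e := congrArg (fun x : ↥J => (x : G)) h
    exact hT e
  have hTc : Nat.card ↥T'.range = 168 := by
    rw [← hsimple.2]
    exact (Nat.card_congr (MonoidHom.ofInjective hT').toEquiv).symm
  refine hsplit T'.range (isComplement'_of_card_mul_and_disjoint ?_ ?_)
  · rw [hE8c, hTc, card_eq_card_quotient_mul_card_subgroup E8, Nat.card_congr eJ.toEquiv, hsimple.2, hE8c]
  · have := hsimple.1
    rcases IsSimpleGroup.eq_bot_or_eq_top_of_normal (E8.comap T') inferInstance with h | h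
    · rw [disjoint_def]
      rintro _ hx ⟨A, rfl⟩
      have : A ∈ E8.comap T' := hx
      rw [h, mem_bot] at this
      rw [this, map_one]
    · exfalso
      have hle : T'.range ≤ E8 := by
        rintro _ ⟨A, rfl⟩
        exact (h ▸ mem_top A : A ∈ E8.comap T')
      have := card_le_of_le hle
      omega

end Ctx

end Cfsg.Agent.JankoFour
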