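import Cfsg.Agent.Lib.JankoFour.AutElem
import Cfsg.Agent.Lib.JankoFour.NormB

/-!
# `N(U)/U ≅ S₅` for the elementary subgroups of order 32 of `Aut M₂₂`

The normaliser of the standard one fixes the two pairs `{23, 0}`, `{1, 2}` and permutes the five
other tetrads of the sextet through them.
-/

set_option autoImplicit false
set_option maxRecDepth 100000

namespace Cfsg.Agent.JankoFour.Quot

open Cfsg Subgroup Cfsg.Agent.Mathieu

/-- The index of the tetrad of a point (5 outside). -/
def bix (x : ℕ) : ℕ :=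
  [5, 5, 5, 0, 1, 0, 2, 2, 3, 4, 4, 3, 3, 1, 0, 4, 1, 0, 3, 2, 4, 2, 1, 5].getD x 5

/-- A representative of each tetrad. -/
def brep (i : ℕ) : ℕ := [3, 4, 6, 8, 9].getD i 0

theorem bix_brep : ∀ i : Fin 5, bix (brep i.val) = i.val ∧ brep i.val < 24 := by decide

theorem block_ok : ((prodList 24 nearLevels).all fun l =>
    ((List.range 5).all fun i => decide (bix (app l (brep i)) < 5)) &&
    ((List.range 24).all fun x => bix x == 5 || bix (app l x) == bix (app l (brep (bix x))))) = true := by
  decide +kernel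

theorem block_ker : ((prodList 24 nearLevels).all fun l =>
    (List.range 5).any (fun i => !(bix (app l (brep i)) == i)) ||
      Data.elemList.contains (canonNum l)) = true := by
  decide +kernel

theorem block_elem : (Data.elemList.all fun l =>
    (List.range 5).all fun i => bix (app l (brep i)) == i) = true := by
  decide +kernel

/-- An element inducing a five-cycle on the tetrads. -/
def cycElt : ℕ := 0x17070b030c090413110d060a0f050e140812101516020100

/-- An element inducing a transposition on the tetrads. -/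
def swapElt : ℕ := 0x17110609070b0d0e0f0403080c0a14121513100516010200

theorem gens_ok : (normList Data.elemList cycElt && normList Data.elemList swapElt &&
    ((List.range 5).all fun i => bix (app cycElt (brep i)) == (i + 1) % 5) &&
    ((List.range 5).all fun i => bix (app swapElt (brep i)) == [1, 0, 2, 3, 4].getD i 5)) = true := by
  decide +kernel

/-- The normaliser of the standard subgroup. -/
abbrev NN : Subgroup ↥pairGrp := normalizer (elemGrp : Set ↥pairGrp)

/-- The action on the tetrads. -/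
def bmap (g : ↥NN) (i : Fin 5) : Fin 5 :=
  ⟨bix (ptEnc ((g.1 : Equiv.Perm GolayPt) (idx ptEnc (brep i.val)))).val % 5, Nat.mod_lt _ (by norm_num)⟩

theorem bmap_rep {g : ↥NN} {l : ℕ} (hr : Rep ptEnc (g.1 : Equiv.Perm GolayPt) l) (i : Fin 5) :
    (bmap g i).val = bix (app l (brep i.val)) % 5 := by
  show bix _ % 5 = _
  rw [hr, idx_val (bix_brep i).2]

theorem bmap_spec (g : ↥NN) {x : ℕ} (hx : x < 24) (h5 : bix x < 5) :
    bix (ptEnc ((g.1 : Equiv.Perm GolayPt) (idx ptEnc x))).val = (bmap g ⟨bix x, h5⟩).val := by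
  obtain ⟨l, hl, hr⟩ := near_list (near_of_normalizer g.2)
  have h := List.all_eq_true.1 block_ok l hl
  simp only [Bool.and_eq_true, List.all_eq_true, List.mem_range, decide_eq_true_eq, Bool.or_eq_true,
    beq_iff_eq] at h
  rw [bmap_rep hr, Nat.mod_eq_of_lt (h.1 _ h5), hr, idx_val hx]
  exact (h.2 x hx).resolve_left (by omega)

theorem bmap_mul (g h : ↥NN) (i : Fin 5) : bmap (g * h) i = bmap g (bmap h i) := by
  set y := (h.1 : Equiv.Perm GolayPt) (idx ptEnc (brep i.val)) with hy
  have hi := (bix_brep i).1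
  have hh : bix (ptEnc y).val = (bmap h i).val := by
    have := bmap_spec h (bix_brep i).2 (by rw [hi]; exact i.2)
    rw [this]
    congr 2
    exact Fin.ext hi
  have hg := bmap_spec g (x := (ptEnc y).val) (Fin.isLt _) (by rw [hh]; exact (bmap h i).2)
  rw [idx_self] at hg
  refine Fin.ext ?_
  show bix (ptEnc ((g.1 : Equiv.Perm GolayPt) y)).val % 5 = _
  rw [hg, Nat.mod_eq_of_lt (Fin.isLt _)]
  congr 2
  exact Fin.ext hh

theorem bmap_one (i : Fin 5) : bmap 1 i = i := by
  refine Fin.ext ?_
  show bix (ptEnc (idx ptEnc (brep i.val))).val % 5 = i.val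
  rw [idx_val (bix_brep i).2, (bix_brep i).1, Nat.mod_eq_of_lt i.2]

/-- The action as a homomorphism. -/
def bhom : ↥NN →* Equiv.Perm (Fin 5) where
  toFun g := ⟨bmap g, bmap g⁻¹, fun i => by rw [← bmap_mul, inv_mul_cancel, bmap_one],
    fun i => by rw [← bmap_mul, mul_inv_cancel, bmap_one]⟩
  map_one' := Equiv.ext bmap_one
  map_mul' g h := Equiv.ext (bmap_mul g h)

theorem bhom_surjective : Function.Surjective bhom := by
  have h := gens_ok
  simp only [Bool.and_eq_true, List.all_eq_true, List.mem_range, beq_iff_eq] at h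
  obtain ⟨⟨⟨hc, hs⟩, hci⟩, hsi⟩ := h
  have hmk : ∀ l, normList Data.elemList l = true → ∃ g : ↥NN, Rep ptEnc (g.1 : Equiv.Perm GolayPt) l := by
    intro l hl
    have hl' := hl
    simp only [normList, Bool.and_eq_true] at hl'
    obtain ⟨μ, hμ⟩ := exists_rep_pair hl'.1.1
    exact ⟨⟨μ, normList_spec hμ hl⟩, hμ⟩
  obtain ⟨c, hcr⟩ := hmk _ hc
  obtain ⟨s, hsr⟩ := hmk _ hs
  have e1 : bhom c = finRotate 5 := Equiv.ext fun i => Fin.ext (by
    show (bmap c i).val = _
    rw [bmap_rep hcr, hci i.val i.2]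
    fin_cases i <;> rfl)
  have e2 : bhom s = Equiv.swap (0 : Fin 5) (finRotate 5 0) := Equiv.ext fun i => Fin.ext (by
    show (bmap s i).val = _
    rw [bmap_rep hsr, hsi i.val i.2]
    fin_cases i <;> rfl)
  have htop := Equiv.Perm.closure_cycle_adjacent_swap (isCycle_finRotate (n := 3))
    (support_finRotate (n := 3)) (0 : Fin 5)
  rw [← MonoidHom.range_eq_top, eq_top_iff, ← htop, closure_le]
  intro x hx
  simp only [Set.mem_insert_iff, Set.mem_singleton_iff] at hx
  rcases hx with rfl | rfl
  exacts [⟨c, e1⟩, ⟨s, e2⟩]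

theorem bhom_ker : bhom.ker = elemGrp.subgroupOf NN := by
  ext g
  rw [MonoidHom.mem_ker, mem_subgroupOf]
  constructor
  · intro hg
    obtain ⟨l, hl, hr⟩ := near_list (near_of_normalizer g.2)
    have h := List.all_eq_true.1 block_ker l hl
    have hok := List.all_eq_true.1 block_ok l hl
    simp only [Bool.and_eq_true, Bool.or_eq_true, List.any_eq_true, List.all_eq_true, List.mem_range,
      Bool.not_eq_true', beq_eq_false_iff_ne, List.contains_iff_mem, decide_eq_true_eq] at h hok
    rcases h with ⟨i, hi, hne⟩ | h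
    · exfalso
      have e := congrArg Fin.val (congrArg (fun σ : Equiv.Perm (Fin 5) => σ ⟨i, hi⟩) hg)
      have e' : (bmap g ⟨i, hi⟩).val = i := e
      rw [bmap_rep hr, Nat.mod_eq_of_lt (hok.1 i hi)] at e'
      exact hne e'
    · rw [mem_elemGrp, canon_eq hr]; exact h
  · intro hg
    refine Equiv.ext fun i => Fin.ext ?_
    show (bmap g i).val = i.val
    rw [bmap_rep (rep_canon _)]
    have h := List.all_eq_true.1 block_elem _ (mem_elemGrp.1 hg)
    simp only [List.all_eq_true, List.mem_range, beq_iff_eq] at h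
    rw [h i.val i.2, Nat.mod_eq_of_lt i.2]

/-- The statement for one subgroup. -/
def QuotAt {K : Type*} [Group K] (U : Subgroup K) : Prop :=
  ∃ φ : ↥(normalizer (U : Set K)) →* Equiv.Perm (Fin 5),
    Function.Surjective φ ∧ φ.ker = U.subgroupOf (normalizer (U : Set K))

theorem QuotAt.map {K K' : Type*} [Group K] [Group K'] {U : Subgroup K} (h : QuotAt U) (e : K ≃* K') :
    QuotAt (U.map e.toMonoidHom) := by
  obtain ⟨φ, hφ, hk⟩ := h
  let r : ↥(normalizer ((U.map e.toMonoidHom : Subgroup K') : Set K')) →* ↥(normalizer (U : Set K)) :=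
    (e.symm.toMonoidHom.comp (Subgroup.subtype _)).codRestrict _ fun n => by
      exact (mem_map_e e).1 ((SetLike.ext_iff.1 (normalizer_map_equiv e U) _).1 n.2)
  refine ⟨φ.comp r, hφ.comp fun n => ⟨⟨e n, ?_⟩, Subtype.ext (e.symm_apply_apply _)⟩, ?_⟩
  · rw [normalizer_map_equiv e, mem_map_e e, e.symm_apply_apply]; exact n.2
  · ext n
    rw [← MonoidHom.comap_ker, hk, mem_comap, mem_subgroupOf, mem_subgroupOf, mem_map_e e]
    rfl

/-- `N(U)/U ≅ S₅` in `Aut M₂₂`. -/
theorem quotFact : QuotFact AutM22 := by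
  intro U hU
  set U' := U.map pairEquiv.symm.toMonoidHom with hU'
  have hU'32 := hU.map pairEquiv.symm
  obtain ⟨c, hc⟩ := (elem_cases U' hU'32.1).2 hU'32.2
  have h1 := (QuotAt.map (U := elemGrp) ⟨bhom, bhom_surjective, bhom_ker⟩ (MulAut.conj c⁻¹)).map pairEquiv
  have e1 : (elemGrp.map (MulAut.conj c⁻¹).toMonoidHom).map pairEquiv.toMonoidHom = U := by
    rw [← hc, hU', map_map, map_map, map_map]
    ext x
    simp [mul_assoc]
  rwa [e1] at h1

end Cfsg.Agent.JankoFour.Quot
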