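import Cfsg.Agent.Lib.JankoFour.NormBK2
import Cfsg.Agent.Lib.JankoFour.QuotCert
import Cfsg.Agent.Lib.JankoFour.AutFacts
import Cfsg.Prelude.Def_JankoFourType

/-!
# Janko-four type: the two-local subgroup `N(B)`, given the facts on the subgroups of orders 5 and 7
-/

set_option autoImplicit false

namespace Cfsg.Agent.JankoFour

open Subgroup

/-- A subgroup of prime order `ℓ` with `ℓ² ∤ |G|` is a Sylow subgroup. -/
theorem exists_sylow_eq {G : Type*} [Group G] [Finite G] {ℓ : ℕ} [Fact ℓ.Prime] {Q : Subgroup G}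
    (hQ : Nat.card ↥Q = ℓ) (h2 : ¬ ℓ ^ 2 ∣ Nat.card G) : ∃ T : Sylow ℓ G, (T : Subgroup G) = Q := by
  obtain ⟨T, hT⟩ := (IsPGroup.of_card (p := ℓ) (n := 1) (by rw [hQ, pow_one])).exists_le_sylow
  refine ⟨T, (eq_of_le_of_card_ge hT ?_).symm⟩
  rw [hQ, card_sylow_of_prime T (hQ ▸ card_subgroup_dvd_card Q) h2]

/-- The conclusion of S5574, given the facts on the subgroups of orders 5 and 7. -/
theorem pentad_two_local {G : Type*} [Group G] [Finite G] [IsSimpleGroup G] {z : G} {P : Subgroup G}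
    (h : Cfsg.IsOfJankoFourTypeWith z P) (h5 : FiveFacts z) (h7 : SevenFacts z) :
    ∃ L : Subgroup G, Cfsg.IsSpecial 2 ↥L ∧ Nat.card ↥L = 2 ^ 15 ∧ Nat.card ↥(Subgroup.center ↥L) = 8 ∧
    Nonempty (↥(Subgroup.normalizer (L : Set G)) ⧸ L.subgroupOf (Subgroup.normalizer (L : Set G)) ≃* Equiv.Perm (Fin 5) × Matrix.SpecialLinearGroup (Fin 3) (ZMod 2)) ∧
    (∀ K : Subgroup ↥(Subgroup.normalizer (L : Set G)), ¬ (L.subgroupOf (Subgroup.normalizer (L : Set G))).IsComplement' K) ∧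
    (∃ K₁ : Subgroup G, K₁ ≤ Subgroup.normalizer (L : Set G) ∧ Nonempty (↥K₁ ≃* Equiv.Perm (Fin 5))) ∧
    (∃ K₂ : Subgroup G, K₂ ≤ Subgroup.normalizer (L : Set G) ∧ Nonempty (↥K₂ ≃* Matrix.SpecialLinearGroup (Fin 3) (ZMod 2))) ∧
    (∃ Q : Sylow 5 G, Subgroup.normalizer ((Q : Subgroup G) : Set G) ≤ Subgroup.normalizer (L : Set G)) ∧
    (∃ S : Sylow 7 G, Subgroup.normalizer ((S : Subgroup G) : Set G) ≤ Subgroup.normalizer (L : Set G)) := by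
  have : Fact (Nat.Prime 5) := ⟨by norm_num⟩
  have : Fact (Nat.Prime 7) := ⟨by norm_num⟩
  have F := autFacts
  obtain ⟨S⟩ := exists_setting F h
  obtain ⟨g, hs, hne⟩ := exists_conj_mem_core S F
  let Γ : Ctx z P := ⟨S, F, fixBound S F⟩
  obtain ⟨p, hp, hp1⟩ := Γ.exists_generator
  have ht : Tri z P g p := ⟨⟨hs, hne⟩, hp, hp1⟩
  have hQ : QuotFact AutM22 := Quot.quotFact
  have hN := Γ.normalizer_locL ht hQ
  have H : ∀ N' : Subgroup G, N' = normalizer (trB z g p : Set G) →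
      (∃ Φ : ↥N' →* Equiv.Perm (Fin 5) × Matrix.SpecialLinearGroup (Fin 3) (ZMod 2),
        Function.Surjective Φ ∧ Φ.ker = (Γ.locL g p).subgroupOf N') ∧
      ∀ K : Subgroup ↥N', ¬ ((Γ.locL g p).subgroupOf N').IsComplement' K := by
    rintro _ rfl
    obtain ⟨Φ, hΦ, hker, -, -⟩ := Γ.exists_proj ht hQ
    exact ⟨⟨Φ, hΦ, Subgroup.ext hker⟩, Γ.no_complement ht hQ h5⟩
  obtain ⟨⟨Φ, hΦ, hker⟩, hno⟩ := H _ hN
  refine ⟨Γ.locL g p, Γ.isSpecial_locL ht hQ, Γ.card_locL ht, Γ.card_center_locL ht hQ,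
    ⟨(QuotientGroup.quotientMulEquivOfEq hker.symm).trans
      (QuotientGroup.quotientKerEquivOfSurjective Φ hΦ)⟩, hno, ?_⟩
  rw [hN]
  have hcard := Γ.card_normB ht hQ
  obtain ⟨x7, hx7⟩ := exists_prime_orderOf_dvd_card' (G := ↥(normalizer (trB z g p : Set G))) 7
    (by rw [hcard]; norm_num)
  obtain ⟨x5, hx5⟩ := exists_prime_orderOf_dvd_card' (G := ↥(normalizer (trB z g p : Set G))) 5
    (by rw [hcard]; norm_num)
  have c7 : Nat.card ↥(zpowers (x7 : G)) = 7 := by rw [Nat.card_zpowers, Subgroup.orderOf_coe, hx7]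
  have c5 : Nat.card ↥(zpowers (x5 : G)) = 5 := by rw [Nat.card_zpowers, Subgroup.orderOf_coe, hx5]
  obtain ⟨h49, hN7, ⟨I, hI, hIe⟩, -⟩ := Γ.seven_local ht hQ h7 _ c7 (zpowers_le.2 x7.2)
  obtain ⟨hC5, hN5⟩ := Γ.five_local ht hQ h5 _ c5 (zpowers_le.2 x5.2)
  obtain ⟨h25, -, -⟩ := h5 _ c5 (hC5.trans cenB_le_H)
  obtain ⟨T5, hT5⟩ := exists_sylow_eq c5 (by norm_num; exact h25)
  obtain ⟨T7, hT7⟩ := exists_sylow_eq c7 (by norm_num; exact h49)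
  exact ⟨⟨I, hI.trans hN7, hIe⟩, Γ.exists_sl32_local ht hQ h7, ⟨T5, hT5 ▸ hN5⟩, ⟨T7, hT7 ▸ hN7⟩⟩

end Cfsg.Agent.JankoFour
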