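import Cfsg.Agent.Lib.JankoFour.NormB
import Cfsg.Agent.Lib.JankoFour.EightSL
import Cfsg.Agent.Lib.JankoFour.Pair

/-!
# Janko-four type: the normaliser of `B` modulo `L`

`exists_move`: `trM` is transitive on the involutions of `B`.  `exists_trM_mu`: `trM` induces all of `SL(3, 2)`.
`trM_inf_cenB_le`: `trM ∩ C(B) ≤ L`.  `exists_proj`: `N(B)/L ≅ S₅ × SL(3, 2)`.
-/

set_option autoImplicit false
set_option linter.unusedSectionVars false

namespace Cfsg.Agent.JankoFour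

open Subgroup
open scoped commutatorElement
open LargeExtraspecial (Hub Pair mem_conj_iff mem_four)

variable {G : Type*} [Group G] {z : G} {P : Subgroup G}

namespace Ctx

variable [Finite G] (Γ : Ctx z P) {g p : G} (ht : Tri z P g p)

include Γ ht

theorem exists_frame : ∃ Fr : Eight.Frame (trB z g p), Fr.e (Pi.single 0 1) = z ∧
    Fr.e (Pi.single 1 1) = g * z * g⁻¹ ∧ Fr.e (Pi.single 2 1) = p * (g * z * g⁻¹) * p⁻¹ := by
  obtain ⟨n1, n2, n3, n4⟩ := Γ.s'_ne ht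
  exact Eight.exists_frame Γ.S.hub.sq (Γ.s_sq ht) (Γ.s'_sq ht)
    (Γ.S.hub.central _ ht.pt.mem).symm (Γ.S.hub.central _ (Γ.s'_mem_core ht)).symm (Γ.s_s'_comm ht)
    Γ.S.hub.ne_one (Γ.s_ne_one ht) ht.pt.ne n1 n2 n3 n4

/-- `trM` is transitive on the involutions of `B`. -/
theorem exists_move {b : G} (hb : b ∈ trB z g p) (hb1 : b ≠ 1) :
    ∃ k ∈ trM z P g, k * z * k⁻¹ = b := by
  obtain ⟨f, hf, hfs⟩ := LargeFischer.Loc.exists_flip Γ.S.hub ht.pt.mem (Γ.s_ne_one ht) ht.pt.ne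
  set s := g * z * g⁻¹ with hs
  have hfz : f * (z * s) * f⁻¹ = s := by
    rw [show f * (z * s) * f⁻¹ = (f * z * f⁻¹) * (f * s * f⁻¹) by group, hfs,
      (Γ.S.hub.central f hf).eq, mul_inv_cancel_right, (Γ.S.hub.central s ht.pt.mem).eq, ← mul_assoc,
      Γ.S.hub.sq, one_mul]
  have hfM : f ∈ trM z P g := mem_sup_left (mem_sup_left hf)
  obtain ⟨q, hq, -, -, -, -, hfree, -⟩ := Γ.exists_rot ht
  have hqM : q ∈ trM z P g := mem_sup_left hq
  have hqz : ∃ k ∈ trM z P g, k * z * k⁻¹ = s := by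
    rcases (Γ.pair ht.pt).mem_V_iff.1 (Γ.conj_four ht hq (subset_closure (Set.mem_insert _ _))) with e | e | e | e
    · exact absurd (conj_eq_one_iff.1 e) Γ.S.hub.ne_one
    · exact absurd (hfree z (subset_closure (Set.mem_insert _ _)) (mul_inv_eq_iff_eq_mul.1 e))
        Γ.S.hub.ne_one
    · exact ⟨q, hqM, e⟩
    · exact ⟨f * q, mul_mem hfM hqM, by
        rw [show f * q * z * (f * q)⁻¹ = f * (q * z * q⁻¹) * f⁻¹ by group, e, hfz]⟩
  by_cases hbz : b = z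
  · exact ⟨1, one_mem _, by rw [hbz]; group⟩
  obtain ⟨r, hr, hre⟩ := Γ.exists_rotate ht hb hb1 hbz
  have hrM : r ∈ trM z P g := mem_sup_right hr
  obtain ⟨k, hk, hkz⟩ := hqz
  rcases hre with e | e
  · refine ⟨r⁻¹ * k, mul_mem (inv_mem hrM) hk, ?_⟩
    rw [show r⁻¹ * k * z * (r⁻¹ * k)⁻¹ = r⁻¹ * (k * z * k⁻¹) * r by group, hkz, hs, ← e]
    group
  · refine ⟨r⁻¹ * f⁻¹ * k, mul_mem (mul_mem (inv_mem hrM) (inv_mem hfM)) hk, ?_⟩
    rw [show r⁻¹ * f⁻¹ * k * z * (r⁻¹ * f⁻¹ * k)⁻¹ = r⁻¹ * (f⁻¹ * (k * z * k⁻¹) * f) * r by group, hkz]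
    conv_lhs => rw [← hfz]
    rw [show r⁻¹ * (f⁻¹ * (f * (z * s) * f⁻¹) * f) * r = r⁻¹ * (z * s) * r by group, hs, ← e]
    group

/-- `trM` induces `SL(3, 2)` on `B`. -/
theorem exists_trM_mu (Fr : Eight.Frame (trB z g p))
    (A : Matrix.SpecialLinearGroup (Fin 3) (ZMod 2)) :
    ∃ n : ↥(normalizer (trB z g p : Set G)), (n : G) ∈ trM z P g ∧ Fr.mu n = A := by
  refine Fr.mu_surj ((trM z P g).subgroupOf (normalizer (trB z g p : Set G))) ?_ A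
  intro i j k hij hki hkj
  obtain ⟨n1, n2, n3, n4, n5⟩ := Eight.single_facts i j k hij hki hkj
  set a := Fr.e (Pi.single i 1) with ha
  have ne : ∀ {u : Fin 3 → ZMod 2}, u ≠ 0 → Fr.e u ≠ 1 := fun hu e =>
    hu (Fr.inj (e.trans Fr.zero.symm))
  obtain ⟨m, hm, hma⟩ := Γ.exists_move ht (Fr.mem (Pi.single i 1)) (ne n5)
  have hh := Γ.hub_pt m
  rw [hma] at hh
  have hN := Γ.trM_normalizes_trB ht hm
  have hle : ∀ v, Fr.e v ∈ conjE z m := fun v => mem_conj_iff.2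
    (Γ.trB_le_core ht ((mem_normalizer_iff''.1 hN _).1 (Fr.mem v)))
  obtain ⟨n, hn, hnk, hnj⟩ := LargeFischer.Loc.exists_commute_not hh (hle (Pi.single k 1))
    (hle (Pi.single j 1)) (Fr.sq _) (ne n1) (fun e => n2 (Fr.inj e)) (fun e => n3 (Fr.inj e))
    (fun e => n4 (Fr.inj (by rw [e, Fr.add])))
  have hnM : n ∈ trM z P g := by
    have h1 := mem_conj_iff.1 hn
    have h2 : m * (m⁻¹ * n * m) * m⁻¹ ∈ trM z P g :=
      mul_mem (mul_mem hm (mem_sup_left (mem_sup_left h1))) (inv_mem hm)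
    rwa [show m * (m⁻¹ * n * m) * m⁻¹ = n by group] at h2
  exact ⟨⟨n, Γ.trM_normalizes_trB ht hnM⟩, mem_subgroupOf.2 hnM, hh.central n hn, hnk, hnj⟩

omit ht in
/-- `N(B)` normalises `C(B)`. -/
theorem normalizer_le_normalizer_cenB :
    normalizer (trB z g p : Set G) ≤ normalizer (cenB z g p : Set G) :=
  LocalStructure.le_normalizer_centralizer le_rfl

/-- `N(B)` normalises `L`. -/
theorem normalizer_le_normalizer_locL (hQ : QuotFact AutM22) :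
    normalizer (trB z g p : Set G) ≤ normalizer (Γ.locL g p : Set G) := by
  rw [← Γ.pCore_cenB ht hQ]
  exact Γ.normalizer_le_normalizer_cenB.trans (LocalStructure.normalizer_le_normalizer_pCoreOf _)

theorem comm_locL (hQ : QuotFact AutM22) {u c : G} (hu : u ∈ trM z P g) (hc : c ∈ cenB z g p) :
    ⁅u, c⁆ ∈ Γ.locL g p :=
  Γ.pCore_cenB ht hQ ▸ Γ.comm_pCore ht hu hc

theorem trM_inf_cenB_le (hQ : QuotFact AutM22) : trM z P g ⊓ cenB z g p ≤ Γ.locL g p := by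
  intro x hx
  obtain ⟨φ, hφ, hker⟩ := Γ.exists_quot ht hQ
  have key : φ ⟨x, hx.2⟩ = 1 := permFive_center _ fun i => by
    obtain ⟨c, hc⟩ := hφ (Equiv.swap 0 i)
    have h1 : (⁅(⟨x, hx.2⟩ : ↥(cenB z g p)), c⁆) ∈ φ.ker := by
      rw [hker, mem_subgroupOf]
      exact Γ.comm_locL ht hQ hx.1 c.2
    rw [MonoidHom.mem_ker, map_commutatorElement, commutatorElement_eq_one_iff_mul_comm, hc] at h1
    exact h1.symm
  have hk : (⟨x, hx.2⟩ : ↥(cenB z g p)) ∈ φ.ker := key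
  rw [hker] at hk
  exact mem_subgroupOf.1 hk

/-- `N(B)/L ≅ S₅ × SL(3, 2)`. -/
theorem exists_proj (hQ : QuotFact AutM22) :
    ∃ Φ : ↥(normalizer (trB z g p : Set G)) →*
        Equiv.Perm (Fin 5) × Matrix.SpecialLinearGroup (Fin 3) (ZMod 2),
      Function.Surjective Φ ∧ (∀ n, Φ n = 1 ↔ (n : G) ∈ Γ.locL g p) ∧
      (∀ n : ↥(normalizer (trB z g p : Set G)), (n : G) ∈ trM z P g → (Φ n).1 = 1) ∧ (∀ n, (Φ n).2 = 1 ↔ (n : G) ∈ cenB z g p) := by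
  obtain ⟨φ, hφ, hker⟩ := Γ.exists_quot ht hQ
  obtain ⟨Fr, -, -, -⟩ := Γ.exists_frame ht
  set N := normalizer (trB z g p : Set G) with hN
  have hCN : cenB z g p ≤ N := LocalStructure.centralizer_le_normalizer _
  have hMN : trM z P g ≤ N := Γ.trM_normalizes_trB ht
  have hsplit : ∀ n : ↥N, ∃ m : ↥(trM z P g), (m : G)⁻¹ * n ∈ cenB z g p := by
    intro n
    obtain ⟨m, hm, hmu⟩ := Γ.exists_trM_mu ht Fr (Fr.mu n)
    refine ⟨⟨m, hm⟩, (Fr.mu_eq_one (m⁻¹ * n)).1 ?_⟩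
    rw [map_mul, map_inv, hmu, inv_mul_cancel]
  choose μ hμ using hsplit
  have hwd : ∀ (m : G) (hm : m ∈ trM z P g) (c : ↥(cenB z g p)) (n : ↥N), (n : G) = m * c →
      φ ⟨(μ n : G)⁻¹ * n, hμ n⟩ = φ c := by
    intro m hm c n hn
    have h1 : ((μ n : G)⁻¹ * m) ∈ trM z P g := mul_mem (inv_mem (μ n).2) hm
    have h2 : ((μ n : G)⁻¹ * m) ∈ cenB z g p := by
      have h := mul_mem (hμ n) (inv_mem c.2)
      rwa [hn, ← mul_assoc, mul_inv_cancel_right] at h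
    have h3 : φ ⟨_, h2⟩ = 1 := by
      rw [← MonoidHom.mem_ker, hker, mem_subgroupOf]
      exact Γ.trM_inf_cenB_le ht hQ ⟨h1, h2⟩
    have e : (⟨(μ n : G)⁻¹ * n, hμ n⟩ : ↥(cenB z g p)) = ⟨_, h2⟩ * c :=
      Subtype.ext (show (μ n : G)⁻¹ * n = (μ n : G)⁻¹ * m * c by rw [hn, mul_assoc])
    rw [e, map_mul, h3, one_mul]
  let ψ : ↥N →* Equiv.Perm (Fin 5) := MonoidHom.mk' (fun n => φ ⟨(μ n : G)⁻¹ * n, hμ n⟩) (by
    intro a b
    set ca : ↥(cenB z g p) := ⟨(μ a : G)⁻¹ * a, hμ a⟩ with hca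
    set cb : ↥(cenB z g p) := ⟨(μ b : G)⁻¹ * b, hμ b⟩ with hcb
    have hconj : (μ b : G)⁻¹ * ca * (μ b : G) ∈ cenB z g p := by
      have := (mem_normalizer_iff''.1 (Γ.normalizer_le_normalizer_cenB (hMN (μ b).2)) _).1 ca.2
      exact this
    have e1 : φ ⟨_, hconj⟩ = φ ca := by
      have h : (⟨_, hconj⟩ * ca⁻¹ : ↥(cenB z g p)) ∈ φ.ker := by
        rw [hker, mem_subgroupOf]
        have := Γ.comm_locL ht hQ (inv_mem (μ b).2) ca.2
        rwa [commutatorElement_def, inv_inv] at this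
      rwa [MonoidHom.mem_ker, map_mul, map_inv, mul_inv_eq_one] at h
    show φ _ = φ _ * φ _
    rw [hwd ((μ a : G) * μ b) (mul_mem (μ a).2 (μ b).2) (⟨_, hconj⟩ * cb) (a * b) (by
      simp [hca, hcb, mul_assoc]), map_mul, e1])
  have hψC : ∀ (c : ↥(cenB z g p)) (n : ↥N), (n : G) = c → ψ n = φ c := fun c n hn =>
    hwd 1 (one_mem _) c n (by rw [one_mul, hn])
  have hψM : ∀ n : ↥N, (n : G) ∈ trM z P g → ψ n = 1 := fun n hn => by
    rw [show ψ n = φ 1 from hwd n hn 1 n (by simp), map_one]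
  refine ⟨ψ.prod Fr.mu, ?_, fun n => ?_, fun n hn => hψM n hn, fun n => Fr.mu_eq_one n⟩
  · rintro ⟨σ, A⟩
    obtain ⟨c, hc⟩ := hφ σ
    obtain ⟨m, hm, hmA⟩ := Γ.exists_trM_mu ht Fr A
    have hcN : (⟨c, hCN c.2⟩ : ↥N) = ⟨(c : G), hCN c.2⟩ := rfl
    refine ⟨m * ⟨c, hCN c.2⟩, Prod.ext ?_ ?_⟩
    · show ψ (m * ⟨c, hCN c.2⟩) = σ
      rw [map_mul, hψM m hm, one_mul, hψC c _ rfl, hc]
    · show Fr.mu (m * ⟨c, hCN c.2⟩) = A
      rw [map_mul, (Fr.mu_eq_one ⟨(c : G), hCN c.2⟩).2 c.2, mul_one, hmA]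
  · constructor
    · intro h
      have hc : (n : G) ∈ cenB z g p := (Fr.mu_eq_one n).1 (congrArg Prod.snd h)
      have h2 : φ ⟨n, hc⟩ = 1 := (hψC ⟨n, hc⟩ n rfl).symm.trans (congrArg Prod.fst h)
      rw [← MonoidHom.mem_ker, hker] at h2
      exact mem_subgroupOf.1 h2
    · intro h
      have hc := Γ.locL_le_cenB h
      refine Prod.ext ?_ ((Fr.mu_eq_one n).2 hc)
      show ψ n = 1
      rw [hψC ⟨n, hc⟩ n rfl, ← MonoidHom.mem_ker, hker, mem_subgroupOf]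
      exact h

end Ctx

end Cfsg.Agent.JankoFour
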