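import Cfsg.Agent.Lib.JankoFour.NormBQuot
import Cfsg.Agent.Lib.PGroup.Frattini
import Cfsg.Prelude.Def_Transfer

/-!
# Janko-four type: `L = O₂(C(B))` is special with centre `B`

`mem_trB_of_all`: an element lying in all `trM`-conjugates of `E` is in `B`.  `isSpecial_locL`,
`card_center_locL`, `normalizer_locL` (`N(L) = N(B)`).
-/

set_option autoImplicit false
set_option linter.unusedSectionVars false

namespace Cfsg.Agent.JankoFour

open Subgroup
open scoped commutatorElement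
open LargeExtraspecial (Hub Pair mem_conj_iff mem_four)

variable {G : Type*} [Group G] {z : G} {P : Subgroup G}

namespace Ctx

variable [Finite G] (Γ : Ctx z P) {g p : G} (ht : Tri z P g p)

include Γ ht

theorem trB_le_locL : trB z g p ≤ Γ.locL g p := fun b hb =>
  Γ.mem_locL.2 ⟨fun _ hc => (Γ.trB_comm ht hb hc).eq.symm, by
    rw [Γ.ph_core (Γ.trB_le_core ht hb)]; exact one_mem _⟩

omit ht in
theorem core_cenB_le_locL : coreE z ⊓ cenB z g p ≤ Γ.locL g p := fun x hx =>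
  Γ.mem_locL.2 ⟨hx.2, by rw [Γ.ph_core hx.1]; exact one_mem _⟩

/-- An element in all the `trM`-conjugates of `E` is in `B`. -/
theorem mem_trB_of_all {d : G} (hd : ∀ k ∈ trM z P g, k⁻¹ * d * k ∈ coreE z) : d ∈ trB z g p := by
  obtain ⟨q, hq, k, hk, -, -, -, r, hr, hr1, hkr⟩ := Γ.exists_rot ht
  obtain ⟨k1, hk1, hk1s⟩ := Γ.exists_move ht (s_mem_trB (z := z) (p := p)) (Γ.s_ne_one ht)
  have hdE : d ∈ coreE z := by simpa using hd 1 (one_mem _)
  -- the conjugates by `trM` lie in `E ∩ E^g`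
  have hW : ∀ m ∈ trM z P g, m⁻¹ * d * m ∈ coreE z ⊓ conjE z g := by
    intro m hm
    refine Subgroup.mem_inf.2 ⟨hd m hm, mem_conj_iff.2 ?_⟩
    have h1 := hd (m * k1) (mul_mem hm hk1)
    have hc : Commute (g⁻¹ * k1) z := by
      show g⁻¹ * k1 * z = z * (g⁻¹ * k1)
      calc g⁻¹ * k1 * z = g⁻¹ * (k1 * z * k1⁻¹) * k1 := by group
        _ = g⁻¹ * (g * z * g⁻¹) * k1 := by rw [hk1s]
        _ = z * (g⁻¹ * k1) := by group
    have h2 := Γ.S.hub.normalizes _ hc _ h1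
    rwa [show g⁻¹ * k1 * ((m * k1)⁻¹ * d * (m * k1)) * (g⁻¹ * k1)⁻¹ = g⁻¹ * (m⁻¹ * d * m) * g by group]
      at h2
  -- `r` centralises `d` modulo `B`
  have hbB : r * d * r⁻¹ * d⁻¹ ∈ trB z g p := by
    have h1 := Γ.four_le_trB ht (Γ.move ht hq (hW k⁻¹ (inv_mem hk)))
    rw [inv_inv] at h1
    have h2 := (mem_normalizer_iff''.1 (Γ.trM_normalizes_trB ht hk) _).1 h1
    rwa [show k⁻¹ * (q * (k * d * k⁻¹) * q⁻¹ * (k * d * k⁻¹)⁻¹) * k =
      r * d * r⁻¹ * d⁻¹ by rw [← hkr]; group] at h2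
  obtain ⟨b, hb⟩ : ∃ b, b = r * d * r⁻¹ * d⁻¹ := ⟨_, rfl⟩
  obtain ⟨b1, hb1⟩ : ∃ b1, b1 = r * b * r⁻¹ := ⟨_, rfl⟩
  obtain ⟨b2, hb2⟩ : ∃ b2, b2 = r * b1 * r⁻¹ := ⟨_, rfl⟩
  rw [← hb] at hbB
  have hrB := Γ.P_normalizes_trB ht hr
  have hb1B : b1 ∈ trB z g p := hb1 ▸ (mem_normalizer_iff.1 hrB _).1 hbB
  have hb2B : b2 ∈ trB z g p := hb2 ▸ (mem_normalizer_iff.1 hrB _).1 hb1B
  have h321 : b2 * b1 * b = 1 := by
    rw [hb2, hb1, hb]
    calc r * (r * (r * d * r⁻¹ * d⁻¹) * r⁻¹) * r⁻¹ * (r * (r * d * r⁻¹ * d⁻¹) * r⁻¹) * (r * d * r⁻¹ * d⁻¹)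
        = (r * (r * r)) * d * (r * (r * r))⁻¹ * d⁻¹ := by group
      _ = 1 := by rw [Γ.p_cube hr]; group
  have hfix : r * (b1 * d) * r⁻¹ = b1 * d := by
    have hsq : b1 * b1 = 1 := (Γ.pair ht.pt).E_sq (Γ.trB_le ht hb1B)
    have e1 : b2 * b = b1 := by
      have hbb : b * b = 1 := (Γ.pair ht.pt).E_sq (Γ.trB_le ht hbB)
      have e : b2 * b * b1 = 1 := by
        rw [mul_assoc, ← (Γ.trB_comm ht hb1B hbB).eq, ← mul_assoc, h321]
      exact (eq_inv_of_mul_eq_one_left e).trans (inv_eq_of_mul_eq_one_right hsq)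
    calc r * (b1 * d) * r⁻¹ = b2 * (r * d * r⁻¹ * d⁻¹) * d := by rw [hb2]; group
      _ = b1 * d := by rw [← hb, e1]
  have hv : b1 * d ∈ coreE z := mul_mem (Γ.trB_le_core ht hb1B) hdE
  have hvB : b1 * d ∈ trB z g p := by
    rcases Γ.eq_one_or_z_of_fixed hr hr1 hv (Or.inl hfix) with e | e <;> rw [e]
    exacts [one_mem _, z_mem_trB]
  have := mul_mem (inv_mem hb1B) hvB
  rwa [inv_mul_cancel_left] at this

theorem trM_le_normalizer_locL (hQ : QuotFact AutM22) :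
    trM z P g ≤ normalizer (Γ.locL g p : Set G) :=
  le_trans (Γ.trM_normalizes_trB ht) (Γ.normalizer_le_normalizer_locL ht hQ)

/-- `L/B` is elementary abelian. -/
theorem locL_mod_trB (hQ : QuotFact AutM22) {x y : G} (hx : x ∈ Γ.locL g p) (hy : y ∈ Γ.locL g p) :
    ⁅x, y⁆ ∈ trB z g p ∧ x * x ∈ trB z g p := by
  have hA := Γ.imgA_sq ht.pt
  have key : ∀ a ∈ Γ.locL g p, ∀ b ∈ Γ.locL g p, ⁅a, b⁆ ∈ coreE z ∧ a * a ∈ coreE z := by
    intro a ha b hb
    obtain ⟨haC, haA⟩ := Γ.mem_locL.1 ha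
    obtain ⟨hbC, hbA⟩ := Γ.mem_locL.1 hb
    have haH := cenB_le_H haC
    have hbH := cenB_le_H hbC
    have hcC : ⁅a, b⁆ ∈ cenB z g p := by
      rw [commutatorElement_def]
      exact mul_mem (mul_mem (mul_mem haC hbC) (inv_mem haC)) (inv_mem hbC)
    have hc1 : Γ.ph ⁅a, b⁆ = 1 := by
      rw [commutatorElement_def, Γ.ph_mul (mul_mem (mul_mem haH hbH) (inv_mem haH)) (inv_mem hbH),
        Γ.ph_conj haH hbH, Γ.ph_inv hbH, inv_eq_of_mul_eq_one_right (hA _ haA),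
        inv_eq_of_mul_eq_one_right (hA _ hbA)]
      have h := hA _ (mul_mem haA hbA)
      rw [← h]; group
    have hs1 : Γ.ph (a * a) = 1 := by rw [Γ.ph_mul haH haH, hA _ haA]
    exact ⟨Γ.mem_core_of_stab ht.pt.mem (Γ.s_ne_one ht) ht.pt.ne (cenB_le_H hcC) hc1
        (mem_cent_trB.1 hcC).2.1,
      Γ.mem_core_of_stab ht.pt.mem (Γ.s_ne_one ht) ht.pt.ne (mul_mem haH haH) hs1
        (mem_cent_trB.1 (mul_mem haC haC)).2.1⟩
  have hconj : ∀ k ∈ trM z P g, ∀ a ∈ Γ.locL g p, k⁻¹ * a * k ∈ Γ.locL g p := fun k hk a ha =>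
    (mem_normalizer_iff''.1 (Γ.trM_le_normalizer_locL ht hQ hk) a).1 ha
  refine ⟨Γ.mem_trB_of_all ht fun k hk => ?_, Γ.mem_trB_of_all ht fun k hk => ?_⟩
  · have := (key _ (hconj k hk x hx) _ (hconj k hk y hy)).1
    rwa [show ⁅k⁻¹ * x * k, k⁻¹ * y * k⁆ = k⁻¹ * ⁅x, y⁆ * k by
      simp only [commutatorElement_def]; group] at this
  · have := (key _ (hconj k hk x hx) _ (hconj k hk x hx)).2
    rwa [show k⁻¹ * x * k * (k⁻¹ * x * k) = k⁻¹ * (x * x) * k by group] at this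

/-- `L' = B`. -/
theorem commutator_locL (hQ : QuotFact AutM22) : ⁅Γ.locL g p, Γ.locL g p⁆ = trB z g p := by
  refine le_antisymm (commutator_le.2 fun a ha b hb => (Γ.locL_mod_trB ht hQ ha hb).1) fun b hb => ?_
  by_cases hb1 : b = 1
  · rw [hb1]; exact one_mem _
  obtain ⟨k, hk, rfl⟩ := Γ.exists_move ht hb hb1
  obtain ⟨x, hx, y, hy, hxy⟩ : ∃ x ∈ coreE z ⊓ cenB z g p, ∃ y ∈ coreE z ⊓ cenB z g p, x * y ≠ y * x := by
    by_contra hno
    push Not at hno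
    have h := Γ.abelian_card_le (a := 1) (X := coreE z ⊓ cenB z g p)
      (by rw [Γ.eq_conjE_one]; exact inf_le_left) hno
    rw [Γ.card_core_cenB ht] at h
    norm_num at h
  have e : ⁅x, y⁆ = z := by
    rw [commutatorElement_def]
    rcases Γ.comm_core hx.1 hy.1 with e | e
    · exact absurd (mul_inv_eq_iff_eq_mul.1 e) hxy
    · rw [e, mul_inv_cancel_right]
  have hkN := Γ.trM_le_normalizer_locL ht hQ hk
  have h := commutator_mem_commutator ((mem_normalizer_iff.1 hkN x).1 (Γ.core_cenB_le_locL hx))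
    ((mem_normalizer_iff.1 hkN y).1 (Γ.core_cenB_le_locL hy))
  rwa [show ⁅k * x * k⁻¹, k * y * k⁻¹⁆ = k * ⁅x, y⁆ * k⁻¹ by simp only [commutatorElement_def]; group,
    e] at h

/-- The centre of `L` is `B`. -/
theorem mem_center_locL (hQ : QuotFact AutM22) {x : G} :
    (x ∈ Γ.locL g p ∧ ∀ y ∈ Γ.locL g p, Commute x y) ↔ x ∈ trB z g p := by
  constructor
  · rintro ⟨hx, hc⟩
    have hxH := cenB_le_H (Γ.locL_le_cenB hx)
    have hxE : x ∈ coreE z := by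
      refine Γ.hb x hxH (Γ.trB_le_core ht (Γ.locL_mod_trB ht hQ hx hx).2) (coreE z ⊓ cenB z g p)
        inf_le_left (fun d hd => ?_) ?_
      · rw [commutatorElement_eq_one_iff_commute.2 (hc d (Γ.core_cenB_le_locL hd)).symm]
        exact one_mem _
      · rw [Γ.card_core_cenB ht]; norm_num
    exact Γ.S.hub.dcc _ (Γ.trB_le_core ht) z_mem_trB x hxE fun w hw hwB =>
      hc w (Γ.core_cenB_le_locL ⟨hw, fun b hb => (hwB b hb).eq.symm⟩)
  · intro hx
    exact ⟨Γ.trB_le_locL ht hx, fun y hy => (Γ.locL_le_cenB hy x hx)⟩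

theorem map_center_locL (hQ : QuotFact AutM22) :
    (center ↥(Γ.locL g p)).map (Γ.locL g p).subtype = trB z g p := by
  refine le_antisymm ?_ fun b hb => ⟨⟨b, Γ.trB_le_locL ht hb⟩, mem_center_iff.2 fun y =>
    Subtype.ext (((Γ.mem_center_locL ht hQ).2 hb).2 y y.2).eq.symm, rfl⟩
  rintro _ ⟨⟨x, hx⟩, hxc, rfl⟩
  exact (Γ.mem_center_locL ht hQ).1 ⟨hx, fun y hy =>
    (congrArg Subtype.val (mem_center_iff.1 hxc ⟨y, hy⟩)).symm⟩

theorem card_center_locL (hQ : QuotFact AutM22) : Nat.card ↥(center ↥(Γ.locL g p)) = 8 := by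
  obtain ⟨Fr, -⟩ := Γ.exists_frame ht
  rw [← card_map_of_injective (Γ.locL g p).subtype_injective (K := center ↥(Γ.locL g p)),
    Γ.map_center_locL ht hQ, Fr.card]

theorem isSpecial_locL (hQ : QuotFact AutM22) : Cfsg.IsSpecial 2 ↥(Γ.locL g p) := by
  have : Fact (Nat.Prime 2) := ⟨Nat.prime_two⟩
  have hp := Γ.isPGroup_locL ht
  have hc : commutator ↥(Γ.locL g p) = center ↥(Γ.locL g p) :=
    map_injective (Γ.locL g p).subtype_injective (by
      rw [map_subtype_commutator, Γ.map_center_locL ht hQ, Γ.commutator_locL ht hQ])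
  refine ⟨hp, le_antisymm (PGroup.frattini_le (p := 2) hc.le fun r => ?_)
    (hc.ge.trans (PGroup.commutator_le_frattini hp)), hc⟩
  have h : (r : G) * (r : G) ∈ (center ↥(Γ.locL g p)).map (Γ.locL g p).subtype := by
    rw [Γ.map_center_locL ht hQ]; exact (Γ.locL_mod_trB ht hQ r.2 r.2).2
  obtain ⟨w, hw, e⟩ := h
  rw [pow_two, show r * r = w from Subtype.ext e.symm]
  exact hw

/-- `N(L) = N(B)`. -/
theorem normalizer_locL (hQ : QuotFact AutM22) :
    normalizer (Γ.locL g p : Set G) = normalizer (trB z g p : Set G) := by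
  refine le_antisymm (fun n hn => LocalStructure.mem_normalizer_of_map_conj_le ?_)
    (Γ.normalizer_le_normalizer_locL ht hQ)
  rintro _ ⟨b, hb, rfl⟩
  obtain ⟨hbL, hbc⟩ := (Γ.mem_center_locL ht hQ).2 hb
  refine (Γ.mem_center_locL ht hQ).1 ⟨(mem_normalizer_iff.1 hn b).1 hbL, fun y hy => ?_⟩
  have hy' : n⁻¹ * y * n ∈ Γ.locL g p := (mem_normalizer_iff''.1 hn y).1 hy
  have h := (hbc _ hy').map (MulAut.conj n).toMonoidHom
  show Commute (n * b * n⁻¹) y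
  simpa [mul_assoc] using h

end Ctx

end Cfsg.Agent.JankoFour
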