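import Cfsg.Agent.Lib.JankoFour.Basic
import Cfsg.Agent.Lib.LargeExtraspecial.PairStructure
import Cfsg.Agent.Lib.PGroup.Extraspecial

/-!
# Janko-four type: a conjugate `s = g z g⁻¹ ≠ z` of `z` in `E`, first properties

`Ctx` bundles the hypotheses, `ph` is the map `H → Aut M₂₂` on elements of `G`, `imgA g` is the image
of `E^g ∩ H`.  Main facts: `card_facts` (`|E ∩ E^g| = 2^7`, `|imgA| = 32`), `orth`, `mem_conjE_of_fix`,
`fixed_four`, `exists_lift_normalizer` (`C_H(s)` maps onto `N(imgA)`).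
-/

set_option autoImplicit false
set_option linter.unusedSectionVars false

namespace Cfsg.Agent.JankoFour

open Subgroup
open scoped commutatorElement
open LargeExtraspecial (Hub Pair mem_conj_iff mem_four)

variable {G : Type*} [Group G] {z : G} {P : Subgroup G}

/-- The hypotheses of the pair argument. -/
structure Ctx (z : G) (P : Subgroup G) where
  S : Setting z P
  F : AutFacts innerM22
  hb : FixBound z

/-- `g z g⁻¹` is a conjugate of `z` in `E`, different from `z`. -/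
structure Pt (z g : G) : Prop where
  mem : g * z * g⁻¹ ∈ coreE z
  ne : g * z * g⁻¹ ≠ z

/-- `E^g`. -/
abbrev conjE (z g : G) : Subgroup G := (coreE z).map (MulAut.conj g).toMonoidHom

theorem mem_H {h : G} : h ∈ centralizer ({z} : Set G) ↔ Commute h z :=
  mem_centralizer_singleton_iff.trans Iff.rfl

theorem coreE_le_H : coreE z ≤ centralizer ({z} : Set G) := map_subtype_le _

theorem commutator_mem_iff (hz : z * z = 1) {a b : G} :
    ⁅a, b⁆ ∈ zpowers z ↔ a * b * a⁻¹ = b ∨ a * b * a⁻¹ = z * b := by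
  have key : ∀ c : G, c ∈ zpowers z ↔ c = 1 ∨ c = z := by
    intro c
    constructor
    · rintro ⟨n, rfl⟩
      rcases Int.even_or_odd n with ⟨m, rfl⟩ | ⟨m, rfl⟩
      · left; simp only [← two_mul, zpow_mul, zpow_two, hz, one_zpow]
      · right; simp only [zpow_add, zpow_one, zpow_mul, zpow_two, hz, one_zpow, one_mul]
    · rintro (rfl | rfl)
      exacts [one_mem _, mem_zpowers _]
  rw [key, commutatorElement_def, mul_inv_eq_one]
  exact or_congr Iff.rfl mul_inv_eq_iff_eq_mul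

/-- At most two values of the conjugates: the centraliser has index at most two. -/
theorem card_le_two_inf [Finite G] (K : Subgroup G) (e e' : G) (h : ∀ m ∈ K, m * e * m⁻¹ = e ∨ m * e * m⁻¹ = e') :
    Nat.card ↥K ≤ 2 * Nat.card ↥(K ⊓ centralizer ({e} : Set G)) := by
  have hidx : ((centralizer ({e} : Set G)).subgroupOf K).index ≤ 2 := by
    classical
    let f : ↥K → Bool := fun m => decide ((m : G) * e * (m : G)⁻¹ = e)
    have hf : Function.Injective
        (fun x : ↥K ⧸ (centralizer ({e} : Set G)).subgroupOf K => f x.out) := by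
      intro x y hxy
      rw [← QuotientGroup.out_eq' x, ← QuotientGroup.out_eq' y, QuotientGroup.eq, mem_subgroupOf,
        mem_centralizer_singleton_iff]
      have e2 : (x.out : G) * e * (x.out : G)⁻¹ = (y.out : G) * e * (y.out : G)⁻¹ := by
        have := decide_eq_decide.1 hxy
        by_cases hx : (x.out : G) * e * (x.out : G)⁻¹ = e
        · rw [hx, this.1 hx]
        · rw [(h _ x.out.2).resolve_left hx, (h _ y.out.2).resolve_left fun hy => hx (this.2 hy)]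
      simp only [Subgroup.coe_mul, Subgroup.coe_inv]
      calc (x.out : G)⁻¹ * y.out * e = (x.out : G)⁻¹ * ((y.out : G) * e * (y.out : G)⁻¹) * y.out := by group
        _ = (x.out : G)⁻¹ * ((x.out : G) * e * (x.out : G)⁻¹) * y.out := by rw [e2]
        _ = e * ((x.out : G)⁻¹ * y.out) := by group
    have := Nat.card_le_card_of_injective _ hf
    rwa [Nat.card_eq_fintype_card (α := Bool), Fintype.card_bool] at this
  have h2 := ((centralizer ({e} : Set G)).subgroupOf K).card_mul_index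
  have e3 : Nat.card ↥((centralizer ({e} : Set G)).subgroupOf K) =
      Nat.card ↥(K ⊓ centralizer ({e} : Set G)) := by
    rw [← inf_subgroupOf_left, Nat.card_congr (subgroupOfEquivOfLe inf_le_left).toEquiv]
  rw [← h2, e3, mul_comm]
  exact Nat.mul_le_mul_right _ hidx

namespace Ctx

variable [Finite G] (Γ : Ctx z P)

include Γ

open Classical in
/-- `H → Aut M₂₂` on elements of `G`. -/
noncomputable def ph (h : G) : AutM22 :=
  if hh : h ∈ centralizer ({z} : Set G) then Γ.S.pi ⟨h, hh⟩ else 1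

theorem ph_eq {h : G} (hh : h ∈ centralizer ({z} : Set G)) : Γ.ph h = Γ.S.pi ⟨h, hh⟩ := by
  rw [ph, dif_pos hh]

theorem ph_mul {h k : G} (hh : h ∈ centralizer ({z} : Set G)) (hk : k ∈ centralizer ({z} : Set G)) :
    Γ.ph (h * k) = Γ.ph h * Γ.ph k := by
  rw [Γ.ph_eq hh, Γ.ph_eq hk, Γ.ph_eq (mul_mem hh hk), ← map_mul]; rfl

theorem ph_one : Γ.ph 1 = 1 := by
  rw [Γ.ph_eq (one_mem _)]; exact map_one Γ.S.pi

theorem ph_inv {h : G} (hh : h ∈ centralizer ({z} : Set G)) : Γ.ph h⁻¹ = (Γ.ph h)⁻¹ := by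
  rw [Γ.ph_eq hh, Γ.ph_eq (inv_mem hh), ← map_inv]; rfl

theorem ph_conj {h k : G} (hh : h ∈ centralizer ({z} : Set G)) (hk : k ∈ centralizer ({z} : Set G)) :
    Γ.ph (h * k * h⁻¹) = Γ.ph h * Γ.ph k * (Γ.ph h)⁻¹ := by
  rw [Γ.ph_mul (mul_mem hh hk) (inv_mem hh), Γ.ph_mul hh hk, Γ.ph_inv hh]

theorem ph_core {e : G} (he : e ∈ coreE z) : Γ.ph e = 1 := by
  rw [Γ.ph_eq (coreE_le_H he), Γ.S.pi_eq_one]; exact mem_sup_left he

theorem ph_P {p : G} (hp : p ∈ P) : Γ.ph p = 1 := by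
  rw [Γ.ph_eq (Γ.S.P_le hp), Γ.S.pi_eq_one]; exact mem_sup_right hp

theorem exists_ph (a : AutM22) : ∃ h ∈ centralizer ({z} : Set G), Γ.ph h = a := by
  obtain ⟨⟨h, hh⟩, rfl⟩ := Γ.S.pi_surjective a
  exact ⟨h, hh, Γ.ph_eq hh⟩

theorem conj_core {h e : G} (hh : h ∈ centralizer ({z} : Set G)) (he : e ∈ coreE z) : h * e * h⁻¹ ∈ coreE z :=
  Γ.S.hub.normalizes h (mem_H.1 hh) e he

theorem P_le_normalizer : P ≤ normalizer (coreE z : Set G) := fun p hp =>
  Γ.S.le_normalizer_E (Γ.S.P_le hp)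

theorem exists_ep {h : G} (hh : h ∈ centralizer ({z} : Set G)) (h1 : Γ.ph h = 1) :
    ∃ e ∈ coreE z, ∃ p ∈ P, h = e * p := by
  rw [Γ.ph_eq hh, Γ.S.pi_eq_one] at h1
  have h2 : h ∈ ((coreE z ⊔ P : Subgroup G) : Set G) := h1
  rw [coe_mul_of_right_le_normalizer_left _ _ Γ.P_le_normalizer] at h2
  obtain ⟨e, he, p, hp, rfl⟩ := h2
  exact ⟨e, he, p, hp, rfl⟩

theorem p_cube {p : G} (hp : p ∈ P) : p * (p * p) = 1 := by
  have h := orderOf_dvd_natCard (⟨p, hp⟩ : ↥P)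
  rw [Γ.S.card_P, Subgroup.orderOf_mk] at h
  have := orderOf_dvd_iff_pow_eq_one.1 h
  rwa [pow_three] at this

theorem core_two : IsPGroup 2 ↥(coreE z) := IsPGroup.of_card Γ.S.card_E

theorem eq_one_of_mem_core {p : G} (hp : p ∈ P) (he : p ∈ coreE z) : p = 1 := by
  have : Fact (Nat.Prime 2) := ⟨Nat.prime_two⟩
  obtain ⟨k, hk⟩ := Γ.core_two ⟨p, he⟩
  have h3 : orderOf p ∣ 3 := orderOf_dvd_iff_pow_eq_one.2 (by rw [pow_three]; exact Γ.p_cube hp)
  have h2 : orderOf p ∣ 2 ^ k := orderOf_dvd_iff_pow_eq_one.2 (congrArg Subtype.val hk)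
  exact orderOf_eq_one_iff.1
    (Nat.dvd_one.1 (((Nat.coprime_primes Nat.prime_three Nat.prime_two).2 (by norm_num)).pow_right k ▸
      Nat.dvd_gcd h3 h2))

/-- An element with trivial image whose square is in `E` lies in `E`. -/
theorem mem_core_of_sq {h : G} (hh : h ∈ centralizer ({z} : Set G)) (h1 : Γ.ph h = 1) (h2 : h * h ∈ coreE z) :
    h ∈ coreE z := by
  obtain ⟨e, he, p, hp, rfl⟩ := Γ.exists_ep hh h1
  have hpC := Γ.S.P_le hp
  have hpp : p * p ∈ coreE z := by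
    have h3 : p * e * p⁻¹ ∈ coreE z := Γ.conj_core hpC he
    have : e * p * (e * p) = e * (p * e * p⁻¹) * (p * p) := by group
    rw [this] at h2
    exact ((coreE z).mul_mem_cancel_left (mul_mem he h3)).1 h2
  have hp1 : p * p = 1 := Γ.eq_one_of_mem_core (mul_mem hp hp) hpp
  have := Γ.p_cube hp
  rw [hp1, mul_one] at this
  rw [this, mul_one]; exact he

theorem hub_pt (g : G) : Hub (conjE z g) (g * z * g⁻¹) := Γ.S.hub.conj g

theorem comm_core {a b : G} (ha : a ∈ coreE z) (hb : b ∈ coreE z) : a * b * a⁻¹ = b ∨ a * b * a⁻¹ = z * b := by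
  rcases Γ.S.hub.comm a ha b hb with e | e
  · exact Or.inl e
  · exact Or.inr (by rw [e, (Γ.S.hub.central b hb).eq])

theorem eq_one_or_z_of_fixed {p v : G} (hp : p ∈ P) (hp1 : p ≠ 1) (hv : v ∈ coreE z)
    (hfix : p * v * p⁻¹ = v ∨ p * v * p⁻¹ = z * v) : v = 1 ∨ v = z := by
  have hpz : p * z * p⁻¹ = z := by rw [(mem_H.1 (Γ.S.P_le hp)).eq, mul_inv_cancel_right]
  have hc : p * v * p⁻¹ = v := by
    rcases hfix with e | e
    · exact e
    · have e2 : p * p * v * (p * p)⁻¹ = v := by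
        calc p * p * v * (p * p)⁻¹ = p * (p * v * p⁻¹) * p⁻¹ := by group
          _ = p * (z * v) * p⁻¹ := by rw [e]
          _ = (p * z * p⁻¹) * (p * v * p⁻¹) := by group
          _ = v := by rw [hpz, e, ← mul_assoc, Γ.S.hub.sq, one_mul]
      have h3 := Γ.p_cube hp
      have h4 : p⁻¹ = p * p := inv_eq_of_mul_eq_one_right h3
      rw [← h4, inv_inv] at e2
      calc p * v * p⁻¹ = p * (p⁻¹ * v * p) * p⁻¹ := by rw [e2]
        _ = v := by group
  have hPle : (P : Set G) ⊆ centralizer ({v} : Set G) := by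
    intro q hq
    have hcard : Nat.card ↥(P ⊓ centralizer ({v} : Set G)) ∣ 3 :=
      Γ.S.card_P ▸ card_dvd_of_le inf_le_left
    have hne : Nat.card ↥(P ⊓ centralizer ({v} : Set G)) ≠ 1 := fun h => hp1 (by
      have hm : p ∈ P ⊓ centralizer ({v} : Set G) :=
        ⟨hp, mem_centralizer_singleton_iff.2 (mul_inv_eq_iff_eq_mul.1 hc)⟩
      rw [eq_bot_of_card_eq _ h] at hm
      exact hm)
    have h3 := ((Nat.dvd_prime Nat.prime_three).1 hcard).resolve_left hne
    have : P ⊓ centralizer ({v} : Set G) = P := eq_of_le_of_card_ge inf_le_left (by rw [h3, Γ.S.card_P])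
    exact (this.symm ▸ hq : q ∈ P ⊓ centralizer ({v} : Set G)).2
  have hmem : v ∈ coreE z ⊓ centralizer (P : Set G) :=
    ⟨hv, mem_centralizer_iff.2 fun q hq => mem_centralizer_singleton_iff.1 (hPle hq)⟩
  rw [Γ.S.fix] at hmem
  obtain ⟨n, hn⟩ := mem_zpowers_iff.1 hmem
  rcases Int.even_or_odd n with ⟨m, rfl⟩ | ⟨m, rfl⟩
  · left; rw [← hn, ← two_mul, zpow_mul, zpow_two, Γ.S.hub.sq, one_zpow]
  · right; rw [← hn, zpow_add, zpow_one, zpow_mul, zpow_two, Γ.S.hub.sq, one_zpow, one_mul]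

variable {g : G} (hg : Pt z g)
include hg

theorem pair : Pair (coreE z) (conjE z g) z (g * z * g⁻¹) := by
  have hs2 : g * z * g⁻¹ * (g * z * g⁻¹) = 1 := (Γ.hub_pt g).sq
  exact Pair.of_conj Γ.S.hub g hg.mem hg.ne
    (Γ.S.hub.exists_noncommuting_pair (by rw [Γ.S.card_E]; norm_num) hg.mem hs2)

theorem z_mem : z ∈ conjE z g := (Γ.pair hg).hz

theorem pt_inv : Pt z g⁻¹ := by
  refine ⟨?_, fun e => hg.ne ?_⟩
  · have := mem_conj_iff.1 (Γ.z_mem hg)
    rwa [inv_inv]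
  · rw [inv_inv] at e
    calc g * z * g⁻¹ = g * (g⁻¹ * z * g) * g⁻¹ := by rw [e]
      _ = z := by group

/-- `(E^g ∩ H) → Aut M₂₂`. -/
noncomputable def homD (g : G) : ↥(conjE z g ⊓ centralizer ({z} : Set G)) →* AutM22 :=
  Γ.S.pi.comp (Subgroup.inclusion inf_le_right)

/-- The image of `E^g ∩ H`. -/
noncomputable def imgA (g : G) : Subgroup AutM22 := (Γ.homD g).range

omit hg in
theorem homD_apply (m : ↥(conjE z g ⊓ centralizer ({z} : Set G))) : Γ.homD g m = Γ.ph m := by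
  rw [Γ.ph_eq m.2.2]; rfl

theorem sq_mem_core {m : G} (hm : m ∈ conjE z g) : m * m ∈ coreE z := by
  rcases (Γ.hub_pt g).sq_cases m hm with e | e <;> rw [e]
  exacts [one_mem _, hg.mem]

theorem imgA_sq : ∀ a ∈ Γ.imgA g, a * a = 1 := by
  rintro _ ⟨m, rfl⟩
  rw [Γ.homD_apply, ← Γ.ph_mul m.2.2 m.2.2, Γ.ph_core (Γ.sq_mem_core hg m.2.1)]

theorem ph_mem_imgA {m : G} (hm : m ∈ conjE z g ⊓ centralizer ({z} : Set G)) : Γ.ph m ∈ Γ.imgA g :=
  ⟨⟨m, hm⟩, Γ.homD_apply _⟩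

theorem mem_core_of_ph {m : G} (hm : m ∈ conjE z g ⊓ centralizer ({z} : Set G)) (h1 : Γ.ph m = 1) :
    m ∈ coreE z :=
  Γ.mem_core_of_sq hm.2 h1 (Γ.sq_mem_core hg hm.1)

omit hg in
/-- An abelian subgroup of `E^a` has order at most `2^7`. -/
theorem abelian_card_le {a : G} {X : Subgroup G} (hX : X ≤ conjE z a)
    (hc : ∀ x ∈ X, ∀ y ∈ X, x * y = y * x) : Nat.card ↥X ≤ 2 ^ 7 := by
  have : Fact (Nat.Prime 2) := ⟨Nat.prime_two⟩
  have hX' : X.map (MulAut.conj a⁻¹).toMonoidHom ≤ coreE z := by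
    rintro _ ⟨x, hx, rfl⟩
    have := mem_conj_iff.1 (hX hx)
    simpa using this
  have h := PGroup.extraspecial_abelian_card_le Γ.S.extra
    (A := (X.map (MulAut.conj a⁻¹).toMonoidHom).subgroupOf (coreE z))
    ⟨⟨fun u v => by
      obtain ⟨x, hx, hxu⟩ := mem_map.1 (mem_subgroupOf.1 u.2)
      obtain ⟨y, hy, hyv⟩ := mem_map.1 (mem_subgroupOf.1 v.2)
      refine Subtype.ext (Subtype.ext ?_)
      show ((u.1 : G) * v.1) = v.1 * u.1
      rw [← hxu, ← hyv, ← map_mul, ← map_mul, hc x hx y hy]⟩⟩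
  rw [Nat.card_congr (subgroupOfEquivOfLe hX').toEquiv, card_map_of_injective (MulAut.conj a⁻¹).injective,
    Γ.S.card_E] at h
  nlinarith

/-- `|E ∩ E^g| = 2^7`, `|E^g ∩ H| = 2^12`, the image has order 32. -/
theorem card_facts : Nat.card ↥(coreE z ⊓ conjE z g) = 2 ^ 7 ∧
    Nat.card ↥(conjE z g ⊓ centralizer ({z} : Set G)) = 2 ^ 12 ∧ IsThirtyTwo (Γ.imgA g) := by
  set D := conjE z g ⊓ centralizer ({z} : Set G) with hD
  have hW : Nat.card ↥(coreE z ⊓ conjE z g) ≤ 2 ^ 7 :=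
    Γ.abelian_card_le (a := g) inf_le_right fun x hx y hy => (Γ.pair hg).E_commute hx hy
  have hEg : Nat.card ↥(conjE z g) = 2 ^ 13 := by
    rw [card_map_of_injective (MulAut.conj g).injective, Γ.S.card_E]
  have hD12 : 2 ^ 13 ≤ 2 * Nat.card ↥D := hEg ▸
    card_le_two_inf (conjE z g) z (z * (g * z * g⁻¹)) fun m hm => (Γ.hub_pt g).comm m hm z (Γ.z_mem hg)
  have hker : Nat.card ↥(Γ.homD g).ker = Nat.card ↥(coreE z ⊓ conjE z g) := by
    refine Nat.card_congr ⟨fun m => ⟨(m.1 : G), Γ.mem_core_of_ph hg m.1.2 ?_, m.1.2.1⟩,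
      fun w => ⟨⟨w.1, w.2.2, coreE_le_H w.2.1⟩, ?_⟩, fun _ => rfl, fun _ => rfl⟩
    · rw [← Γ.homD_apply]; exact m.2
    · rw [MonoidHom.mem_ker, Γ.homD_apply]; exact Γ.ph_core w.2.1
  have hmul := (Γ.homD g).ker.card_mul_index
  rw [Subgroup.index_ker, hker, show (Γ.homD g).range = Γ.imgA g from rfl] at hmul
  have h32 := Γ.F.elem_card (Γ.imgA g) (Γ.imgA_sq hg)
  have hDle : Nat.card ↥D ≤ 2 ^ 7 * 32 := hmul ▸ Nat.mul_le_mul hW h32
  have hD' : Nat.card ↥D = 2 ^ 12 := by omega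
  rw [← hD] at hmul
  rw [hD'] at hmul
  have hW' : Nat.card ↥(coreE z ⊓ conjE z g) = 2 ^ 7 := by nlinarith
  refine ⟨hW', hD', Γ.imgA_sq hg, ?_⟩
  rw [hW'] at hmul
  omega

theorem exists_outer : ∃ m ∈ conjE z g ⊓ centralizer ({z} : Set G), Γ.ph m ∉ innerM22 := by
  by_contra hno
  push Not at hno
  refine Γ.F.elem_not_le _ (Γ.card_facts hg).2.2 ?_
  rintro _ ⟨m, rfl⟩
  rw [Γ.homD_apply]; exact hno m m.2

/-- An element fixed modulo `z` by an element of `E^g ∩ H` outside `E` commutes with `s`. -/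
theorem orth {m e : G} (hm : m ∈ conjE z g ⊓ centralizer ({z} : Set G)) (hmE : m ∉ coreE z)
    (he : e ∈ coreE z) (hfix : m * e * m⁻¹ = e ∨ m * e * m⁻¹ = z * e) : Commute e (g * z * g⁻¹) := by
  by_contra hne
  have hp := Γ.pair hg
  have hes : e * (g * z * g⁻¹) * e⁻¹ = g * z * g⁻¹ * z :=
    (Γ.S.hub.comm e he _ hg.mem).resolve_left fun h => hne (mul_inv_eq_iff_eq_mul.1 h)
  have hs1 : g * z * g⁻¹ ≠ 1 := (Γ.hub_pt g).ne_one
  have hne' : g * z * g⁻¹ * z ≠ g * z * g⁻¹ := fun h => Γ.S.hub.ne_one (mul_eq_left.1 h)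
  set Q' := (conjE z g).map (MulAut.conj e).toMonoidHom with hQ'
  have hQE : Q' = conjE z (e * g) := by
    rw [hQ', map_map]; congr 1; ext x; simp [mul_assoc]
  have hpt : Pt z (e * g) := by
    have e1 : e * g * z * (e * g)⁻¹ = g * z * g⁻¹ * z := by rw [← hes]; group
    refine ⟨e1 ▸ mul_mem hg.mem Γ.S.hub.mem, e1 ▸ fun h => hs1 (mul_eq_right.1 h)⟩
  have hz' : z ∈ Q' := hQE ▸ Γ.z_mem hpt
  -- `m ∈ Q'`
  have hmQ : m ∈ Q' := by
    have hz2 := Γ.S.hub.sq
    have hcz : e * z = z * e := Γ.S.hub.central e he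
    have hmz : m * z = z * m := mem_H.1 hm.2
    have : e * m * e⁻¹ = m ∨ e * m * e⁻¹ = z * m := by
      rcases hfix with h | h
      · left; rw [← mul_inv_eq_iff_eq_mul.1 h, mul_inv_cancel_right]
      · right
        have h' := mul_inv_eq_iff_eq_mul.1 h
        calc e * m * e⁻¹ = z * (z * e * m) * e⁻¹ := by rw [← mul_assoc z, ← mul_assoc z, hz2, one_mul]
          _ = z * (m * e) * e⁻¹ := by rw [h']
          _ = z * m := by group
    rcases this with h | h
    · exact ⟨m, hm.1, h⟩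
    · have hzm : z * m ∈ Q' := ⟨m, hm.1, h⟩
      exact (Q'.mul_mem_cancel_left hz').1 hzm
  -- `E ∩ E^g ≤ Q'`
  have hWQ : coreE z ⊓ conjE z g ≤ Q' := fun w hw => by
    rcases Γ.S.hub.comm e he w hw.1 with h | h
    · exact ⟨w, hw.2, h⟩
    · refine ⟨w * z, mul_mem hw.2 hp.hz, ?_⟩
      show e * (w * z) * e⁻¹ = w
      calc e * (w * z) * e⁻¹ = (e * w * e⁻¹) * (e * z * e⁻¹) := by group
        _ = w * z * z := by rw [h, (Γ.S.hub.central e he).eq, mul_inv_cancel_right]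
        _ = w := by rw [mul_assoc, Γ.S.hub.sq, mul_one]
  -- the two conjugates meet in an abelian subgroup
  have hEg : 32 ≤ Nat.card ↥(conjE z g) := by
    rw [card_map_of_injective (MulAut.conj g).injective, Γ.S.card_E]; norm_num
  have hsz : g * z * g⁻¹ * z ∈ conjE z g := mul_mem (Γ.hub_pt g).mem hp.hz
  have hp' : Pair (conjE z g) Q' (g * z * g⁻¹) (e * (g * z * g⁻¹) * e⁻¹) :=
    Pair.of_conj (Γ.hub_pt g) e (by rw [hes]; exact hsz) (by rw [hes]; exact hne')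
      ((Γ.hub_pt g).exists_noncommuting_pair hEg (by rw [hes]; exact hsz) (by
        rw [show e * (g * z * g⁻¹) * e⁻¹ * (e * (g * z * g⁻¹) * e⁻¹) =
          e * (g * z * g⁻¹ * (g * z * g⁻¹)) * e⁻¹ by group, (Γ.hub_pt g).sq]; group))
  have hle : coreE z ⊓ conjE z g ≤ conjE z g ⊓ Q' := fun w hw => ⟨hw.2, hWQ hw⟩
  have h7 := Γ.abelian_card_le (a := g) (X := conjE z g ⊓ Q') inf_le_left
    fun x hx y hy => hp'.E_commute hx hy
  have heq : coreE z ⊓ conjE z g = conjE z g ⊓ Q' :=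
    eq_of_le_of_card_ge hle (by rw [(Γ.card_facts hg).1]; exact h7)
  have hmem : m ∈ conjE z g ⊓ Q' := ⟨hm.1, hmQ⟩
  rw [← heq] at hmem
  exact hmE hmem.1

/-- An element of `C_E(s)` fixed modulo `z` by a subgroup of index at most two of `E^g ∩ H` lies in `E^g`. -/
theorem mem_conjE_of_fix {e : G} (he : e ∈ coreE z) (hes : Commute e (g * z * g⁻¹)) (K : Subgroup G)
    (hK : K ≤ conjE z g ⊓ centralizer ({z} : Set G)) (hK2 : 2 ^ 12 ≤ 2 * Nat.card ↥K)
    (hfix : ∀ m ∈ K, m * e * m⁻¹ = e ∨ m * e * m⁻¹ = z * e) : e ∈ conjE z g := by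
  have h1 := card_le_two_inf K e (z * e) hfix
  rw [mem_conj_iff]
  have huz : g⁻¹ * e * g ∈ centralizer ({z} : Set G) := by
    refine mem_centralizer_singleton_iff.2 ?_
    calc g⁻¹ * e * g * z = g⁻¹ * (e * (g * z * g⁻¹)) * g := by group
      _ = g⁻¹ * (g * z * g⁻¹ * e) * g := by rw [hes.eq]
      _ = z * (g⁻¹ * e * g) := by group
  have hu2 : g⁻¹ * e * g * (g⁻¹ * e * g) ∈ coreE z := by
    rw [show g⁻¹ * e * g * (g⁻¹ * e * g) = g⁻¹ * (e * e) * g by group]
    rcases Γ.S.hub.sq_cases e he with h | h <;> rw [h]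
    · simp
    · exact mem_conj_iff.1 (Γ.z_mem hg)
  refine Γ.hb _ huz hu2 ((K ⊓ centralizer ({e} : Set G)).map (MulAut.conj g⁻¹).toMonoidHom) ?_ ?_ ?_
  · rintro _ ⟨m, hm, rfl⟩
    have := mem_conj_iff.1 (hK hm.1).1
    simpa using this
  · rintro _ ⟨m, hm, rfl⟩
    have hc : Commute m e := mem_centralizer_singleton_iff.1 hm.2
    have : Commute ((MulAut.conj g⁻¹).toMonoidHom m) (g⁻¹ * e * g) := by
      have := hc.map (MulAut.conj g⁻¹).toMonoidHom
      simpa using this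
    rw [commutatorElement_eq_one_iff_commute.2 this]
    exact one_mem _
  · rw [card_map_of_injective (MulAut.conj g⁻¹).injective]
    omega

/-- The elements of `E` fixed modulo `z` by `E^g ∩ H`. -/
theorem fixed_four {e : G} (he : e ∈ coreE z)
    (hfix : ∀ m ∈ conjE z g ⊓ centralizer ({z} : Set G), m * e * m⁻¹ = e ∨ m * e * m⁻¹ = z * e) :
    e = 1 ∨ e = z ∨ e = g * z * g⁻¹ ∨ e = z * (g * z * g⁻¹) := by
  obtain ⟨m, hm, hmi⟩ := Γ.exists_outer hg
  have hmE : m ∉ coreE z := fun h => hmi (Γ.ph_core h ▸ one_mem _)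
  have hes := Γ.orth hg hm hmE he (hfix m hm)
  have heg := Γ.mem_conjE_of_fix hg he hes _ le_rfl (by rw [(Γ.card_facts hg).2.1]; norm_num) hfix
  have hh := Γ.hub_pt g
  have hcl := hh.centralizer_of_self (Γ.z_mem hg) heg fun p hp hpz => by
    rcases hfix p ⟨hp, mem_centralizer_singleton_iff.2 hpz⟩ with h | h
    · exact (mul_inv_eq_iff_eq_mul.1 h : p * e = e * p).symm
    · rcases hh.comm p hp e heg with h' | h'
      · exact (mul_inv_eq_iff_eq_mul.1 h' : p * e = e * p).symm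
      · exfalso
        rw [h'] at h
        have h2 : e * (g * z * g⁻¹) = e * z := by rw [h, (Γ.S.hub.central e he).eq]
        exact hg.ne (mul_left_cancel h2)
  have hcl' : e ∈ closure ({g * z * g⁻¹, z} : Set G) := hcl
  rcases mem_four hh.sq Γ.S.hub.sq (hh.central z (Γ.z_mem hg)).symm hcl' with h | h | h | h
  · exact Or.inl h
  · exact Or.inr (Or.inr (Or.inl h))
  · exact Or.inr (Or.inl h)
  · exact Or.inr (Or.inr (Or.inr (by rw [h, (Γ.S.hub.central _ hg.mem).eq])))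

omit hg in
/-- `C_H(s) ∩ N = C_E(s)`. -/
theorem mem_core_of_stab {s h : G} (hs : s ∈ coreE z) (hs1 : s ≠ 1) (hsz : s ≠ z)
    (hh : h ∈ centralizer ({z} : Set G)) (h1 : Γ.ph h = 1) (hcs : Commute h s) : h ∈ coreE z := by
  obtain ⟨e, he, p, hp, rfl⟩ := Γ.exists_ep hh h1
  by_cases hp1 : p = 1
  · rwa [hp1, mul_one]
  exfalso
  have hps : p * s * p⁻¹ ∈ coreE z := Γ.conj_core (Γ.S.P_le hp) hs
  have hfix : e * (p * s * p⁻¹) * e⁻¹ = s := by
    rw [show e * (p * s * p⁻¹) * e⁻¹ = e * p * s * (e * p)⁻¹ by group, hcs.eq, mul_inv_cancel_right]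
  rcases Γ.comm_core he hps with h' | h' <;> rw [h'] at hfix
  · exact (Γ.eq_one_or_z_of_fixed hp hp1 hs (Or.inl hfix)).elim hs1 hsz
  · refine (Γ.eq_one_or_z_of_fixed hp hp1 hs (Or.inr ?_)).elim hs1 hsz
    conv_rhs => rw [← hfix]
    rw [← mul_assoc, Γ.S.hub.sq, one_mul]

theorem conj_mem_D {c m : G} (hcz : c ∈ centralizer ({z} : Set G)) (hcs : Commute c (g * z * g⁻¹))
    (hm : m ∈ conjE z g ⊓ centralizer ({z} : Set G)) :
    c * m * c⁻¹ ∈ conjE z g ⊓ centralizer ({z} : Set G) :=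
  Subgroup.mem_inf.2 ⟨(Γ.hub_pt g).normalizes c hcs m hm.1, mul_mem (mul_mem hcz hm.2) (inv_mem hcz)⟩

/-- Images of elements of `C_H(s)` normalise the image of `E^g ∩ H`. -/
theorem ph_mem_normalizer {c : G} (hcz : c ∈ centralizer ({z} : Set G)) (hcs : Commute c (g * z * g⁻¹)) :
    Γ.ph c ∈ normalizer (Γ.imgA g : Set AutM22) := by
  have key : ∀ d : G, d ∈ centralizer ({z} : Set G) → Commute d (g * z * g⁻¹) →
      ∀ a ∈ Γ.imgA g, Γ.ph d * a * (Γ.ph d)⁻¹ ∈ Γ.imgA g := by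
    rintro d hd hds _ ⟨m, rfl⟩
    rw [Γ.homD_apply, ← Γ.ph_conj hd m.2.2]
    exact Γ.ph_mem_imgA hg (Γ.conj_mem_D hg hd hds m.2)
  refine LargeExtraspecial.mem_normalizer_of_conj (key c hcz hcs) fun a ha => ?_
  have := key c⁻¹ (inv_mem hcz) hcs.inv_left a ha
  rwa [Γ.ph_inv hcz] at this

/-- `C_H(s)` maps onto `N(imgA)`. -/
theorem exists_lift_normalizer {a : AutM22} (ha : a ∈ normalizer (Γ.imgA g : Set AutM22)) :
    ∃ c ∈ centralizer ({z} : Set G), Commute c (g * z * g⁻¹) ∧ Γ.ph c = a := by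
  have : Fact (Nat.Prime 2) := ⟨Nat.prime_two⟩
  obtain ⟨h, hh, hha⟩ := Γ.exists_ph a
  have hpt : Pt z (h * g) := by
    have e1 : h * g * z * (h * g)⁻¹ = h * (g * z * g⁻¹) * h⁻¹ := by group
    refine ⟨e1 ▸ Γ.conj_core hh hg.mem, e1 ▸ fun e => hg.ne ?_⟩
    calc g * z * g⁻¹ = h⁻¹ * (h * (g * z * g⁻¹) * h⁻¹) * h := by group
      _ = h⁻¹ * z * h := by rw [e]
      _ = z := by rw [(mem_H.1 (inv_mem hh)).eq, inv_mul_cancel_right]
  set D' := conjE z (h * g) ⊓ centralizer ({z} : Set G) with hD'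
  have hcD : ∀ m ∈ D', h⁻¹ * m * h ∈ conjE z g ⊓ centralizer ({z} : Set G) := by
    intro m hm
    refine Subgroup.mem_inf.2 ⟨?_, mul_mem (mul_mem (inv_mem hh) hm.2) hh⟩
    rw [mem_conj_iff]
    have := mem_conj_iff.1 hm.1
    rw [show g⁻¹ * (h⁻¹ * m * h) * g = (h * g)⁻¹ * m * (h * g) by group]
    exact this
  -- the preimage of the image
  set R := ((Γ.imgA g).comap Γ.S.pi).map (centralizer ({z} : Set G)).subtype with hR
  have hmemR : ∀ x, x ∈ R ↔ x ∈ centralizer ({z} : Set G) ∧ Γ.ph x ∈ Γ.imgA g := by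
    intro x
    constructor
    · rintro ⟨y, hy, rfl⟩; exact ⟨y.2, (Γ.ph_eq y.2).symm ▸ hy⟩
    · rintro ⟨hx, hxa⟩; exact ⟨⟨x, hx⟩, by rw [Γ.ph_eq hx] at hxa; exact hxa, rfl⟩
  have hD'R : D' ≤ R := fun m hm => by
    refine (hmemR m).2 ⟨hm.2, ?_⟩
    rw [show m = h * (h⁻¹ * m * h) * h⁻¹ by group, Γ.ph_conj hh (hcD m hm).2, hha]
    exact (mem_normalizer_iff.1 ha _).1 (Γ.ph_mem_imgA hg (hcD m hm))
  set U := coreE z ⊔ D' with hU
  have hER : coreE z ≤ R := fun e he => (hmemR e).2 ⟨coreE_le_H he, Γ.ph_core he ▸ one_mem _⟩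
  have hUR : U ≤ R := sup_le hER hD'R
  have hUH : U ≤ centralizer ({z} : Set G) := sup_le coreE_le_H inf_le_right
  have hnorm := Γ.S.le_normalizer_E
  have hU2 : IsPGroup 2 ↥U := Γ.core_two.to_sup_of_normal_left'
    ((IsPGroup.of_card (n := 12) (Γ.card_facts hpt).2.1) : IsPGroup 2 ↥D') (inf_le_right.trans hnorm)
  -- orders
  set U' := U.subgroupOf (centralizer ({z} : Set G)) with hU'
  have hUmap : U'.map Γ.S.pi = Γ.imgA g := by
    refine le_antisymm ?_ ?_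
    · rintro _ ⟨x, hx, rfl⟩
      have := ((hmemR _).1 (hUR hx)).2
      exact (Γ.ph_eq x.2) ▸ this
    · refine (eq_of_le_of_card_ge (H := (Γ.imgA (h * g))) (K := Γ.imgA g) ?_ ?_).ge.trans ?_
      · rintro _ ⟨m, rfl⟩
        rw [Γ.homD_apply]; exact ((hmemR _).1 (hD'R m.2)).2
      · rw [(Γ.card_facts hg).2.2.2, (Γ.card_facts hpt).2.2.2]
      · rintro _ ⟨m, rfl⟩
        exact ⟨⟨(m : G), m.2.2⟩, mem_subgroupOf.2 (mem_sup_right m.2), rfl⟩
  have hUker : U' ⊓ Γ.S.pi.ker = (coreE z).subgroupOf (centralizer ({z} : Set G)) := by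
    refine le_antisymm (fun x hx => ?_) fun x hx => ⟨mem_subgroupOf.2 (mem_sup_left hx), ?_⟩
    · obtain ⟨hxU, hx1⟩ := hx
      refine mem_subgroupOf.2 ?_
      obtain ⟨e, he, p, hp, hep⟩ := Γ.exists_ep x.2 (by rw [Γ.ph_eq x.2]; exact hx1)
      have hpU : p ∈ U := by
        have hxe : (x : G) ∈ U := mem_subgroupOf.1 hxU
        rw [show p = e⁻¹ * (x : G) by rw [hep]; group]
        exact mul_mem (inv_mem (mem_sup_left he)) hxe
      obtain ⟨k, hk⟩ := hU2 ⟨p, hpU⟩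
      have h3 : orderOf p ∣ 3 := orderOf_dvd_iff_pow_eq_one.2 (by rw [pow_three]; exact Γ.p_cube hp)
      have h2 : orderOf p ∣ 2 ^ k := orderOf_dvd_iff_pow_eq_one.2 (congrArg Subtype.val hk)
      have : p = 1 := orderOf_eq_one_iff.1
        (Nat.dvd_one.1 (((Nat.coprime_primes Nat.prime_three Nat.prime_two).2 (by norm_num)).pow_right k ▸
          Nat.dvd_gcd h3 h2))
      rw [hep, this, mul_one]; exact he
    · show Γ.S.pi x = 1
      rw [← Γ.ph_eq x.2]; exact Γ.ph_core hx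
  have hUcard : Nat.card ↥U = 2 ^ 18 := by
    have h1 := (Γ.S.pi.comp U'.subtype).ker.card_mul_index
    have hk : (Γ.S.pi.comp U'.subtype).ker = (U' ⊓ Γ.S.pi.ker).subgroupOf U' := by
      ext x; simp [mem_subgroupOf]
    rw [Subgroup.index_ker, MonoidHom.range_comp, range_subtype, hUmap, hk,
      Nat.card_congr (subgroupOfEquivOfLe inf_le_left).toEquiv, hUker,
      Nat.card_congr (subgroupOfEquivOfLe (coreE_le_H (z := z))).toEquiv, Γ.S.card_E, (Γ.card_facts hg).2.2.2,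
      hU', Nat.card_congr (subgroupOfEquivOfLe hUH).toEquiv] at h1
    omega
  have hRcard : Nat.card ↥R = 2 ^ 18 * 3 := by
    rw [hR, card_map_of_injective (centralizer ({z} : Set G)).subtype_injective]
    set R' := (Γ.imgA g).comap Γ.S.pi
    have h1 := (Γ.S.pi.comp R'.subtype).ker.card_mul_index
    have hk : (Γ.S.pi.comp R'.subtype).ker = Γ.S.pi.ker.subgroupOf R' := by
      ext x; simp [mem_subgroupOf]
    have hkle : Γ.S.pi.ker ≤ R' := fun x hx => mem_comap.2 (by rw [MonoidHom.mem_ker.1 hx]; exact one_mem _)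
    have hkcard : Nat.card ↥Γ.S.pi.ker = 2 ^ 13 * 3 := by
      have h := Γ.S.pi.ker.card_mul_index
      rw [Subgroup.index_ker, MonoidHom.range_eq_top.2 Γ.S.pi_surjective, card_top, Γ.S.card_H] at h
      have hI := innerM22.card_mul_index
      rw [Γ.F.index_two, Γ.F.card_inner] at hI
      rw [← hI] at h
      omega
    rw [Subgroup.index_ker, MonoidHom.range_comp, range_subtype,
      map_comap_eq_self (by rw [MonoidHom.range_eq_top.2 Γ.S.pi_surjective]; exact le_top), hk,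
      Nat.card_congr (subgroupOfEquivOfLe hkle).toEquiv, hkcard, (Γ.card_facts hg).2.2.2] at h1
    omega
  let Syl : Sylow 2 ↥R := Sylow.ofCard (U.subgroupOf R) (by
    rw [Nat.card_congr (subgroupOfEquivOfLe hUR).toEquiv, hUcard, hRcard,
      Nat.factorization_mul (by norm_num) (by norm_num), Finsupp.add_apply,
      Nat.Prime.factorization_pow Nat.prime_two, Finsupp.single_eq_same,
      Nat.factorization_eq_zero_of_not_dvd (by norm_num), add_zero])
  have hD12 : IsPGroup 2 ↥(conjE z g ⊓ centralizer ({z} : Set G)) :=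
    IsPGroup.of_card (n := 12) (Γ.card_facts hg).2.1
  have hD1R : conjE z g ⊓ centralizer ({z} : Set G) ≤ R := fun m hm =>
    (hmemR m).2 ⟨hm.2, Γ.ph_mem_imgA hg hm⟩
  obtain ⟨T, hT⟩ := (hD12.comap_subtype (H := conjE z g ⊓ centralizer ({z} : Set G)) (K := R)).exists_le_sylow
  obtain ⟨r, hr⟩ := MulAction.exists_smul_eq ↥R Syl T
  obtain ⟨hrH, hra⟩ := (hmemR r.1).1 r.2
  set t := h * (g * z * g⁻¹) * h⁻¹ with ht
  have htE : t ∈ coreE z := Γ.conj_core hh hg.mem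
  -- `U` fixes `t` modulo `z`
  have hUt : ∀ u ∈ U, u * t * u⁻¹ = t ∨ u * t * u⁻¹ = z * t := by
    intro u hu
    rw [hU, sup_eq_closure] at hu
    induction hu using Subgroup.closure_induction with
    | mem x hx =>
      rcases hx with hx | hx
      · exact Γ.comm_core hx htE
      · left
        have hc := (Γ.hub_pt (h * g)).central x hx.1
        rw [show h * g * z * (h * g)⁻¹ = t by rw [ht]; group] at hc
        rw [hc.eq, mul_inv_cancel_right]
    | one => left; group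
    | mul a b ha hb iha ihb =>
      have haH : a ∈ centralizer ({z} : Set G) := by
        refine (closure_le _).2 ?_ ha
        exact Set.union_subset coreE_le_H (fun x hx => hx.2)
      have haz : a * z * a⁻¹ = z := by rw [(mem_H.1 haH).eq, mul_inv_cancel_right]
      have e : a * b * t * (a * b)⁻¹ = a * (b * t * b⁻¹) * a⁻¹ := by group
      rcases ihb with hb' | hb' <;> rw [e, hb']
      · exact iha
      · rw [show a * (z * t) * a⁻¹ = (a * z * a⁻¹) * (a * t * a⁻¹) by group, haz]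
        rcases iha with ha' | ha' <;> rw [ha']
        · exact Or.inr rfl
        · left; rw [← mul_assoc, Γ.S.hub.sq, one_mul]
    | inv a ha iha =>
      have haH : a ∈ centralizer ({z} : Set G) := by
        refine (closure_le _).2 ?_ ha
        exact Set.union_subset coreE_le_H (fun x hx => hx.2)
      have haz : a⁻¹ * z * a = z := by rw [(mem_H.1 (inv_mem haH)).eq, inv_mul_cancel_right]
      rcases iha with ha' | ha'
      · left
        calc a⁻¹ * t * a⁻¹⁻¹ = a⁻¹ * (a * t * a⁻¹) * a⁻¹⁻¹ := by rw [ha']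
          _ = t := by group
      · right
        calc a⁻¹ * t * a⁻¹⁻¹ = a⁻¹ * (z * (z * t)) * a⁻¹⁻¹ := by rw [← mul_assoc z z, Γ.S.hub.sq, one_mul]
          _ = a⁻¹ * (z * (a * t * a⁻¹)) * a⁻¹⁻¹ := by rw [ha']
          _ = (a⁻¹ * z * a) * t := by group
          _ = z * t := by rw [haz]
  have hrz : (r : G) * z * (r : G)⁻¹ = z := by rw [(mem_H.1 hrH).eq, mul_inv_cancel_right]
  have hfix3 : ∀ m ∈ conjE z g ⊓ centralizer ({z} : Set G),
      m * ((r : G) * t * (r : G)⁻¹) * m⁻¹ = (r : G) * t * (r : G)⁻¹ ∨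
        m * ((r : G) * t * (r : G)⁻¹) * m⁻¹ = z * ((r : G) * t * (r : G)⁻¹) := by
    intro m hm
    have hmT : (⟨m, hD1R hm⟩ : ↥R) ∈ (T : Subgroup ↥R) := hT (mem_comap.2 hm)
    rw [← hr, Sylow.coe_subgroup_smul, mem_pointwise_smul_iff_inv_smul_mem, ← map_inv, MulAut.smul_def,
      MulAut.conj_apply, inv_inv] at hmT
    have hu : (r : G)⁻¹ * m * r ∈ U := mem_subgroupOf.1 hmT
    have e : m * ((r : G) * t * (r : G)⁻¹) * m⁻¹ =
        (r : G) * (((r : G)⁻¹ * m * r) * t * ((r : G)⁻¹ * m * r)⁻¹) * (r : G)⁻¹ := by group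
    rcases hUt _ hu with h' | h' <;> rw [e, h']
    · exact Or.inl rfl
    · right; rw [show (r : G) * (z * t) * (r : G)⁻¹ = ((r : G) * z * (r : G)⁻¹) * ((r : G) * t * (r : G)⁻¹) by group, hrz]
  have hrt : (r : G) * t * (r : G)⁻¹ = (r : G) * h * (g * z * g⁻¹) * ((r : G) * h)⁻¹ := by rw [ht]; group
  have hrhH : (r : G) * h ∈ centralizer ({z} : Set G) := mul_mem hrH hh
  -- it is `s` or `s z`
  have hcases : (r : G) * h * (g * z * g⁻¹) * ((r : G) * h)⁻¹ = g * z * g⁻¹ ∨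
      (r : G) * h * (g * z * g⁻¹) * ((r : G) * h)⁻¹ = z * (g * z * g⁻¹) := by
    rcases Γ.fixed_four hg (Γ.conj_core hrH htE) hfix3 with h' | h' | h' | h'
    · exfalso
      rw [hrt] at h'
      exact (Γ.hub_pt g).ne_one (conj_eq_one_iff.1 h')
    · exfalso
      rw [hrt] at h'
      refine hg.ne ?_
      calc g * z * g⁻¹ = ((r : G) * h)⁻¹ * ((r : G) * h * (g * z * g⁻¹) * ((r : G) * h)⁻¹) * ((r : G) * h) := by
            group
        _ = z := by rw [h', (mem_H.1 (inv_mem hrhH)).eq, inv_mul_cancel_right]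
    · exact Or.inl (hrt ▸ h')
    · exact Or.inr (hrt ▸ h')
  obtain ⟨f, hf, hfs⟩ : ∃ f ∈ coreE z,
      f * ((r : G) * h * (g * z * g⁻¹) * ((r : G) * h)⁻¹) * f⁻¹ = g * z * g⁻¹ := by
    rcases hcases with h' | h'
    · exact ⟨1, one_mem _, by rw [h']; group⟩
    · obtain ⟨f, hf, hfne⟩ := Γ.S.hub.exists_not_commute (Γ.hub_pt g).ne_one hg.ne
      refine ⟨f, hf, ?_⟩
      have h2 := (Γ.comm_core hf hg.mem).resolve_left fun e => hfne (mul_inv_eq_iff_eq_mul.1 e).symm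
      rw [h', show f * (z * (g * z * g⁻¹)) * f⁻¹ = (f * z * f⁻¹) * (f * (g * z * g⁻¹) * f⁻¹) by group,
        (Γ.S.hub.central f hf).eq, mul_inv_cancel_right, h2, ← mul_assoc, Γ.S.hub.sq, one_mul]
  have hc : f * ((r : G) * h) ∈ centralizer ({z} : Set G) := mul_mem (coreE_le_H hf) hrhH
  have hcs : Commute (f * ((r : G) * h)) (g * z * g⁻¹) := by
    refine mul_inv_eq_iff_eq_mul.1 ?_
    conv_rhs => rw [← hfs]
    group
  obtain ⟨⟨m, hm⟩, hma⟩ := hra
  rw [Γ.homD_apply] at hma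
  refine ⟨m⁻¹ * (f * ((r : G) * h)), mul_mem (inv_mem hm.2) hc,
    ((Γ.hub_pt g).central m hm.1).inv_left.mul_left hcs, ?_⟩
  rw [Γ.ph_mul (inv_mem hm.2) hc, Γ.ph_mul (coreE_le_H hf) hrhH, Γ.ph_core hf, one_mul, Γ.ph_mul hrH hh,
    Γ.ph_inv hm.2, hha, ← hma, inv_mul_cancel_left]

end Ctx

end Cfsg.Agent.JankoFour
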