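import Cfsg.Agent.Lib.JankoFour.HexFactsProof

/-!
# The groups of order 32 of `Aut M₂₂` and the pairs of points (S5568, S5570)

`Hex.mem_normalizer_cj_A0`: the normaliser of `cj k A0` is the stabiliser of the pair of images of `1`
and `2` under `k`; every pair of the 22 points occurs (`Hex.exists_mover`).  `Hex.pinned`: the elements
of `M₂₂` compatible with conditions on the images of the base points.
-/

set_option autoImplicit false
set_option maxRecDepth 20000
set_option maxHeartbeats 4000000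

namespace Cfsg.Agent.JankoFour.Hex

open Cfsg Subgroup Cfsg.Agent.Mathieu

/-! ### A search through a chain -/

section Search

variable {α : Type*} {n : ℕ} [NeZero n] {e : α ≃ Fin n}

/-- The products along a chain all of whose prefixes satisfy the condition. -/
def stageSearch (n : ℕ) (cond : List ℕ → ℕ → Bool) : List CertLevel → List ℕ → ℕ → List ℕ
  | [], _, acc => [acc]
  | p :: rest, fixed, acc => p.2.2.flatMap fun t => force (packMulS n acc t) fun a =>
      if cond (p.1 :: fixed) a then stageSearch n cond rest (p.1 :: fixed) a else []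

omit [NeZero n] in
theorem rep_of_stageSearch {G : Subgroup (Equiv.Perm α)} (cond : List ℕ → ℕ → Bool) :
    ∀ (levels : List CertLevel) (fixed : List ℕ) (A : Equiv.Perm α) (acc : ℕ),
      (∀ t ∈ allReps levels, ∃ σ ∈ G, Rep e σ t) → A ∈ G → Rep e A acc →
      ∀ l ∈ stageSearch n cond levels fixed acc, ∃ σ ∈ G, Rep e σ l := by
  intro levels
  induction levels with
  | nil =>
    intro fixed A acc _ hA hr l hl
    rw [stageSearch, List.mem_singleton] at hl
    exact ⟨A, hA, hl ▸ hr⟩
  | cons p rest ih =>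
    intro fixed A acc hrep hA hr l hl
    rw [stageSearch, List.mem_flatMap] at hl
    obtain ⟨t, ht, hl⟩ := hl
    rw [force_eq] at hl
    split at hl
    · obtain ⟨σ, hσ, hσr⟩ := hrep t (by rw [allReps, List.flatMap_cons]; exact List.mem_append_left _ ht)
      refine ih _ (A * σ) _ (fun t' ht' => hrep t' ?_) (G.mul_mem hA hσ)
        (by rw [packMulS_eq]; exact rep_packMul hr hσr) l hl
      rw [allReps, List.flatMap_cons]; exact List.mem_append_right _ ht'
    · exact absurd hl List.not_mem_nil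

theorem mem_stageSearch {H : Subgroup (Equiv.Perm α)} (cond : List ℕ → ℕ → Bool) :
    ∀ (levels : List CertLevel) (fixed : List ℕ) (K : Subgroup (Equiv.Perm α)),
      (∀ i ∈ fixed, i < n) → (∀ σ ∈ H, (∀ i ∈ fixed, σ (idx e i) = idx e i) → σ ∈ K) →
      (∀ σ ∈ K, ∀ i ∈ fixed, σ (idx e i) = idx e i) →
      levelsOK n fixed levels = true → (∀ t ∈ allReps levels, ∃ σ ∈ H, Rep e σ t) →
      Upper e K levels → fixList K (levels.map fun p => idx e p.1) = ⊥ →
      ∀ (A : Equiv.Perm α) (acc : ℕ), Rep e A acc → ∀ r ∈ K,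
        (∀ F a, (∀ i ∈ F, i < n ∧ app a i = (e ((A * r) (idx e i))).val) → cond F a = true) →
        ∃ l ∈ stageSearch n cond levels fixed acc, Rep e (A * r) l := by
  intro levels
  induction levels with
  | nil =>
    intro fixed K _ _ _ _ _ _ hbot A acc hA r hr _
    simp only [List.map_nil, fixList] at hbot
    rw [hbot, Subgroup.mem_bot] at hr
    exact ⟨acc, by simp [stageSearch], by rwa [hr, mul_one]⟩
  | cons p rest ih =>
    obtain ⟨b, orb, ts⟩ := p
    intro fixed K hfx hK hKfix hok hrep hup hbot A acc hA r hr hc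
    simp only [levelsOK, Bool.and_eq_true, decide_eq_true_eq, beq_iff_eq,
      List.all_eq_true] at hok
    obtain ⟨⟨⟨⟨⟨hb, -⟩, -⟩, hmap⟩, hfix⟩, hrest⟩ := hok
    have hx := hup.1 r hr
    obtain ⟨t, ht, htb⟩ : ∃ t ∈ ts, app t b = (e (r (idx e b))).val := by
      rw [← hmap] at hx; simpa using hx
    obtain ⟨σ, hσH, hσ⟩ := hrep t (List.mem_flatMap.2 ⟨(b, orb, ts), List.mem_cons_self, ht⟩)
    have hσK : σ ∈ K := hK σ hσH (fun i hi => by rw [hσ.apply_idx (hfx i hi), hfix t ht i hi])
    have hmem : σ⁻¹ * r ∈ K ⊓ MulAction.stabilizer (Equiv.Perm α) (idx e b) := by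
      refine ⟨K.mul_mem (K.inv_mem hσK) hr, ?_⟩
      change σ.symm (r (idx e b)) = idx e b
      rw [Equiv.symm_apply_eq, hσ.apply_idx hb, htb, idx_self]
    have hfx' : ∀ i ∈ b :: fixed, i < n := by
      intro i hi; rcases List.mem_cons.1 hi with rfl | hi; exacts [hb, hfx i hi]
    have hK'fix : ∀ τ ∈ K ⊓ MulAction.stabilizer (Equiv.Perm α) (idx e b),
        ∀ i ∈ b :: fixed, τ (idx e i) = idx e i := fun τ hτ =>
      List.forall_mem_cons.2 ⟨hτ.2, hKfix τ hτ.1⟩
    have hprod : A * σ * (σ⁻¹ * r) = A * r := by group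
    have hA' : Rep e (A * σ) (packMulS n acc t) := by rw [packMulS_eq]; exact rep_packMul hA hσ
    have hgood : cond (b :: fixed) (packMulS n acc t) = true := hc _ _ fun i hi => ⟨hfx' i hi, by
      rw [← hprod, Equiv.Perm.mul_apply, hK'fix _ hmem i hi, hA' (idx e i), idx_val (hfx' i hi)]⟩
    obtain ⟨l, hl, hlr⟩ := ih (b :: fixed) _ hfx'
      (fun τ hτ hfixτ => Subgroup.mem_inf.2
        ⟨hK τ hτ fun i hi => hfixτ i (List.mem_cons_of_mem _ hi), hfixτ b List.mem_cons_self⟩)
      hK'fix hrest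
      (fun t' ht' => hrep t' (by rw [allReps, List.flatMap_cons]; exact List.mem_append_right _ ht'))
      hup.2 hbot (A * σ) _ hA' _ hmem (by rwa [hprod])
    refine ⟨l, ?_, by rwa [hprod] at hlr⟩
    rw [stageSearch, List.mem_flatMap]
    exact ⟨t, ht, by rw [force_eq, if_pos hgood]; exact hl⟩

omit [NeZero n] in
/-- A subgroup containing the representatives contains the products. -/
theorem mem_of_prodList {H : Subgroup (Equiv.Perm α)} (hn : n ≤ 256) :
    ∀ levels : List CertLevel, (∀ t ∈ allReps levels, ∃ σ ∈ H, Rep e σ t) →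
      ∀ l ∈ prodList n levels, ∃ σ ∈ H, Rep e σ l := by
  intro levels
  induction levels with
  | nil =>
    intro _ l hl
    rw [prodList, List.mem_singleton] at hl
    exact ⟨1, H.one_mem, hl ▸ rep_packId hn⟩
  | cons p rest ih =>
    intro hrep l hl
    obtain ⟨t, ht, hl⟩ := List.mem_flatMap.1 hl
    obtain ⟨r, hr, rfl⟩ := List.mem_map.1 hl
    obtain ⟨σ, hσ, hσr⟩ := hrep t (by rw [allReps, List.flatMap_cons]; exact List.mem_append_left _ ht)
    obtain ⟨τ, hτ, hτr⟩ := ih (fun t' ht' => hrep t'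
      (by rw [allReps, List.flatMap_cons]; exact List.mem_append_right _ ht')) r hr
    exact ⟨σ * τ, H.mul_mem hσ hτ, rep_packMul hσr hτr⟩

end Search

/-! ### Basic conversions -/

theorem code_app {σ : ↥pairGrp} {i : ℕ} (hi : i < 24) :
    (σ : Equiv.Perm GolayPt) (idx ptEnc i) = idx ptEnc (app (code σ) i) :=
  (rep_canon _).apply_idx hi

theorem code_lt {σ : ↥pairGrp} {i : ℕ} (hi : i < 24) : app (code σ) i < 24 :=
  (rep_canon _).app_lt hi

theorem code_val {σ : ↥pairGrp} {i : ℕ} (hi : i < 24) :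
    app (code σ) i = (ptEnc ((σ : Equiv.Perm GolayPt) (idx ptEnc i))).val := by
  rw [code_app hi, idx_val (code_lt hi)]

theorem code_mul_app (σ τ : ↥pairGrp) {i : ℕ} (hi : i < 24) :
    app (code (σ * τ)) i = app (code σ) (app (code τ) i) := by
  rw [code_val hi, Subgroup.coe_mul, Equiv.Perm.mul_apply, code_app hi, code_val (code_lt hi)]

theorem code_inj_app {σ : ↥pairGrp} {i j : ℕ} (hi : i < 24) (hj : j < 24)
    (h : app (code σ) i = app (code σ) j) : i = j := by
  have h2 := code_app (σ := σ) hi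
  rw [h, ← code_app hj] at h2
  have h3 := congrArg (fun a => (ptEnc a).val) ((σ : Equiv.Perm GolayPt).injective h2)
  simpa [idx_val hi, idx_val hj] using h3

theorem code_inv_app (σ : ↥pairGrp) {i : ℕ} (hi : i < 24) : app (code σ⁻¹) (app (code σ) i) = i := by
  rw [← code_mul_app _ _ hi, inv_mul_cancel, code_val hi, OneMemClass.coe_one, Equiv.Perm.one_apply,
    idx_val hi]

/-- Every element of `pairGrp` fixes or exchanges the two points. -/
theorem code_far (σ : ↥pairGrp) :
    app (code σ) 23 = 23 ∧ app (code σ) 0 = 0 ∨ app (code σ) 23 = 0 ∧ app (code σ) 0 = 23 := by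
  have e23 : ∀ j, j < 24 → (app (code σ) 23 = j ↔ (σ : Equiv.Perm GolayPt) (idx ptEnc 23) = idx ptEnc j) :=
    fun j hj => (apply_idx_eq_iff (rep_canon _) (by norm_num) hj).symm
  have e0 : ∀ j, j < 24 → (app (code σ) 0 = j ↔ (σ : Equiv.Perm GolayPt) (idx ptEnc 0) = idx ptEnc j) :=
    fun j hj => (apply_idx_eq_iff (rep_canon _) (by norm_num) hj).symm
  rcases (mem_pairGrp.1 σ.2).2 with ⟨h1, h2⟩ | ⟨h1, h2⟩
  · exact Or.inl ⟨(e23 23 (by norm_num)).2 (by rw [idx_none]; exact h1),
      (e0 0 (by norm_num)).2 (by rw [idx_zero]; exact h2)⟩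
  · exact Or.inr ⟨(e23 0 (by norm_num)).2 (by rw [idx_none, idx_zero]; exact h1),
      (e0 23 (by norm_num)).2 (by rw [idx_zero, idx_none]; exact h2)⟩

/-- The elements of the inner part as elements of `M₂₂`. -/
theorem mem_inner_iff {σ : ↥pairGrp} : σ ∈ innerPair ↔ (σ : Equiv.Perm GolayPt) ∈ Spor.M22 :=
  mem_subgroupOf

theorem stab22 : levelsOK 24 [] levels22 = true := by decide +kernel

/-- The inner elements meeting the condition at each stage of the base. -/
def pinned (cond : List ℕ → ℕ → Bool) : List ℕ := stageSearch 24 cond levels22 [] (packId 24)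

theorem code_eq_of_rep {σ : ↥pairGrp} {l : ℕ} (h : Rep ptEnc (σ : Equiv.Perm GolayPt) l)
    (hl : canonNum l = l) : code σ = l := by
  rw [code, canon_eq h, hl]

theorem mem_pinned {σ : ↥pairGrp} (hσ : σ ∈ innerPair) (cond : List ℕ → ℕ → Bool)
    (hc : ∀ F a, (∀ i ∈ F, i < 24 ∧ app a i = app (code σ) i) → cond F a = true) :
    ∃ l ∈ pinned cond, Rep ptEnc (σ : Equiv.Perm GolayPt) l := by
  obtain ⟨l, hl, hr⟩ := mem_stageSearch (e := ptEnc) (H := Spor.M22) cond levels22 [] Spor.M22
    (by simp) (fun _ h _ => h) (by simp) stab22 M22_reps M22_upper.1 M22_upper.2 1 (packId 24)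
    (rep_packId (by norm_num)) _ (mem_inner_iff.1 hσ)
    (fun F a h => hc F a fun i hi => ⟨(h i hi).1, by rw [code_val (h i hi).1, (h i hi).2, one_mul]⟩)
  exact ⟨l, hl, by rwa [one_mul] at hr⟩

theorem exists_of_mem_pinned {cond : List ℕ → ℕ → Bool} {l : ℕ} (hl : l ∈ pinned cond) :
    ∃ σ : ↥pairGrp, σ ∈ innerPair ∧ Rep ptEnc (σ : Equiv.Perm GolayPt) l := by
  obtain ⟨σ, hσ, hr⟩ := rep_of_stageSearch (e := ptEnc) (G := Spor.M22) cond levels22 [] 1 (packId 24)
    M22_reps Spor.M22.one_mem (rep_packId (by norm_num)) l hl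
  exact ⟨⟨σ, M22_le hσ⟩, mem_inner_iff.2 hσ, hr⟩

/-! ### Pairs -/

/-- The pair is preserved. -/
def keep (l : ℕ) (q : ℕ × ℕ) : Bool :=
  (app l q.1 == q.1 && app l q.2 == q.2) || (app l q.1 == q.2 && app l q.2 == q.1)

theorem keep_iff {l i j : ℕ} :
    keep l (i, j) = true ↔ app l i = i ∧ app l j = j ∨ app l i = j ∧ app l j = i := by
  simp [keep]

theorem keep_mul {σ τ : ↥pairGrp} {i j : ℕ} (hi : i < 24) (hj : j < 24)
    (h1 : keep (code σ) (i, j) = true) (h2 : keep (code τ) (i, j) = true) :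
    keep (code (σ * τ)) (i, j) = true := by
  rw [keep_iff] at h1 h2 ⊢
  rw [code_mul_app _ _ hi, code_mul_app _ _ hj]
  rcases h2 with ⟨a, b⟩ | ⟨a, b⟩ <;> rw [a, b]
  · exact h1
  · exact h1.symm.imp (fun h => ⟨h.2, h.1⟩) fun h => ⟨h.2, h.1⟩

theorem keep_inv {σ : ↥pairGrp} {i j : ℕ} (hi : i < 24) (hj : j < 24)
    (h1 : keep (code σ) (i, j) = true) : keep (code σ⁻¹) (i, j) = true := by
  rw [keep_iff] at h1 ⊢
  have e1 := code_inv_app σ hi
  have e2 := code_inv_app σ hj
  rcases h1 with ⟨a, b⟩ | ⟨a, b⟩ <;> rw [a] at e1 <;> rw [b] at e2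
  · exact Or.inl ⟨e1, e2⟩
  · exact Or.inr ⟨e2, e1⟩

theorem keep_symm {l i j : ℕ} : keep l (i, j) = keep l (j, i) := by
  rw [Bool.eq_iff_iff, keep_iff, keep_iff]
  constructor <;> rintro (h | h)
  exacts [Or.inl h.symm, Or.inr h.symm, Or.inl h.symm, Or.inr h.symm]

/-- Elements exchanging the two points off, and the two points of, the base pair. -/
def pairSwaps : List (ℕ × ℕ) :=
  [(Data.swapFar, 0x91504070c0e0a0d03140b081610121306110f05020117),
    (Data.swapNear, 0x1716080e121407101113040f0905030a0c0b150d06010200)]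

theorem base_facts :
    (∀ l ∈ Data.elemList, (app l 23 = 23 → l ∈ Data.innerElem) ∧ app l 0 < 24) ∧
    (∀ l ∈ Data.innerElem, app l 23 = 23) := by
  decide +kernel

theorem keep_of_mem_normalizer {σ : ↥pairGrp} (h : σ ∈ normalizer (A0 : Set ↥pairGrp)) :
    keep (code σ) (1, 2) = true := by
  have key : ∀ i ∈ [1, 2], app (code σ) i ∈ [1, 2] := by
    intro i hi
    have hi24 : i < 24 := by revert hi; simp; omega
    have hmem : app (code σ) i ∈ [0, 1, 2, 23] := by
      refine fixed_facts.2 _ (code_lt hi24) fun l hl => ?_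
      obtain ⟨a, rfl⟩ := exists_code innerElem_ok hl
      have hb : σ⁻¹ * a * σ ∈ A0 := (mem_normalizer_iff''.1 h a).1 (innerElem_le hl)
      have hbI : σ⁻¹ * a * σ ∈ innerPair := by
        have := innerPair_normal.conj_mem a (fix23_iff.2 (base_facts.2 _ hl)) σ⁻¹
        rwa [inv_inv] at this
      have hbe : code (σ⁻¹ * a * σ) ∈ Data.innerElem :=
        (base_facts.1 _ hb).1 (fix23_iff.1 hbI)
      have hfix : app (code (σ⁻¹ * a * σ)) i = i := by
        have h12 : ∀ l ∈ Data.innerElem, app l 1 = 1 ∧ app l 2 = 2 := by decide +kernel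
        simp only [List.mem_cons, List.not_mem_nil, or_false] at hi
        rcases hi with rfl | rfl
        exacts [(h12 _ hbe).1, (h12 _ hbe).2]
      rw [show a = σ * (σ⁻¹ * a * σ) * σ⁻¹ by group, code_mul_app _ _ (code_lt hi24),
        code_inv_app σ hi24, code_mul_app _ _ hi24, hfix]
    have hne : app (code σ) i ≠ 23 ∧ app (code σ) i ≠ 0 := by
      have hi0 : i ≠ 0 ∧ i ≠ 23 := by revert hi; simp; omega
      constructor <;> intro e <;> rcases code_far σ with ⟨a, b⟩ | ⟨a, b⟩
      exacts [hi0.2 (code_inj_app hi24 (by norm_num) (e.trans a.symm)),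
        hi0.1 (code_inj_app hi24 (by norm_num) (e.trans b.symm)),
        hi0.1 (code_inj_app hi24 (by norm_num) (e.trans b.symm)),
        hi0.2 (code_inj_app hi24 (by norm_num) (e.trans a.symm))]
    revert hmem
    simp only [List.mem_cons, List.not_mem_nil, or_false]
    omega
  have h1 := key 1 (by simp)
  have h2 := key 2 (by simp)
  simp only [List.mem_cons, List.not_mem_nil, or_false] at h1 h2
  have hne : app (code σ) 1 ≠ app (code σ) 2 := fun e => by
    have := code_inj_app (σ := σ) (by norm_num) (by norm_num) e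
    omega
  rw [keep_iff]
  omega

/-- The stabiliser of the points 1 and 2 in `M₂₂` by the levels of its chain. -/
def tail22 : List CertLevel := levels22.drop 2

theorem base_chain : levels22.take 2 ++ tail22 = levels22 ∧
    (levels22.take 2).map (fun p => p.1) = [1, 2] ∧
    (allReps tail22).all (fun t => memPair t && canonNum t == t &&
      Data.elemList.all fun a => Data.elemList.any fun b => packMulS 24 b t == packMulS 24 t a) = true ∧
    (pairSwaps.all fun p => invPair p && normA p && keep p.1 (1, 2)) = true ∧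
    app Data.swapFar 23 = 0 ∧ app Data.swapNear 23 = 23 ∧ app Data.swapNear 1 = 2 := by
  decide +kernel

theorem mem_normalizer_A0 {σ : ↥pairGrp} :
    σ ∈ normalizer (A0 : Set ↥pairGrp) ↔ keep (code σ) (1, 2) = true := by
  refine ⟨keep_of_mem_normalizer, fun h => ?_⟩
  obtain ⟨happ, hbase, htail, hsw, hfar, hnear, hnear1⟩ := base_chain
  simp only [pairSwaps, List.all_cons, List.all_nil, Bool.and_true, Bool.and_eq_true] at hsw
  obtain ⟨⟨⟨hi1, hn1⟩, hk1⟩, ⟨hi2, hn2⟩, hk2⟩ := hsw
  obtain ⟨s, hs1, hs2⟩ := exists_of_invPair hi1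
  obtain ⟨t, ht1, ht2⟩ := exists_of_invPair hi2
  have hsN := (normA_iff hs1 hs2).1 hn1
  have htN := (normA_iff ht1 ht2).1 hn2
  dsimp only at hs1 ht1
  rw [← hs1] at hk1
  rw [← ht1] at hk2
  -- inner elements fixing the two points
  have inner : ∀ ρ : ↥pairGrp, ρ ∈ innerPair → app (code ρ) 1 = 1 → app (code ρ) 2 = 2 →
      ρ ∈ normalizer (A0 : Set ↥pairGrp) := by
    intro ρ hρ h1 h2
    have hup := M22_upper.1
    have hbot := M22_upper.2
    rw [← happ, upper_append] at hup
    rw [← happ, List.map_append] at hbot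
    have hK : (ρ : Equiv.Perm GolayPt) ∈ fixList Spor.M22 ((levels22.take 2).map fun p => idx ptEnc p.1) := by
      rw [mem_fixList, show ((levels22.take 2).map fun p => idx ptEnc p.1) =
        ((levels22.take 2).map fun p => p.1).map (idx ptEnc) by rw [List.map_map]; rfl, hbase]
      refine ⟨mem_inner_iff.1 hρ, ?_⟩
      simp only [List.map_cons, List.map_nil, List.forall_mem_cons, List.not_mem_nil, IsEmpty.forall_iff,
        implies_true, and_true]
      exact ⟨by rw [code_app (by norm_num), h1], by rw [code_app (by norm_num), h2]⟩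
    have hbot' : fixList (fixList Spor.M22 ((levels22.take 2).map fun p => idx ptEnc p.1))
        (tail22.map fun p => idx ptEnc p.1) = ⊥ := by
      rw [eq_bot_iff, ← hbot]
      intro g hg
      simp only [mem_fixList, List.forall_mem_append] at hg ⊢
      exact ⟨hg.1.1, hg.1.2, hg.2⟩
    obtain ⟨l, hl, hlr⟩ := exists_mem_prodList_aux (e := ptEnc) (H := Spor.M22) (by norm_num) tail22
      [2, 1] _ (by simp) (fun g hg hfix => by
        rw [mem_fixList, show ((levels22.take 2).map fun p => idx ptEnc p.1) =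
          ((levels22.take 2).map fun p => p.1).map (idx ptEnc) by rw [List.map_map]; rfl, hbase]
        refine ⟨hg, fun b hb => ?_⟩
        simp only [List.map_cons, List.map_nil, List.mem_cons, List.not_mem_nil, or_false] at hb
        rcases hb with rfl | rfl
        exacts [hfix 1 (by simp), hfix 2 (by simp)])
      (by decide +kernel) (fun t ht => M22_reps t (by
        rw [← happ, allReps, List.flatMap_append]; exact List.mem_append_right _ ht))
      hup.2 hbot' _ hK
    simp only [List.all_eq_true, List.any_eq_true, Bool.and_eq_true, beq_iff_eq] at htail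
    obtain ⟨τ, hτ, hτr⟩ := mem_of_prodList (e := ptEnc)
      (H := (normalizer (A0 : Set ↥pairGrp)).map pairGrp.subtype) (by norm_num) tail22
      (fun x hx => by
        obtain ⟨⟨hm, hcan⟩, hconj⟩ := htail x hx
        obtain ⟨τ, hτ⟩ := exists_rep_pair hm
        refine ⟨_, ⟨τ, ?_, rfl⟩, hτ⟩
        have hc : code τ = x := code_eq_of_rep hτ hcan
        refine mem_normalizer_iff_map_conj_eq.2
          (Subgroup.eq_of_le_of_card_ge ?_ (le_of_eq (card_cj τ A0).symm))
        rintro _ ⟨a, ha, rfl⟩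
        obtain ⟨b, hb, hbe⟩ := hconj _ ha
        obtain ⟨b', rfl⟩ := exists_code elemList_ok hb
        rw [← hc, ← code_mul, ← code_mul] at hbe
        show code (τ * a * τ⁻¹) ∈ Data.elemList
        rw [← code_injective hbe, mul_inv_cancel_right]
        exact hb) l hl
    obtain ⟨τ', hτ', rfl⟩ := hτ
    rwa [show ρ = τ' from Subtype.ext (hlr.unique hτr)]
  -- inner elements preserving the pair
  have inner' : ∀ ρ : ↥pairGrp, ρ ∈ innerPair → keep (code ρ) (1, 2) = true →
      ρ ∈ normalizer (A0 : Set ↥pairGrp) := by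
    intro ρ hρ hk
    rcases keep_iff.1 hk with ⟨a, b⟩ | ⟨a, b⟩
    · exact inner ρ hρ a b
    have htI : t ∈ innerPair := fix23_iff.2 (ht1 ▸ hnear)
    have h3 : app (code (t * ρ)) 1 ≠ 2 := fun e => by
      rw [code_mul_app _ _ (by norm_num), a] at e
      have e1 : app (code t) 1 = 2 := ht1 ▸ hnear1
      have := code_inj_app (σ := t) (by norm_num) (by norm_num) (e.trans e1.symm)
      omega
    rcases keep_iff.1 (keep_mul (by norm_num) (by norm_num) hk2 hk) with ⟨c, d⟩ | ⟨c, -⟩
    · have := Subgroup.mul_mem _ (Subgroup.inv_mem _ htN) (inner _ (mul_mem htI hρ) c d)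
      rwa [inv_mul_cancel_left] at this
    · exact absurd c h3
  by_cases hI : σ ∈ innerPair
  · exact inner' σ hI h
  have hsI : s ∉ innerPair := fun e => by
    have := fix23_iff.1 e
    rw [hs1, hfar] at this
    omega
  have hmem : s * σ ∈ innerPair := (Subgroup.mul_mem_iff_of_index_two innerPair_index).2 (iff_of_false hsI hI)
  have := Subgroup.mul_mem _ (Subgroup.inv_mem _ hsN)
    (inner' _ hmem (keep_mul (by norm_num) (by norm_num) hk1 h))
  rwa [inv_mul_cancel_left] at this

theorem mem_normalizer_cj_A0 {k σ : ↥pairGrp} :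
    σ ∈ normalizer (cj k A0 : Set ↥pairGrp) ↔
      keep (code σ) (app (code k) 1, app (code k) 2) = true := by
  rw [mem_normalizer_cj, mem_normalizer_A0, keep_iff, keep_iff]
  have e : ∀ i j, i < 24 → j < 24 →
      (app (code (k⁻¹ * σ * k)) i = j ↔ app (code σ) (app (code k) i) = app (code k) j) := by
    intro i j hi hj
    rw [mul_assoc, code_mul_app _ _ hi, code_mul_app _ _ hi]
    constructor
    · intro h
      rw [← h]
      have := code_inv_app k⁻¹ (code_lt (σ := σ) (code_lt (σ := k) hi))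
      rw [inv_inv] at this
      exact this.symm
    · intro h; rw [h, code_inv_app k hj]
  rw [e 1 1 (by norm_num) (by norm_num), e 2 2 (by norm_num) (by norm_num),
    e 1 2 (by norm_num) (by norm_num), e 2 1 (by norm_num) (by norm_num)]

/-- Two conjugates of `A0` with the same pair. -/
theorem cj_A0_eq {k k' : ↥pairGrp}
    (h : app (code k) 1 = app (code k') 1 ∧ app (code k) 2 = app (code k') 2 ∨
      app (code k) 1 = app (code k') 2 ∧ app (code k) 2 = app (code k') 1) : cj k A0 = cj k' A0 := by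
  have hn : k⁻¹ * k' ∈ normalizer (A0 : Set ↥pairGrp) := by
    rw [mem_normalizer_A0, keep_iff, code_mul_app _ _ (by norm_num), code_mul_app _ _ (by norm_num)]
    rcases h with ⟨a, b⟩ | ⟨a, b⟩
    · rw [← a, ← b, code_inv_app k (by norm_num), code_inv_app k (by norm_num)]; simp
    · rw [← a, ← b, code_inv_app k (by norm_num), code_inv_app k (by norm_num)]; simp
  have h2 : cj (k⁻¹ * k') A0 = A0 := mem_normalizer_iff_map_conj_eq.1 hn
  conv_lhs => rw [← h2]
  rw [cj_cj, mul_inv_cancel_left]

/-- `M₂₂` is transitive on ordered pairs of the 22 points. -/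
theorem exists_mover {i j : ℕ} (hi : 1 ≤ i ∧ i ≤ 22) (hj : 1 ≤ j ∧ j ≤ 22) (hij : i ≠ j) :
    ∃ k : ↥pairGrp, k ∈ innerPair ∧ app (code k) 1 = i ∧ app (code k) 2 = j := by
  have h : ((List.range 23).all fun i => (List.range 23).all fun j =>
      i == 0 || j == 0 || i == j ||
        (((levels22.getD 0 (0, [], [])).2.2).any fun s =>
          app s 1 == i && ((levels22.getD 1 (0, [], [])).2.2).any fun t =>
            app s (app t 2) == j && app t 1 == 1)) = true := by decide +kernel
  simp only [List.all_eq_true, List.any_eq_true, List.mem_range, Bool.or_eq_true, Bool.and_eq_true,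
    beq_iff_eq] at h
  rcases h i (by omega) j (by omega) with ((e | e) | e) | ⟨s, hs, hs1, t, ht, ht2, ht1⟩
  · omega
  · omega
  · exact absurd e hij
  obtain ⟨σ, hσ, hσr⟩ := M22_reps s (List.mem_flatMap.2 ⟨levels22.getD 0 (0, [], []),
    by decide +kernel, hs⟩)
  obtain ⟨τ, hτ, hτr⟩ := M22_reps t (List.mem_flatMap.2 ⟨levels22.getD 1 (0, [], []),
    by decide +kernel, ht⟩)
  let a : ↥pairGrp := ⟨σ, M22_le hσ⟩
  let b : ↥pairGrp := ⟨τ, M22_le hτ⟩
  have ea : ∀ x, x < 24 → app (code a) x = app s x := fun x hx => by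
    rw [code_val hx, hσr, idx_val hx]
  have eb : ∀ x, x < 24 → app (code b) x = app t x := fun x hx => by
    rw [code_val hx, hτr, idx_val hx]
  refine ⟨a * b, mem_inner_iff.2 (Spor.M22.mul_mem hσ hτ), ?_, ?_⟩
  · rw [code_mul_app _ _ (by norm_num), eb 1 (by norm_num), ht1, ea 1 (by norm_num), hs1]
  · rw [code_mul_app _ _ (by norm_num), eb 2 (by norm_num), ea _ (hτr.app_lt (by norm_num)), ht2]

/-- The pair of a group of order 32. -/
theorem exists_pair {A : Subgroup ↥pairGrp} (hA : IsThirtyTwo A) :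
    ∃ k : ↥pairGrp, A = cj k A0 ∧ (1 ≤ app (code k) 1 ∧ app (code k) 1 ≤ 22) ∧
      (1 ≤ app (code k) 2 ∧ app (code k) 2 ≤ 22) ∧ app (code k) 1 ≠ app (code k) 2 := by
  obtain ⟨k, rfl⟩ := exists_conj_A0 hA
  have hne : ∀ i, i ∈ [1, 2] → 1 ≤ app (code k) i ∧ app (code k) i ≤ 22 := by
    intro i hi
    have hi24 : i < 24 ∧ i ≠ 0 ∧ i ≠ 23 := by revert hi; simp; omega
    have h := code_lt (σ := k) hi24.1
    constructor <;> by_contra hc <;> rcases code_far k with ⟨a, b⟩ | ⟨a, b⟩
    exacts [hi24.2.1 (code_inj_app (σ := k) hi24.1 (by norm_num) (by omega)),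
      hi24.2.2 (code_inj_app (σ := k) hi24.1 (by norm_num) (by omega)),
      hi24.2.2 (code_inj_app (σ := k) hi24.1 (by norm_num) (by omega)),
      hi24.2.1 (code_inj_app (σ := k) hi24.1 (by norm_num) (by omega))]
  refine ⟨k, rfl, hne 1 (by simp), hne 2 (by simp), fun e => ?_⟩
  have := code_inj_app (σ := k) (by norm_num) (by norm_num) e
  omega

end Cfsg.Agent.JankoFour.Hex
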