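import Mathlib


/-!
# A recognition of the symmetric group of degree five

A group of order 120 with an inverted element of order three with centralizer of order six
and without central involutions is the symmetric group of degree five.
-/

namespace Cfsg.Agent.JankoFour

set_option linter.style.haveILetI false

open Subgroup MulAction
open scoped Pointwise

universe u

/-- A subgroup of index six of the symmetric group of degree six is symmetric of degree five. -/
theorem perm_six_subgroup_card_120 (H : Subgroup (Equiv.Perm (Fin 6))) (hH : Nat.card H = 120) :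
    Nonempty (H ≃* Equiv.Perm (Fin 5)) := by
  classical
  set P := Equiv.Perm (Fin 6) with hP
  have hP6 : Nat.card P = 720 := by
    rw [hP, Nat.card_eq_fintype_card, Fintype.card_perm, Fintype.card_fin]; rfl
  have hX : Nat.card (P ⧸ H) = 6 := by
    have h := H.card_mul_index
    rw [hH, hP6] at h
    rw [← Subgroup.index_eq_card]
    omega
  let φ : P →* Equiv.Perm (P ⧸ H) := MulAction.toPermHom P (P ⧸ H)
  have hker : φ.ker = ⊥ := by
    by_contra hne
    haveI : Nontrivial φ.ker := (Subgroup.nontrivial_iff_ne_bot _).2 hne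
    have h1 : alternatingGroup (Fin 6) ≤ φ.ker :=
      Equiv.Perm.alternatingGroup_le_of_normal (by simp) inferInstance
    have h2 : φ.ker ≤ H := by
      show (MulAction.toPermHom P (P ⧸ H)).ker ≤ H
      rw [← Subgroup.normalCore_eq_ker]
      exact H.normalCore_le
    have h3 := Subgroup.card_le_of_le (h1.trans h2)
    rw [hH, nat_card_alternatingGroup, Nat.card_eq_fintype_card, Fintype.card_fin] at h3
    norm_num [Nat.factorial] at h3
  have hφ : Function.Injective φ := (MonoidHom.ker_eq_bot_iff φ).1 hker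
  let a : P ⧸ H := ((1 : P) : P ⧸ H)
  have hst : ∀ g : H, φ g ∈ MulAction.stabilizer (Equiv.Perm (P ⧸ H)) a := fun g => by
    rw [MulAction.mem_stabilizer_iff]
    show (g : P) • ((1 : P) : P ⧸ H) = ((1 : P) : P ⧸ H)
    rw [MulAction.Quotient.smul_coe, smul_eq_mul, mul_one, eq_comm, QuotientGroup.eq]
    simp
  let S := MulAction.stabilizer (Equiv.Perm (P ⧸ H)) a
  haveI : Fintype (P ⧸ H) := Fintype.ofFinite _
  have hS : Nat.card S = 120 := by
    have h := Subgroup.card_mul_index S
    rw [MulAction.index_stabilizer_of_transitive, hX, Nat.card_perm, hX] at h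
    norm_num [Nat.factorial] at h
    rw [Nat.card_eq_fintype_card]
    omega
  let f : H →* S := (φ.comp H.subtype).codRestrict S hst
  have hf : Function.Injective f := fun x y h =>
    Subtype.ext (hφ (congrArg Subtype.val h))
  have hfb : Function.Bijective f := (Nat.bijective_iff_injective_and_card f).2 ⟨hf, by rw [hH, hS]⟩
  let R := {x : P ⧸ H // x ≠ a}
  let g : Equiv.Perm R →* S := (Equiv.Perm.ofSubtype).codRestrict S fun σ => by
    show (Equiv.Perm.ofSubtype σ) a = a
    exact Equiv.Perm.ofSubtype_apply_of_not_mem σ (by simp)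
  have hR : Nat.card R = 5 := by
    have : Nat.card R = Nat.card (P ⧸ H) - 1 := by
      rw [Nat.card_eq_fintype_card, Nat.card_eq_fintype_card, Fintype.card_subtype_compl,
        Fintype.card_subtype_eq]
    omega
  have hgb : Function.Bijective g := (Nat.bijective_iff_injective_and_card g).2
    ⟨fun x y h => Equiv.Perm.ofSubtype_injective (congrArg Subtype.val h),
      by rw [hS, Nat.card_perm, hR]; rfl⟩
  let e : R ≃ Fin 5 := (Finite.equivFin R).trans (finCongr hR)
  exact ⟨(MulEquiv.ofBijective f hfb).trans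
    ((MulEquiv.ofBijective g hgb).symm.trans e.permCongrHom)⟩

/-- Recognition of the symmetric group of degree five. -/
theorem perm_five_of_card {K : Type u} [Group K] [Finite K] (hK : Nat.card K = 120) {p : K}
    (hp : orderOf p = 3) (h6 : Nat.card (centralizer ({p} : Set K)) = 6)
    (hinv : ∃ y : K, y * p * y⁻¹ = p⁻¹)
    (hcen : ∀ g : K, orderOf g = 2 → g ∉ Subgroup.center K) :
    Nonempty (K ≃* Equiv.Perm (Fin 5)) := by
  classical
  haveI : Fact (Nat.Prime 5) := ⟨by norm_num⟩
  obtain ⟨y, hy⟩ := hinv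
  have hfac : (Nat.card K).factorization 5 = 1 := by
    have e : Nat.card K = 24 * 5 := by rw [hK]
    rw [e, Nat.factorization_mul (by norm_num) (by norm_num), Finsupp.add_apply,
      Nat.Prime.factorization_self (by norm_num : Nat.Prime 5),
      Nat.factorization_eq_zero_of_not_dvd (by norm_num : ¬ 5 ∣ 24)]
  have hQ5 : ∀ Q : Sylow 5 K, Nat.card Q = 5 := fun Q => by
    rw [Q.card_eq_multiplicity, hfac, pow_one]
  have h5 : ∀ q : K, Commute q p → q ^ 5 = 1 → q = 1 := fun q hq hq5 => by
    have h1 : orderOf q ∣ 5 := orderOf_dvd_of_pow_eq_one hq5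
    have h2 : orderOf q ∣ 6 := h6 ▸ Subgroup.orderOf_dvd_natCard _
      (mem_centralizer_singleton_iff.2 hq.eq)
    exact orderOf_eq_one_iff.1 (Nat.dvd_one.1 (by simpa using Nat.dvd_gcd h1 h2))
  have hn : Nat.card (Sylow 5 K) = 6 := by
    obtain ⟨Q⟩ : Nonempty (Sylow 5 K) := inferInstance
    have hd : Nat.card (Sylow 5 K) ∣ 24 := by
      have hi := (Q : Subgroup K).card_mul_index
      rw [hK] at hi
      rw [show Nat.card (Q : Subgroup K) = 5 from hQ5 Q] at hi
      rw [show 24 = (Q : Subgroup K).index by omega]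
      exact Q.card_dvd_index
    have hm : Nat.card (Sylow 5 K) % 5 = 1 := card_sylow_modEq_one 5 K
    have hle := Nat.le_of_dvd (by norm_num) hd
    by_contra hne
    have h1 : Nat.card (Sylow 5 K) = 1 := by
      rcases Nat.eq_zero_or_pos (Nat.card (Sylow 5 K)) with h | h
      · simp [h] at hm
      · interval_cases Nat.card (Sylow 5 K) <;> omega
    haveI : Subsingleton (Sylow 5 K) := (Nat.card_eq_one_iff_unique.1 h1).1
    haveI hN : (Q : Subgroup K).Normal := Q.normal_of_subsingleton
    obtain ⟨q, hq⟩ := (Nat.card_eq_one_iff_exists (α := Q)).not.1 (by rw [hQ5 Q]; norm_num) |>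
      fun h => (not_exists.1 h (1 : Q)) |> not_forall.1
    have hgen : ∀ x ∈ (Q : Subgroup K), ∃ i : ℤ, (q : K) ^ i = x := fun x hx => by
      have hz : Subgroup.zpowers (q : K) = (Q : Subgroup K) := by
        refine Subgroup.eq_of_le_of_card_ge (Subgroup.zpowers_le.2 q.2) ?_
        have h1 : orderOf (q : K) ∣ 5 := (congrArg (orderOf (q : K) ∣ ·) (hQ5 Q)).mp
          (Subgroup.orderOf_dvd_natCard (Q : Subgroup K) q.2)
        rcases (Nat.dvd_prime (by norm_num : Nat.Prime 5)).1 h1 with h | h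
        · exact absurd (Subtype.ext (orderOf_eq_one_iff.1 h)) hq
        · rw [Nat.card_zpowers, h, show Nat.card (Q : Subgroup K) = 5 from hQ5 Q]
      exact Subgroup.mem_zpowers_iff.1 (by rw [hz]; exact hx)
    obtain ⟨a, ha⟩ := hgen _ (hN.conj_mem _ q.2 p)
    obtain ⟨b, hb⟩ := hgen _ (hN.conj_mem _ q.2 y)
    have e1 : p * (q : K) ^ b * p⁻¹ = (q : K) ^ (a * b) := by
      rw [← conj_zpow, ← ha, ← zpow_mul]
    have e2 : p⁻¹ * (q : K) ^ b * p = (q : K) ^ (a * b) := by
      have : p⁻¹ * (q : K) ^ b * p = y * (p * (q : K) * p⁻¹) * y⁻¹ := by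
        rw [hb]
        calc p⁻¹ * (y * (q : K) * y⁻¹) * p
            = (y * p * y⁻¹) * (y * (q : K) * y⁻¹) * (y * p * y⁻¹)⁻¹ := by rw [hy, inv_inv]
          _ = y * (p * (q : K) * p⁻¹) * y⁻¹ := by group
      rw [this, ← ha, ← conj_zpow, ← hb, ← zpow_mul, mul_comm]
    have hc : Commute ((q : K) ^ b) (p * p) := by
      have h := e2.trans e1.symm
      calc (q : K) ^ b * (p * p) = p * (p⁻¹ * (q : K) ^ b * p) * p := by group
        _ = p * (p * (q : K) ^ b * p⁻¹) * p := by rw [h]
        _ = p * p * (q : K) ^ b := by group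
    have hp4 : p * p * (p * p) = p := by
      have := pow_orderOf_eq_one p
      rw [hp, pow_succ, pow_two] at this
      calc p * p * (p * p) = p * p * p * p := by group
        _ = p := by rw [this, one_mul]
    have hcp : Commute ((q : K) ^ b) p := hp4 ▸ hc.mul_right hc
    have hq5 : (q : K) ^ 5 = 1 := by
      have h := pow_card_eq_one' (x := q)
      rw [hQ5 Q] at h
      exact_mod_cast congrArg Subtype.val h
    have h0 := h5 _ hcp (by rw [← zpow_natCast, ← zpow_mul, mul_comm, zpow_mul, zpow_natCast, hq5, one_zpow])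
    rw [hb, conj_eq_one_iff] at h0
    exact hq (Subtype.ext h0)
  let φ : K →* Equiv.Perm (Sylow 5 K) := MulAction.toPermHom K (Sylow 5 K)
  set M := φ.ker with hM
  have hMN : ∀ m ∈ M, ∀ Q : Sylow 5 K, m ∈ normalizer (Q : Set K) := fun m hm Q => by
    rw [← Sylow.smul_eq_iff_mem_normalizer]
    exact Equiv.congr_fun hm Q
  have hQQ : ∀ Q Q' : Sylow 5 K, (Q' : Subgroup K) ≤ normalizer (Q : Set K) → Q' = Q := fun Q Q' h => by
    have h1 : (Q' : Subgroup K) ⊓ (Q : Subgroup K) = Q' := by
      rw [← IsPGroup.inf_normalizer_sylow Q'.2 Q, inf_eq_left.2 h]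
    exact Sylow.ext (Subgroup.eq_of_le_of_card_ge (inf_eq_left.1 h1) (by rw [hQ5 Q', hQ5 Q]))
  have hne : ∃ Q Q' : Sylow 5 K, Q ≠ Q' := by
    by_contra h
    push Not at h
    haveI : Subsingleton (Sylow 5 K) := ⟨h⟩
    have := Finite.card_le_one_iff_subsingleton.2 this
    omega
  have hdis : ∀ Q : Sylow 5 K, M ⊓ (Q : Subgroup K) = ⊥ := fun Q => by
    by_contra h
    have hQM : (Q : Subgroup K) ≤ M := by
      have h1 := Subgroup.card_dvd_of_le (inf_le_right : M ⊓ (Q : Subgroup K) ≤ Q)
      rw [show Nat.card (Q : Subgroup K) = 5 from hQ5 Q] at h1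
      rcases (Nat.dvd_prime (by norm_num : Nat.Prime 5)).1 h1 with h2 | h2
      · exact absurd (Subgroup.card_eq_one.1 h2) h
      · exact inf_eq_right.1 (Subgroup.eq_of_le_of_card_ge inf_le_right
          (by rw [h2, show Nat.card (Q : Subgroup K) = 5 from hQ5 Q]))
    obtain ⟨Q₁, Q₂, h12⟩ := hne
    have hall : ∀ R : Sylow 5 K, R = Q := fun R =>
      (hQQ R Q (fun x hx => hMN x (hQM hx) R)).symm
    exact h12 ((hall Q₁).trans (hall Q₂).symm)
  let W := centralizer (M : Set K)
  haveI : W.Normal := Subgroup.normal_centralizer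
  have hQW : ∀ Q : Sylow 5 K, (Q : Subgroup K) ≤ W := fun Q q hq m hm => by
    have h1 : m * q * m⁻¹ * q⁻¹ ∈ M ⊓ (Q : Subgroup K) := by
      refine ⟨?_, mul_mem ((mem_normalizer_iff.1 (hMN m hm Q) q).1 hq) ((Q : Subgroup K).inv_mem hq)⟩
      rw [show m * q * m⁻¹ * q⁻¹ = m * (q * m⁻¹ * q⁻¹) by group]
      exact mul_mem hm ((inferInstance : M.Normal).conj_mem _ (inv_mem hm) q)
    rw [hdis Q, Subgroup.mem_bot, mul_inv_eq_one, mul_inv_eq_iff_eq_mul] at h1
    exact h1
  haveI : Fact (Nat.Prime 3) := ⟨by norm_num⟩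
  have h3W : 3 ∣ Nat.card W := by
    by_contra h3
    obtain ⟨Q₁, Q₂, h12⟩ := hne
    let R : Sylow 5 W := Q₁.subtype (hQW Q₁)
    have hR : Nat.card (R : Subgroup W) = 5 := by
      show Nat.card ((Q₁ : Subgroup K).subgroupOf W) = 5
      rw [Nat.card_congr (subgroupOfEquivOfLe (hQW Q₁)).toEquiv]
      exact hQ5 Q₁
    have hi := (R : Subgroup W).card_mul_index
    rw [hR] at hi
    have hWd : Nat.card W ∣ 3 * 40 := by
      rw [show (3 * 40 : ℕ) = 120 by norm_num, ← hK]; exact W.card_subgroup_dvd_card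
    have h40 : Nat.card W ∣ 40 :=
      ((Nat.Prime.coprime_iff_not_dvd (by norm_num : Nat.Prime 3)).2 h3).symm.dvd_of_dvd_mul_left hWd
    rw [← hi] at h40
    have h8 : (R : Subgroup W).index ∣ 8 := Nat.dvd_of_mul_dvd_mul_left (by norm_num : 0 < 5) h40
    have hd := R.card_dvd_index.trans h8
    have hm : Nat.card (Sylow 5 W) % 5 = 1 := card_sylow_modEq_one 5 W
    have hle := Nat.le_of_dvd (by norm_num) hd
    have h1 : Nat.card (Sylow 5 W) = 1 := by
      interval_cases Nat.card (Sylow 5 W) <;> omega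
    haveI : Subsingleton (Sylow 5 W) := (Nat.card_eq_one_iff_unique.1 h1).1
    exact h12 (Sylow.subtype_injective (Subsingleton.elim R (Q₂.subtype (hQW Q₂))))
  have hpW : p ∈ W := by
    obtain ⟨r, hr⟩ := exists_prime_orderOf_dvd_card' 3 h3W
    have hr' : orderOf (r : K) = 3 := by rw [Subgroup.orderOf_coe, hr]
    have hfac3 : (Nat.card K).factorization 3 = 1 := by
      have e : Nat.card K = 40 * 3 := by rw [hK]
      rw [e, Nat.factorization_mul (by norm_num) (by norm_num), Finsupp.add_apply,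
        Nat.Prime.factorization_self (by norm_num : Nat.Prime 3),
        Nat.factorization_eq_zero_of_not_dvd (by norm_num : ¬ 3 ∣ 40)]
    let A : Sylow 3 K := Sylow.ofCard (zpowers (r : K)) (by rw [Nat.card_zpowers, hr', hfac3]; rfl)
    let B : Sylow 3 K := Sylow.ofCard (zpowers p) (by rw [Nat.card_zpowers, hp, hfac3]; rfl)
    obtain ⟨g, hg⟩ := MulAction.exists_smul_eq K A B
    have hpm : p ∈ ((g • A : Sylow 3 K) : Subgroup K) := by
      rw [hg]; exact Subgroup.mem_zpowers p
    rw [Sylow.coe_subgroup_smul] at hpm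
    have hle : MulAut.conj g • (zpowers (r : K)) ≤ W := by
      rintro x ⟨w, hw, rfl⟩
      exact (inferInstance : W.Normal).conj_mem w (Subgroup.zpowers_le.2 r.2 hw) g
    exact hle hpm
  have hMbot : M = ⊥ := by
    obtain ⟨Q⟩ : Nonempty (Sylow 5 K) := inferInstance
    have hMC : M ≤ centralizer ({p} : Set K) := fun m hm =>
      mem_centralizer_singleton_iff.2 (hpW m hm)
    have hMN' : M ≤ normalizer (Q : Set K) := fun m hm => hMN m hm Q
    have hNQ : Nat.card (normalizer (Q : Set K)) = 20 := by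
      have h1 := Subgroup.card_mul_index (normalizer (Q : Set K))
      rw [← Q.card_eq_index_normalizer, hn, hK] at h1
      omega
    have hd : Nat.card M ∣ Nat.gcd 6 20 :=
      Nat.dvd_gcd (h6 ▸ Subgroup.card_dvd_of_le hMC) (hNQ ▸ Subgroup.card_dvd_of_le hMN')
    rcases (Nat.dvd_prime Nat.prime_two).1 (by simpa using hd) with h | h
    · exact Subgroup.card_eq_one.1 h
    · exfalso
      obtain ⟨m, hm⟩ := exists_prime_orderOf_dvd_card' 2 (by rw [h] : 2 ∣ Nat.card M)
      have hm2 : orderOf (m : K) = 2 := by rw [Subgroup.orderOf_coe, hm]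
      refine hcen m hm2 (Subgroup.mem_center_iff.2 fun g => ?_)
      have hg : g * (m : K) * g⁻¹ ∈ M := (inferInstance : M.Normal).conj_mem _ m.2 g
      have hgo : orderOf (g * (m : K) * g⁻¹) = 2 := by
        rw [show g * (m : K) * g⁻¹ = MulAut.conj g (m : K) from rfl, MulEquiv.orderOf_eq, hm2]
      have huniq : ∀ x : M, orderOf (x : K) = 2 → x = m := fun x hx => by
        have hz : Subgroup.zpowers m = ⊤ :=
          Subgroup.eq_top_of_card_eq _ (by rw [Nat.card_zpowers, hm, h])
        obtain ⟨i, hi⟩ := Subgroup.mem_zpowers_iff.1 (hz.symm ▸ Subgroup.mem_top x)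
        rcases Int.even_or_odd i with ⟨j, rfl⟩ | ⟨j, rfl⟩
        · exfalso
          have : x = 1 := by
            rw [← hi, ← two_mul, zpow_mul, show m ^ (2 : ℤ) = 1 by
              rw [show (2 : ℤ) = ((2 : ℕ) : ℤ) from rfl, zpow_natCast, ← hm, pow_orderOf_eq_one], one_zpow]
          rw [this] at hx
          simp at hx
        · rw [← hi, zpow_add_one, zpow_mul, show m ^ (2 : ℤ) = 1 by
            rw [show (2 : ℤ) = ((2 : ℕ) : ℤ) from rfl, zpow_natCast, ← hm, pow_orderOf_eq_one],
            one_zpow, one_mul]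
      have := congrArg Subtype.val (huniq ⟨_, hg⟩ hgo)
      exact mul_inv_eq_iff_eq_mul.1 this
  have hφ : Function.Injective φ := (MonoidHom.ker_eq_bot_iff φ).1 hMbot
  let e : Sylow 5 K ≃ Fin 6 := (Finite.equivFin _).trans (finCongr hn)
  let ψ : K →* Equiv.Perm (Fin 6) := e.permCongrHom.toMonoidHom.comp φ
  have hψ : Function.Injective ψ := e.permCongrHom.injective.comp hφ
  obtain ⟨i⟩ := perm_six_subgroup_card_120 ψ.range
    (by rw [← Nat.card_congr (MonoidHom.ofInjective hψ).toEquiv, hK])
  exact ⟨(MonoidHom.ofInjective hψ).trans i⟩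

end Cfsg.Agent.JankoFour
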