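import Cfsg.Agent.Lib.Char.ClassSum
import Cfsg.Agent.Lib.CharInt.Congruence
import Cfsg.Agent.Lib.JankoFour.PermFive

/-!
# An element of order three with centralizer of order six

Character argument for a group with an inverted element `p` of order three whose centralizer
is generated by `p` and a commuting involution `z`.
-/

namespace Cfsg.Agent.JankoFour

open Subgroup Cfsg Cfsg.Agent
open scoped ComplexConjugate

set_option linter.style.haveILetI false

universe u

/-- An inverted element of order three with centralizer generated by it and an involution. -/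
structure SmallCent {K : Type*} [Group K] (z p : K) : Prop where
  z_ord : orderOf z = 2
  p_ord : orderOf p = 3
  comm : Commute z p
  cent : centralizer ({p} : Set K) = zpowers z ⊔ zpowers p
  inv : ∃ y : K, Commute y z ∧ y * p * y⁻¹ = p⁻¹

variable {K : Type u} [Group K] {z p : K}

namespace SmallCent

theorem ord_q (h : SmallCent z p) : orderOf (p * z) = 6 := by
  rw [h.comm.symm.orderOf_mul_eq_mul_orderOf_of_coprime (by rw [h.p_ord, h.z_ord]; norm_num),
    h.p_ord, h.z_ord]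

theorem z_sq (h : SmallCent z p) : z * z = 1 := by
  rw [← pow_two, ← h.z_ord, pow_orderOf_eq_one]

theorem p_cube (h : SmallCent z p) : p ^ 3 = 1 := by
  rw [← h.p_ord, pow_orderOf_eq_one]

theorem q_pow_three (h : SmallCent z p) : (p * z) ^ 3 = z := by
  rw [h.comm.symm.mul_pow, h.p_cube, one_mul, pow_succ, pow_two, h.z_sq, one_mul]

theorem q_pow_four (h : SmallCent z p) : (p * z) ^ 4 = p := by
  rw [h.comm.symm.mul_pow, pow_succ, h.p_cube, one_mul, pow_succ, pow_succ, pow_two, h.z_sq,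
    one_mul, h.z_sq, mul_one]

theorem cent_eq (h : SmallCent z p) : centralizer ({p} : Set K) = zpowers (p * z) := by
  refine h.cent.trans (le_antisymm (sup_le (zpowers_le.2 ?_) (zpowers_le.2 ?_)) (zpowers_le.2 ?_))
  · exact Subgroup.mem_zpowers_iff.2 ⟨3, by rw [zpow_ofNat]; exact h.q_pow_three⟩
  · exact Subgroup.mem_zpowers_iff.2 ⟨4, by rw [zpow_ofNat]; exact h.q_pow_four⟩
  · exact mul_mem (mem_sup_right (mem_zpowers p)) (mem_sup_left (mem_zpowers z))

theorem card_cent_p (h : SmallCent z p) : Nat.card (centralizer ({p} : Set K)) = 6 := by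
  rw [h.cent_eq, Nat.card_zpowers, h.ord_q]

theorem card_cent_q (h : SmallCent z p) : Nat.card (centralizer ({p * z} : Set K)) = 6 := by
  have : centralizer ({p * z} : Set K) = centralizer ({p} : Set K) := by
    refine le_antisymm (fun g hg => ?_) ?_
    · rw [mem_centralizer_singleton_iff] at hg ⊢
      rw [← h.q_pow_four]
      exact (Commute.pow_right (show Commute g (p * z) from hg) 4).eq
    · rw [h.cent_eq]
      refine zpowers_le.2 (mem_centralizer_singleton_iff.2 rfl)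
  rw [this, h.card_cent_p]

theorem invol_eq (h : SmallCent z p) {g : K} (hg : orderOf g = 2)
    (hc : g ∈ centralizer ({p} : Set K)) : g = z := by
  rw [h.cent_eq, Subgroup.mem_zpowers_iff] at hc
  obtain ⟨i, rfl⟩ := hc
  have h2 : (p * z) ^ (2 * i) = 1 := by
    rw [mul_comm, zpow_mul, zpow_ofNat, ← hg, pow_orderOf_eq_one]
  rw [← orderOf_dvd_iff_zpow_eq_one, h.ord_q] at h2
  obtain ⟨j, rfl⟩ : (3 : ℤ) ∣ i := by push_cast at h2; omega
  rw [zpow_mul, zpow_ofNat, h.q_pow_three] at hg ⊢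
  rcases Int.even_or_odd j with ⟨l, rfl⟩ | ⟨l, rfl⟩
  · rw [← two_mul, zpow_mul, zpow_two, h.z_sq, one_zpow, orderOf_one] at hg
    norm_num at hg
  · rw [zpow_add_one, zpow_mul, zpow_two, h.z_sq, one_zpow, one_mul]

theorem not_nine_dvd [Finite K] (h : SmallCent z p) : ¬ 9 ∣ Nat.card K := fun h9 => by
  haveI : Fact (Nat.Prime 3) := ⟨by norm_num⟩
  obtain ⟨A, hA, hpA⟩ := Sylow.exists_subgroup_card_pow_succ (p := 3) (n := 1)
    (by simpa using h9) (H := zpowers p) (by rw [Nat.card_zpowers, h.p_ord, pow_one])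
  haveI hcomm : IsMulCommutative A := IsPGroup.isMulCommutative_of_card_eq_prime_sq hA
  have hle : A ≤ centralizer ({p} : Set K) := fun a ha => mem_centralizer_singleton_iff.2 (by
    have := congrArg Subtype.val
      (mul_comm' (⟨a, ha⟩ : A) ⟨p, hpA (mem_zpowers p)⟩)
    exact this)
  have h96 := card_dvd_of_le hle
  rw [hA, h.card_cent_p] at h96
  norm_num at h96

theorem p_ne (h : SmallCent z p) : ¬ IsConj p (p * z) := fun hc => by
  obtain ⟨g, hg⟩ := isConj_iff.1 hc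
  have h1 := congrArg orderOf hg
  rw [show g * p * g⁻¹ = MulAut.conj g p from rfl, MulEquiv.orderOf_eq, h.p_ord, h.ord_q] at h1
  norm_num at h1

theorem not_conj_of_pow (h : SmallCent z p) {g : K} (hg : g ^ 2 = 1) :
    ¬ IsConj p g ∧ ¬ IsConj (p * z) g := by
  have hd : orderOf g ∣ 2 := orderOf_dvd_of_pow_eq_one hg
  constructor <;> intro hc <;> obtain ⟨a, ha⟩ := isConj_iff.1 hc <;>
    have h1 := congrArg orderOf ha
  · rw [show a * p * a⁻¹ = MulAut.conj a p from rfl, MulEquiv.orderOf_eq, h.p_ord] at h1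
    rw [← h1] at hd; norm_num at hd
  · rw [show a * (p * z) * a⁻¹ = MulAut.conj a (p * z) from rfl, MulEquiv.orderOf_eq, h.ord_q] at h1
    rw [← h1] at hd; norm_num at hd

variable {χ : K → ℂ}

theorem apply_p_inv (h : SmallCent z p) [Finite K] (hχ : IsCharacter K χ) :
    χ p⁻¹ = χ p ∧ χ (p * z)⁻¹ = χ (p * z) := by
  obtain ⟨y, hy, hyp⟩ := h.inv
  constructor
  · rw [← hyp, CharInt.char_conj_apply hχ]
  · have : (p * z)⁻¹ = y * (p * z) * y⁻¹ := by
      rw [show y * (p * z) * y⁻¹ = (y * p * y⁻¹) * (y * z * y⁻¹) by group, hyp, hy.eq,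
        mul_inv_cancel_right, mul_inv_rev, inv_eq_of_mul_eq_one_left h.z_sq,
        (h.comm.inv_right).eq]
    rw [this, CharInt.char_conj_apply hχ]

theorem exists_mult (h : SmallCent z p) [Finite K] (hχ : IsCharacter K χ) :
    ∃ m : ℤ, χ p + χ (p * z) = 2 * m := by
  classical
  obtain ⟨n, μ, -, hμ, hval⟩ := CharInt.exists_roots hχ (p * z)
  rw [h.ord_q] at hμ
  obtain ⟨hp', hq'⟩ := h.apply_p_inv hχ
  let w : ℂ := Complex.exp (2 * Real.pi * Complex.I / (3 : ℕ))
  have hw : IsPrimitiveRoot w 3 := Complex.isPrimitiveRoot_exp 3 (by norm_num)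
  have hw3 : w ^ 3 = 1 := hw.pow_eq_one
  have hw1 : 1 + w + w ^ 2 = 0 := by
    have := hw.geom_sum_eq_zero (by norm_num)
    simpa [Finset.sum_range_succ] using this
  have hgeom : ∀ x : ℂ, x ^ 6 = 1 →
      1 + x + x ^ 2 + x ^ 3 + x ^ 4 + x ^ 5 = if x = 1 then 6 else 0 := fun x hx => by
    split_ifs with h1
    · subst h1; norm_num
    · have h2 : (x - 1) * (1 + x + x ^ 2 + x ^ 3 + x ^ 4 + x ^ 5) = 0 := by
        linear_combination hx
      exact (mul_eq_zero.1 h2).resolve_left (sub_ne_zero.2 h1)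
  have hq2 : (p * z) ^ 2 = p⁻¹ := by
    rw [h.comm.symm.mul_pow, pow_two z, h.z_sq, mul_one, eq_inv_iff_mul_eq_one, ← pow_succ, h.p_cube]
  have hq5 : (p * z) ^ 5 = (p * z)⁻¹ := by
    rw [eq_inv_iff_mul_eq_one, ← pow_succ]
    exact (congrArg ((p * z) ^ ·) h.ord_q.symm).trans (pow_orderOf_eq_one _)
  have e1 := hval 1
  have e2 := hval 2
  have e4 := hval 4
  have e5 := hval 5
  simp only [pow_one] at e1
  rw [hq2, hp'] at e2
  rw [h.q_pow_four] at e4
  rw [hq5, hq'] at e5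
  refine ⟨∑ i, ((if μ i = 1 then 1 else 0) - (if μ i * w = 1 then 1 else 0) : ℤ), ?_⟩
  push_cast
  have key : ∀ i, 6 * (((if μ i = 1 then 1 else 0) - (if μ i * w = 1 then 1 else 0) : ℂ)) =
      (1 - w) * μ i ^ 1 + (1 - w ^ 2) * μ i ^ 2 + (1 - w) * μ i ^ 4 + (1 - w ^ 2) * μ i ^ 5 :=
    fun i => by
      have a1 := hgeom (μ i) (hμ i)
      have a2 := hgeom (μ i * w) (by rw [mul_pow, hμ i, one_mul, pow_mul w 3 2, hw3, one_pow])
      simp only [mul_pow] at a2
      have b1 : (6 : ℂ) * (if μ i = 1 then 1 else 0) = if μ i = 1 then 6 else 0 := by split_ifs <;> simp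
      have b2 : (6 : ℂ) * (if μ i * w = 1 then 1 else 0) = if μ i * w = 1 then 6 else 0 := by
        split_ifs <;> simp
      rw [mul_sub, b1, b2, ← a1, ← a2, hw3, show w ^ 4 = w by linear_combination w * hw3,
        show w ^ 5 = w ^ 2 by linear_combination w ^ 2 * hw3]
      ring
  have hsum : 6 * ∑ i, (((if μ i = 1 then 1 else 0) - (if μ i * w = 1 then 1 else 0) : ℂ)) =
      3 * (χ p + χ (p * z)) := by
    rw [Finset.mul_sum, Finset.sum_congr rfl fun i _ => key i]
    simp only [Finset.sum_add_distrib, ← Finset.mul_sum]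
    simp only [pow_one]
    rw [← e1, ← e2, ← e4, ← e5]
    linear_combination (-χ p - χ (p * z)) * hw1
  linear_combination (-1 / 3 : ℂ) * hsum

theorem apply_z (h : SmallCent z p) [Finite K] (hχ : IsCharacter K χ) :
    ∃ n c : ℤ, χ 1 = n ∧ χ z = c ∧ (2 : ℤ) ∣ n - c := by
  classical
  obtain ⟨n, μ, h1, hμ, hval⟩ := CharInt.exists_roots hχ z
  rw [h.z_ord] at hμ
  refine ⟨n, ∑ i, (1 - 2 * if μ i = 1 then 0 else 1 : ℤ), by exact_mod_cast h1, ?_,
    ∑ i, if μ i = 1 then 0 else 1, ?_⟩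
  · have := hval 1
    simp only [pow_one] at this
    rw [this]
    push_cast
    refine Finset.sum_congr rfl fun i _ => ?_
    rcases sq_eq_one_iff.1 (hμ i) with hi | hi <;> norm_num [hi]
  · rw [Finset.sum_sub_distrib, ← Finset.mul_sum]
    simp

theorem congr_three (h : SmallCent z p) [Finite K] (hχ : IsCharacter K χ) {n c e : ℤ}
    (hn : χ 1 = n) (hc : χ z = c) (he : χ p + χ (p * z) = 2 * e) :
    (3 : ℤ) ∣ 8 * e ^ 3 - n - c := by
  have h1 := CharInt.char_pow_sub_isIntegral hχ p (by norm_num : Nat.Prime 3) 1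
  have h2 := CharInt.char_pow_sub_isIntegral hχ (p * z) (by norm_num : Nat.Prime 3) 1
  rw [pow_one, h.p_cube] at h1
  rw [pow_one, h.q_pow_three] at h2
  refine CharInt.dvd_of_isIntegral_div (p := 3) (by norm_num) ?_
  have key : (((8 * e ^ 3 - n - c : ℤ)) : ℂ) / ((3 : ℕ) : ℂ) =
      (χ p ^ 3 - χ 1) / ((3 : ℕ) : ℂ) + (χ (p * z) ^ 3 - χ z) / ((3 : ℕ) : ℂ) +
        χ p * χ (p * z) * (χ p + χ (p * z)) := by
    have : (8 : ℂ) * (e : ℂ) ^ 3 = (χ p + χ (p * z)) ^ 3 := by rw [he]; ring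
    push_cast
    rw [this, hn, hc]
    ring
  rw [key]
  exact (h1.add h2).add (((CharInt.isIntegral_char hχ p).mul (CharInt.isIntegral_char hχ _)).mul
    ((CharInt.isIntegral_char hχ p).add (CharInt.isIntegral_char hχ _)))

end SmallCent

theorem card_conj_pairs [Finite K] (hz : z * z = 1) (g : K) :
    Nat.card {x : K × K // x.1 * z * x.1⁻¹ * (x.2 * z * x.2⁻¹) = g} =
      Nat.card (centralizer ({z} : Set K)) ^ 2 *
        Nat.card {v : K // IsConj z v ∧ IsConj z (v * g)} := by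
  classical
  let C := centralizer ({z} : Set K)
  have hC : ∀ (a b : K), a * z * a⁻¹ = b * z * b⁻¹ → a⁻¹ * b ∈ C := fun a b hab => by
    rw [mem_centralizer_singleton_iff]
    calc a⁻¹ * b * z = a⁻¹ * (b * z * b⁻¹) * b := by group
      _ = a⁻¹ * (a * z * a⁻¹) * b := by rw [hab]
      _ = z * (a⁻¹ * b) := by group
  have hCz : ∀ (a : K) (c : C), a * (c : K) * z * (a * (c : K))⁻¹ = a * z * a⁻¹ := fun a c => by
    have := mem_centralizer_singleton_iff.1 c.2
    calc a * (c : K) * z * (a * (c : K))⁻¹ = a * ((c : K) * z) * (c : K)⁻¹ * a⁻¹ := by group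
      _ = a * (z * (c : K)) * (c : K)⁻¹ * a⁻¹ := by rw [this]
      _ = a * z * a⁻¹ := by group
  have hsq : ∀ a : K, a * z * a⁻¹ * (a * z * a⁻¹) = 1 := fun a => by
    calc a * z * a⁻¹ * (a * z * a⁻¹) = a * (z * z) * a⁻¹ := by group
      _ = 1 := by rw [hz]; group
  let V := {v : K // IsConj z v ∧ IsConj z (v * g)}
  choose r hr using fun v : V => isConj_iff.1 v.2.1
  choose s hs using fun v : V => isConj_iff.1 v.2.2
  let f : (C × C) × V → {x : K × K // x.1 * z * x.1⁻¹ * (x.2 * z * x.2⁻¹) = g} := fun t =>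
    ⟨(r t.2 * t.1.1, s t.2 * t.1.2), by
      show r t.2 * (t.1.1 : K) * z * (r t.2 * (t.1.1 : K))⁻¹ *
        (s t.2 * (t.1.2 : K) * z * (s t.2 * (t.1.2 : K))⁻¹) = g
      rw [hCz, hCz, hr, hs, ← mul_assoc]
      have := hsq (r t.2)
      rw [hr] at this
      rw [this, one_mul]⟩
  have hinj : Function.Injective f := by
    rintro ⟨⟨c, d⟩, v⟩ ⟨⟨c', d'⟩, v'⟩ he
    have h1 : r v * (c : K) = r v' * (c' : K) := congrArg (fun x => x.1.1) he
    have h2 : s v * (d : K) = s v' * (d' : K) := congrArg (fun x => x.1.2) he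
    have hv : v = v' := Subtype.ext (by
      rw [← hr v, ← hr v', ← hCz (r v) c, h1, hCz])
    subst hv
    rw [mul_right_inj] at h1 h2
    rw [Subtype.ext h1, Subtype.ext h2]
  have hsurj : Function.Surjective f := by
    rintro ⟨⟨a, b⟩, hab⟩
    have hb : a * z * a⁻¹ * g = b * z * b⁻¹ := by
      rw [← hab, ← mul_assoc, hsq, one_mul]
    let v : V := ⟨a * z * a⁻¹, isConj_iff.2 ⟨a, rfl⟩, isConj_iff.2 ⟨b, hb.symm⟩⟩
    have ha' := hC (r v) a (hr v)
    have hb' := hC (s v) b ((hs v).trans hb)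
    exact ⟨((⟨_, ha'⟩, ⟨_, hb'⟩), v), Subtype.ext (Prod.ext (mul_inv_cancel_left _ _)
      (mul_inv_cancel_left _ _))⟩
  rw [← Nat.card_congr (Equiv.ofBijective f ⟨hinj, hsurj⟩), Nat.card_prod, Nat.card_prod, pow_two]

namespace SmallCent

variable (h : SmallCent z p)

/-- The arithmetic output of the character argument. -/
theorem exists_data [Finite K] (h : SmallCent z p) :
    ∃ D a : ℤ, D ≠ 0 ∧ D + 1 ≠ 0 ∧ (2 : ℤ) ∣ D - a ∧ (3 : ℤ) ∣ 8 - D - a ∧
      1 + a ^ 2 + (1 + a) ^ 2 ≤ (Nat.card (centralizer ({z} : Set K)) : ℤ) ∧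
      2 * (Nat.card K : ℤ) * (D - a) ^ 2 =
        ((Nat.card {v : K // IsConj z v ∧ IsConj z (v * p)} : ℤ) +
          Nat.card {v : K // IsConj z v ∧ IsConj z (v * (p * z))}) *
          (Nat.card (centralizer ({z} : Set K)) : ℤ) ^ 2 * (D * (D + 1)) ∧
      (a = D → ∃ O : Subgroup K, O.Normal ∧ z ∈ O ∧ p ∉ O) := by
  classical
  haveI := Fintype.ofFinite K
  choose m hm using fun ψ : IrrCharacter K => h.exists_mult (Char.irr_isCharacter ψ)
  choose nd cz hn hc hpar using fun ψ : IrrCharacter K => h.apply_z (Char.irr_isCharacter ψ)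
  have hpi := fun ψ : IrrCharacter K => h.apply_p_inv (Char.irr_isCharacter ψ)
  have hreal : ∀ (ψ : IrrCharacter K), conj (ψ.1 p) = ψ.1 p ∧ conj (ψ.1 (p * z)) = ψ.1 (p * z) :=
    fun ψ => by
      rw [← CharInt.char_inv (Char.irr_isCharacter ψ), ← CharInt.char_inv (Char.irr_isCharacter ψ)]
      exact hpi ψ
  have hz2 : z ^ 2 = 1 := by rw [pow_two, h.z_sq]
  have hsq : ∑ ψ, m ψ ^ 2 = 3 := by
    have e : ∑ ψ : IrrCharacter K, (ψ.1 p + ψ.1 (p * z)) * conj (ψ.1 p + ψ.1 (p * z)) = 12 := by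
      simp only [map_add, mul_add, add_mul, Finset.sum_add_distrib, Char.sum_irr_mul_conj]
      rw [if_pos (IsConj.refl p), if_pos (IsConj.refl (p * z)), if_neg h.p_ne,
        if_neg fun hc => h.p_ne (IsConj.symm hc), h.card_cent_p, h.card_cent_q]
      norm_num
    simp only [hm, map_mul, map_ofNat, map_intCast] at e
    have e2 : (4 : ℂ) * ((∑ ψ, m ψ ^ 2 : ℤ) : ℂ) = 12 := by
      push_cast
      rw [Finset.mul_sum, ← e]
      exact Finset.sum_congr rfl fun ψ _ => by ring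
    have e3 : 4 * ∑ ψ, m ψ ^ 2 = 12 := by exact_mod_cast e2
    omega
  have hcol : ∀ g : K, g ^ 2 = 1 → ∑ ψ : IrrCharacter K, (m ψ : ℂ) * ψ.1 g = 0 := fun g hg => by
    obtain ⟨n1, n2⟩ := h.not_conj_of_pow hg
    have e : ∑ ψ : IrrCharacter K, (ψ.1 p + ψ.1 (p * z)) * conj (ψ.1 g) = 0 := by
      simp only [add_mul, Finset.sum_add_distrib, Char.sum_irr_mul_conj, if_neg n1, if_neg n2, add_zero]
    have hr : ∀ ψ : IrrCharacter K, conj (ψ.1 g) = ψ.1 g := fun ψ => by
      rw [← CharInt.char_inv (Char.irr_isCharacter ψ),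
        inv_eq_of_mul_eq_one_left (by rw [← pow_two, hg])]
    simp only [hm, hr, mul_assoc, ← Finset.mul_sum] at e
    exact (mul_eq_zero.1 e).resolve_left two_ne_zero
  set T := Char.trivialChar K with hT
  have hmT : m T = 1 := by
    have := hm T
    rw [Char.trivialChar_apply, Char.trivialChar_apply] at this
    have h2 : (2 : ℤ) * m T = 2 := by
      have : ((2 * m T : ℤ) : ℂ) = ((2 : ℤ) : ℂ) := by push_cast; rw [← this]; norm_num
      exact_mod_cast this
    omega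
  rw [← Finset.add_sum_erase _ _ (Finset.mem_univ T), hmT] at hsq
  obtain ⟨x₁, hx₁, hx₁0⟩ : ∃ x ∈ (Finset.univ : Finset (IrrCharacter K)).erase T, m x ≠ 0 := by
    by_contra hcon
    push Not at hcon
    rw [Finset.sum_eq_zero fun x hx => by rw [hcon x hx]; rfl] at hsq
    norm_num at hsq
  rw [← Finset.add_sum_erase _ _ hx₁] at hsq
  have hnn : ∀ s : Finset (IrrCharacter K), 0 ≤ ∑ x ∈ s, m x ^ 2 := fun s =>
    Finset.sum_nonneg fun x _ => sq_nonneg _
  have he₁ : m x₁ ^ 2 = 1 := by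
    have h1 : m x₁ ^ 2 ≤ 2 := by nlinarith [hnn (((Finset.univ.erase T)).erase x₁)]
    have h2 : -1 ≤ m x₁ ∧ m x₁ ≤ 1 := ⟨by nlinarith, by nlinarith⟩
    rcases (show m x₁ = -1 ∨ m x₁ = 1 by omega) with e | e <;> rw [e] <;> norm_num
  obtain ⟨x₂, hx₂, hx₂0⟩ : ∃ x ∈ ((Finset.univ : Finset (IrrCharacter K)).erase T).erase x₁,
      m x ≠ 0 := by
    by_contra hcon
    push Not at hcon
    rw [Finset.sum_eq_zero fun x hx => by rw [hcon x hx]; rfl, he₁] at hsq
    norm_num at hsq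
  rw [← Finset.add_sum_erase _ _ hx₂, he₁] at hsq
  have he₂ : m x₂ ^ 2 = 1 := by
    have h1 : m x₂ ^ 2 ≤ 1 := by nlinarith [hnn (((Finset.univ.erase T).erase x₁).erase x₂)]
    have h2 : 0 < m x₂ ^ 2 := by positivity
    omega
  have hrest : ∑ x ∈ ((Finset.univ.erase T).erase x₁).erase x₂, m x ^ 2 = 0 := by omega
  have hzero : ∀ x ∈ ((Finset.univ.erase T).erase x₁).erase x₂, m x = 0 := fun x hx =>
    sq_eq_zero_iff.1 ((Finset.sum_eq_zero_iff_of_nonneg fun x _ => sq_nonneg _).1 hrest x hx)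
  have hsplit : ∀ F : IrrCharacter K → ℂ, (∀ ψ, m ψ = 0 → F ψ = 0) →
      ∑ ψ, F ψ = F T + (F x₁ + F x₂) := fun F hF => by
    rw [← Finset.add_sum_erase _ _ (Finset.mem_univ T), ← Finset.add_sum_erase _ _ hx₁,
      ← Finset.add_sum_erase _ _ hx₂, Finset.sum_eq_zero fun x hx => hF x (hzero x hx), add_zero]
  have hnd : m x₁ * nd x₁ + m x₂ * nd x₂ = -1 := by
    have e := hcol 1 (one_pow 2)
    rw [hsplit _ (fun ψ hψ => by rw [hψ, Int.cast_zero, zero_mul]), hmT, Char.trivialChar_apply,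
      hn, hn] at e
    have e1 : ((1 + (m x₁ * nd x₁ + m x₂ * nd x₂) : ℤ) : ℂ) = ((0 : ℤ) : ℂ) := by
      push_cast; simpa using e
    have e' : 1 + (m x₁ * nd x₁ + m x₂ * nd x₂) = 0 := by exact_mod_cast e1
    omega
  have hcz : m x₁ * cz x₁ + m x₂ * cz x₂ = -1 := by
    have e := hcol z hz2
    rw [hsplit _ (fun ψ hψ => by rw [hψ, Int.cast_zero, zero_mul]), hmT, Char.trivialChar_apply,
      hc, hc] at e
    have e1 : ((1 + (m x₁ * cz x₁ + m x₂ * cz x₂) : ℤ) : ℂ) = ((0 : ℤ) : ℂ) := by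
      push_cast; simpa using e
    have e' : 1 + (m x₁ * cz x₁ + m x₂ * cz x₂) = 0 := by exact_mod_cast e1
    omega
  have hnd0 : ∀ ψ, nd ψ ≠ 0 := fun ψ h0 => by
    exact Char.IsIrrCharacter.apply_one_ne_zero ψ.2 (by rw [hn ψ, h0, Int.cast_zero])
  have hD0 : m x₁ * nd x₁ ≠ 0 := mul_ne_zero hx₁0 (hnd0 _)
  have hD1 : m x₁ * nd x₁ + 1 ≠ 0 := fun h0 => mul_ne_zero hx₂0 (hnd0 x₂) (by linarith)
  refine ⟨m x₁ * nd x₁, m x₁ * cz x₁, hD0, hD1, ?_, ?_, ?_, ?_, ?_⟩
  · rw [← mul_sub]; exact dvd_mul_of_dvd_right (hpar x₁) _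
  · have h1 := h.congr_three (Char.irr_isCharacter x₁) (hn x₁) (hc x₁) (hm x₁)
    have h2 := dvd_mul_of_dvd_right h1 (m x₁)
    have e : m x₁ * (8 * m x₁ ^ 3 - nd x₁ - cz x₁) = 8 - m x₁ * nd x₁ - m x₁ * cz x₁ := by
      linear_combination (8 * m x₁ ^ 2 + 8) * he₁
    rwa [e] at h2
  · have e := Char.sum_irr_mul_conj z z
    rw [if_pos (IsConj.refl z)] at e
    simp only [hc, map_intCast] at e
    have e' : ∑ ψ, cz ψ * cz ψ = (Nat.card (centralizer ({z} : Set K)) : ℤ) := by exact_mod_cast e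
    rw [← e', ← Finset.add_sum_erase _ _ (Finset.mem_univ T), ← Finset.add_sum_erase _ _ hx₁,
      ← Finset.add_sum_erase _ _ hx₂]
    have hT1 : cz T = 1 := by
      have := hc T
      rw [Char.trivialChar_apply] at this
      exact_mod_cast this.symm
    have hb : m x₂ * cz x₂ = -(1 + m x₁ * cz x₁) := by linarith
    have h1 : (m x₁ * cz x₁) ^ 2 = cz x₁ * cz x₁ := by linear_combination cz x₁ ^ 2 * he₁
    have h2 : (1 + m x₁ * cz x₁) ^ 2 = cz x₂ * cz x₂ := by
      rw [← neg_sq, ← hb]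
      linear_combination cz x₂ ^ 2 * he₂
    rw [hT1, h1, h2]
    have := Finset.sum_nonneg (s := ((Finset.univ.erase T).erase x₁).erase x₂)
      (f := fun x => cz x * cz x) fun x _ => mul_self_nonneg _
    linarith
  · have hP : ∀ g : K, g⁻¹ = g⁻¹ → (Nat.card {x : K × K // x.1 * z * x.1⁻¹ * (x.2 * z * x.2⁻¹) = g} : ℂ) =
        (Nat.card K : ℂ) * ∑ χ : IrrCharacter K, (cz χ : ℂ) * cz χ * χ.1 g⁻¹ / nd χ := fun g _ => by
      rw [Char.card_conj_mul_conj_eq]
      simp only [hc, hn]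
    have e1 := hP p rfl
    have e2 := hP (p * z) rfl
    rw [card_conj_pairs h.z_sq] at e1 e2
    push_cast at e1 e2
    simp only [(hpi _).1] at e1
    simp only [(hpi _).2] at e2
    have e3 := congrArg₂ (· + ·) e1 e2
    rw [← mul_add (Nat.card K : ℂ), ← Finset.sum_add_distrib] at e3
    simp only [← add_div, ← mul_add, hm] at e3
    rw [hsplit _ (fun ψ hψ => by simp [hψ]), hmT] at e3
    have hT1 : (cz T : ℂ) = 1 ∧ (nd T : ℂ) = 1 := by
      constructor
      · rw [← hc, Char.trivialChar_apply]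
      · rw [← hn, Char.trivialChar_apply]
    rw [hT1.1, hT1.2] at e3
    have q1 : ((m x₁ : ℂ)) ^ 2 = 1 := by exact_mod_cast he₁
    have q2 : ((m x₂ : ℂ)) ^ 2 = 1 := by exact_mod_cast he₂
    set D : ℂ := (m x₁ : ℂ) * nd x₁ with hD
    set a : ℂ := (m x₁ : ℂ) * cz x₁ with ha
    have hD2 : (m x₂ : ℂ) * nd x₂ = -1 - D := by
      have : ((m x₁ * nd x₁ + m x₂ * nd x₂ : ℤ) : ℂ) = -1 := by rw [hnd]; norm_num
      push_cast at this
      linear_combination this
    have ha2 : (m x₂ : ℂ) * cz x₂ = -1 - a := by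
      have : ((m x₁ * cz x₁ + m x₂ * cz x₂ : ℤ) : ℂ) = -1 := by rw [hcz]; norm_num
      push_cast at this
      linear_combination this
    have n1 : (nd x₁ : ℂ) ≠ 0 := Int.cast_ne_zero.2 (hnd0 _)
    have n2 : (nd x₂ : ℂ) ≠ 0 := Int.cast_ne_zero.2 (hnd0 _)
    have d1 : D ≠ 0 := by rw [hD]; exact_mod_cast hD0
    have d2 : -1 - D ≠ 0 := by
      rw [← hD2]; exact_mod_cast mul_ne_zero hx₂0 (hnd0 x₂)
    have t1 : (cz x₁ : ℂ) * cz x₁ * (2 * (m x₁ : ℂ)) / nd x₁ = 2 * a ^ 2 / D := by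
      rw [div_eq_div_iff n1 d1, hD, ha]
      ring_nf
    have t2 : (cz x₂ : ℂ) * cz x₂ * (2 * (m x₂ : ℂ)) / nd x₂ = 2 * (-1 - a) ^ 2 / (-1 - D) := by
      rw [div_eq_div_iff n2 d2, ← hD2, ← ha2]
      ring
    rw [t1, t2] at e3
    have e4 : ((2 * (Nat.card K : ℤ) * (m x₁ * nd x₁ - m x₁ * cz x₁) ^ 2 : ℤ) : ℂ) =
        (((Nat.card {v : K // IsConj z v ∧ IsConj z (v * p)} : ℤ) +
          Nat.card {v : K // IsConj z v ∧ IsConj z (v * (p * z))}) *
          (Nat.card (centralizer ({z} : Set K)) : ℤ) ^ 2 *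
            ((m x₁ * nd x₁) * (m x₁ * nd x₁ + 1)) : ℤ) := by
      push_cast
      rw [← hD, ← ha]
      have e5 : (((Nat.card {v : K // IsConj z v ∧ IsConj z (v * p)} : ℂ)) +
          Nat.card {v : K // IsConj z v ∧ IsConj z (v * (p * z))}) *
          (Nat.card (centralizer ({z} : Set K)) : ℂ) ^ 2 =
          (Nat.card K : ℂ) * (2 + (2 * a ^ 2 / D + 2 * (-1 - a) ^ 2 / (-1 - D))) := by
        rw [add_mul]
        linear_combination e3
      rw [e5]
      field_simp
      ring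
    exact_mod_cast e4
  · intro ha
    have q1 : cz x₁ = nd x₁ := mul_left_cancel₀ hx₁0 ha
    have q2 : cz x₂ = nd x₂ := mul_left_cancel₀ hx₂0 (by linarith)
    refine ⟨CharInt.charKernel (Char.irr_isCharacter x₁) ⊓ CharInt.charKernel (Char.irr_isCharacter x₂),
      ?_, ?_, ?_⟩
    · haveI := CharInt.charKernel_normal (Char.irr_isCharacter x₁)
      haveI := CharInt.charKernel_normal (Char.irr_isCharacter x₂)
      infer_instance
    · exact ⟨(CharInt.mem_charKernel _).2 (by rw [hc, hn, q1]),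
        (CharInt.mem_charKernel _).2 (by rw [hc, hn, q2])⟩
    · rintro ⟨hp1, hp2⟩
      have key : ∀ x : IrrCharacter K, p ∈ CharInt.charKernel (Char.irr_isCharacter x) → cz x = nd x →
          nd x = m x := fun x hpx hx => by
        have h1 := (CharInt.mem_charKernel _).1 hpx
        have h2 := CharInt.char_mul_of_mem_kernel (Char.irr_isCharacter x) h1 z
        have h3 := hm x
        rw [h2, h1, hn, hc, hx] at h3
        have h4 : nd x + nd x = 2 * m x := by exact_mod_cast h3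
        omega
      rw [key x₁ hp1 q1, key x₂ hp2 q2, ← pow_two, ← pow_two, he₁, he₂] at hnd
      norm_num at hnd

theorem exists_normal_of_no_pairs [Finite K] (h : SmallCent z p)
    (h0 : ∀ v : K, IsConj z v → ¬ IsConj z (v * p) ∧ ¬ IsConj z (v * (p * z))) :
    ∃ O : Subgroup K, O.Normal ∧ z ∈ O ∧ ¬ 3 ∣ Nat.card ↥O := by
  haveI : IsEmpty {v : K // IsConj z v ∧ IsConj z (v * p)} := ⟨fun v => (h0 _ v.2.1).1 v.2.2⟩
  haveI : IsEmpty {v : K // IsConj z v ∧ IsConj z (v * (p * z))} := ⟨fun v => (h0 _ v.2.1).2 v.2.2⟩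
  obtain ⟨D, a, -, -, -, -, -, heq, hker⟩ := h.exists_data
  rw [Nat.card_of_isEmpty (α := {v : K // IsConj z v ∧ IsConj z (v * p)}),
    Nat.card_of_isEmpty (α := {v : K // IsConj z v ∧ IsConj z (v * (p * z))})] at heq
  have hK : (Nat.card K : ℤ) ≠ 0 := by exact_mod_cast Nat.card_pos.ne'
  have hDa : a = D := by
    have : (D - a) ^ 2 = 0 := by
      simpa [hK, (Nat.card_pos (α := K)).ne'] using heq
    linarith [sq_eq_zero_iff.1 this]
  obtain ⟨O, hO, hzO, hpO⟩ := hker hDa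
  refine ⟨O, hO, hzO, fun h3 => hpO ?_⟩
  haveI : Fact (Nat.Prime 3) := ⟨by norm_num⟩
  obtain ⟨r, hr⟩ := exists_prime_orderOf_dvd_card' 3 h3
  have hr' : orderOf (r : K) = 3 := by rw [Subgroup.orderOf_coe, hr]
  have hd : 3 ∣ Nat.card K := h3.trans O.card_subgroup_dvd_card
  have hfac : (Nat.card K).factorization 3 = 1 := by
    have h1 := (Nat.Prime.dvd_iff_one_le_factorization (by norm_num : Nat.Prime 3) Nat.card_pos.ne').1 hd
    by_contra hne
    exact h.not_nine_dvd ((pow_dvd_pow 3 (show 2 ≤ (Nat.card K).factorization 3 by omega)).trans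
      (Nat.ordProj_dvd _ 3))
  let A : Sylow 3 K := Sylow.ofCard (zpowers (r : K)) (by rw [Nat.card_zpowers, hr', hfac, pow_one])
  let B : Sylow 3 K := Sylow.ofCard (zpowers p) (by rw [Nat.card_zpowers, h.p_ord, hfac, pow_one])
  obtain ⟨g, hg⟩ := MulAction.exists_smul_eq K A B
  have hpm : p ∈ ((g • A : Sylow 3 K) : Subgroup K) := by
    rw [hg]; exact Subgroup.mem_zpowers p
  rw [Sylow.coe_subgroup_smul] at hpm
  obtain ⟨w, hw, hwp⟩ := hpm
  rw [← hwp]
  exact hO.conj_mem w (zpowers_le.2 r.2 hw) g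

theorem card_cases [Finite K] (h : SmallCent z p)
    (h12 : Nat.card ↥(centralizer ({z} : Set K)) = 12)
    (hp : Nat.card {v : K // IsConj z v ∧ IsConj z (v * p)} = 3)
    (hpz : ∀ v : K, IsConj z v → ¬ IsConj z (v * (p * z))) :
    Nat.card K = 120 ∨ Nat.card K = 336 := by
  haveI : IsEmpty {v : K // IsConj z v ∧ IsConj z (v * (p * z))} := ⟨fun v => hpz _ v.2.1 v.2.2⟩
  obtain ⟨D, a, hD0, hD1, hpar, hthree, hle, heq, -⟩ := h.exists_data
  rw [hp, h12, Nat.card_of_isEmpty (α := {v : K // IsConj z v ∧ IsConj z (v * (p * z))})] at heq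
  rw [h12] at hle
  push_cast at heq hle
  set N : ℤ := (Nat.card K : ℤ) with hN
  have h12N : (12 : ℤ) ∣ N := by
    rw [hN]; exact_mod_cast h12 ▸ Subgroup.card_subgroup_dvd_card (centralizer ({z} : Set K))
  have h9 : ¬ (9 : ℤ) ∣ N := fun h9 => h.not_nine_dvd (by rw [hN] at h9; exact_mod_cast h9)
  have ha : a = -2 ∨ a = -1 ∨ a = 0 ∨ a = 1 := by
    have : -3 < a ∧ a < 2 := ⟨by nlinarith, by nlinarith⟩
    omega
  obtain ⟨D, a, hD0, hD1, hpar, hthree, heq, ha⟩ : ∃ D a : ℤ, D ≠ 0 ∧ D + 1 ≠ 0 ∧ (2 : ℤ) ∣ D - a ∧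
      (3 : ℤ) ∣ 8 - D - a ∧ 2 * N * (D - a) ^ 2 = 432 * (D * (D + 1)) ∧ (a = -2 ∨ a = -1) := by
    rcases ha with ha | ha | ha | ha
    · exact ⟨D, a, hD0, hD1, hpar, hthree, by linear_combination heq, Or.inl ha⟩
    · exact ⟨D, a, hD0, hD1, hpar, hthree, by linear_combination heq, Or.inr ha⟩
    · exact ⟨-1 - D, -1 - a, by omega, by omega, by omega, by omega, by linear_combination heq,
        Or.inr (by omega)⟩
    · exact ⟨-1 - D, -1 - a, by omega, by omega, by omega, by omega, by linear_combination heq,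
        Or.inl (by omega)⟩
  rcases ha with rfl | rfl
  · obtain ⟨k, hk⟩ : (6 : ℤ) ∣ D + 2 := by omega
    obtain rfl : D = 6 * k - 2 := by omega
    have e : N * k ^ 2 = 12 * (3 * k - 1) * (6 * k - 1) := by nlinarith
    have hk12 : k ∣ 12 := ⟨N * k - 216 * k + 108, by linear_combination -e⟩
    have hb : -12 ≤ k ∧ k ≤ 12 := by
      have h1 := Int.le_of_dvd (by norm_num) hk12
      have h2 := Int.le_of_dvd (by norm_num) (Int.neg_dvd.2 hk12)
      omega
    have hNp : N = 120 ∨ N = 336 := by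
      obtain ⟨hb1, hb2⟩ := hb
      interval_cases k <;> norm_num at e <;> omega
    rcases hNp with e | e
    · left; rw [hN] at e; exact_mod_cast e
    · right; rw [hN] at e; exact_mod_cast e
  · exfalso
    have e : N * (D + 1) = 216 * D := by
      have : (N * (D + 1) - 216 * D) * (D + 1) = 0 := by
        have h2 : 2 * ((N * (D + 1) - 216 * D) * (D + 1)) = 0 := by linear_combination heq
        omega
      linarith [(mul_eq_zero.1 this).resolve_right hD1]
    have h81 : (9 : ℤ) ∣ N * (D + 1) := ⟨24 * D, by linear_combination e⟩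
    have hcop : IsCoprime (9 : ℤ) (D + 1) := by
      have h3 : IsCoprime (3 : ℤ) (D + 1) :=
        (Int.prime_three.coprime_iff_not_dvd).2 (by omega)
      rw [show (9 : ℤ) = 3 ^ 2 by norm_num]
      exact h3.pow_left
    exact h9 (hcop.dvd_of_dvd_mul_right h81)

theorem nonempty_perm_five [Finite K] (h : SmallCent z p)
    (h12 : Nat.card ↥(centralizer ({z} : Set K)) = 12) (hK : Nat.card K = 120) :
    Nonempty (K ≃* Equiv.Perm (Fin 5)) := by
  obtain ⟨y, -, hy⟩ := h.inv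
  refine perm_five_of_card hK h.p_ord h.card_cent_p ⟨y, hy⟩ fun g hg hgc => ?_
  have hgz : g = z := h.invol_eq hg
    (mem_centralizer_singleton_iff.2 (Subgroup.mem_center_iff.1 hgc p).symm)
  subst hgz
  have htop : centralizer ({g} : Set K) = ⊤ :=
    eq_top_iff.2 fun x _ => mem_centralizer_singleton_iff.2 (Subgroup.mem_center_iff.1 hgc x)
  rw [htop, Subgroup.card_top, hK] at h12
  norm_num at h12

end SmallCent

end Cfsg.Agent.JankoFour
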