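import Cfsg.Agent.Lib.JankoFour.InvFactsProof
import Cfsg.Agent.Lib.JankoFour.SplitInterface

/-!
# The facts used to split `N(V)` over `V` (S5567): certificate

`h` moves the hexad of `U₀` to a disjoint one; the common stabiliser of the two is `S₆`, and
`a, b, c, d` are its elements acting on the first hexad as `(12), (34), (56), (13)(24)`.  Two generators
of M₂₂ are written in the two kernels.
-/

set_option autoImplicit false
set_option maxRecDepth 20000
set_option maxHeartbeats 4000000

namespace Cfsg.Agent.JankoFour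

open Cfsg Subgroup Cfsg.Agent.Mathieu

namespace SplitCert

open Hex (code code_mul code_one code_injective cjN invPair exists_of_invPair code_conj exists_code U0 groupList
  listSub fix23_iff cj_cj)

/-- The mover to a disjoint hexad and its inverse. -/
def hPair : ℕ × ℕ :=
  (0x170c0a0705151309161211140f0e030d020b100108060400,
    0x170f120c110e0d050b0a0816061510031402130109070400)

/-- The four involutions. -/
def gensD : List ℕ := [0xd0714060811040f0e160b0c0a09121513051003010217,
  0xb151406041108090e0c0d160a0f100713031205020117,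
  0xc150a06100e120f110b160d1409040713050803020117,
  0x17160f0a06121110150e0b0c0d1407040913020801050300]

/-- The group generated by them, with words. -/
def groupD : List (ℕ × List ℕ) := [(0x17161514131211100f0e0d0c0b0a09080706050403020100, []),
  (0xd0714060811040f0e160b0c0a09121513051003010217, [0]),
  (0xb151406041108090e0c0d160a0f100713031205020117, [1]),
  (0xc150a06100e120f110b160d1409040713050803020117, [2]),
  (0x17160f0a06121110150e0b0c0d1407040913020801050300, [3]),
  (0x170c071413101112090e0b160d0a0f041506030805010200, [0, 1]),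
  (0x170b070a13040e080f110c0d161409101506051203010200, [0, 2]),
  (0xd0f0a13081104070e0c0b161415100906011202050317, [0, 3]),
  (0x170d150a13080e040911160b0c140f120706031005020100, [1, 2]),
  (0xb090a13041108150e160d0c1407120f06021001030517, [1, 3]),
  (0xc0f1413100e1215110d160b0a07080906020401050317, [2, 3]),
  (0x16070a06120e1009110d0c0b140f081513030405010217, [0, 1, 2]),
  (0x170c090a06101112070e0d160b1415080f13010402030500, [0, 1, 3]),
  (0x170b0f1406040e080711160d0c0a15120913011002050300, [0, 2, 3]),
  (0x170d091406080e0415110c0b160a07100f13021201030500, [1, 2, 3]),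
  (0x16091413120e1007110b0c0d0a15040f06010802030517, [0, 1, 2, 3])]

/-- Two generators of M₂₂ in the two kernels. -/
def words : List (ℕ × List ℕ) := [(0x17120d16050f03140608130e07100a11010b040c02150900,
    [0x17060d1210141113080e150a090c0b0f0416050703020100,
     0x170e0f0d13120c10151614110a0b01080306020407050900,
     0x17080a070904110b060e0c0d10151316140f051203020100,
     0x170b011113121410090a0c0d160e0f080206030405071500,
     0x170d0609070b11040a0e1608120f140c1315051003020100]),
  (0x17080d05030c0a160b1409040207120f1015060111130e00,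
    [0x171209060a16110c070e0b100d1315040f14050803020100,
     0x17151603131205100e0f070201090a080d061104140c0b00,
     0x170c0f1314101112150e08160406070d090a050b03020100,
     0x170b011113121410090a0c0d160e0f080206030405071500])]

/-- The checks. -/
def checkOK : Bool :=
  invPair hPair &&
  gensD.all (fun x => invPair (x, x) && !(x == packId 24) &&
    Data.hexList.all fun u => Data.hexList.contains (cjN (x, x) u) &&
      Data.hexList.contains (cjN (packMulS 24 (packMulS 24 hPair.2 x) hPair.1,
        packMulS 24 (packMulS 24 hPair.2 x) hPair.1) u)) &&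
  groupList (groupD.map Prod.fst) && decide (groupD.map Prod.fst).Nodup && groupD.length == 16 &&
  gensD.all (fun x => (groupD.map Prod.fst).contains x) &&
  (groupD.all fun e => (e.2.map fun i => gensD.getD i (packId 24)).foldl (packMulS 24) (packId 24) == e.1 &&
    (e.1 == packId 24 || !Data.hexList.contains e.1)) &&
  gens22.all (fun g => (words.map Prod.fst).contains g) &&
  (words.all fun e => e.2.foldl (packMulS 24) (packId 24) == canonNum e.1 &&
    e.2.all fun g => Data.hexList.contains g || Data.hexList.any fun u => cjN hPair u == g)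

theorem checkOK_true : checkOK = true := by decide +kernel

theorem rels :
    packMulS 24 (gensD.getD 0 0) (gensD.getD 1 0) = packMulS 24 (gensD.getD 1 0) (gensD.getD 0 0) ∧
    packMulS 24 (gensD.getD 0 0) (gensD.getD 2 0) = packMulS 24 (gensD.getD 2 0) (gensD.getD 0 0) ∧
    packMulS 24 (gensD.getD 1 0) (gensD.getD 2 0) = packMulS 24 (gensD.getD 2 0) (gensD.getD 1 0) ∧
    packMulS 24 (gensD.getD 3 0) (gensD.getD 2 0) = packMulS 24 (gensD.getD 2 0) (gensD.getD 3 0) ∧
    packMulS 24 (packMulS 24 (gensD.getD 3 0) (gensD.getD 0 0)) (gensD.getD 3 0) = gensD.getD 1 0 := by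
  decide +kernel

/-- Products of a list inside a subgroup. -/
theorem foldl_mem {M : Subgroup ↥pairGrp} (L : List ℕ) (hL : ∀ g ∈ L, ∃ x ∈ M, code x = g) :
    ∃ x ∈ M, code x = L.foldl (packMulS 24) (packId 24) := by
  rw [← code_one]
  exact InvCert.foldl_mem L hL 1 (one_mem _)

theorem splitFacts_pair : SplitFacts innerPair U0 := by
  have h := checkOK_true
  simp only [checkOK, Bool.and_eq_true, List.all_eq_true, List.any_eq_true, Bool.or_eq_true, beq_iff_eq,
    Bool.not_eq_true', List.contains_iff_mem, decide_eq_true_eq, List.mem_map] at h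
  obtain ⟨⟨⟨⟨⟨⟨⟨⟨hh, hgens⟩, hgrp⟩, hnd⟩, hlen⟩, hsub⟩, hword⟩, hg22⟩, hws⟩ := h
  obtain ⟨σ, hσ1, hσ2⟩ := exists_of_invPair hh
  have hlenD : gensD.length = 4 := rfl
  have hget : ∀ i, i < 4 → gensD.getD i 0 ∈ gensD := fun i hi => by
    rw [List.getD_eq_getElem _ _ (hlenD ▸ hi)]; exact List.getElem_mem _
  have hx : ∀ l ∈ gensD, ∃ x : ↥pairGrp, code x = l ∧ orderOf x = 2 ∧ x ∈ normalizer (U0 : Set ↥pairGrp) ∧
      x ∈ normalizer (cj σ U0 : Set ↥pairGrp) := by
    intro l hl
    obtain ⟨⟨hinv, hne⟩, hn⟩ := hgens l hl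
    obtain ⟨x, hx1, hx2⟩ := exists_of_invPair hinv
    have hxi : x⁻¹ = x := code_injective (hx2.trans hx1.symm)
    refine ⟨x, hx1, ?_, mem_normalizer_iff_map_conj_eq.2 (InvCert.conj_U0 hx1 hx2 fun a ha => (hn a ha).1), ?_⟩
    · refine orderOf_eq_prime ?_ fun e => ?_
      · rw [pow_two]; nth_rw 1 [← hxi]; exact inv_mul_cancel x
      · rw [e, code_one] at hx1
        simp [show l = packId 24 from hx1.symm] at hne
    · have hy1 : code (σ⁻¹ * x * σ) = packMulS 24 (packMulS 24 hPair.2 l) hPair.1 := by
        rw [code_mul, code_mul, hσ2, hx1, hσ1]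
      have hy2 : code (σ⁻¹ * x * σ)⁻¹ = packMulS 24 (packMulS 24 hPair.2 l) hPair.1 := by
        rw [show (σ⁻¹ * x * σ)⁻¹ = σ⁻¹ * x⁻¹ * σ by group, hxi, hy1]
      have hc := InvCert.conj_U0 (p := (packMulS 24 (packMulS 24 hPair.2 l) hPair.1,
        packMulS 24 (packMulS 24 hPair.2 l) hPair.1)) hy1 hy2 fun a ha => (hn a ha).2
      refine mem_normalizer_iff_map_conj_eq.2 ?_
      calc cj x (cj σ U0) = cj σ (cj (σ⁻¹ * x * σ) U0) := by
            rw [cj_cj, cj_cj, show σ * (σ⁻¹ * x * σ) = x * σ by group]
        _ = cj σ U0 := by rw [hc]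
  obtain ⟨a, ha, ha'⟩ := hx _ (hget 0 (by norm_num))
  obtain ⟨b, hb, hb'⟩ := hx _ (hget 1 (by norm_num))
  obtain ⟨c, hc, hc'⟩ := hx _ (hget 2 (by norm_num))
  obtain ⟨d, hd, hd'⟩ := hx _ (hget 3 (by norm_num))
  obtain ⟨r1, r2, r3, r4, r5⟩ := rels
  have hmem : ∀ l ∈ gensD, ∃ x ∈ closure ({a, b, c, d} : Set ↥pairGrp), code x = l := by
    intro l hl
    obtain ⟨i, hi, rfl⟩ := List.getElem_of_mem hl
    rw [hlenD] at hi
    rw [← List.getD_eq_getElem gensD 0]
    interval_cases i
    exacts [⟨a, subset_closure (by simp), ha⟩, ⟨b, subset_closure (by simp), hb⟩,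
      ⟨c, subset_closure (by simp), hc⟩, ⟨d, subset_closure (by simp), hd⟩]
  have hD : closure ({a, b, c, d} : Set ↥pairGrp) = listSub (groupD.map Prod.fst) hgrp := by
    refine le_antisymm ((closure_le _).2 ?_) fun x hx => ?_
    · intro x hx
      simp only [Set.mem_insert_iff, Set.mem_singleton_iff] at hx
      show code x ∈ groupD.map Prod.fst
      rcases hx with rfl | rfl | rfl | rfl
      exacts [ha ▸ List.mem_map.2 (hsub _ (hget 0 (by norm_num))), hb ▸ List.mem_map.2 (hsub _ (hget 1 (by norm_num))),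
        hc ▸ List.mem_map.2 (hsub _ (hget 2 (by norm_num))), hd ▸ List.mem_map.2 (hsub _ (hget 3 (by norm_num)))]
    · obtain ⟨e, he, hex⟩ := List.mem_map.1 (show code x ∈ groupD.map Prod.fst from hx)
      obtain ⟨y, hy, hyc⟩ := foldl_mem (M := closure ({a, b, c, d} : Set ↥pairGrp))
        (e.2.map fun i => gensD.getD i (packId 24)) (fun g hg => by
          obtain ⟨i, -, rfl⟩ := List.mem_map.1 hg
          by_cases hi : i < gensD.length
          · rw [List.getD_eq_getElem _ _ hi]; exact hmem _ (List.getElem_mem _)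
          · rw [List.getD_eq_default _ _ (Nat.le_of_not_lt hi)]; exact ⟨1, one_mem _, code_one⟩)
      rw [(hword e he).1, hex] at hyc
      exact code_injective hyc ▸ hy
  refine ⟨⟨σ, a, b, c, d, ?_, ?_, code_injective (by rw [code_mul, code_mul, ha, hb]; exact r1),
    code_injective (by rw [code_mul, code_mul, ha, hc]; exact r2),
    code_injective (by rw [code_mul, code_mul, hb, hc]; exact r3),
    code_injective (by rw [code_mul, code_mul, hd, hc]; exact r4),
    code_injective (by rw [code_mul, code_mul, hd, ha, hb]; exact r5), ?_, ?_⟩⟩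
  · refine le_antisymm ((closure_le _).2 (Set.union_subset Hex.U0_le (Hex.cj_le_inner Hex.U0_le))) ?_
    intro γ hγ
    have hle : Spor.M22 ≤ (closure ((U0 : Set ↥pairGrp) ∪ (cj σ U0 : Subgroup ↥pairGrp))).map pairGrp.subtype := by
      rw [← M22_cert.1]
      refine genGroup_le fun τ l hl hτ => ?_
      obtain ⟨e, he, rfl⟩ := hg22 l hl
      obtain ⟨y, hy, hyc⟩ := foldl_mem (M := closure ((U0 : Set ↥pairGrp) ∪ (cj σ U0 : Subgroup ↥pairGrp)))
        e.2 (fun g hg => by
          rcases (hws e he).2 g hg with hu | ⟨u, hu, rfl⟩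
          · obtain ⟨y, rfl⟩ := exists_code Hex.hexList_ok hu
            exact ⟨y, subset_closure (Or.inl hu), rfl⟩
          · obtain ⟨y, rfl⟩ := exists_code Hex.hexList_ok hu
            exact ⟨σ * y * σ⁻¹, subset_closure (Or.inr ⟨y, hu, rfl⟩), code_conj hσ1 hσ2 y⟩)
      rw [(hws e he).1, ← canon_eq hτ] at hyc
      exact ⟨y, hy, canon_injective hyc⟩
    obtain ⟨δ, hδ, e⟩ := hle hγ
    rwa [Subtype.ext (show (δ : Equiv.Perm GolayPt) = γ from e)] at hδ
  · intro x hx
    simp only [Set.mem_insert_iff, Set.mem_singleton_iff] at hx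
    rcases hx with rfl | rfl | rfl | rfl
    exacts [ha', hb', hc', hd']
  · rw [hD, Hex.card_listSub hgrp hnd, List.length_map, hlen]
  · rw [hD, eq_bot_iff]
    intro x hx
    obtain ⟨e, he, hex⟩ := List.mem_map.1 (show code x ∈ groupD.map Prod.fst from hx.1)
    rcases (hword e he).2 with h1 | h1
    · exact mem_bot.2 (code_injective (by rw [← hex, h1, code_one]))
    · rw [hex] at h1
      have h2 : code x ∈ Data.hexList := hx.2
      simp [h2] at h1

/-! ### Transport -/

theorem transport {K L : Type*} [Group K] [Group L] (φ : K ≃* L) {I U : Subgroup K} (h : SplitFacts I U) :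
    SplitFacts (I.map φ.toMonoidHom) (U.map φ.toMonoidHom) := by
  obtain ⟨h, a, b, c, d, hI, hx, hab, hac, hbc, hdc, hdad, hcard, hinf⟩ := h.data
  have hcl : ∀ s : Set K, closure (φ '' s) = (closure s).map φ.toMonoidHom := fun s =>
    (MonoidHom.map_closure φ.toMonoidHom s).symm
  have hset : ({φ a, φ b, φ c, φ d} : Set L) = φ '' {a, b, c, d} := by
    simp only [Set.image_insert_eq, Set.image_singleton]
  refine ⟨⟨φ h, φ a, φ b, φ c, φ d, ?_, ?_, hab.map φ, hac.map φ, hbc.map φ, hdc.map φ,
    by rw [← map_mul, ← map_mul, hdad], ?_, ?_⟩⟩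
  · rw [← Hex.map_cj, ← hI, ← hcl, Set.image_union, Subgroup.coe_map, Subgroup.coe_map]
    rfl
  · rw [hset]
    rintro _ ⟨x, hxm, rfl⟩
    obtain ⟨h1, h2, h3⟩ := hx x hxm
    exact ⟨by rw [MulEquiv.orderOf_eq, h1], (Hex.mem_normalizer_map φ).2 h2,
      by rw [← Hex.map_cj]; exact (Hex.mem_normalizer_map φ).2 h3⟩
  · rw [hset, hcl, card_map_of_injective (f := φ.toMonoidHom) φ.injective, hcard]
  · rw [hset, hcl, ← Subgroup.map_inf _ _ _ φ.injective, hinf, Subgroup.map_bot]

end SplitCert

/-- The facts used to split `N(V)` over `V`. -/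
theorem splitFacts_hexKer : SplitFacts innerM22 hexKer :=
  map_innerPair ▸ SplitCert.transport pairEquiv SplitCert.splitFacts_pair

end Cfsg.Agent.JankoFour
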