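import Cfsg.Agent.Lib.JankoFour.InvInner
import Cfsg.Agent.Lib.JankoFour.OrbitCore
import Cfsg.Agent.Lib.JankoFour.InvFacts

/-!
# Janko-four type: involutions of `Aut M₂₂` lift to involutions of `N_H(P)` (S5567)

* `sq_eq_one_of_lift`: an element of `Y = H ∩ N(P)` with square in `⟨z⟩` over an involution squares
  to 1.
* `exists_sylow_lift`: a 2-subgroup of `Aut M₂₂` is the image of a 2-subgroup of `Y` whose
  intersection with the kernel is `⟨z⟩`.
-/

set_option autoImplicit false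
set_option linter.unusedSectionVars false

namespace Cfsg.Agent.JankoFour

open Subgroup
open scoped commutatorElement
open LargeExtraspecial (Hub Pair mem_conj_iff)

variable {G : Type*} [Group G] {z : G} {P : Subgroup G}

namespace Ctx

variable [Finite G] (Γ : Ctx z P)

include Γ

theorem mem_fixZ_of_sqz {e m : G} (he : e ∈ coreE z) (hm : m * m = 1)
    (hem : e * m * (e * m) ∈ zpowers z) : e ∈ Γ.fixZ m := by
  refine Γ.mem_fixZ.2 ⟨he, ?_⟩
  have hmi : m⁻¹ = m := inv_eq_of_mul_eq_one_right hm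
  have h : m * e * m⁻¹ = e⁻¹ * (e * m * (e * m)) := by rw [hmi]; group
  rcases Γ.S.z_cases hem with e1 | e1 <;> rw [h, e1]
  · rw [mul_one]; exact Γ.sq_eq_or he
  · have hc : e⁻¹ * z = z * e⁻¹ := ((Γ.S.hub.central e⁻¹ (inv_mem he)).eq)
    rw [hc]
    rcases Γ.sq_eq_or he with e2 | e2
    · exact Or.inr (by rw [e2])
    · exact Or.inl (by rw [e2, ← mul_assoc, Γ.S.hub.sq, one_mul])

/-- For an outer involution every fixed point modulo `z` is a value `f m f⁻¹ m⁻¹`, or `z` times one. -/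
theorem fixed_eq_value {m e : G} (hm : m ∈ centralizer ({z} : Set G)) (hm2 : m * m = 1)
    (hmi : Γ.ph m ∉ innerM22) (heF : e ∈ Γ.fixZ m) :
    ∃ f ∈ coreE z, e = f * m * f⁻¹ * m⁻¹ ∨ e = z * (f * m * f⁻¹ * m⁻¹) := by
  set F := Γ.fixZ m with hF
  set C := coreE z ⊓ centralizer ({m} : Set G) with hC
  set O := (fun f => f * m * f⁻¹ * m⁻¹) '' (coreE z : Set G) with hO
  have hzF : z ∈ F := Γ.z_mem_fixZ hm
  have hOF : O ⊆ (F : Set G) := Γ.orbit_subset_fixZ hm hm2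
  set O2 := (fun x => z * x) '' O with hO2
  have hO2F : O2 ⊆ (F : Set G) := by
    rintro _ ⟨x, hx, rfl⟩
    exact mul_mem hzF (hOF hx)
  have hcard : (F : Set G).ncard ≤ 2 ^ 7 := by
    rw [← Nat.card_coe_set_eq]; exact Γ.fixZ_outer hm hmi
  have horb := card_le_orbit (coreE z) m
  rw [← hO, ← hC, Γ.S.card_E] at horb
  have key : e ∈ O ∪ O2 := by
    suffices h : O ∪ O2 = (F : Set G) by rw [h]; exact heF
    refine Set.eq_of_subset_of_ncard_le (Set.union_subset hOF hO2F) ?_ (Set.toFinite _)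
    refine hcard.trans ?_
    have hCF : C ≤ F := Γ.cent_le_fixZ m
    by_cases hsmall : Nat.card ↥C ≤ 2 ^ 6
    · refine le_trans ?_ (Set.ncard_le_ncard (s := O) Set.subset_union_left (Set.toFinite _))
      by_contra hlt
      have := Nat.mul_le_mul (show O.ncard ≤ 2 ^ 7 - 1 by omega) hsmall
      omega
    · have hCeq : C = F := by
        refine eq_of_le_of_card_ge hCF ?_
        have hd := card_dvd_of_le hCF
        have hdE := card_dvd_of_le (Γ.fixZ_le m)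
        rw [Γ.S.card_E] at hdE
        obtain ⟨i, -, hi⟩ := (Nat.dvd_prime_pow Nat.prime_two).1 hdE
        have hF7 : Nat.card ↥F ≤ 2 ^ 7 := Γ.fixZ_outer hm hmi
        rw [hi] at hd hF7
        obtain ⟨j, -, hj⟩ := (Nat.dvd_prime_pow Nat.prime_two).1 hd
        rw [hj] at hsmall
        rw [hi, hj]
        have h1 : i ≤ 7 := (Nat.pow_le_pow_iff_right (by norm_num)).1 hF7
        have h2 : 7 ≤ j := by
          by_contra h
          exact hsmall (Nat.pow_le_pow_right (by norm_num) (by omega))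
        exact Nat.pow_le_pow_right (by norm_num) (by omega)
      have hC7 : Nat.card ↥C ≤ 2 ^ 7 := hCeq ▸ Γ.fixZ_outer hm hmi
      have hO6 : 2 ^ 6 ≤ O.ncard := by
        by_contra hlt
        have := Nat.mul_le_mul (show O.ncard ≤ 2 ^ 6 - 1 by omega) hC7
        omega
      have hdisj : Disjoint O O2 := by
        rw [Set.disjoint_left]
        rintro _ ⟨f, hf, rfl⟩ ⟨_, ⟨f', hf', rfl⟩, h⟩
        have h : z * (f' * m * f'⁻¹ * m⁻¹) = f * m * f⁻¹ * m⁻¹ := h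
        have h1 : f'⁻¹ * f * m * (f'⁻¹ * f)⁻¹ = z * m := by
          calc f'⁻¹ * f * m * (f'⁻¹ * f)⁻¹ = f'⁻¹ * ((f * m * f⁻¹ * m⁻¹) * m) * f' := by group
            _ = f'⁻¹ * z * f' * m := by rw [← h]; group
            _ = z * m := by rw [(Γ.S.hub.central f'⁻¹ (inv_mem hf')).eq, inv_mul_cancel_right]
        set k := f'⁻¹ * f with hk
        have hkE : k ∈ coreE z := mul_mem (inv_mem hf') hf
        have hkF : k ∈ F := by
          refine Γ.mem_fixZ.2 ⟨hkE, Or.inr ?_⟩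
          calc m * k * m⁻¹ = (k * m * k⁻¹ * m⁻¹)⁻¹ * k := by group
            _ = z * k := by rw [h1, mul_inv_cancel_right, Γ.S.hub.inv_z]
        rw [← hCeq] at hkF
        rw [mem_centralizer_singleton_iff.1 hkF.2, mul_inv_cancel_right] at h1
        exact Γ.S.hub.ne_one (mul_eq_right.1 h1.symm)
      rw [Set.ncard_union_eq hdisj (Set.toFinite _) (Set.toFinite _),
        Set.ncard_image_of_injective _ (mul_right_injective z)]
      omega
  rcases key with ⟨f, hf, rfl⟩ | ⟨_, ⟨f, hf, rfl⟩, rfl⟩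
  exacts [⟨f, hf, Or.inl rfl⟩, ⟨f, hf, Or.inr rfl⟩]

theorem core_normalizer_P {e : G} (he : e ∈ coreE z) (hn : e ∈ normalizer (P : Set G)) :
    e ∈ zpowers z := by
  refine (Γ.S.fix ▸ ⟨he, mem_centralizer_iff.2 fun p hp => ?_⟩ : e ∈ zpowers z)
  have hpe : e * p * e⁻¹ * p⁻¹ ∈ coreE z := by
    rw [show e * p * e⁻¹ * p⁻¹ = e * (p * e⁻¹ * p⁻¹) by group]
    exact mul_mem he (Γ.conj_core (Γ.S.P_le hp) (inv_mem he))
  have hpP : e * p * e⁻¹ * p⁻¹ ∈ P := mul_mem ((mem_normalizer_iff.1 hn p).1 hp) (inv_mem hp)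
  have h1 := Γ.eq_one_of_mem_core hpP hpe
  exact (mul_inv_eq_iff_eq_mul.1 (mul_inv_eq_one.1 h1)).symm

/-- An element of `Y` over the inner part lies in `X`. -/
theorem mem_cX_of_inner {y : G} (hy : y ∈ cY z P) (hi : Γ.ph y ∈ innerM22) : y ∈ cX z P := by
  rw [Γ.ph_eq hy.1, Γ.S.pi_mem_inner] at hi
  obtain ⟨e, he, x, hx, rfl⟩ := hi
  have hn : e ∈ normalizer (P : Set G) := by
    have := mul_mem (Subgroup.mem_inf.1 hy).2 (inv_mem (Subgroup.mem_inf.1 (Γ.S.X_le_Y hx)).2)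
    rwa [mul_inv_cancel_right] at this
  exact mul_mem (Γ.S.zpowers_le_X (Γ.core_normalizer_P he hn)) hx

theorem ker_cY {y : G} (hy : y ∈ cY z P) (h1 : Γ.ph y = 1) :
    ∃ w ∈ zpowers z, ∃ r ∈ P, y = w * r :=
  Γ.exists_zp (Γ.mem_cX_of_inner hy (h1 ▸ one_mem _)) h1

variable {U₀ : Subgroup AutM22} (HF : HexFacts innerM22 U₀) (HI : InvFacts innerM22 U₀)
  {g₀ : G} (hg₀ : Pt z g₀)

include HF HI hg₀

/-- An element of `Y` with square in `⟨z⟩` over an involution is an involution. -/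
theorem sq_eq_one_of_lift {y : G} (hy : y ∈ cY z P) (h2 : y * y ∈ zpowers z)
    (ho : orderOf (Γ.ph y) = 2) : y * y = 1 := by
  obtain ⟨U, hU, haU⟩ := HI.cover _ ho
  obtain ⟨g, hg, hgU⟩ := Γ.exists_pt_imgA HF hg₀ hU
  rw [← hgU] at haU
  have hne : Γ.ph y ≠ 1 := fun e => by rw [e, orderOf_one] at ho; norm_num at ho
  by_cases hi : Γ.ph y ∈ innerM22
  · have hyX := Γ.mem_cX_of_inner hy hi
    obtain ⟨g', p, ht, hl, hgg⟩ := Γ.exists_line hg
    rw [← hgg] at haU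
    obtain ⟨x, hxT, hxa, hxp⟩ := Γ.exists_X_lift ht hl haU hi
    have hxH := Γ.T_le_H ht hxT
    have hP : P = zpowers p := by
      symm
      refine eq_of_le_of_card_ge (zpowers_le.2 ht.mem) ?_
      rw [Γ.S.card_P, Nat.card_zpowers]
      refine Nat.le_of_dvd (orderOf_pos p) ?_
      have hd : orderOf p ∣ 3 := orderOf_dvd_iff_pow_eq_one.2 (by
        rw [pow_three]; exact Γ.p_cube ht.mem)
      rcases (Nat.dvd_prime Nat.prime_three).1 hd with h | h
      · exact absurd (orderOf_eq_one_iff.1 h) ht.ne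
      · rw [h]
    have hxX : x ∈ cX z P := by
      refine Subgroup.mem_inf.2 ⟨hxH, mem_centralizer_iff.2 fun q hq => ?_⟩
      rw [hP] at hq
      obtain ⟨n, rfl⟩ := mem_zpowers_iff.1 hq
      exact (Commute.zpow_left (mul_inv_eq_iff_eq_mul.1 hxp : Commute p x) n).eq
    have hLy : Γ.Lifts (Γ.ph y) y := ⟨hyX, rfl, h2⟩
    have hLx : Γ.Lifts (Γ.ph y) x := ⟨hxX, hxa, by rw [Γ.T_sq ht hxT]; exact one_mem _⟩
    rw [(Lifts.unique Γ hLx hLy).2, Γ.T_sq ht hxT]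
  · obtain ⟨m, hm, hm2, hma⟩ := Γ.exists_invol_lift hg haU hne
    have hy2E : y * y ∈ coreE z := zpowers_le.2 Γ.z_mem_core h2
    obtain ⟨r, hr, e, he, hre⟩ :=
      Γ.exists_coset hy.1 hm.2 hy2E (by rw [hm2]; exact one_mem _) hma.symm
    have hsq : e * m * (e * m) = y * y := by
      rw [← hre, show r * y * r⁻¹ * (r * y * r⁻¹) = r * (y * y) * r⁻¹ by group]
      rcases Γ.S.z_cases h2 with h | h <;> rw [h]
      · group
      · rw [(mem_H.1 (Γ.S.P_le hr)).eq, mul_inv_cancel_right]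
    have heF : e ∈ Γ.fixZ m := Γ.mem_fixZ_of_sqz he hm2 (hsq.symm ▸ h2)
    obtain ⟨f, hf, hef | hef⟩ := Γ.fixed_eq_value hm.2 hm2 (hma.symm ▸ hi) heF <;>
      rw [← hsq, hef]
    · calc f * m * f⁻¹ * m⁻¹ * m * (f * m * f⁻¹ * m⁻¹ * m) = f * (m * m) * f⁻¹ := by group
        _ = 1 := by rw [hm2]; group
    · calc z * (f * m * f⁻¹ * m⁻¹) * m * (z * (f * m * f⁻¹ * m⁻¹) * m)
          = z * (f * m * f⁻¹ * z) * (f * m * f⁻¹) := by group
        _ = z * z * (f * (m * m) * f⁻¹) := by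
            rw [show f * m * f⁻¹ * z = z * (f * m * f⁻¹) from
              (mem_H.1 (mul_mem (mul_mem (coreE_le_H hf) hm.2) (inv_mem (coreE_le_H hf)))).eq]
            group
        _ = 1 := by rw [Γ.S.hub.sq, hm2]; group

omit HF HI hg₀

/-- A 2-subgroup of `Aut M₂₂` is the image of one of `Y`, meeting the kernel in `⟨z⟩`. -/
theorem exists_sylow_lift {S : Subgroup AutM22} (hS : IsPGroup 2 ↥S) :
    ∃ Q : Subgroup G, Q ≤ cY z P ∧ z ∈ Q ∧ (∀ a ∈ S, ∃ y ∈ Q, Γ.ph y = a) ∧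
      (∀ y ∈ Q, Γ.ph y ∈ S) ∧ ∀ y ∈ Q, Γ.ph y = 1 → y ∈ zpowers z := by
  have : Fact (Nat.Prime 2) := ⟨Nat.prime_two⟩
  let K : Subgroup G :=
    { carrier := {y | y ∈ cY z P ∧ Γ.ph y ∈ S}
      one_mem' := ⟨one_mem _, by rw [Γ.ph_one]; exact one_mem _⟩
      mul_mem' := fun {a b} ha hb =>
        ⟨mul_mem ha.1 hb.1, by rw [Γ.ph_mul ha.1.1 hb.1.1]; exact mul_mem ha.2 hb.2⟩
      inv_mem' := fun {a} ha => ⟨inv_mem ha.1, by rw [Γ.ph_inv ha.1.1]; exact inv_mem ha.2⟩ }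
  have hsurj : ∀ a ∈ S, ∃ y ∈ K, Γ.ph y = a := fun a ha => by
    obtain ⟨h, hh, hha⟩ := Γ.exists_ph a
    obtain ⟨e, he, y, hy, rfl⟩ := Γ.S.factor h hh
    rw [Γ.ph_mul (coreE_le_H he) hy.1, Γ.ph_core he, one_mul] at hha
    exact ⟨y, ⟨hy, hha ▸ ha⟩, hha⟩
  let f : ↥K →* ↥S :=
    { toFun := fun y => ⟨Γ.ph y, y.2.2⟩
      map_one' := Subtype.ext Γ.ph_one
      map_mul' := fun a b => Subtype.ext (Γ.ph_mul a.2.1.1 b.2.1.1) }
  have hf : Function.Surjective f := fun a => by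
    obtain ⟨y, hy, e⟩ := hsurj a a.2
    exact ⟨⟨y, hy⟩, Subtype.ext e⟩
  have hzK : z ∈ K := ⟨⟨mem_H.2 (Commute.refl z), le_normalizer_of_le_cent Γ⟩,
    by rw [Γ.ph_core Γ.z_mem_core]; exact one_mem _⟩
  have hz2 : IsPGroup 2 ↥(zpowers (⟨z, hzK⟩ : ↥K)) := IsPGroup.of_card (n := 1) (by
    rw [Nat.card_zpowers, Subgroup.orderOf_mk, orderOf_eq_prime_iff.2 ⟨by
      rw [pow_two, Γ.S.hub.sq], Γ.S.hub.ne_one⟩, pow_one])
  obtain ⟨T, hT⟩ := hz2.exists_le_sylow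
  refine ⟨(T : Subgroup ↥K).map K.subtype, ?_, ⟨⟨z, hzK⟩, hT (mem_zpowers _), rfl⟩, ?_, ?_, ?_⟩
  · rintro _ ⟨y, -, rfl⟩; exact y.2.1
  · have htop : (T : Subgroup ↥K).map f = ⊤ := by
      rw [← Subgroup.index_eq_one]
      have h1 := Subgroup.index_map_dvd (T : Subgroup ↥K) hf
      obtain ⟨n, hn⟩ := IsPGroup.iff_card.1 hS
      have h2 : ((T : Subgroup ↥K).map f).index ∣ 2 ^ n := hn ▸ index_dvd_card _
      have h3 : ¬ 2 ∣ (T : Subgroup ↥K).index := T.not_dvd_index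
      obtain ⟨k, -, hk⟩ := (Nat.dvd_prime_pow Nat.prime_two).1 h2
      rcases k.eq_zero_or_pos with rfl | hk0
      · rw [hk, pow_zero]
      · exact absurd ((dvd_pow_self 2 hk0.ne').trans (hk ▸ h1)) h3
    intro a ha
    obtain ⟨y, hy, e⟩ := htop.symm ▸ (mem_top (⟨a, ha⟩ : ↥S))
    exact ⟨y, ⟨y, hy, rfl⟩, congrArg Subtype.val e⟩
  · rintro _ ⟨y, -, rfl⟩; exact y.2.2
  · rintro _ ⟨y, hy, rfl⟩ h1
    obtain ⟨w, hw, r, hr, e⟩ := Γ.ker_cY y.2.1 h1
    obtain ⟨k, hk⟩ := T.2 ⟨y, hy⟩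
    have hk' : (y : G) ^ 2 ^ k = 1 := by
      have := congrArg (fun x : ↥(T : Subgroup ↥K) => ((x : ↥K) : G)) hk
      simpa using this
    have hwr : Commute w r := by
      rcases Γ.S.z_cases hw with rfl | rfl
      exacts [Commute.one_left r, (mem_H.1 (Γ.S.P_le hr)).symm]
    rw [e, hwr.mul_pow] at hk'
    have hr1 : r ^ 2 ^ k ∈ coreE z := by
      have hwE : w ^ 2 ^ k ∈ coreE z := pow_mem (zpowers_le.2 Γ.z_mem_core hw) _
      rw [show r ^ 2 ^ k = (w ^ 2 ^ k)⁻¹ from eq_inv_of_mul_eq_one_right hk']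
      exact inv_mem hwE
    have hrk : r ^ 2 ^ k = 1 := Γ.eq_one_of_mem_core (pow_mem hr _) hr1
    have hr0 : r = 1 := by
      refine orderOf_eq_one_iff.1 (Nat.dvd_one.1 ?_)
      have h3 : orderOf r ∣ 3 := orderOf_dvd_iff_pow_eq_one.2 (by
        rw [pow_three]; exact Γ.p_cube hr)
      exact ((Nat.coprime_primes Nat.prime_three Nat.prime_two).2 (by norm_num)).pow_right k ▸
        Nat.dvd_gcd h3 (orderOf_dvd_iff_pow_eq_one.2 hrk)
    show (y : G) ∈ zpowers z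
    rw [e, hr0, mul_one]; exact hw
where
  le_normalizer_of_le_cent (Γ : Ctx z P) : z ∈ normalizer (P : Set G) :=
    mem_normalizer_iff.2 fun q => by
      constructor
      · intro hq
        rwa [← (mem_H.1 (Γ.S.P_le hq)).eq, mul_inv_cancel_right]
      · intro hq
        have h := (mem_H.1 (Γ.S.P_le hq)).eq
        have : q = z * q * z⁻¹ := by
          calc q = z⁻¹ * (z * q * z⁻¹ * z) := by group
            _ = z⁻¹ * (z * (z * q * z⁻¹)) := by rw [h]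
            _ = z * q * z⁻¹ := by group
        exact this ▸ hq

end Ctx

end Cfsg.Agent.JankoFour
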