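import Cfsg.Agent.Lib.JankoFour.TenTwoFix

/-!
# Self-centralising `2^10` in Janko-four type: construction

* `lift_sq`: the lifts in `X` of inner involutions are involutions;
* `preA V`: generated by `fixA V` and the lifts of `V`; elementary of order `2^7 |V|` when `fixA V` is;
* `tenA`: `preA U`, elementary of order `2^10`, its own centraliser.
-/

set_option autoImplicit false
set_option linter.unusedSectionVars false

namespace Cfsg.Agent.JankoFour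

open Subgroup
open scoped commutatorElement
open LargeExtraspecial (Hub Pair mem_conj_iff)

variable {G : Type*} [Group G] {z : G} {P : Subgroup G}

namespace Ctx

variable [Finite G] (Γ : Ctx z P)

include Γ

/-- The group generated by the fixed points of `V` and its lifts. -/
def preA (V : Subgroup AutM22) : Subgroup G :=
  Subgroup.closure ((Γ.fixA V : Set G) ∪ Γ.liftsOf V)

theorem fixA_le_preA (V : Subgroup AutM22) : Γ.fixA V ≤ Γ.preA V := fun _ he =>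
  subset_closure (Or.inl he)

theorem lift_mem_preA {V : Subgroup AutM22} {a : AutM22} (ha : a ∈ V) {x : G} (hx : Γ.Lifts a x) :
    x ∈ Γ.preA V := subset_closure (Or.inr ⟨a, ha, hx⟩)

theorem preA_le_H (V : Subgroup AutM22) : Γ.preA V ≤ centralizer ({z} : Set G) := by
  rw [preA, closure_le]
  rintro x (hx | ⟨a, -, hx⟩)
  exacts [coreE_le_H (Γ.fixA_le V hx), hx.mem.1]

theorem preA_anti_lifts {V V' : Subgroup AutM22} (h : V ≤ V') (hF : Γ.fixA V ≤ Γ.fixA V') :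
    Γ.preA V ≤ Γ.preA V' := by
  rw [preA, closure_le]
  rintro x (hx | ⟨a, ha, hx⟩)
  exacts [Γ.fixA_le_preA V' (hF hx), Γ.lift_mem_preA (h ha) hx]

theorem liftsOf_conj {V : Subgroup AutM22} {y x : G} (hy : y ∈ cY z P) (hx : x ∈ Γ.liftsOf V) :
    y * x * y⁻¹ ∈ Γ.liftsOf (cj (Γ.ph y) V) := by
  obtain ⟨a, ha, hx⟩ := hx
  refine ⟨_, mem_cj_conj ha, Γ.conj_mem_X hy hx.mem, by rw [Γ.ph_conj hy.1 hx.mem.1, hx.img], ?_⟩
  rw [show y * x * y⁻¹ * (y * x * y⁻¹) = y * (x * x) * y⁻¹ by group]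
  rcases Γ.S.z_cases hx.sq with h | h <;> rw [h]
  · rw [mul_one, mul_inv_cancel]; exact one_mem _
  · rw [(mem_H.1 hy.1).eq, mul_inv_cancel_right]; exact mem_zpowers z

theorem preA_map_le {V : Subgroup AutM22} (hV : InnerElem V) {y : G} (hy : y ∈ cY z P) :
    (Γ.preA V).map (MulAut.conj y).toMonoidHom ≤ Γ.preA (cj (Γ.ph y) V) := by
  rw [preA, MonoidHom.map_closure, closure_le]
  rintro _ ⟨x, hx, rfl⟩
  rcases hx with hx | hx
  · exact Γ.fixA_le_preA _ (Γ.fixA_map_le hV hy.1 ⟨x, hx, rfl⟩)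
  · exact subset_closure (Or.inr (Γ.liftsOf_conj hy hx))

theorem preA_conj {V : Subgroup AutM22} (hV : InnerElem V) {y : G} (hy : y ∈ cY z P) :
    (Γ.preA V).map (MulAut.conj y).toMonoidHom = Γ.preA (cj (Γ.ph y) V) := by
  refine le_antisymm (Γ.preA_map_le hV hy) fun x hx => ?_
  have := Γ.preA_map_le (Γ.innerElem_cj hV (Γ.ph y)) ((cY z P).inv_mem hy) ⟨x, hx, rfl⟩
  rw [Γ.ph_inv hy.1, ← cj_mul, inv_mul_cancel, cj_one] at this
  refine ⟨_, this, ?_⟩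
  show y * (y⁻¹ * x * y⁻¹⁻¹) * y⁻¹ = x
  group

/-- `E` normalises `preA V` when `fixA V` is abelian of order `2^7`. -/
theorem core_normalizes_preA {V : Subgroup AutM22} (hV : InnerElem V)
    (hc : ∀ u ∈ Γ.fixA V, ∀ v ∈ Γ.fixA V, u * v = v * u) (h7 : Nat.card ↥(Γ.fixA V) = 2 ^ 7) :
    coreE z ≤ normalizer (Γ.preA V : Set G) := by
  intro e he
  refine mem_normalizer_closure fun x hx => ?_
  rcases hx with hx | ⟨a, ha, hx⟩
  · rcases Γ.comm_core he (Γ.fixA_le V hx) with h | h <;> rw [h]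
    exacts [Γ.fixA_le_preA V hx, mul_mem (Γ.fixA_le_preA V (Γ.z_mem_fixA V)) (Γ.fixA_le_preA V hx)]
  have hkE : x * e * x⁻¹ * e⁻¹ ∈ coreE z := mul_mem (Γ.conj_core hx.mem.1 he) (inv_mem he)
  have hk : x * e * x⁻¹ * e⁻¹ ∈ Γ.fixA V := by
    refine Γ.mem_of_commute_seven (a := 1) (by rw [Γ.eq_conjE_one]; exact Γ.fixA_le V) hc h7.ge
      (by rw [Γ.eq_conjE_one]; exact hkE) fun w hw => ?_
    have hwE := Γ.fixA_le V hw
    have hxw : x * w = w * x := Γ.lifts_commute_fixA hV ha hx hw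
    rcases Γ.comm_core he hwE with h | h
    · have h' : e * w = w * e := mul_inv_eq_iff_eq_mul.1 h
      have e1 : e⁻¹ * w = w * e⁻¹ := (Commute.inv_left h').eq
      have e2 : x⁻¹ * w = w * x⁻¹ := (Commute.inv_left hxw).eq
      calc x * e * x⁻¹ * e⁻¹ * w = x * e * x⁻¹ * (w * e⁻¹) := by rw [mul_assoc _ e⁻¹, e1]
        _ = x * e * (x⁻¹ * w) * e⁻¹ := by group
        _ = x * (e * w) * x⁻¹ * e⁻¹ := by rw [e2]; group
        _ = (x * w) * e * x⁻¹ * e⁻¹ := by rw [h']; group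
        _ = w * (x * e * x⁻¹ * e⁻¹) := by rw [hxw]; group
    · have h' : e * w = z * w * e := mul_inv_eq_iff_eq_mul.1 h
      have hzE : z * e = e * z := (Γ.S.hub.central e he).eq.symm
      have e1 : e⁻¹ * w = z * w * e⁻¹ := by
        have h2 : z * e * w = w * e := by
          rw [mul_assoc, h', ← mul_assoc, ← mul_assoc, Γ.S.hub.sq, one_mul]
        calc e⁻¹ * w = e⁻¹ * (w * e) * e⁻¹ := by group
          _ = e⁻¹ * (z * e * w) * e⁻¹ := by rw [h2]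
          _ = e⁻¹ * (e * z) * w * e⁻¹ := by rw [hzE]; group
          _ = z * w * e⁻¹ := by group
      have e2 : x⁻¹ * w = w * x⁻¹ := (Commute.inv_left hxw).eq
      have hxz : x * z = z * x := (Γ.z_comm_X hx.mem).eq
      have hxiz : x⁻¹ * z = z * x⁻¹ := (Γ.z_comm_X hx.mem).inv_left.eq
      calc x * e * x⁻¹ * e⁻¹ * w = x * e * (x⁻¹ * z) * w * e⁻¹ := by rw [mul_assoc _ e⁻¹, e1]; group
        _ = x * (e * z) * (x⁻¹ * w) * e⁻¹ := by rw [hxiz]; group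
        _ = x * z * (e * w) * x⁻¹ * e⁻¹ := by rw [← hzE, e2]; group
        _ = x * (z * z) * w * e * x⁻¹ * e⁻¹ := by rw [h']; group
        _ = (x * w) * e * x⁻¹ * e⁻¹ := by rw [Γ.S.hub.sq]; group
        _ = w * (x * e * x⁻¹ * e⁻¹) := by rw [hxw]; group
  have hrev : e * x * e⁻¹ = (x * e * x⁻¹ * e⁻¹)⁻¹ * x := by group
  rw [hrev]
  exact mul_mem (inv_mem (Γ.fixA_le_preA V hk)) (Γ.lift_mem_preA ha hx)

end Ctx

namespace TenH

variable [Finite G] (Δ : TenH z P)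

include Δ

theorem lift_U_sq {a : AutM22} (ha : a ∈ Δ.U) (ha1 : a ≠ 1) {x : G} (hx : Δ.Γ.Lifts a x) :
    x * x = 1 := by
  set Γ := Δ.Γ
  have hU := Δ.inner_U
  by_contra hne
  have hz : x * x = z := (Γ.S.z_cases hx.sq).resolve_left hne
  have hall : ∀ {b : AutM22} {y : G}, b ∈ Δ.U → b ≠ 1 → Γ.Lifts b y → y * y = z := by
    intro b y hb hb1 hy
    obtain ⟨n, hn, hnab⟩ := Δ.TF.trans a ha ha1 b hb hb1
    obtain ⟨c, hc, hcn⟩ := Γ.exists_liftY n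
    obtain ⟨a', -, hl⟩ := Γ.liftsOf_conj (V := Δ.U) hc ⟨a, ha, hx⟩
    have ha' : a' = b := by rw [← hl.img, Γ.ph_conj hc.1 hx.mem.1, hcn, hx.img, hnab]
    rw [ha'] at hl
    rw [(hl.unique Γ hy).2, show c * x * c⁻¹ * (c * x * c⁻¹) = c * (x * x) * c⁻¹ by group, hz,
      (mem_H.1 hc.1).eq, mul_inv_cancel_right]
  have hcard : ∀ S : Finset AutM22, S.card < 8 → ∃ u ∈ Δ.U, u ∉ S := by
    intro S hS
    by_contra hno
    push Not at hno
    have h := Set.ncard_le_ncard (show (Δ.U : Set AutM22) ⊆ (S : Set AutM22) from fun u hu => hno u hu)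
    rw [← Nat.card_coe_set_eq, SetLike.coe_sort_coe, Δ.TF.card, Set.ncard_coe_finset] at h
    omega
  classical
  obtain ⟨b, hb, hbS⟩ := hcard {1, a} (lt_of_le_of_lt (Finset.card_le_two) (by norm_num))
  obtain ⟨c, hc, hcS⟩ := hcard {1, a, b, a * b} (lt_of_le_of_lt (Finset.card_le_four) (by norm_num))
  simp only [Finset.mem_insert, Finset.mem_singleton, not_or] at hbS hcS
  obtain ⟨hb1, hba⟩ := hbS
  obtain ⟨hc1, hca, hcb, hcab⟩ := hcS
  have anti : ∀ {b c : AutM22} {y w : G}, b ∈ Δ.U → b ≠ 1 → c ∈ Δ.U → c ≠ 1 → b ≠ c → Γ.Lifts b y →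
      Γ.Lifts c w → w * y = y * w * z := by
    intro b c y w hb hb1 hc hc1 hbc hy hw
    obtain ⟨k, -, h1, h2, h3⟩ := hy.mul Γ hw (hU.comm b hb c hc)
    have hbc1 : b * c ≠ 1 := fun e => hbc (by
      calc b = b * (c * c) := by rw [hU.sq c hc, mul_one]
        _ = b * c * c := by group
        _ = c := by rw [e, one_mul])
    rw [hall (mul_mem hb hc) hbc1 h3, hall hb hb1 hy, hall hc hc1 hw, Γ.S.hub.sq, one_mul] at h2
    rw [h1, ← h2]
  obtain ⟨y, hy⟩ := Γ.exists_sqz_lift (hU.le hb) (hU.sq b hb)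
  obtain ⟨w, hw⟩ := Γ.exists_sqz_lift (hU.le hc) (hU.sq c hc)
  obtain ⟨k, -, -, -, hyw⟩ := hy.mul Γ hw (hU.comm b hb c hc)
  have hbc1 : b * c ≠ 1 := fun e => hcb (by
    calc c = (b * b) * c := by rw [hU.sq b hb, one_mul]
      _ = b * (b * c) := by group
      _ = b := by rw [e, mul_one])
  have hbca : a ≠ b * c := fun e => hcab (by
    rw [e, hU.comm _ (mul_mem hb hc) b hb, ← mul_assoc, hU.sq b hb, one_mul])
  have e1 := anti ha ha1 hb hb1 (Ne.symm hba) hx hy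
  have e2 := anti ha ha1 hc hc1 (Ne.symm hca) hx hw
  have e3 := anti ha ha1 (mul_mem hb hc) hbc1 hbca hx hyw
  have hzw : Commute z w := (Γ.z_comm_X hw.mem).symm
  have e4 : y * w * x = x * (y * w) := by
    calc y * w * x = y * (w * x) := by group
      _ = (y * x) * w * z := by rw [e2]; group
      _ = x * y * (z * w) * z := by rw [e1]; group
      _ = x * (y * w) * (z * z) := by rw [hzw.eq]; group
      _ = x * (y * w) := by rw [Γ.S.hub.sq, mul_one]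
  rw [e4] at e3
  exact Γ.S.hub.ne_one (mul_eq_left.1 e3.symm)

/-- Lifts of elements of order at most 2 of the inner part are involutions or trivial. -/
theorem lift_sq {a : AutM22} {x : G} (hx : Δ.Γ.Lifts a x) (ha2 : a * a = 1) : x * x = 1 := by
  set Γ := Δ.Γ
  by_cases ha1 : a = 1
  · subst ha1
    have h1 : Γ.Lifts 1 1 := ⟨one_mem _, Γ.ph_one, by rw [one_mul]; exact one_mem _⟩
    rw [(h1.unique Γ hx).2, one_mul]
  have hai : a ∈ innerM22 := hx.img ▸ Γ.ph_X_inner hx.mem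
  obtain ⟨k, u, hu, rfl⟩ := Δ.TF.invol_mem a hai (orderOf_two_of_sq ha2 ha1)
  have hu1 : u ≠ 1 := fun e => ha1 (by rw [e]; group)
  obtain ⟨y, hy, rfl⟩ := Γ.exists_liftY k
  obtain ⟨x₀, hx₀⟩ := Γ.exists_sqz_lift (Δ.inner_U.le hu) (Δ.inner_U.sq u hu)
  obtain ⟨a', -, hl⟩ := Γ.liftsOf_conj (V := Δ.U) hy ⟨u, hu, hx₀⟩
  have ha' : a' = Γ.ph y * u * (Γ.ph y)⁻¹ := by rw [← hl.img, Γ.ph_conj hy.1 hx₀.mem.1, hx₀.img]
  rw [ha'] at hl
  rw [(hl.unique Γ hx).2, show y * x₀ * y⁻¹ * (y * x₀ * y⁻¹) = y * (x₀ * x₀) * y⁻¹ by group,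
    Δ.lift_U_sq hu hu1 hx₀]
  group

theorem lifts_commute {V : Subgroup AutM22} (hV : InnerElem V) {a b : AutM22} (ha : a ∈ V) (hb : b ∈ V)
    {x y : G} (hx : Δ.Γ.Lifts a x) (hy : Δ.Γ.Lifts b y) : x * y = y * x := by
  obtain ⟨k, -, e1, e2, h3⟩ := hx.mul Δ.Γ hy (hV.comm a ha b hb)
  rw [Δ.lift_sq h3 (hV.sq _ (mul_mem ha hb)), Δ.lift_sq hx (hV.sq a ha), Δ.lift_sq hy (hV.sq b hb),
    one_mul, one_mul] at e2
  rw [e1, ← e2, mul_one]

theorem preA_elementary {V : Subgroup AutM22} (hV : InnerElem V)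
    (hF : ∀ e ∈ Δ.Γ.fixA V, e * e = 1) : ∀ v ∈ Δ.Γ.preA V, v * v = 1 := by
  intro v hv
  refine closure_elementary ?_ ?_ hv
  · intro x hx y hy
    rcases hx with hx | ⟨a, ha, hx⟩ <;> rcases hy with hy | ⟨b, hb, hy⟩
    exacts [comm_of_sq hF x hx y hy, (Δ.Γ.lifts_commute_fixA hV hb hy hx).symm,
      Δ.Γ.lifts_commute_fixA hV ha hx hy, Δ.lifts_commute hV ha hb hx hy]
  · rintro x (hx | ⟨a, ha, hx⟩)
    exacts [hF x hx, Δ.lift_sq hx (hV.sq a ha)]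

theorem preA_facts {V : Subgroup AutM22} (hV : InnerElem V) (hF : ∀ e ∈ Δ.Γ.fixA V, e * e = 1)
    (h7 : Nat.card ↥(Δ.Γ.fixA V) = 2 ^ 7) :
    Δ.Γ.preA V ⊓ coreE z = Δ.Γ.fixA V ∧ Ctx.img Δ.Γ.S (Δ.Γ.preA V) = V ∧
      Nat.card ↥(Δ.Γ.preA V) = Nat.card ↥V * 2 ^ 7 := by
  set Γ := Δ.Γ
  have hel := Δ.preA_elementary hV hF
  have hinf : Γ.preA V ⊓ coreE z = Γ.fixA V := by
    refine (eq_of_le_of_card_ge (le_inf (Γ.fixA_le_preA V) (Γ.fixA_le V)) ?_).symm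
    rw [h7]
    exact Γ.abelian_card_le (a := 1) (by rw [Γ.eq_conjE_one]; exact inf_le_right)
      fun x hx y hy => comm_of_sq hel x hx.1 y hy.1
  have himg : Ctx.img Γ.S (Γ.preA V) = V := by
    refine le_antisymm ?_ fun a ha => ?_
    · have hle : Γ.preA V ≤ (V.comap Γ.S.pi).map (centralizer ({z} : Set G)).subtype := by
        show Subgroup.closure _ ≤ _
        rw [closure_le]
        rintro x (hx | ⟨a, ha, hx⟩)
        · exact ⟨⟨x, coreE_le_H (Γ.fixA_le V hx)⟩, by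
            rw [SetLike.mem_coe, mem_comap, Γ.S.pi_E (c := ⟨x, _⟩) (Γ.fixA_le V hx)]; exact one_mem _, rfl⟩
        · exact ⟨⟨x, hx.mem.1⟩, by
            rw [SetLike.mem_coe, mem_comap, ← Γ.ph_eq hx.mem.1, hx.img]; exact ha, rfl⟩
      intro a ha
      obtain ⟨v, hv, hvH, rfl⟩ := Γ.exists_img ha
      obtain ⟨c, hc, rfl⟩ := hle hv
      rw [subtype_apply, Γ.ph_eq c.2]; exact hc
    · obtain ⟨x, hx⟩ := Γ.exists_sqz_lift (hV.le ha) (hV.sq a ha)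
      exact hx.img ▸ Γ.ph_mem_img (Γ.preA_le_H V) (Γ.lift_mem_preA ha hx)
  refine ⟨hinf, himg, ?_⟩
  have h := Γ.card_img (Γ.preA_le_H V) fun v hv => by rw [hel v hv]; exact one_mem _
  rw [himg, hinf, h7] at h
  exact h.symm

/-- The elementary abelian group of order `2^10`. -/
def tenA : Subgroup G := Δ.Γ.preA Δ.U

theorem tenA_sq : ∀ v ∈ Δ.tenA, v * v = 1 := Δ.preA_elementary Δ.inner_U Δ.fixA_octad.2

theorem tenA_le_H : Δ.tenA ≤ centralizer ({z} : Set G) := Δ.Γ.preA_le_H _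

theorem tenA_comm : ∀ x ∈ Δ.tenA, ∀ y ∈ Δ.tenA, x * y = y * x := comm_of_sq Δ.tenA_sq

theorem card_tenA : Nat.card ↥Δ.tenA = 2 ^ 10 := by
  rw [tenA, (Δ.preA_facts Δ.inner_U Δ.fixA_octad.2 Δ.fixA_octad.1).2.2, Δ.TF.card]
  norm_num

theorem tenA_inf_core : Δ.tenA ⊓ coreE z = Δ.Γ.fixA Δ.U :=
  (Δ.preA_facts Δ.inner_U Δ.fixA_octad.2 Δ.fixA_octad.1).1

theorem img_tenA : Ctx.img Δ.Γ.S Δ.tenA = Δ.U :=
  (Δ.preA_facts Δ.inner_U Δ.fixA_octad.2 Δ.fixA_octad.1).2.1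

theorem z_mem_tenA : z ∈ Δ.tenA := Δ.Γ.fixA_le_preA _ (Δ.Γ.z_mem_fixA _)

theorem exists_seven : ∃ g, Pt z g ∧ Δ.U ≤ normalizer (Δ.Γ.imgA g : Set AutM22) := by
  obtain ⟨A, hA, hn⟩ : ∃ A : Subgroup AutM22, IsThirtyTwo A ∧ Δ.U ≤ normalizer (A : Set AutM22) :=
    Set.nonempty_of_ncard_ne_zero (s := {A : Subgroup AutM22 | IsThirtyTwo A ∧
      Δ.U ≤ normalizer (A : Set AutM22)}) (by rw [Δ.TF.seven]; norm_num)
  obtain ⟨g, hg, rfl⟩ := Δ.exists_pt_img hA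
  exact ⟨g, hg, hn⟩

/-- The centraliser in `H` of the fixed points of `U`. -/
theorem mem_tenA_of_commute {c : G} (hc : c ∈ centralizer ({z} : Set G))
    (hcF : ∀ w ∈ Δ.Γ.fixA Δ.U, c * w = w * c) : c ∈ Δ.tenA := by
  set Γ := Δ.Γ
  have hU := Δ.inner_U
  obtain ⟨g₁, hg₁, hn₁⟩ := Δ.exists_seven
  obtain ⟨p, hp, hp1⟩ := Γ.exists_generator
  have hfix : ∀ {g : G}, Pt z g → Δ.U ≤ normalizer (Γ.imgA g : Set AutM22) → ∀ {r : G}, r ∈ P →
      c * (r * (g * z * g⁻¹) * r⁻¹) * c⁻¹ = r * (g * z * g⁻¹) * r⁻¹ := fun {g} hg hn {r} hr => by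
    rw [hcF _ (Δ.pt_mem_fixA hU hg hn hr), mul_inv_cancel_right]
  have hci : Γ.ph c ∈ innerM22 := by
    by_contra ho
    have h1 := Γ.outer_conj hc ho hp hg₁.mem
    have h0 := hfix hg₁ hn₁ (one_mem P)
    rw [show (1 : G) * (g₁ * z * g₁⁻¹) * 1⁻¹ = g₁ * z * g₁⁻¹ by group] at h0
    rw [hfix hg₁ hn₁ hp, h0] at h1
    have h2 : Eqz z (p * (g₁ * z * g₁⁻¹) * p⁻¹) (p⁻¹ * (g₁ * z * g₁⁻¹) * p⁻¹⁻¹) := by rwa [inv_inv]
    have h3 := Γ.eqz_of_P_fixed hp (inv_mem hp) hg₁.mem (Γ.hub_pt g₁).ne_one hg₁.ne h2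
    have hpp : p * p = 1 := mul_eq_one_iff_eq_inv.2 h3
    refine hp1 ?_
    simpa [hpp] using Γ.p_cube hp
  have hcU : Γ.ph c ∈ Δ.U := by
    refine Δ.TF.cent _ hci fun A hA hn => ?_
    obtain ⟨g, hg, rfl⟩ := Δ.exists_pt_img hA
    refine Γ.mem_normalizer_of_eqz hg hc (Or.inl ?_)
    have := hfix hg hn (one_mem P)
    rwa [show (1 : G) * (g * z * g⁻¹) * 1⁻¹ = g * z * g⁻¹ by group] at this
  obtain ⟨x, hx⟩ := Γ.exists_sqz_lift hci (hU.sq _ hcU)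
  obtain ⟨e, he, q, hq, heq⟩ := Γ.exists_ep (mul_mem hc (inv_mem hx.mem.1))
    (by rw [Γ.ph_mul hc (inv_mem hx.mem.1), Γ.ph_inv hx.mem.1, hx.img, mul_inv_cancel])
  have hcom : ∀ w ∈ Γ.fixA Δ.U, e * q * w = w * (e * q) := by
    intro w hw
    rw [← heq]
    have hxw : Commute x w := Γ.lifts_commute_fixA hU hcU hx hw
    exact (Commute.mul_left (hcF w hw : Commute c w) hxw.inv_left).eq
  have hq1 : q = 1 := by
    have hs : g₁ * z * g₁⁻¹ ∈ Γ.fixA Δ.U := by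
      have := Δ.pt_mem_fixA hU hg₁ hn₁ (one_mem P)
      rwa [show (1 : G) * (g₁ * z * g₁⁻¹) * 1⁻¹ = g₁ * z * g₁⁻¹ by group] at this
    have hqs : q * (g₁ * z * g₁⁻¹) * q⁻¹ ∈ coreE z := Γ.conj_core (Γ.S.P_le hq) hg₁.mem
    have h1 : e * (q * (g₁ * z * g₁⁻¹) * q⁻¹) * e⁻¹ = g₁ * z * g₁⁻¹ := by
      rw [show e * (q * (g₁ * z * g₁⁻¹) * q⁻¹) * e⁻¹ = e * q * (g₁ * z * g₁⁻¹) * (e * q)⁻¹ by group,
        hcom _ hs, mul_inv_cancel_right]
    have h2 : Eqz z (q * (g₁ * z * g₁⁻¹) * q⁻¹) (1 * (g₁ * z * g₁⁻¹) * 1⁻¹) := by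
      rw [show (1 : G) * (g₁ * z * g₁⁻¹) * 1⁻¹ = g₁ * z * g₁⁻¹ by group]
      exact Γ.eqz_trans (Γ.eqz_symm (Γ.eqz_core he hqs)) (Or.inl h1)
    exact Γ.eqz_of_P_fixed hq (one_mem P) hg₁.mem (Γ.hub_pt g₁).ne_one hg₁.ne h2
  subst hq1
  simp only [mul_one] at heq hcom
  have heF : e ∈ Γ.fixA Δ.U := Γ.mem_of_commute_seven (a := 1) (by rw [Γ.eq_conjE_one]; exact Γ.fixA_le _)
    (comm_of_sq Δ.fixA_octad.2) Δ.fixA_octad.1.ge (by rw [Γ.eq_conjE_one]; exact he) hcom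
  have hce : c = e * x := by rw [← heq]; group
  rw [hce]
  exact mul_mem (Γ.fixA_le_preA _ heF) (Γ.lift_mem_preA hcU hx)

theorem centralizer_tenA : centralizer (Δ.tenA : Set G) = Δ.tenA := by
  refine le_antisymm (fun c hc => ?_) fun a ha => mem_centralizer_iff.2 fun b hb => Δ.tenA_comm b hb a ha
  exact Δ.mem_tenA_of_commute (mem_centralizer_singleton_iff.2 (hc z Δ.z_mem_tenA).symm)
    fun w hw => (hc w (Δ.Γ.fixA_le_preA _ hw)).symm

/-- The elements of `H` normalising `tenA`. -/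
theorem mem_normalizer_tenA_iff {h : G} (hh : h ∈ centralizer ({z} : Set G)) :
    h ∈ normalizer (Δ.tenA : Set G) ↔ Δ.Γ.ph h ∈ normalizer (Δ.U : Set AutM22) := by
  constructor
  · intro hn
    refine mem_normalizer_of_cj_eq ?_
    rw [← Δ.img_tenA, ← Δ.Γ.img_map_conj Δ.tenA_le_H hh,
      show Δ.tenA.map (MulAut.conj h).toMonoidHom = Δ.tenA from cj_eq_of_mem_normalizer hn]
  · intro hn
    obtain ⟨e, he, y, hy, rfl⟩ := Δ.Γ.S.factor h hh
    rw [Δ.Γ.ph_mul (coreE_le_H he) hy.1, Δ.Γ.ph_core he, one_mul] at hn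
    refine mul_mem (Δ.Γ.core_normalizes_preA Δ.inner_U (comm_of_sq Δ.fixA_octad.2) Δ.fixA_octad.1 he)
      (mem_normalizer_of_cj_eq ?_)
    show (Δ.Γ.preA Δ.U).map (MulAut.conj y).toMonoidHom = _
    rw [Δ.Γ.preA_conj Δ.inner_U hy, cj_eq_of_mem_normalizer hn]
    rfl

end TenH

end Cfsg.Agent.JankoFour
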