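import Mathlib.GroupTheory.Index
import Mathlib.GroupTheory.PGroup
import Mathlib.GroupTheory.GroupAction.Quotient
import Mathlib.GroupTheory.Perm.Cycle.Type
import Mathlib.Tactic.Group

/-!
# Counting tools for the orbit of `z` in a group of order `2^10`
-/

set_option autoImplicit false

namespace Cfsg.Agent.JankoFour

open Subgroup

variable {G : Type*} [Group G] [Finite G]

/-- Orbit times centraliser. -/
theorem ncard_conj_mul (K : Subgroup G) (x : G) :
    {v : G | ∃ n ∈ K, n * x * n⁻¹ = v}.ncard * Nat.card ↥(K ⊓ centralizer ({x} : Set G)) =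
      Nat.card ↥K := by
  let act : MulAction ↥K G :=
    { smul := fun k v => (k : G) * v * (k : G)⁻¹
      one_smul := fun v => show ((1 : ↥K) : G) * v * ((1 : ↥K) : G)⁻¹ = v by simp
      mul_smul := fun a b v => show ((a * b : ↥K) : G) * v * ((a * b : ↥K) : G)⁻¹ =
        (a : G) * ((b : G) * v * (b : G)⁻¹) * (a : G)⁻¹ by push_cast; group }
  letI := act
  classical
  have : Fintype ↥K := Fintype.ofFinite _
  have : Fintype ↑(MulAction.orbit ↥K x) := Fintype.ofFinite _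
  have : Fintype ↥(MulAction.stabilizer ↥K x) := Fintype.ofFinite _
  have h := MulAction.card_orbit_mul_card_stabilizer_eq_card_group ↥K x
  have ho : MulAction.orbit ↥K x = {v : G | ∃ n ∈ K, n * x * n⁻¹ = v} := by
    ext v
    constructor
    · rintro ⟨k, rfl⟩
      exact ⟨k, k.2, rfl⟩
    · rintro ⟨n, hn, rfl⟩
      exact ⟨⟨n, hn⟩, rfl⟩
  have hs : Nat.card ↥(MulAction.stabilizer ↥K x) = Nat.card ↥(K ⊓ centralizer ({x} : Set G)) :=
    Nat.card_congr
      { toFun := fun k => ⟨k.1.1, Subgroup.mem_inf.2 ⟨k.1.2, mem_centralizer_singleton_iff.2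
          (mul_inv_eq_iff_eq_mul.1 (MulAction.mem_stabilizer_iff.1 k.2 : (k.1 : G) * x * (k.1 : G)⁻¹ = x))⟩⟩
        invFun := fun k => ⟨⟨k.1, (Subgroup.mem_inf.1 k.2).1⟩, MulAction.mem_stabilizer_iff.2
          (mul_inv_eq_iff_eq_mul.2 (mem_centralizer_singleton_iff.1 (Subgroup.mem_inf.1 k.2).2) :
            (k.1 : G) * x * (k.1 : G)⁻¹ = x)⟩
        left_inv := fun _ => rfl
        right_inv := fun _ => rfl }
  rw [← ho, ← hs, ← Nat.card_coe_set_eq, Nat.card_eq_fintype_card, Nat.card_eq_fintype_card,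
    Nat.card_eq_fintype_card]
  exact h

/-- A set stable under a group of order `2^13` whose point centralisers have order at most `2^9`. -/
theorem sixteen_dvd_ncard (E : Subgroup G) (hE : Nat.card ↥E = 2 ^ 13) (S : Set G)
    (hS : ∀ e ∈ E, ∀ v ∈ S, e * v * e⁻¹ ∈ S)
    (hC : ∀ v ∈ S, Nat.card ↥(E ⊓ centralizer ({v} : Set G)) ≤ 2 ^ 9) : 16 ∣ S.ncard := by
  classical
  let act : MulAction ↥E ↥S :=
    { smul := fun e v => ⟨(e : G) * v * (e : G)⁻¹, hS e e.2 v v.2⟩
      one_smul := fun v => Subtype.ext (show ((1 : ↥E) : G) * v * ((1 : ↥E) : G)⁻¹ = v by simp)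
      mul_smul := fun a b v => Subtype.ext (show ((a * b : ↥E) : G) * v * ((a * b : ↥E) : G)⁻¹ =
        (a : G) * ((b : G) * v * (b : G)⁻¹) * (a : G)⁻¹ by push_cast; group) }
  letI := act
  have : Fintype ↥E := Fintype.ofFinite _
  have : Fintype ↥S := Fintype.ofFinite _
  rw [← Nat.card_coe_set_eq, Nat.card_congr (MulAction.selfEquivSigmaOrbits' ↥E ↥S)]
  have : Fintype (MulAction.orbitRel.Quotient ↥E ↥S) := Fintype.ofFinite _
  rw [Nat.card_sigma]
  refine Finset.dvd_sum fun q _ => ?_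
  induction q using Quotient.inductionOn' with
  | h v =>
    rw [MulAction.orbitRel.Quotient.orbit_mk]
    have h := MulAction.card_orbit_mul_card_stabilizer_eq_card_group ↥E v
    rw [← Nat.card_eq_fintype_card, ← Nat.card_eq_fintype_card, ← Nat.card_eq_fintype_card, hE] at h
    have hs : Nat.card ↥(MulAction.stabilizer ↥E v) ≤ 2 ^ 9 := by
      refine le_trans (Nat.card_le_card_of_injective
        (fun k => (⟨(k.1 : G), Subgroup.mem_inf.2 ⟨k.1.2, mem_centralizer_singleton_iff.2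
          (mul_inv_eq_iff_eq_mul.1 (congrArg Subtype.val (MulAction.mem_stabilizer_iff.1 k.2) :
            (k.1 : G) * (v : G) * (k.1 : G)⁻¹ = v))⟩⟩ : ↥(E ⊓ centralizer ({(v : G)} : Set G))))
        fun a b hab => ?_) (hC v v.2)
      simp only [Subtype.mk.injEq] at hab
      exact Subtype.ext (Subtype.ext hab)
    obtain ⟨m, -, hm⟩ := (Nat.dvd_prime_pow Nat.prime_two).1 (Dvd.intro _ h :
      Nat.card ↥(MulAction.orbit ↥E v) ∣ 2 ^ 13)
    rw [hm] at h ⊢
    refine (show 16 = 2 ^ 4 by norm_num) ▸ pow_dvd_pow 2 ?_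
    by_contra hlt
    have h3 : (2 : ℕ) ^ m ≤ 2 ^ 3 := Nat.pow_le_pow_right (by norm_num) (by omega)
    have := Nat.mul_le_mul h3 hs
    rw [h] at this
    norm_num at this

/-- A prime divisor of the order of a group acting faithfully on an abelian group of order `2^10`. -/
theorem exists_modEq_of_prime_dvd {N A : Subgroup G} (hnorm : N ≤ normalizer (A : Set G))
    (hA : Nat.card ↥A = 2 ^ 10) (hself : ∀ c ∈ N, (∀ a ∈ A, c * a = a * c) → c ∈ A)
    {p : ℕ} (hp : p.Prime) (hp2 : p ≠ 2) (hdvd : p ∣ Nat.card ↥N) :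
    ∃ j, j < 10 ∧ 2 ^ 10 % p = 2 ^ j % p := by
  classical
  have : Fact p.Prime := ⟨hp⟩
  obtain ⟨x, hx⟩ := exists_prime_orderOf_dvd_card' p hdvd
  let act : MulAction ↥(zpowers x) ↥A :=
    { smul := fun k a => ⟨((k : ↥N) : G) * a * ((k : ↥N) : G)⁻¹,
        (mem_normalizer_iff.1 (hnorm (k : ↥N).2) a).1 a.2⟩
      one_smul := fun a => Subtype.ext (show (((1 : ↥(zpowers x)) : ↥N) : G) * a *
        (((1 : ↥(zpowers x)) : ↥N) : G)⁻¹ = a by simp)
      mul_smul := fun u v a => Subtype.ext (show (((u * v : ↥(zpowers x)) : ↥N) : G) * a *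
        (((u * v : ↥(zpowers x)) : ↥N) : G)⁻¹ = ((u : ↥N) : G) * (((v : ↥N) : G) * a *
          ((v : ↥N) : G)⁻¹) * ((u : ↥N) : G)⁻¹ by push_cast; group) }
  letI := act
  have hmod := (IsPGroup.of_card (n := 1) (by rw [Nat.card_zpowers, hx, pow_one]) :
    IsPGroup p ↥(zpowers x)).card_modEq_card_fixedPoints ↥A
  set C := A ⊓ centralizer ({(x : G)} : Set G) with hC
  have hfix : Nat.card ↥(MulAction.fixedPoints ↥(zpowers x) ↥A) = Nat.card ↥C := by
    refine Nat.card_congr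
      { toFun := fun a => ⟨a.1.1, Subgroup.mem_inf.2 ⟨a.1.2, mem_centralizer_singleton_iff.2 ?_⟩⟩
        invFun := fun a => ⟨⟨a.1, (Subgroup.mem_inf.1 a.2).1⟩, fun k => Subtype.ext ?_⟩
        left_inv := fun _ => rfl
        right_inv := fun _ => rfl }
    · exact (mul_inv_eq_iff_eq_mul.1 (congrArg Subtype.val (a.2 ⟨x, mem_zpowers x⟩) :
        (x : G) * a.1.1 * (x : G)⁻¹ = a.1.1)).symm
    · obtain ⟨n, hn⟩ := mem_zpowers_iff.1 k.2
      have hc : Commute ((k : ↥N) : G) a.1 := by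
        rw [← hn]
        push_cast
        exact (show Commute (x : G) a.1 from
          (mem_centralizer_singleton_iff.1 (Subgroup.mem_inf.1 a.2).2).symm).zpow_left n
      exact mul_inv_eq_iff_eq_mul.2 hc.eq
  obtain ⟨j, hj, hjc⟩ := (Nat.dvd_prime_pow Nat.prime_two).1
    (hA ▸ card_dvd_of_le (inf_le_left : C ≤ A) : Nat.card ↥C ∣ 2 ^ 10)
  rw [hfix, hA, hjc] at hmod
  refine ⟨j, lt_of_le_of_ne hj fun hj10 => ?_, hmod⟩
  have hCA : C = A := eq_of_le_of_card_ge inf_le_left (by rw [hjc, hj10, hA])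
  have hxA : (x : G) ∈ A := hself x x.2 fun a ha =>
    (mem_centralizer_singleton_iff.1 (Subgroup.mem_inf.1 (hCA.symm ▸ ha : a ∈ C)).2).symm
  have ho : orderOf (x : G) = p := by rw [← hx]; exact Subgroup.orderOf_coe x
  have h2 : p ∣ 2 ^ 10 := by
    rw [← hA, ← ho, ← Subgroup.orderOf_mk (a := (x : G)) hxA]
    exact orderOf_dvd_natCard _
  exact hp2 ((Nat.prime_dvd_prime_iff_eq hp Nat.prime_two).1 (hp.dvd_of_dvd_pow h2))

end Cfsg.Agent.JankoFour
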