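import Cfsg.Agent.Lib.JankoFour.TenTwoUnique
import Cfsg.Agent.Lib.JankoFour.TenTwoTools

/-!
# Self-centralising `2^10` in Janko-four type: the orbit of `z`

With `N = N(A)`: `|N ∩ H| = 2^13·3·2688`, the orbit of `z` meets `A ∩ E` in 43 and each coset
over `U` in the same multiple of 16 of elements; hence it has 155 elements and `|N| = 2^10·|L₅(2)|`.
-/

set_option autoImplicit false
set_option linter.unusedSectionVars false

namespace Cfsg.Agent.JankoFour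

open Subgroup
open scoped commutatorElement
open LargeExtraspecial (Hub Pair mem_conj_iff)

variable {G : Type*} [Group G] {z : G} {P : Subgroup G}

theorem inv_conj_mem_normalizer {A : Subgroup G} {n a : G} (hn : n ∈ normalizer (A : Set G)) (ha : a ∈ A) :
    n * a * n⁻¹ ∈ A := (mem_normalizer_iff.1 hn a).1 ha

namespace TenH

variable [Finite G] (Δ : TenH z P)

include Δ

/-- The normaliser of `tenA`. -/
abbrev tenN : Subgroup G := normalizer (Δ.tenA : Set G)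

/-- The orbit of `z`. -/
abbrev zOrb : Set G := orbitIn Δ.tenN z

theorem core_le_tenN : coreE z ≤ Δ.tenN :=
  Δ.Γ.core_normalizes_preA Δ.inner_U (comm_of_sq Δ.fixA_octad.2) Δ.fixA_octad.1

theorem P_le_tenN : P ≤ Δ.tenN := fun p hp =>
  (Δ.mem_normalizer_tenA_iff (Δ.Γ.S.P_le hp)).2 (by rw [Δ.Γ.ph_P hp]; exact one_mem _)

theorem zOrb_subset {y : G} (hy : y ∈ Δ.zOrb) : y ∈ Δ.tenA := by
  obtain ⟨n, hn, rfl⟩ := hy
  exact inv_conj_mem_normalizer hn Δ.z_mem_tenA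

theorem zOrb_conj {y n : G} (hn : n ∈ Δ.tenN) (hy : y ∈ Δ.zOrb) : n * y * n⁻¹ ∈ Δ.zOrb := by
  obtain ⟨m, hm, rfl⟩ := hy
  exact ⟨n * m, mul_mem hn hm, by group⟩

theorem mem_zOrb {y : G} (hy : y ∈ Δ.tenA) (hc : IsConj z y) : y ∈ Δ.zOrb :=
  Δ.exists_normalizer_conj_z hy hc

theorem z_mem_zOrb : z ∈ Δ.zOrb := ⟨1, one_mem _, by group⟩

theorem card_tenN_inf : Nat.card ↥(Δ.tenN ⊓ centralizer ({z} : Set G)) = 2 ^ 13 * 3 * 2688 := by
  set Γ := Δ.Γ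
  set H := centralizer ({z} : Set G) with hH
  have heq : (Δ.tenN).subgroupOf H = (normalizer (Δ.U : Set AutM22)).comap Γ.S.pi := by
    ext h
    rw [mem_subgroupOf, mem_comap, ← Γ.ph_eq h.2]
    exact Δ.mem_normalizer_tenA_iff h.2
  rw [← Nat.card_congr (subgroupOfEquivOfLe (inf_le_right : Δ.tenN ⊓ H ≤ H)).toEquiv,
    inf_subgroupOf_right, heq]
  set R' := (normalizer (Δ.U : Set AutM22)).comap Γ.S.pi
  have h1 := (Γ.S.pi.comp R'.subtype).ker.card_mul_index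
  have hk : (Γ.S.pi.comp R'.subtype).ker = Γ.S.pi.ker.subgroupOf R' := by
    ext x; simp [mem_subgroupOf]
  have hkle : Γ.S.pi.ker ≤ R' := fun x hx => mem_comap.2 (by rw [MonoidHom.mem_ker.1 hx]; exact one_mem _)
  have hkcard : Nat.card ↥Γ.S.pi.ker = 2 ^ 13 * 3 := by
    have h := Γ.S.pi.ker.card_mul_index
    rw [Subgroup.index_ker, MonoidHom.range_eq_top.2 Γ.S.pi_surjective, card_top, Γ.S.card_H] at h
    have hI := innerM22.card_mul_index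
    rw [Γ.F.index_two, Γ.F.card_inner] at hI
    rw [← hI] at h
    omega
  rw [Subgroup.index_ker, MonoidHom.range_comp, range_subtype,
    map_comap_eq_self (by rw [MonoidHom.range_eq_top.2 Γ.S.pi_surjective]; exact le_top), hk,
    Nat.card_congr (subgroupOfEquivOfLe hkle).toEquiv, hkcard, Δ.TF.card_normalizer] at h1
  exact h1.symm

theorem card_tenN : Nat.card ↥Δ.tenN = Δ.zOrb.ncard * (2 ^ 13 * 3 * 2688) := by
  rw [← Δ.card_tenN_inf]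
  exact (ncard_conj_mul Δ.tenN z).symm

theorem ph_eq_one_iff {y : G} (hy : y ∈ Δ.tenA) : Δ.Γ.ph y = 1 ↔ y ∈ Δ.Γ.fixA Δ.U := by
  refine ⟨fun h => ?_, fun h => Δ.Γ.ph_core (Δ.Γ.fixA_le _ h)⟩
  rw [← Δ.tenA_inf_core]
  exact Subgroup.mem_inf.2 ⟨hy, Δ.Γ.mem_core_of_sq (Δ.tenA_le_H hy) h
    (by rw [Δ.tenA_sq y hy]; exact one_mem _)⟩

/-- The orbit of `z` in `A ∩ E`: `z` and the points of the seven lines. -/
theorem zOrb_fix {y : G} (hy : y ∈ Δ.Γ.fixA Δ.U) (hc : y ∈ Δ.zOrb) : y = z ∨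
    ∃ g, Pt z g ∧ Δ.U ≤ normalizer (Δ.Γ.imgA g : Set AutM22) ∧ y = g * z * g⁻¹ := by
  by_cases hyz : y = z
  · exact Or.inl hyz
  obtain ⟨n, hn, rfl⟩ := hc
  have hpt : Pt z n := ⟨Δ.Γ.fixA_le _ hy, hyz⟩
  exact Or.inr ⟨n, hpt, Δ.normalizer_of_pt_mem Δ.inner_U hpt hy, rfl⟩

theorem pt_mem_zOrb {g : G} (hg : Pt z g) (hn : Δ.U ≤ normalizer (Δ.Γ.imgA g : Set AutM22)) :
    g * z * g⁻¹ ∈ Δ.zOrb := by
  refine Δ.mem_zOrb (Δ.Γ.fixA_le_preA _ ?_) (isConj_iff.2 ⟨g, rfl⟩)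
  have := Δ.pt_mem_fixA Δ.inner_U hg hn (one_mem P)
  rwa [show (1 : G) * (g * z * g⁻¹) * 1⁻¹ = g * z * g⁻¹ by group] at this

theorem ncard_zOrb_fix : (Δ.zOrb ∩ (Δ.Γ.fixA Δ.U : Set G)).ncard = 43 := by
  classical
  set Γ := Δ.Γ
  have hU := Δ.inner_U
  set 𝒜 : Set (Subgroup AutM22) := {A | IsThirtyTwo A ∧ Δ.U ≤ normalizer (A : Set AutM22)} with h𝒜
  choose pt hpt using fun A : 𝒜 => Δ.exists_pt_img A.2.1
  have hn : ∀ A : 𝒜, Δ.U ≤ normalizer (Γ.imgA (pt A) : Set AutM22) := fun A => by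
    rw [(hpt A).2]; exact A.2.2
  let f : 𝒜 × ↥P × Bool → G := fun x =>
    (if x.2.2 then z else 1) * ((x.2.1 : G) * (pt x.1 * z * (pt x.1)⁻¹) * (x.2.1 : G)⁻¹)
  have hne : ∀ x, f x ≠ z := by
    rintro ⟨A, ⟨r, hr⟩, b⟩ h
    simp only [f] at h
    rcases b <;> simp only [Bool.false_eq_true, if_false, if_true, one_mul] at h
    · refine (hpt A).1.ne ?_
      calc pt A * z * (pt A)⁻¹ = r⁻¹ * (r * (pt A * z * (pt A)⁻¹) * r⁻¹) * r := by group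
        _ = z := by rw [h, (Γ.P_comm (inv_mem hr)).eq, inv_mul_cancel_right]
    · exact (Γ.hub_pt (pt A)).ne_one (conj_eq_one_iff.1 (mul_eq_left.1 h))
  have hf : Function.Injective f := by
    rintro ⟨A, ⟨r, hr⟩, b⟩ ⟨A', ⟨r', hr'⟩, b'⟩ h'
    simp only [f] at h'
    have hEq : Eqz z (r * (pt A * z * (pt A)⁻¹) * r⁻¹) (r' * (pt A' * z * (pt A')⁻¹) * r'⁻¹) := by
      rcases b <;> rcases b' <;>
        simp only [Bool.false_eq_true, if_false, if_true, one_mul] at h'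
      · exact Or.inl h'
      · exact Or.inr h'
      · exact Γ.eqz_symm (Or.inr h'.symm)
      · exact Or.inl (mul_left_cancel h')
    have hAA : A = A' := by
      obtain ⟨hp, hi⟩ := Γ.imgA_P (hpt A).1 hr
      obtain ⟨hp', hi'⟩ := Γ.imgA_P (hpt A').1 hr'
      refine Subtype.ext ?_
      rw [← (hpt A).2, ← (hpt A').2, ← hi, ← hi']
      refine Γ.imgA_eq_of_eqz hp' hp ?_
      rwa [show r * pt A * z * (r * pt A)⁻¹ = r * (pt A * z * (pt A)⁻¹) * r⁻¹ by group,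
        show r' * pt A' * z * (r' * pt A')⁻¹ = r' * (pt A' * z * (pt A')⁻¹) * r'⁻¹ by group]
    subst hAA
    obtain rfl := Γ.eqz_of_P_fixed hr hr' (hpt A).1.mem (Γ.hub_pt (pt A)).ne_one (hpt A).1.ne hEq
    have hb : (if b then z else (1 : G)) = if b' then z else 1 := mul_right_cancel h'
    rcases b <;> rcases b' <;> first | rfl | (exfalso; simp at hb)
    · exact Γ.S.hub.ne_one hb.symm
    · exact Γ.S.hub.ne_one hb
  have heq : Δ.zOrb ∩ (Γ.fixA Δ.U : Set G) = insert z (Set.range f) := by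
    ext y
    constructor
    · rintro ⟨hy, hyF⟩
      rcases Δ.zOrb_fix hyF hy with rfl | ⟨g, hg, hgn, rfl⟩
      · exact Or.inl rfl
      refine Or.inr ?_
      let A : 𝒜 := ⟨Γ.imgA g, Γ.thirtyTwo_imgA hg, hgn⟩
      obtain ⟨r, hr, hEq⟩ := Γ.point_of_imgA (hpt A).1 hg (hpt A).2.le
      rcases hEq with e | e
      · exact ⟨(A, ⟨r, hr⟩, false), by simp [f, e]⟩
      · exact ⟨(A, ⟨r, hr⟩, true), by simp [f, e]⟩
    · rintro (rfl | ⟨⟨A, ⟨r, hr⟩, b⟩, rfl⟩)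
      · exact ⟨Δ.z_mem_zOrb, Γ.z_mem_fixA _⟩
      have hrs := Δ.zOrb_conj (Δ.P_le_tenN hr) (Δ.pt_mem_zOrb (hpt A).1 (hn A))
      have hrF : r * (pt A * z * (pt A)⁻¹) * r⁻¹ ∈ Γ.fixA Δ.U := Δ.pt_mem_fixA hU (hpt A).1 (hn A) hr
      simp only [f]
      rcases b <;> simp only [Bool.false_eq_true, if_false, if_true, one_mul]
      · exact ⟨hrs, hrF⟩
      · refine ⟨?_, mul_mem (Γ.z_mem_fixA _) hrF⟩
        obtain ⟨hp', -⟩ := Γ.imgA_P (hpt A).1 hr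
        obtain ⟨e, he, heq⟩ := LargeFischer.Loc.exists_flip Γ.S.hub hp'.mem (Γ.hub_pt (r * pt A)).ne_one hp'.ne
        have := Δ.zOrb_conj (Δ.core_le_tenN he) hrs
        rw [show r * (pt A * z * (pt A)⁻¹) * r⁻¹ = r * pt A * z * (r * pt A)⁻¹ by group, heq] at this
        rw [show r * (pt A * z * (pt A)⁻¹) * r⁻¹ = r * pt A * z * (r * pt A)⁻¹ by group,
          ← (Γ.S.hub.central _ hp'.mem).eq]
        exact this
  rw [heq, Set.ncard_insert_of_notMem (by rintro ⟨x, hx⟩; exact hne x hx) (Set.toFinite _),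
    ← Nat.card_coe_set_eq, Nat.card_range_of_injective hf, Nat.card_prod, Nat.card_prod,
    Nat.card_coe_set_eq, Δ.TF.seven, Γ.S.card_P, Nat.card_eq_fintype_card (α := Bool), Fintype.card_bool]

/-- The orbit of `z` over `a ∈ U`. -/
def zFib (a : AutM22) : Set G := {y | y ∈ Δ.zOrb ∧ Δ.Γ.ph y = a}

theorem zFib_one : Δ.zFib 1 = Δ.zOrb ∩ (Δ.Γ.fixA Δ.U : Set G) := by
  ext y
  exact ⟨fun ⟨h1, h2⟩ => ⟨h1, (Δ.ph_eq_one_iff (Δ.zOrb_subset h1)).1 h2⟩,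
    fun ⟨h1, h2⟩ => ⟨h1, (Δ.ph_eq_one_iff (Δ.zOrb_subset h1)).2 h2⟩⟩

theorem ph_zOrb_mem {y : G} (hy : y ∈ Δ.zOrb) : Δ.Γ.ph y ∈ Δ.U :=
  Δ.img_tenA ▸ Δ.Γ.ph_mem_img Δ.tenA_le_H (Δ.zOrb_subset hy)

theorem core_stab_le {a : AutM22} (ha : a ≠ 1) {v : G} (hv : v ∈ Δ.zFib a) :
    coreE z ⊓ centralizer ({v} : Set G) ≤ Δ.Γ.fixZ v ∧ Nat.card ↥(Δ.Γ.fixZ v) ≤ 2 ^ 9 := by
  have hvA := Δ.zOrb_subset hv.1
  refine ⟨Δ.Γ.cent_le_fixZ v, Δ.Γ.fixZ_inner (Δ.tenA_le_H hvA) (by rw [Δ.tenA_sq v hvA]; exact one_mem _)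
    fun h => ha (by rw [← hv.2, Δ.Γ.ph_core h])⟩

theorem zFib_stable {a : AutM22} {e v : G} (he : e ∈ coreE z) (hv : v ∈ Δ.zFib a) :
    e * v * e⁻¹ ∈ Δ.zFib a :=
  ⟨Δ.zOrb_conj (Δ.core_le_tenN he) hv.1, by
    rw [Δ.Γ.ph_conj (coreE_le_H he) (Δ.tenA_le_H (Δ.zOrb_subset hv.1)), Δ.Γ.ph_core he, hv.2]; group⟩

theorem sixteen_dvd_zFib {a : AutM22} (ha : a ≠ 1) : 16 ∣ (Δ.zFib a).ncard :=
  sixteen_dvd_ncard (coreE z) Δ.Γ.S.card_E _ (fun _ he _ hv => Δ.zFib_stable he hv)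
    fun _ hv => (Subgroup.card_le_of_le (Δ.core_stab_le ha hv).1).trans (Δ.core_stab_le ha hv).2

theorem ncard_zFib_le {a : AutM22} (ha : a ∈ Δ.U) : (Δ.zFib a).ncard ≤ 128 := by
  set Γ := Δ.Γ
  obtain ⟨x, hx⟩ := Γ.exists_sqz_lift (Δ.inner_U.le ha) (Δ.inner_U.sq a ha)
  have h : (Δ.zFib a).ncard ≤ (Γ.fixA Δ.U : Set G).ncard := by
    refine Set.ncard_le_ncard_of_injOn (fun y => y * x⁻¹) (fun y hy => ?_)
      (fun y _ y' _ h => mul_right_cancel h) (Set.toFinite _)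
    have hy' : y * x⁻¹ ∈ Δ.tenA :=
      mul_mem (Δ.zOrb_subset hy.1) (inv_mem (Γ.lift_mem_preA ha hx))
    refine (Δ.ph_eq_one_iff hy').1 ?_
    rw [Γ.ph_mul (Δ.tenA_le_H (Δ.zOrb_subset hy.1)) (inv_mem hx.mem.1), Γ.ph_inv hx.mem.1, hy.2, hx.img,
      mul_inv_cancel]
  rwa [← Nat.card_coe_set_eq (Γ.fixA Δ.U : Set G), SetLike.coe_sort_coe, Δ.fixA_octad.1] at h

theorem ncard_zFib_eq {a b : AutM22} (ha : a ∈ Δ.U) (ha1 : a ≠ 1) (hb : b ∈ Δ.U) (hb1 : b ≠ 1) :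
    (Δ.zFib a).ncard ≤ (Δ.zFib b).ncard := by
  obtain ⟨k, hk, hkab⟩ := Δ.TF.trans a ha ha1 b hb hb1
  obtain ⟨h, hh, rfl⟩ := Δ.Γ.exists_ph k
  refine Set.ncard_le_ncard_of_injOn (fun y => h * y * h⁻¹) (fun y hy => ?_)
    (fun y _ y' _ e => (MulAut.conj h).injective e) (Set.toFinite _)
  exact ⟨Δ.zOrb_conj ((Δ.mem_normalizer_tenA_iff hh).2 hk) hy.1, by
    rw [Δ.Γ.ph_conj hh (Δ.tenA_le_H (Δ.zOrb_subset hy.1)), hy.2, hkab]⟩

theorem ncard_zOrb_eq {a : AutM22} (ha : a ∈ Δ.U) (ha1 : a ≠ 1) :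
    Δ.zOrb.ncard = 43 + 7 * (Δ.zFib a).ncard := by
  classical
  have : Fintype G := Fintype.ofFinite _
  have : Fintype AutM22 := Fintype.ofFinite _
  set s := Δ.zOrb.toFinset with hs
  set t := (Δ.U : Set AutM22).toFinset with ht
  have hfib : ∀ b, (s.filter fun y => Δ.Γ.ph y = b).card = (Δ.zFib b).ncard := by
    intro b
    rw [← Set.ncard_coe_finset]
    congr 1
    ext y
    simp [hs, zFib]
  have h := Finset.card_eq_sum_card_fiberwise (f := Δ.Γ.ph) (s := s) (t := t) fun y hy => by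
    simp only [hs, Set.coe_toFinset] at hy
    simp only [ht, Set.coe_toFinset]
    exact Δ.ph_zOrb_mem hy
  have h1 : (1 : AutM22) ∈ t := by simp [ht]
  rw [← Finset.add_sum_erase t _ h1, hfib, Δ.zFib_one, Δ.ncard_zOrb_fix,
    Finset.sum_congr rfl fun b hb => ?_, Finset.sum_const, smul_eq_mul, Finset.card_erase_of_mem h1] at h
  rotate_left
  · obtain ⟨hb1, hbt⟩ := Finset.mem_erase.1 hb
    simp only [ht, Set.mem_toFinset, SetLike.mem_coe] at hbt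
    rw [hfib]
    exact le_antisymm (Δ.ncard_zFib_eq hbt hb1 ha ha1) (Δ.ncard_zFib_eq ha ha1 hbt hb1)
  have ht8 : t.card = 8 := by
    rw [ht, ← Set.ncard_eq_toFinset_card', ← Nat.card_coe_set_eq, SetLike.coe_sort_coe, Δ.TF.card]
  rw [ht8] at h
  rw [Set.ncard_eq_toFinset_card', ← hs]
  exact h

theorem self_tenN : ∀ c ∈ Δ.tenN, (∀ a ∈ Δ.tenA, c * a = a * c) → c ∈ Δ.tenA := fun c _ hc => by
  rw [← Δ.centralizer_tenA]
  exact mem_centralizer_iff.2 fun a ha => (hc a ha).symm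

theorem exists_nontrivial_U : ∃ a ∈ Δ.U, a ≠ 1 := by
  by_contra hno
  push Not at hno
  have h := Δ.TF.card
  rw [(eq_bot_iff_forall _).2 hno, card_bot] at h
  omega

theorem ncard_zFib {a : AutM22} (ha : a ∈ Δ.U) (ha1 : a ≠ 1) : (Δ.zFib a).ncard = 16 := by
  obtain ⟨i, hi⟩ := Δ.sixteen_dvd_zFib ha1
  have hi8 : i ≤ 8 := by
    have := Δ.ncard_zFib_le ha
    omega
  have hn := Δ.ncard_zOrb_eq ha ha1
  rw [hi] at hn ⊢
  have key : ∀ p : ℕ, p.Prime → p ≠ 2 → p ∣ 43 + 7 * (16 * i) →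
      ∃ j < 10, 2 ^ 10 % p = 2 ^ j % p := fun p hp hp2 hd =>
    exists_modEq_of_prime_dvd (N := Δ.tenN) le_rfl Δ.card_tenA Δ.self_tenN hp hp2
      (by rw [Δ.card_tenN, hn]; exact hd.mul_right _)
  interval_cases i
  · exact absurd (key 43 (by norm_num) (by norm_num) (by norm_num)) (by decide)
  · rfl
  · exact absurd (key 89 (by norm_num) (by norm_num) (by norm_num)) (by decide)
  · exact absurd (key 379 (by norm_num) (by norm_num) (by norm_num)) (by decide)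
  · exact absurd (key 491 (by norm_num) (by norm_num) (by norm_num)) (by decide)
  · exact absurd (key 67 (by norm_num) (by norm_num) (by norm_num)) (by decide)
  · exact absurd (key 13 (by norm_num) (by norm_num) (by norm_num)) (by decide)
  · exact absurd (key 827 (by norm_num) (by norm_num) (by norm_num)) (by decide)
  · exact absurd (key 313 (by norm_num) (by norm_num) (by norm_num)) (by decide)

theorem ncard_zOrb : Δ.zOrb.ncard = 155 := by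
  obtain ⟨a, ha, ha1⟩ := Δ.exists_nontrivial_U
  rw [Δ.ncard_zOrb_eq ha ha1, Δ.ncard_zFib ha ha1]

theorem card_tenN_eq : Nat.card ↥Δ.tenN = 2 ^ 10 * 9999360 := by
  rw [Δ.card_tenN, Δ.ncard_zOrb]
  norm_num

/-- `y` and `y z` both conjugate to `z`: `y ∈ E`. -/
theorem mem_fixA_of_twin {v : G} (hv : v ∈ Δ.zOrb) (hvz : v * z ∈ Δ.zOrb) : v ∈ Δ.Γ.fixA Δ.U := by
  set Γ := Δ.Γ
  by_contra hvF
  have hvA := Δ.zOrb_subset hv
  have hvH := Δ.tenA_le_H hvA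
  have ha : Γ.ph v ≠ 1 := fun h => hvF ((Δ.ph_eq_one_iff hvA).1 h)
  have hvfib : v ∈ Δ.zFib (Γ.ph v) := ⟨hv, rfl⟩
  have hzfib : v * z ∈ Δ.zFib (Γ.ph v) :=
    ⟨hvz, by rw [Γ.ph_mul hvH (mem_H.2 (Commute.refl z)), Γ.ph_core Γ.z_mem_core, mul_one]⟩
  set S := {w : G | ∃ e ∈ coreE z, e * v * e⁻¹ = w} with hS
  have hcount := ncard_conj_mul (coreE z) v
  rw [Γ.S.card_E, ← hS] at hcount
  have hsub : S ⊆ Δ.zFib (Γ.ph v) := by
    rintro _ ⟨e, he, rfl⟩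
    exact Δ.zFib_stable he hvfib
  have h16 := Δ.ncard_zFib (Δ.ph_zOrb_mem hv) ha
  have hS16 := (Set.ncard_le_ncard hsub (Set.toFinite _)).trans_eq h16
  obtain ⟨hle, h9⟩ := Δ.core_stab_le ha hvfib
  have hC9 := Subgroup.card_le_of_le hle
  have hmul := Nat.mul_le_mul hS16 (hC9.trans h9)
  have hCeq : 2 ^ 9 ≤ Nat.card ↥(coreE z ⊓ centralizer ({v} : Set G)) := by
    by_contra hlt
    have := Nat.mul_le_mul hS16 (show Nat.card ↥(coreE z ⊓ centralizer ({v} : Set G)) ≤ 511 by omega)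
    omega
  have hSeq : S = Δ.zFib (Γ.ph v) := by
    refine Set.eq_of_subset_of_ncard_le hsub ?_ (Set.toFinite _)
    rw [h16]
    by_contra hlt
    have := Nat.mul_le_mul (show S.ncard ≤ 15 by omega) (hC9.trans h9)
    omega
  have hfixC : coreE z ⊓ centralizer ({v} : Set G) = Γ.fixZ v :=
    eq_of_le_of_card_ge hle (h9.trans hCeq)
  obtain ⟨e, he, hev⟩ : v * z ∈ S := hSeq.symm ▸ hzfib
  have hef : e ∈ Γ.fixZ v := by
    refine Γ.mem_fixZ.2 ⟨he, Or.inr ?_⟩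
    have hvz' : v * z = z * v := (mem_H.1 hvH).eq
    have hez : e * z = z * e := (Γ.S.hub.central e he).eq
    have hev' : e * v = z * v * e := by rw [← hvz', ← hev]; group
    calc v * e * v⁻¹ = z * (z * v * e) * v⁻¹ := by
          rw [← mul_assoc z (z * v), ← mul_assoc z z, Γ.S.hub.sq, one_mul]
      _ = z * (e * v) * v⁻¹ := by rw [hev']
      _ = z * e := by group
  rw [← hfixC] at hef
  have hc : e * v = v * e := mem_centralizer_singleton_iff.1 (Subgroup.mem_inf.1 hef).2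
  rw [hc, mul_inv_cancel_right] at hev
  exact Γ.S.hub.ne_one (left_eq_mul.1 hev)

theorem tenA_le_closure : Δ.tenA ≤ Subgroup.closure Δ.zOrb := by
  classical
  set Γ := Δ.Γ
  set K := Subgroup.closure Δ.zOrb with hK
  have hKA : K ≤ Δ.tenA := (closure_le _).2 fun y hy => Δ.zOrb_subset hy
  have hKN : ∀ n ∈ Δ.tenN, ∀ y ∈ K, n * y * n⁻¹ ∈ K := by
    intro n hn y hy
    have hle : K.map (MulAut.conj n).toMonoidHom ≤ K := by
      rw [hK, MonoidHom.map_closure, closure_le]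
      rintro _ ⟨w, hw, rfl⟩
      exact subset_closure (Δ.zOrb_conj hn hw)
    exact hle ⟨y, hy, rfl⟩
  set K0 := K ⊓ coreE z with hK0
  have hK0F : K0 ≤ Γ.fixA Δ.U := Δ.tenA_inf_core ▸ inf_le_inf_right _ hKA
  have hzK : z ∈ K0 := Subgroup.mem_inf.2 ⟨subset_closure Δ.z_mem_zOrb, Γ.z_mem_core⟩
  obtain ⟨n, hn, hodd⟩ := Γ.exists_odd_exp (inf_le_right : K0 ≤ coreE z) hzK fun r hr e he =>
    Subgroup.mem_inf.2 ⟨hKN r (Δ.P_le_tenN hr) e he.1, Γ.conj_core (Γ.S.P_le hr) he.2⟩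
  have h43 : 43 ≤ Nat.card ↥K0 := by
    rw [← Δ.ncard_zOrb_fix, ← SetLike.coe_sort_coe, Nat.card_coe_set_eq]
    exact Set.ncard_le_ncard (fun y hy => Subgroup.mem_inf.2 ⟨subset_closure hy.1, Γ.fixA_le _ hy.2⟩)
      (Set.toFinite _)
  have hn7 : 7 ≤ n := by
    by_contra h
    have h5 : Nat.card ↥K0 ≤ 2 ^ 5 := hn ▸ Nat.pow_le_pow_right (by norm_num) (by omega)
    omega
  have heq : K0 = Γ.fixA Δ.U := eq_of_le_of_card_ge hK0F (by
    rw [hn, Δ.fixA_octad.1]; exact Nat.pow_le_pow_right (by norm_num) hn7)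
  intro y hy
  by_cases hy1 : Γ.ph y = 1
  · exact (heq.symm ▸ (Δ.ph_eq_one_iff hy).1 hy1 : y ∈ K0).1
  have hyU : Γ.ph y ∈ Δ.U := Δ.img_tenA ▸ Γ.ph_mem_img Δ.tenA_le_H hy
  obtain ⟨v, hv⟩ : (Δ.zFib (Γ.ph y)).Nonempty :=
    Set.nonempty_of_ncard_ne_zero (by rw [Δ.ncard_zFib hyU hy1]; norm_num)
  have hvA := Δ.zOrb_subset hv.1
  have hyv : y * v⁻¹ ∈ K0 := heq.symm ▸ (Δ.ph_eq_one_iff (mul_mem hy (inv_mem hvA))).1 (by
    rw [Γ.ph_mul (Δ.tenA_le_H hy) (inv_mem (Δ.tenA_le_H hvA)), Γ.ph_inv (Δ.tenA_le_H hvA), hv.2,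
      mul_inv_cancel])
  rw [show y = y * v⁻¹ * v by group]
  exact mul_mem hyv.1 (subset_closure hv.1)

end TenH

end Cfsg.Agent.JankoFour
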