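import Cfsg.Agent.Lib.JankoFour.TenTwoMain

/-!
# Janko-four type: the context for S5570, S5571
-/

set_option autoImplicit false

namespace Cfsg.Agent.JankoFour

open Subgroup

variable {G : Type*} [Group G] [Finite G] [IsSimpleGroup G]

/-- A group of Janko-four type has a context for the subgroups of order `2^10`. -/
theorem exists_tenH (F : AutFacts innerM22)
    (hT : ∃ U₀ U : Subgroup AutM22, HexFacts innerM22 U₀ ∧ TenFacts innerM22 U₀ U)
    (hJ : Cfsg.IsOfJankoFourType G) : ∃ (z : G) (P : Subgroup G), Nonempty (TenH z P) := by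
  obtain ⟨z, P, hP⟩ := hJ
  obtain ⟨S⟩ := exists_setting F hP
  obtain ⟨U₀, U, HF, TF⟩ := hT
  obtain ⟨g, hs, hne⟩ := exists_conj_mem_core S F
  exact ⟨z, P, ⟨⟨⟨S, F, fixBound S F⟩, U₀, U, HF, TF, g, ⟨hs, hne⟩⟩⟩⟩

theorem ten_orbits (F : AutFacts innerM22)
    (hT : ∃ U₀ U : Subgroup AutM22, HexFacts innerM22 U₀ ∧ TenFacts innerM22 U₀ U)
    (hJ : Cfsg.IsOfJankoFourType G) (A : Subgroup G) (hA : Cfsg.IsElementaryAbelian 2 A)
    (hcard : Nat.card ↥A = 2 ^ 10) (hself : centralizer (A : Set G) = A) :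
    ∃ a b : G, a ∈ A ∧ b ∈ A ∧
      Set.ncard {v : G | ∃ n ∈ normalizer (A : Set G), n * a * n⁻¹ = v} = 155 ∧
      Set.ncard {v : G | ∃ n ∈ normalizer (A : Set G), n * b * n⁻¹ = v} = 868 := by
  obtain ⟨z, P, ⟨Δ⟩⟩ := exists_tenH F hT hJ
  exact Δ.orbits (isTenSelf_of hA hcard hself)

end Cfsg.Agent.JankoFour
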