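import Cfsg.Agent.Lib.JankoFour.TenTwoInterface
import Cfsg.Agent.Lib.JankoFour.HexVData
import Cfsg.Agent.Lib.JankoFour.InvTools
import Cfsg.Agent.Lib.JankoFour.FusionE

/-!
# Self-centralising `2^10` in Janko-four type: fixed points modulo `z`

`fixA V`: the elements of `E` fixed modulo `z` by the lifts of `V` in `X`.
* `fixA_conj`: equivariance under `H`;
* `card_fixA_le`: at most `2^7` for `|V| ≥ 4`;
* `fixA_duad`: for the inner part of a 32 it is the group of order 8 of its line;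
* `fixA_octad`: for the octad kernel `U` it is elementary of order `2^7`.
-/

set_option autoImplicit false
set_option linter.unusedSectionVars false

namespace Cfsg.Agent.JankoFour

open Subgroup
open scoped commutatorElement
open LargeExtraspecial (Hub Pair mem_conj_iff)

variable {G : Type*} [Group G] {z : G} {P : Subgroup G}

/-- An inner elementary abelian subgroup. -/
structure InnerElem (V : Subgroup AutM22) : Prop where
  le : V ≤ innerM22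
  sq : ∀ a ∈ V, a * a = 1

theorem InnerElem.comm {V : Subgroup AutM22} (h : InnerElem V) : ∀ a ∈ V, ∀ b ∈ V, a * b = b * a :=
  comm_of_sq h.sq

theorem InnerElem.mono {V V' : Subgroup AutM22} (h : InnerElem V) (hle : V' ≤ V) : InnerElem V' :=
  ⟨hle.trans h.le, fun a ha => h.sq a (hle ha)⟩

theorem orderOf_two_of_sq {K : Type*} [Group K] {a : K} (h : a * a = 1) (h1 : a ≠ 1) : orderOf a = 2 :=
  orderOf_eq_prime (hp := ⟨Nat.prime_two⟩) (by rw [pow_two, h]) h1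

/-- A group generated by commuting involutions is elementary. -/
theorem closure_elementary {K : Type*} [Group K] {L : Set K} (hc : ∀ x ∈ L, ∀ y ∈ L, x * y = y * x)
    (h2 : ∀ x ∈ L, x * x = 1) {v : K} (hv : v ∈ closure L) : v * v = 1 := by
  have hab : IsMulCommutative ↥(closure L) := isMulCommutative_closure hc
  have hc' : ∀ x ∈ closure L, ∀ y ∈ closure L, x * y = y * x := fun x hx y hy =>
    congrArg Subtype.val (hab.1.1 ⟨x, hx⟩ ⟨y, hy⟩)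
  induction hv using Subgroup.closure_induction with
  | mem x hx => exact h2 x hx
  | one => exact one_mul 1
  | mul a b ha hb iha ihb =>
    calc a * b * (a * b) = a * (b * a) * b := by group
      _ = a * (a * b) * b := by rw [hc' b hb a ha]
      _ = (a * a) * (b * b) := by group
      _ = 1 := by rw [iha, ihb, one_mul]
  | inv a _ iha => rw [← mul_inv_rev, iha, inv_one]

/-- The context for the groups of order `2^10`. -/
structure TenH (z : G) (P : Subgroup G) where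
  Γ : Ctx z P
  U₀ : Subgroup AutM22
  U : Subgroup AutM22
  HF : HexFacts innerM22 U₀
  TF : TenFacts innerM22 U₀ U
  g₀ : G
  hg₀ : Pt z g₀

namespace Ctx

variable [Finite G] (Γ : Ctx z P)

include Γ

/-- An element of `Y` over any element. -/
theorem exists_liftY (k : AutM22) : ∃ y ∈ cY z P, Γ.ph y = k := by
  obtain ⟨h, hh, rfl⟩ := Γ.exists_ph k
  obtain ⟨e, he, y, hy, rfl⟩ := Γ.S.factor h hh
  exact ⟨y, hy, by rw [Γ.ph_mul (coreE_le_H he) hy.1, Γ.ph_core he, one_mul]⟩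

theorem conj_mem_X {y x : G} (hy : y ∈ cY z P) (hx : x ∈ cX z P) : y * x * y⁻¹ ∈ cX z P := by
  refine ⟨mul_mem (mul_mem hy.1 hx.1) ((centralizer ({z} : Set G)).inv_mem hy.1), mem_centralizer_iff.2 fun q hq => ?_⟩
  have hq' : y⁻¹ * q * y ∈ P := by
    have := (mem_normalizer_iff.1 (inv_mem hy.2) q).1 hq
    rwa [inv_inv] at this
  have h := mem_centralizer_iff.1 hx.2 _ hq'
  calc q * (y * x * y⁻¹) = y * (y⁻¹ * q * y * x) * y⁻¹ := by group
    _ = y * (x * (y⁻¹ * q * y)) * y⁻¹ := by rw [h]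
    _ = y * x * y⁻¹ * q := by group

theorem ph_X_inner {x : G} (hx : x ∈ cX z P) : Γ.ph x ∈ innerM22 := by
  rw [Γ.ph_eq hx.1]; exact Γ.S.pi_X_mem hx

theorem Lifts.core {a : AutM22} {x : G} (hx : Γ.Lifts a x) : x * x ∈ coreE z :=
  zpowers_le.2 Γ.z_mem_core hx.sq

/-- An element fixing `s` modulo `z` normalises its 32. -/
theorem mem_normalizer_of_eqz {g : G} (hg : Pt z g) {v : G} (hv : v ∈ centralizer ({z} : Set G))
    (h : Eqz z (v * (g * z * g⁻¹) * v⁻¹) (g * z * g⁻¹)) :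
    Γ.ph v ∈ normalizer (Γ.imgA g : Set AutM22) := by
  obtain ⟨hpt, himg⟩ := Γ.imgA_conj hg hv
  refine mem_normalizer_of_cj_eq ?_
  rw [← himg]
  refine Γ.imgA_eq_of_eqz hg hpt ?_
  rwa [show v * g * z * (v * g)⁻¹ = v * (g * z * g⁻¹) * v⁻¹ by group]

theorem eqz_of_P_fixed {r r' e : G} (hr : r ∈ P) (hr' : r' ∈ P) (he : e ∈ coreE z) (h1 : e ≠ 1)
    (h2 : e ≠ z) (h : Eqz z (r * e * r⁻¹) (r' * e * r'⁻¹)) : r = r' := by
  by_contra hne
  have h' := h.conj (Γ.P_comm (inv_mem hr'))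
  rw [show r'⁻¹ * (r * e * r⁻¹) * r'⁻¹⁻¹ = r'⁻¹ * r * e * (r'⁻¹ * r)⁻¹ by group,
    show r'⁻¹ * (r' * e * r'⁻¹) * r'⁻¹⁻¹ = e by group] at h'
  rcases Γ.eq_one_or_z_of_fixed (mul_mem (inv_mem hr') hr) (fun e' => hne (inv_mul_eq_one.1 e').symm)
    he h' with e' | e'
  exacts [h1 e', h2 e']

/-- The lifts in `X` of the elements of `V`. -/
def liftsOf (V : Subgroup AutM22) : Set G := {x | ∃ a ∈ V, Γ.Lifts a x}

/-- The elements of `E` fixed modulo `z` by the lifts of `V`. -/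
def fixA (V : Subgroup AutM22) : Subgroup G :=
  coreE z ⊓ ⨅ x ∈ Γ.liftsOf V, Γ.fixZ x

theorem mem_fixA {V : Subgroup AutM22} {e : G} : e ∈ Γ.fixA V ↔
    e ∈ coreE z ∧ ∀ a ∈ V, ∀ x, Γ.Lifts a x → Eqz z (x * e * x⁻¹) e := by
  simp only [fixA, Subgroup.mem_inf, Subgroup.mem_iInf]
  refine and_congr_right fun he => ⟨fun h a ha x hx => (Γ.mem_fixZ.1 (h x ⟨a, ha, hx⟩)).2,
    fun h x hx => ?_⟩
  obtain ⟨a, ha, hx⟩ := hx
  exact Γ.mem_fixZ.2 ⟨he, h a ha x hx⟩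

theorem fixA_le (V : Subgroup AutM22) : Γ.fixA V ≤ coreE z := inf_le_left

theorem z_mem_fixA (V : Subgroup AutM22) : z ∈ Γ.fixA V :=
  Γ.mem_fixA.2 ⟨Γ.z_mem_core, fun _ _ _ hx => Γ.eqz_z hx.mem.1⟩

theorem fixA_anti {V V' : Subgroup AutM22} (h : V ≤ V') : Γ.fixA V' ≤ Γ.fixA V := fun _ he =>
  Γ.mem_fixA.2 ⟨(Γ.mem_fixA.1 he).1, fun a ha x hx => (Γ.mem_fixA.1 he).2 a (h ha) x hx⟩

/-- The fixed points do not depend on the lift. -/
theorem fixA_fix {V : Subgroup AutM22} (hV : InnerElem V) {e v : G} (he : e ∈ Γ.fixA V)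
    (hv : v ∈ centralizer ({z} : Set G)) (hvV : Γ.ph v ∈ V) (h2 : v * v ∈ coreE z) :
    Eqz z (v * e * v⁻¹) e := by
  obtain ⟨x, hx⟩ := Γ.exists_sqz_lift (hV.le hvV) (hV.sq _ hvV)
  exact Γ.eqz_of_same hv hx.mem.1 (hV.le hvV) h2 hx.img.symm (Γ.fixA_le V he)
    ((Γ.mem_fixA.1 he).2 _ hvV x hx)

theorem fixA_map_le {V : Subgroup AutM22} (hV : InnerElem V) {h : G}
    (hh : h ∈ centralizer ({z} : Set G)) :
    (Γ.fixA V).map (MulAut.conj h).toMonoidHom ≤ Γ.fixA (cj (Γ.ph h) V) := by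
  rintro _ ⟨e, he, rfl⟩
  show h * e * h⁻¹ ∈ _
  refine Γ.mem_fixA.2 ⟨Γ.conj_core hh (Γ.fixA_le V he), fun b hb x hx => ?_⟩
  rw [mem_cj_iff] at hb
  obtain ⟨x₀, hx₀⟩ := Γ.exists_sqz_lift (hV.le hb) (hV.sq _ hb)
  have hfix := ((Γ.mem_fixA.1 he).2 _ hb x₀ hx₀).conj (mem_H.1 hh)
  rw [show h * (x₀ * e * x₀⁻¹) * h⁻¹ = (h * x₀ * h⁻¹) * (h * e * h⁻¹) * (h * x₀ * h⁻¹)⁻¹ by group] at hfix
  refine Γ.eqz_of_same hx.mem.1 (mul_mem (mul_mem hh hx₀.mem.1) (inv_mem hh)) ?_ (Lifts.core Γ hx) ?_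
    (Γ.conj_core hh (Γ.fixA_le V he)) hfix
  · rw [hx.img]; exact hx.img ▸ Γ.ph_X_inner hx.mem
  · rw [Γ.ph_conj hh hx₀.mem.1, hx₀.img, hx.img]; group

theorem innerElem_cj {V : Subgroup AutM22} (hV : InnerElem V) (k : AutM22) : InnerElem (cj k V) := by
  refine ⟨?_, ?_⟩ <;> rintro _ ⟨a, ha, rfl⟩
  · exact Γ.inner_normal.conj_mem a (hV.le ha) k
  · rw [← map_mul, hV.sq a ha, map_one]

theorem fixA_conj {V : Subgroup AutM22} (hV : InnerElem V) {h : G}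
    (hh : h ∈ centralizer ({z} : Set G)) :
    (Γ.fixA V).map (MulAut.conj h).toMonoidHom = Γ.fixA (cj (Γ.ph h) V) := by
  refine le_antisymm (Γ.fixA_map_le hV hh) fun e he => ?_
  have := Γ.fixA_map_le (Γ.innerElem_cj hV (Γ.ph h)) (inv_mem hh) ⟨e, he, rfl⟩
  rw [Γ.ph_inv hh, ← cj_mul, inv_mul_cancel, cj_one] at this
  refine ⟨_, this, ?_⟩
  show h * (h⁻¹ * e * h⁻¹⁻¹) * h⁻¹ = e
  group

theorem fixA_P {V : Subgroup AutM22} (hV : InnerElem V) {r e : G} (hr : r ∈ P) (he : e ∈ Γ.fixA V) :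
    r * e * r⁻¹ ∈ Γ.fixA V := by
  have := Γ.fixA_map_le hV (Γ.S.P_le hr) ⟨e, he, rfl⟩
  rwa [Γ.ph_P hr, cj_one] at this

/-- The order of a `P`-invariant subgroup of `E` containing `z` is an odd power of 2. -/
theorem exists_odd_exp {D : Subgroup G} (hD : D ≤ coreE z) (hz : z ∈ D)
    (hP : ∀ r ∈ P, ∀ e ∈ D, r * e * r⁻¹ ∈ D) : ∃ n, Nat.card ↥D = 2 ^ n ∧ n % 2 = 1 := by
  have : Fact (Nat.Prime 2) := ⟨Nat.prime_two⟩
  obtain ⟨n, hn⟩ := IsPGroup.iff_card.1 (Γ.core_two.to_le hD)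
  refine ⟨n, hn, ?_⟩
  have : Fact (Nat.Prime 3) := ⟨Nat.prime_three⟩
  letI : MulAction ↥P ↥D :=
    { smul := fun p w => ⟨(p : G) * w * (p : G)⁻¹, hP p p.2 w w.2⟩
      one_smul := fun w => Subtype.ext (show ((1 : ↥P) : G) * w * ((1 : ↥P) : G)⁻¹ = w by simp)
      mul_smul := fun a b w => Subtype.ext (show ((a * b : ↥P) : G) * w * ((a * b : ↥P) : G)⁻¹ =
        (a : G) * ((b : G) * w * (b : G)⁻¹) * (a : G)⁻¹ by push_cast; group) }
  have hmod := (IsPGroup.of_card (n := 1) (by rw [Γ.S.card_P, pow_one]) : IsPGroup 3 ↥P)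
    |>.card_modEq_card_fixedPoints ↥D
  obtain ⟨p, hp, hp1⟩ := Γ.exists_generator
  have hfix : MulAction.fixedPoints ↥P ↥D = {1, ⟨z, hz⟩} := by
    ext w
    simp only [MulAction.mem_fixedPoints, Set.mem_insert_iff, Set.mem_singleton_iff]
    constructor
    · intro hw
      exact (Γ.eq_one_or_z_of_fixed hp hp1 (hD w.2)
        (Or.inl (congrArg Subtype.val (hw ⟨p, hp⟩)))).imp (fun e => Subtype.ext e) fun e => Subtype.ext e
    · rintro (rfl | rfl) q <;> refine Subtype.ext ?_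
      · show (q : G) * 1 * (q : G)⁻¹ = 1; group
      · show (q : G) * z * (q : G)⁻¹ = z; rw [(Γ.P_comm q.2).eq, mul_inv_cancel_right]
  rw [hfix, hn, Nat.card_coe_set_eq, Set.ncard_pair
    (fun e => Γ.S.hub.ne_one (congrArg Subtype.val e).symm)] at hmod
  rcases Nat.mod_two_eq_zero_or_one n with h | h
  · exfalso
    obtain ⟨m, rfl⟩ : ∃ m, n = 2 * m := ⟨n / 2, by omega⟩
    have h4 : (2 ^ (2 * m)) % 3 = 1 := by rw [pow_mul, Nat.pow_mod]; norm_num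
    unfold Nat.ModEq at hmod
    omega
  · exact h

/-- A lift of `a ∈ V` centralises `fixA V`. -/
theorem lifts_commute_fixA {V : Subgroup AutM22} (_hV : InnerElem V) {a : AutM22} (ha : a ∈ V) {x : G}
    (hx : Γ.Lifts a x) {e : G} (he : e ∈ Γ.fixA V) : x * e = e * x := by
  obtain ⟨p, hp, hp1⟩ := Γ.exists_generator
  have hxp := Γ.P_comm_X hx.mem hp
  have hxz := Γ.z_comm_X hx.mem
  have hp3 : p ^ 3 = 1 := by rw [pow_three]; exact Γ.p_cube hp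
  have hpz := Γ.P_comm hp
  have heE := Γ.fixA_le V he
  refine mul_inv_eq_iff_eq_mul.1 (((Γ.mem_fixA.1 he).2 a ha x hx).resolve_right fun h0 => ?_)
  set e1 := p * e * p⁻¹ with he1
  set e2 := p * p * e * (p * p)⁻¹ with he2
  have key : ∀ {q : G}, q ∈ P → Commute x q → x * (q * e * q⁻¹) * x⁻¹ = z * (q * e * q⁻¹) := by
    intro q hq hxq
    rw [show x * (q * e * q⁻¹) * x⁻¹ = (x * q) * e * (x * q)⁻¹ by group, hxq.eq,
      show q * x * e * (q * x)⁻¹ = q * (x * e * x⁻¹) * q⁻¹ by group, h0,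
      ← mul_assoc q z e, (Γ.P_comm hq).eq]
    group
  have h1 : x * e1 * x⁻¹ = z * e1 := key hp hxp
  have h2 : x * e2 * x⁻¹ = z * e2 := key (mul_mem hp hp) (hxp.mul_right hxp)
  have hv := Γ.orbProd_mem hpz heE
  have hfix : x * orbProd p e * x⁻¹ = orbProd p e := by
    rcases Γ.eq_one_or_z_of_fixed hp hp1 hv
      (Or.inl (mul_inv_eq_iff_eq_mul.2 (Γ.orbProd_commute hp3 hpz heE).eq)) with h | h <;> rw [h]
    · group
    · rw [hxz.eq, mul_inv_cancel_right]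
  have he1E : e1 ∈ coreE z := Γ.conj_core (Γ.S.P_le hp) heE
  have hprod : x * orbProd p e * x⁻¹ = z * orbProd p e := by
    show x * (e * e1 * e2) * x⁻¹ = z * (e * e1 * e2)
    rw [show x * (e * e1 * e2) * x⁻¹ = (x * e * x⁻¹) * (x * e1 * x⁻¹) * (x * e2 * x⁻¹) by group,
      h0, h1, h2]
    calc z * e * (z * e1) * (z * e2) = z * (e * z) * (e1 * z) * e2 := by group
      _ = z * (z * e) * (z * e1) * e2 := by
        rw [(Γ.S.hub.central e heE).eq, (Γ.S.hub.central e1 he1E).eq]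
      _ = (z * z) * (e * z) * e1 * e2 := by group
      _ = z * (e * e1 * e2) := by rw [Γ.S.hub.sq, one_mul, (Γ.S.hub.central e heE).eq]; group
  rw [hprod] at hfix
  exact Γ.S.hub.ne_one (mul_eq_right.1 hfix)

/-- The points fixed modulo `z` by the inner part of a 32 form its line. -/
theorem fixA_duad {g : G} (hg : Pt z g) {e : G} (he : e ∈ Γ.fixA (Γ.imgA g ⊓ innerM22)) :
    e ∈ zpowers z ∨ ∃ r ∈ P, Eqz z e (r * (g * z * g⁻¹) * r⁻¹) := by
  have hVe : InnerElem (Γ.imgA g ⊓ innerM22) := ⟨inf_le_right, fun a ha => Γ.imgA_sq hg a ha.1⟩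
  obtain ⟨p, hp, hp1⟩ := Γ.exists_generator
  have ht : Tri z P g p := ⟨hg, hp, hp1⟩
  set D := conjE z g ⊓ centralizer ({z} : Set G) with hD
  set F := Γ.fixA (Γ.imgA g ⊓ innerM22) with hF
  have hinner : ∀ u ∈ F, ∀ m ∈ D, Γ.ph m ∈ innerM22 → Eqz z (m * u * m⁻¹) u := fun u hu m hm hmi =>
    Γ.fixA_fix hVe hu hm.2 (Subgroup.mem_inf.2 ⟨Γ.ph_mem_imgA hg hm, hmi⟩) (Γ.sq_mem_core hg hm.1)
  obtain ⟨m0, hm0, hm0o⟩ := Γ.exists_outer hg
  have hin : ∀ u ∈ F, u ∈ conjE z g := fun u hu => Γ.mem_conjE_of_inner hg (Γ.fixA_le _ hu) (hinner u hu)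
  have hfour : ∀ u ∈ F, Eqz z (m0 * u * m0⁻¹) u →
      u = 1 ∨ u = z ∨ u = g * z * g⁻¹ ∨ u = z * (g * z * g⁻¹) := by
    intro u hu h0
    refine Γ.fixed_four hg (Γ.fixA_le _ hu) fun m hm => ?_
    by_cases hmi : Γ.ph m ∈ innerM22
    · exact hinner u hu m hm hmi
    have hmm : m * m0⁻¹ ∈ D := mul_mem hm (inv_mem hm0)
    have h1 := hinner u hu _ hmm (by
      rw [Γ.ph_mul hm.2 (inv_mem hm0.2), Γ.ph_inv hm0.2]
      exact (mul_mem_iff_of_index_two Γ.F.index_two).2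
        (iff_of_false hmi fun h' => hm0o ((inv_mem_iff).1 h')))
    have h2 := h0.conj (mem_H.1 hmm.2)
    rw [show m * m0⁻¹ * (m0 * u * m0⁻¹) * (m * m0⁻¹)⁻¹ = m * u * m⁻¹ by group] at h2
    exact Γ.eqz_trans h2 h1
  set s := g * z * g⁻¹ with hs
  have hsF : s ∈ F := Γ.mem_fixA.2 ⟨hg.mem, fun a ha x hx => by
    refine Γ.eqz_pt hg hx.mem.1 ?_ (Lifts.core Γ hx) ?_ <;> rw [hx.img]
    exacts [ha.2, le_normalizer ha.1]⟩
  set s' := p * s * p⁻¹ with hs'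
  have hs'F : s' ∈ F := Γ.fixA_P hVe hp hsF
  have hs'W : s' ∈ coreE z ⊓ conjE z g := Γ.s'_mem_W ht
  -- an element moved by `m0` goes to its product with `s`
  have hmove : ∀ u ∈ F, ¬ Eqz z (m0 * u * m0⁻¹) u → m0 * u * m0⁻¹ = u * s := by
    intro u hu hn
    rcases (Γ.hub_pt g).comm m0 hm0.1 u (hin u hu) with h | h
    · exact absurd (Or.inl h) hn
    · exact h
  have hs'n : ¬ Eqz z (m0 * s' * m0⁻¹) s' := fun h => by
    obtain ⟨n1, n2, n3, n4⟩ := Γ.s'_ne ht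
    rcases hfour s' hs'F h with e' | e' | e' | e'
    exacts [n1 e', n2 e', n3 e', n4 e']
  have hfourline : ∀ u, (u = 1 ∨ u = z ∨ u = s ∨ u = z * s) →
      u ∈ zpowers z ∨ ∃ r ∈ P, Eqz z u (r * s * r⁻¹) := by
    rintro u (rfl | rfl | rfl | rfl)
    · exact Or.inl (one_mem _)
    · exact Or.inl (mem_zpowers _)
    · exact Or.inr ⟨1, one_mem _, Or.inl (by group)⟩
    · exact Or.inr ⟨1, one_mem _, Or.inr (by group)⟩
  by_cases h0 : Eqz z (m0 * e * m0⁻¹) e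
  · exact hfourline e (hfour e he h0)
  have hss' : Commute s s' := Γ.s_s'_comm ht
  have hs2 : s * s = 1 := Γ.s_sq ht
  have hes' : m0 * (e * s') * m0⁻¹ = e * s' := by
    rw [show m0 * (e * s') * m0⁻¹ = (m0 * e * m0⁻¹) * (m0 * s' * m0⁻¹) by group, hmove e he h0,
      hmove s' hs'F hs'n]
    calc e * s * (s' * s) = e * (s * (s' * s)) := by group
      _ = e * (s' * (s * s)) := by rw [← mul_assoc s, hss'.eq, mul_assoc]
      _ = e * s' := by rw [hs2, mul_one]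
  have hs'2 : s' * s' = 1 := Γ.s'_sq ht
  have hzs' : z * s' = s' * z := (Γ.S.hub.central _ hs'W.1).eq.symm
  right
  rcases hfour _ (mul_mem he hs'F) (Or.inl hes') with h | h | h | h
  · refine ⟨p, hp, Or.inl ?_⟩
    rw [mul_eq_one_iff_eq_inv] at h
    exact h.trans (inv_eq_of_mul_eq_one_right hs'2)
  · refine ⟨p, hp, Or.inr ?_⟩
    calc e = e * s' * s' := by rw [mul_assoc, hs'2, mul_one]
      _ = z * s' := by rw [h]
  all_goals
    refine ⟨p * p, mul_mem hp hp, ?_⟩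
    have h'' := Γ.s''_eqz ht
    rw [show p * (p * s * p⁻¹) * p⁻¹ = p * p * s * (p * p)⁻¹ by group] at h''
    refine Γ.eqz_trans ?_ (Γ.eqz_symm h'')
    have he' : e = e * s' * s' := by rw [mul_assoc, hs'2, mul_one]
    rw [he', h]
  · exact Or.inl rfl
  · exact Or.inr (mul_assoc _ _ _)

theorem card_fixA_duad {g : G} (hg : Pt z g) : Nat.card ↥(Γ.fixA (Γ.imgA g ⊓ innerM22)) ≤ 8 := by
  classical
  set s := g * z * g⁻¹ with hs
  let f : Bool × Option ↥P → G := fun x =>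
    (if x.1 then z else 1) * x.2.elim 1 fun r => (r : G) * s * (r : G)⁻¹
  have hsub : (Γ.fixA (Γ.imgA g ⊓ innerM22) : Set G) ⊆ Set.range f := by
    intro e he
    rcases Γ.fixA_duad hg he with h | ⟨r, hr, h | h⟩
    · rcases Γ.S.z_cases h with rfl | rfl
      · exact ⟨(false, none), by simp [f]⟩
      · exact ⟨(true, none), by simp [f]⟩
    · exact ⟨(false, some ⟨r, hr⟩), by simp [f, h, hs]⟩
    · exact ⟨(true, some ⟨r, hr⟩), by simp [f, h, hs]⟩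
  have : Fintype ↥P := Fintype.ofFinite _
  have h8 : Nat.card (Bool × Option ↥P) = 8 := by
    rw [Nat.card_eq_fintype_card, Fintype.card_prod, Fintype.card_option, ← Nat.card_eq_fintype_card (α := ↥P),
      Γ.S.card_P, Fintype.card_bool]
  calc Nat.card ↥(Γ.fixA (Γ.imgA g ⊓ innerM22))
      = (Γ.fixA (Γ.imgA g ⊓ innerM22) : Set G).ncard := Nat.card_coe_set_eq _
    _ ≤ (Set.range f).ncard := Set.ncard_le_ncard hsub (Set.toFinite _)
    _ ≤ Nat.card (Bool × Option ↥P) := by rw [← Nat.card_coe_set_eq]; exact Finite.card_range_le f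
    _ = 8 := h8

end Ctx

namespace TenH

variable [Finite G] (Δ : TenH z P)

include Δ

theorem inner_U : InnerElem Δ.U := ⟨Δ.TF.le, Δ.TF.sq⟩

theorem inner_U₀ : InnerElem Δ.U₀ := ⟨Δ.HF.le, Δ.HF.sixteen.1⟩

/-- Every 32 is the image of a point. -/
theorem exists_pt_img {A : Subgroup AutM22} (hA : IsThirtyTwo A) : ∃ g, Pt z g ∧ Δ.Γ.imgA g = A := by
  obtain ⟨k, hk⟩ := Δ.HF.conj32 _ A (Δ.Γ.thirtyTwo_imgA Δ.hg₀) hA
  obtain ⟨h, hh, rfl⟩ := Δ.Γ.exists_ph k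
  obtain ⟨hpt, himg⟩ := Δ.Γ.imgA_conj Δ.hg₀ hh
  exact ⟨_, hpt, himg.trans hk.symm⟩

/-- `|fixA V| ≤ 2^7`. -/
theorem card_fixA_le {V : Subgroup AutM22} (hV : InnerElem V) (h4 : 4 ≤ Nat.card ↥V) :
    Nat.card ↥(Δ.Γ.fixA V) ≤ 2 ^ 7 := by
  set Γ := Δ.Γ
  obtain ⟨n, hn, hodd⟩ := Γ.exists_odd_exp (Γ.fixA_le V) (Γ.z_mem_fixA V)
    fun r hr e he => Γ.fixA_P hV hr he
  have h9 : ∀ a ∈ V, a ≠ 1 → ∀ x, Γ.Lifts a x →
      Γ.fixA V ≤ Γ.fixZ x ∧ Nat.card ↥(Γ.fixZ x) ≤ 2 ^ 9 := fun a ha ha1 x hx =>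
    ⟨fun e he => Γ.mem_fixZ.2 ⟨Γ.fixA_le V he, (Γ.mem_fixA.1 he).2 a ha x hx⟩,
      Γ.fixZ_inner hx.mem.1 (Ctx.Lifts.core Γ hx) fun h => ha1 (by rw [← hx.img, Γ.ph_core h])⟩
  obtain ⟨a, ha, ha1⟩ : ∃ a ∈ V, a ≠ 1 := by
    by_contra hno
    push Not at hno
    rw [(eq_bot_iff_forall _).2 hno, card_bot] at h4
    omega
  obtain ⟨b, hb, hb1, hba⟩ : ∃ b ∈ V, b ≠ 1 ∧ b ≠ a := by
    by_contra hno
    push Not at hno
    have := Set.ncard_le_ncard (show (V : Set AutM22) ⊆ {1, a} from fun u hu => by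
      by_cases h : u = 1
      · simp [h]
      · simp [hno u hu h]) (Set.toFinite _)
    rw [← Nat.card_coe_set_eq, SetLike.coe_sort_coe] at this
    have := this.trans (Set.ncard_insert_le 1 {a})
    simp at this
    omega
  obtain ⟨x, hx⟩ := Γ.exists_sqz_lift (hV.le ha) (hV.sq a ha)
  obtain ⟨hle, hcx⟩ := h9 a ha ha1 x hx
  have hn9 : n ≤ 9 := (Nat.pow_le_pow_iff_right (by norm_num)).1
    ((hn ▸ Subgroup.card_le_of_le hle).trans hcx)
  rw [hn]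
  by_contra hlt
  have hn8 : 8 ≤ n := by
    by_contra h
    exact hlt (Nat.pow_le_pow_right (by norm_num) (by omega))
  have heq : Γ.fixA V = Γ.fixZ x :=
    eq_of_le_of_card_ge hle (hcx.trans_eq (by rw [hn]; congr 1; omega))
  obtain ⟨y, hy⟩ := Γ.exists_sqz_lift (hV.le hb) (hV.sq b hb)
  refine hba (Δ.TF.fix_inj a (hV.le ha) b (hV.le hb) (orderOf_two_of_sq (hV.sq a ha) ha1)
    (orderOf_two_of_sq (hV.sq b hb) hb1) fun A hA haA => ?_).symm
  obtain ⟨g, hg, rfl⟩ := Δ.exists_pt_img hA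
  have hs : g * z * g⁻¹ ∈ Γ.fixA V := heq ▸ Γ.mem_fixZ.2 ⟨hg.mem,
    Γ.eqz_pt hg hx.mem.1 (hx.img.symm ▸ hV.le ha) (Ctx.Lifts.core Γ hx) (hx.img.symm ▸ haA)⟩
  exact hy.img ▸ Γ.mem_normalizer_of_eqz hg hy.mem.1 ((Γ.mem_fixA.1 hs).2 b hb y hy)

/-- A point whose 32 is normalised by `V` is fixed by it. -/
theorem pt_mem_fixA {V : Subgroup AutM22} (hV : InnerElem V) {g : G} (hg : Pt z g)
    (hn : V ≤ normalizer (Δ.Γ.imgA g : Set AutM22)) {r : G} (hr : r ∈ P) :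
    r * (g * z * g⁻¹) * r⁻¹ ∈ Δ.Γ.fixA V :=
  Δ.Γ.fixA_P hV hr (Δ.Γ.mem_fixA.2 ⟨hg.mem, fun a ha x hx =>
    Δ.Γ.eqz_pt hg hx.mem.1 (hx.img.symm ▸ hV.le ha) (Ctx.Lifts.core Δ.Γ hx) (hx.img.symm ▸ hn ha)⟩)

/-- A point fixed by `V` has its 32 normalised by `V`. -/
theorem normalizer_of_pt_mem {V : Subgroup AutM22} (hV : InnerElem V) {g : G} (hg : Pt z g)
    (hs : g * z * g⁻¹ ∈ Δ.Γ.fixA V) : V ≤ normalizer (Δ.Γ.imgA g : Set AutM22) := by
  intro a ha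
  obtain ⟨x, hx⟩ := Δ.Γ.exists_sqz_lift (hV.le ha) (hV.sq a ha)
  exact hx.img ▸ Δ.Γ.mem_normalizer_of_eqz hg hx.mem.1 ((Δ.Γ.mem_fixA.1 hs).2 a ha x hx)

theorem four_le_U : 4 ≤ Nat.card ↥Δ.U := by rw [Δ.TF.card]; norm_num

/-- The fixed points of `U`: elementary of order `2^7`, spanned by seven lines. -/
theorem fixA_octad : Nat.card ↥(Δ.Γ.fixA Δ.U) = 2 ^ 7 ∧ ∀ e ∈ Δ.Γ.fixA Δ.U, e * e = 1 := by
  classical
  set Γ := Δ.Γ
  have hU := Δ.inner_U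
  set L : Set G := {z} ∪ {e | ∃ g r, Pt z g ∧ r ∈ P ∧ Δ.U ≤ normalizer (Γ.imgA g : Set AutM22) ∧
    e = r * (g * z * g⁻¹) * r⁻¹} with hL
  have hLE : ∀ e ∈ L, e ∈ coreE z := by
    rintro e (he | ⟨g, r, hg, hr, -, rfl⟩)
    · rw [Set.mem_singleton_iff.1 he]; exact Γ.z_mem_core
    · exact Γ.conj_core (Γ.S.P_le hr) hg.mem
  have hcomm : ∀ x ∈ L, ∀ y ∈ L, x * y = y * x := by
    intro x hx y hy
    rcases hx with hx | ⟨g, r, hg, hr, hn, rfl⟩ <;> rcases hy with hy | ⟨g', r', hg', hr', hn', rfl⟩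
    · rw [Set.mem_singleton_iff.1 hx, Set.mem_singleton_iff.1 hy]
    · rw [Set.mem_singleton_iff.1 hx]
      exact (Γ.S.hub.central _ (Γ.conj_core (Γ.S.P_le hr') hg'.mem)).eq.symm
    · rw [Set.mem_singleton_iff.1 hy]
      exact (Γ.S.hub.central _ (Γ.conj_core (Γ.S.P_le hr) hg.mem)).eq
    · obtain ⟨a, ha, ha1, hai, han⟩ :=
        Δ.TF.pair _ _ (Γ.thirtyTwo_imgA hg') hn' (Γ.thirtyTwo_imgA hg) hn
      have := (Γ.commute_pt hg' hg ha ha1 hai han (q := r'⁻¹ * r) (mul_mem (inv_mem hr') hr)).map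
        (MulAut.conj r').toMonoidHom
      simp only [MulEquiv.toMonoidHom_eq_coe, MonoidHom.coe_coe, MulAut.conj_apply] at this
      rw [show r' * (r'⁻¹ * r * (g * z * g⁻¹) * (r'⁻¹ * r)⁻¹) * r'⁻¹ =
        r * (g * z * g⁻¹) * r⁻¹ by group] at this
      exact this.eq
  have hsq : ∀ x ∈ L, x * x = 1 := by
    rintro x (hx | ⟨g, r, hg, hr, -, rfl⟩)
    · rw [Set.mem_singleton_iff.1 hx]; exact Γ.S.hub.sq
    · rw [show r * (g * z * g⁻¹) * r⁻¹ * (r * (g * z * g⁻¹) * r⁻¹) =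
        r * (g * z * g⁻¹ * (g * z * g⁻¹)) * r⁻¹ by group, (Γ.hub_pt g).sq]
      group
  have hLF : closure L ≤ Γ.fixA Δ.U := by
    rw [closure_le]
    rintro x (hx | ⟨g, r, hg, hr, hn, rfl⟩)
    · rw [Set.mem_singleton_iff.1 hx]; exact Γ.z_mem_fixA _
    · exact Δ.pt_mem_fixA hU hg hn hr
  have hLP : ∀ r ∈ P, ∀ e ∈ closure L, r * e * r⁻¹ ∈ closure L := by
    intro r hr e he
    have hle : (closure L).map (MulAut.conj r).toMonoidHom ≤ closure L := by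
      rw [MonoidHom.map_closure, closure_le]
      rintro _ ⟨x, hx, rfl⟩
      show r * x * r⁻¹ ∈ closure L
      rcases hx with hx | ⟨g, r', hg, hr', hn, rfl⟩
      · rw [Set.mem_singleton_iff.1 hx, (Γ.P_comm hr).eq, mul_inv_cancel_right]
        exact subset_closure (Or.inl rfl)
      · exact subset_closure (Or.inr ⟨g, r * r', hg, mul_mem hr hr', hn, by group⟩)
    exact hle ⟨e, he, rfl⟩
  obtain ⟨n, hn, hodd⟩ := Γ.exists_odd_exp (hLF.trans (Γ.fixA_le _)) (subset_closure (Or.inl rfl)) hLP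
  -- forty-two different elements
  have h7 := Δ.TF.seven
  set 𝒜 : Set (Subgroup AutM22) := {A | IsThirtyTwo A ∧ Δ.U ≤ normalizer (A : Set AutM22)} with h𝒜
  choose pt hpt using fun A : 𝒜 => Δ.exists_pt_img A.2.1
  let f : 𝒜 × ↥P × Bool → ↥(closure L) := fun x =>
    ⟨(if x.2.2 then z else 1) * ((x.2.1 : G) * (pt x.1 * z * (pt x.1)⁻¹) * (x.2.1 : G)⁻¹), by
      refine mul_mem ?_ (subset_closure (Or.inr ⟨pt x.1, x.2.1, (hpt x.1).1, x.2.1.2, ?_, rfl⟩))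
      · split_ifs
        exacts [subset_closure (Or.inl rfl), one_mem _]
      · rw [(hpt x.1).2]; exact x.1.2.2⟩
  have hf : Function.Injective f := by
    rintro ⟨A, ⟨r, hr⟩, b⟩ ⟨A', ⟨r', hr'⟩, b'⟩ h
    have h' := congrArg Subtype.val h
    simp only [f] at h'
    have hEq : Eqz z (r * (pt A * z * (pt A)⁻¹) * r⁻¹) (r' * (pt A' * z * (pt A')⁻¹) * r'⁻¹) := by
      rcases b <;> rcases b' <;>
        simp only [Bool.false_eq_true, if_false, if_true, one_mul] at h'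
      · exact Or.inl h'
      · exact Or.inr h'
      · exact Γ.eqz_symm (Or.inr h'.symm)
      · exact Or.inl (mul_left_cancel h')
    have hAA : A = A' := by
      obtain ⟨hp, hi⟩ := Γ.imgA_P (hpt A).1 hr
      obtain ⟨hp', hi'⟩ := Γ.imgA_P (hpt A').1 hr'
      refine Subtype.ext ?_
      rw [← (hpt A).2, ← (hpt A').2, ← hi, ← hi']
      refine Γ.imgA_eq_of_eqz hp' hp ?_
      rwa [show r * pt A * z * (r * pt A)⁻¹ = r * (pt A * z * (pt A)⁻¹) * r⁻¹ by group,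
        show r' * pt A' * z * (r' * pt A')⁻¹ = r' * (pt A' * z * (pt A')⁻¹) * r'⁻¹ by group]
    subst hAA
    obtain rfl := Γ.eqz_of_P_fixed hr hr' (hpt A).1.mem (Γ.hub_pt (pt A)).ne_one (hpt A).1.ne hEq
    have hb : (if b then z else (1 : G)) = if b' then z else 1 := mul_right_cancel h'
    rcases b <;> rcases b' <;> first | rfl | (exfalso; simp at hb)
    · exact Γ.S.hub.ne_one hb.symm
    · exact Γ.S.hub.ne_one hb
  have h42 := Nat.card_le_card_of_injective f hf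
  rw [Nat.card_prod, Nat.card_prod, Nat.card_coe_set_eq, h7, Γ.S.card_P,
    Nat.card_eq_fintype_card (α := Bool), Fintype.card_bool, hn] at h42
  have h6 : 6 ≤ n := (Nat.pow_lt_pow_iff_right (by norm_num : 1 < 2)).1 (show 2 ^ 5 < 2 ^ n by omega)
  have hF := Δ.card_fixA_le hU Δ.four_le_U
  have hD := Subgroup.card_le_of_le hLF
  rw [hn] at hD
  have hn7 : n = 7 := by
    have := (Nat.pow_le_pow_iff_right (by norm_num : 1 < 2)).1 (hD.trans hF)
    omega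
  subst hn7
  have heq : closure L = Γ.fixA Δ.U := eq_of_le_of_card_ge hLF (by rw [hn]; exact hF)
  exact ⟨heq ▸ hn, fun e he => closure_elementary hcomm hsq (heq.symm ▸ he)⟩

/-- The fixed points of the hexad kernel and of its conjugates. -/
theorem fixA_hexad (k : AutM22) : Nat.card ↥(Δ.Γ.fixA (cj k Δ.U₀)) = 2 ^ 7 ∧
    ∀ e ∈ Δ.Γ.fixA (cj k Δ.U₀), e * e = 1 := by
  obtain ⟨gs, St⟩ := Δ.Γ.exists_star Δ.HF Δ.hg₀ k
  have hU := Δ.Γ.innerElem_cj Δ.inner_U₀ k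
  have hle : wSpan z P gs ≤ Δ.Γ.fixA (cj k Δ.U₀) := fun w hw =>
    Δ.Γ.mem_fixA.2 ⟨Δ.Γ.wSpan_le St hw, fun a ha x hx =>
      Δ.Γ.eqz_wSpan St hU.le hx.mem.1 (hx.img.symm ▸ ha) (Ctx.Lifts.core Δ.Γ hx) hw⟩
  have h16 : Nat.card ↥(cj k Δ.U₀) = 16 := by
    rw [card_map_of_injective (MulAut.conj k).injective, Δ.HF.sixteen.2]
  have heq : wSpan z P gs = Δ.Γ.fixA (cj k Δ.U₀) := eq_of_le_of_card_ge hle
    ((Δ.card_fixA_le hU (by omega)).trans (Δ.Γ.card_wSpan St).ge)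
  exact ⟨heq ▸ Δ.Γ.card_wSpan St, fun e he => Δ.Γ.wSpan_sq St (heq.symm ▸ he)⟩

end TenH

end Cfsg.Agent.JankoFour
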