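import Cfsg.Agent.Lib.JankoFour.HexInterface

/-!
# Self-centralising elementary subgroups of order `2^10` (S5570, S5571): interfaces

`TenFacts I U₀ U`: what is used about `Aut M₂₂`; `U` is the kernel in `M₂₂` on the seven pairs of
points attached to an octad missing the two fixed points, `U₀` is the kernel of a hexad.

`StarData N A W z S`: what is used to identify `N/A` with `L₅(2)`: the conjugates of `z` in `A` are to
be the 155 lines of the projective space of dimension 4, the conjugates of `S i` its 31 points.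
-/

set_option autoImplicit false

namespace Cfsg.Agent.JankoFour

open Subgroup

/-- The conjugates of `z` by elements of `N`. -/
abbrev orbitIn {G : Type*} [Group G] (N : Subgroup G) (z : G) : Set G :=
  {v : G | ∃ n ∈ N, n * z * n⁻¹ = v}

/-- The facts on the kernel `U` of an octad. -/
structure TenFacts {K : Type*} [Group K] (I U₀ U : Subgroup K) : Prop where
  sq : ∀ u ∈ U, u * u = 1
  card : Nat.card ↥U = 8
  le : U ≤ I
  trans : ∀ a ∈ U, a ≠ 1 → ∀ b ∈ U, b ≠ 1 →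
    ∃ n ∈ normalizer (U : Set K), n * a * n⁻¹ = b
  card_normalizer : Nat.card ↥(normalizer (U : Set K)) = 2688
  seven : Set.ncard {A : Subgroup K | IsThirtyTwo A ∧ U ≤ normalizer (A : Set K)} = 7
  pair : ∀ A B : Subgroup K, IsThirtyTwo A → U ≤ normalizer (A : Set K) →
    IsThirtyTwo B → U ≤ normalizer (B : Set K) →
    ∃ a ∈ A, a ≠ 1 ∧ a ∈ I ∧ a ∈ normalizer (B : Set K)
  cent : ∀ k ∈ I, (∀ A : Subgroup K, IsThirtyTwo A → U ≤ normalizer (A : Set K) →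
    k ∈ normalizer (A : Set K)) → k ∈ U
  swap : ∃ t, t ∉ I ∧ t ∈ normalizer (U : Set K) ∧
    ∀ A : Subgroup K, IsThirtyTwo A → U ≤ normalizer (A : Set K) → t ∈ normalizer (A : Set K)
  fix_inj : ∀ u ∈ I, ∀ v ∈ I, orderOf u = 2 → orderOf v = 2 →
    (∀ A : Subgroup K, IsThirtyTwo A → u ∈ normalizer (A : Set K) → v ∈ normalizer (A : Set K)) →
    u = v
  invol_mem : ∀ a ∈ I, orderOf a = 2 → ∃ k, ∃ u ∈ U, a = k * u * k⁻¹
  classify : ∀ V : Subgroup K, V ≤ I → (∀ a ∈ V, a * a = 1) → Nat.card ↥V = 8 →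
    (∃ k, V ≤ cj k U₀) ∨ (∃ A : Subgroup K, IsThirtyTwo A ∧ V ≤ A) ∨ ∃ k, V = cj k U
  split : ∃ k a b t : K,
    (∀ x ∈ ({a, b, t} : Set K), x ∈ normalizer (U : Set K) ∧ x ∈ normalizer (cj k U : Set K)) ∧
    (∃ A : Subgroup K, IsThirtyTwo A ∧ ¬ U ≤ normalizer (A : Set K) ∧
      A ⊓ I ≤ closure ((U : Set K) ∪ (cj k U : Set K))) ∧
    a ∈ I ∧ b ∈ I ∧ a * a = 1 ∧ b * b = 1 ∧ orderOf (a * b) = 4 ∧
    t ∉ I ∧ Commute t a ∧ Commute t b ∧
    (∀ x ∈ ({t, t * a, t * b} : Set K), ∃ A : Subgroup K, IsThirtyTwo A ∧ x ∈ A) ∧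
    ∀ x ∈ U, x ∈ closure ({a, b} : Set K) → x = 1

/-- The configuration in `A` seen from `z`. -/
structure StarData {G : Type*} [Group G] (N A W : Subgroup G) (z : G) (S : Fin 3 → Subgroup G) :
    Prop where
  A_le : A ≤ N
  normal : N ≤ normalizer (A : Set G)
  comm : ∀ a ∈ A, ∀ b ∈ A, a * b = b * a
  sq : ∀ a ∈ A, a * a = 1
  card_A : Nat.card ↥A = 2 ^ 10
  card_N : Nat.card ↥N = 2 ^ 10 * 9999360
  self : ∀ c ∈ N, (∀ a ∈ A, c * a = a * c) → c ∈ A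
  z_mem : z ∈ A
  z_ne : z ≠ 1
  orbit : (orbitIn N z).ncard = 155
  gen : A ≤ closure (orbitIn N z)
  W_le : W ≤ A
  S_le : ∀ i, S i ≤ W
  S_card : ∀ i, Nat.card ↥(S i) = 16
  z_mem_S : ∀ i, z ∈ S i
  meet : ∀ i j, i ≠ j → ∀ v ∈ S i, v ∈ S j → v = 1 ∨ v = z
  pure : ∀ i, ∀ v ∈ S i, v ≠ 1 → v ∈ orbitIn N z
  cover : ∀ v ∈ W, v ∈ orbitIn N z → ∃ i, v ∈ S i
  twin : ∀ v ∈ orbitIn N z, v * z ∈ orbitIn N z → v ∈ W

end Cfsg.Agent.JankoFour
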