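import Cfsg.Agent.Lib.JankoFour.TenTwoSteiner

/-!
# `N/A ≅ L₅(2)` and the second orbit on a self-centralising `2^10` (S5570, S5571)

The 31 stars and `0` form a vector space of dimension 5 over `ZMod 2`, `meetPt` is the alternating
map to `A` giving the common point of two stars.  `exists_hom`: `N` maps onto `SL(5, 2)` with kernel
`A`.  `exists_second_orbit`: the elements of `A` outside the orbit of `z` and the identity form one
orbit of length 868.
-/

set_option autoImplicit false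
set_option linter.unusedSectionVars false

namespace Cfsg.Agent.JankoFour

open Subgroup Module

variable {G : Type*} [Group G] [Finite G]

namespace StarData

variable {N A W : Subgroup G} {z : G} {S : Fin 3 → Subgroup G} (D : StarData N A W z S)

/-- The stars together with a zero. -/
@[ext]
structure Vec (_D : StarData N A W z S) where
  /-- The star, if any. -/
  toOpt : Option (StarType N A z)

/-- The zero vector. -/
abbrev vzero : D.Vec := ⟨none⟩

open Classical in
/-- `T + T'` is the third star at their common point. -/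
noncomputable def vadd : D.Vec → D.Vec → D.Vec
  | ⟨none⟩, b => b
  | a, ⟨none⟩ => a
  | ⟨some T⟩, ⟨some T'⟩ => if h : T = T' then ⟨none⟩ else ⟨some (D.exists_starLine h).choose⟩

open Classical in
/-- The common point of two stars. -/
noncomputable def meetPt : D.Vec → D.Vec → G
  | ⟨none⟩, _ => 1
  | _, ⟨none⟩ => 1
  | ⟨some T⟩, ⟨some T'⟩ => if h : T = T' then 1 else (D.exists_point h).choose

theorem vadd_self (T : StarType N A z) : D.vadd ⟨some T⟩ ⟨some T⟩ = ⟨none⟩ := by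
  unfold vadd; exact dif_pos rfl

theorem vadd_line {T T' R : StarType N A z} (h : StarLine T T' R) :
    D.vadd ⟨some T⟩ ⟨some T'⟩ = ⟨some R⟩ := by
  unfold vadd; refine (dif_neg h.ne₁).trans ?_
  exact congrArg (fun R => (⟨some R⟩ : D.Vec)) (D.line_unique (D.exists_starLine h.ne₁).choose_spec h)

theorem vadd_none (a : D.Vec) : D.vadd a ⟨none⟩ = a := by rcases a with ⟨- | T⟩ <;> rfl

theorem none_vadd (a : D.Vec) : D.vadd ⟨none⟩ a = a := by rcases a with ⟨- | T⟩ <;> rfl

theorem meetPt_self (a : D.Vec) : D.meetPt a a = 1 := by rcases a with ⟨- | T⟩ <;> simp [meetPt]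

theorem meetPt_none (a : D.Vec) : D.meetPt a ⟨none⟩ = 1 := by rcases a with ⟨- | T⟩ <;> rfl

theorem none_meetPt (a : D.Vec) : D.meetPt ⟨none⟩ a = 1 := by rcases a with ⟨- | T⟩ <;> rfl

include D in
theorem line_swap {T T' R : StarType N A z} (h : StarLine T T' R) : StarLine T' T R := by
  obtain ⟨x, h1, h2, h3, h4⟩ := h.common
  exact ⟨h.ne₁.symm, h.ne₃, h.ne₂, x, h1, h3, h2, h4⟩

include D in
theorem line_rot {T T' R : StarType N A z} (h : StarLine T T' R) : StarLine T R T' := by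
  obtain ⟨x, h1, h2, h3, h4⟩ := h.common
  exact ⟨h.ne₂, h.ne₁, h.ne₃.symm, x, h1, h2, h4, h3⟩

theorem meetPt_eq {T T' : StarType N A z} (h : T ≠ T') {x : G} (hx1 : x ≠ 1) (hx : x ∈ T.1)
    (hx' : x ∈ T'.1) : D.meetPt ⟨some T⟩ ⟨some T'⟩ = x := by
  simp only [meetPt, dif_neg h]
  obtain ⟨h1, h2, h3⟩ := (D.exists_point h).choose_spec
  exact D.point_unique h hx hx' h2 h3 hx1 h1

theorem meetPt_comm (a b : D.Vec) : D.meetPt a b = D.meetPt b a := by
  rcases a with ⟨- | T⟩ <;> rcases b with ⟨- | T'⟩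
  iterate 3 rfl
  by_cases h : T = T'
  · rw [h]
  · obtain ⟨x, h1, h2, h3⟩ := D.exists_point h
    rw [D.meetPt_eq h h1 h2 h3, D.meetPt_eq (Ne.symm h) h1 h3 h2]

theorem meetPt_mem (a b : D.Vec) : D.meetPt a b ∈ A := by
  rcases a with ⟨- | T⟩ <;> rcases b with ⟨- | T'⟩
  iterate 3 exact one_mem A
  by_cases h : T = T'
  · rw [h, D.meetPt_self]; exact one_mem A
  · obtain ⟨x, h1, h2, h3⟩ := D.exists_point h
    rw [D.meetPt_eq h h1 h2 h3]; exact T.2.le h2

theorem meetPt_pure (a b : D.Vec) : D.meetPt a b = 1 ∨ D.meetPt a b ∈ orbitIn N z := by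
  rcases a with ⟨- | T⟩ <;> rcases b with ⟨- | T'⟩
  iterate 3 exact Or.inl rfl
  by_cases h : T = T'
  · rw [h]; exact Or.inl (D.meetPt_self _)
  · obtain ⟨x, h1, h2, h3⟩ := D.exists_point h
    rw [D.meetPt_eq h h1 h2 h3]; exact Or.inr (T.2.pure x h2 h1)

theorem vadd_comm (a b : D.Vec) : D.vadd a b = D.vadd b a := by
  rcases a with ⟨- | T⟩ <;> rcases b with ⟨- | T'⟩
  iterate 3 rfl
  by_cases h : T = T'
  · rw [h]
  · obtain ⟨R, hR⟩ := D.exists_starLine h
    rw [D.vadd_line hR, D.vadd_line (D.line_swap hR)]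

theorem vadd_cancel (a b : D.Vec) : D.vadd a (D.vadd a b) = b := by
  rcases a with ⟨- | T⟩
  · rw [D.none_vadd, D.none_vadd]
  rcases b with ⟨- | T'⟩
  · rw [D.vadd_none, D.vadd_self]
  by_cases h : T = T'
  · rw [h, D.vadd_self, D.vadd_none]
  · obtain ⟨R, hR⟩ := D.exists_starLine h
    rw [D.vadd_line hR, D.vadd_line (D.line_rot hR)]

/-- Three stars not on a line: the two ways of adding agree, and the common point is additive. -/
theorem general_position {T T' U R0 : StarType N A z} (h : StarLine T T' R0) (hTU : T ≠ U)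
    (hT'U : T' ≠ U) (hU : U ≠ R0) :
    ∃ R1 R2, StarLine R0 U R1 ∧ StarLine T' U R2 ∧ StarLine T R2 R1 ∧
      D.meetPt ⟨some T⟩ ⟨some R2⟩ = D.meetPt ⟨some T⟩ ⟨some T'⟩ * D.meetPt ⟨some T⟩ ⟨some U⟩ := by
  obtain ⟨x, hx1, hxT, hxT', hxR0⟩ := h.common
  obtain ⟨y, hy1, hyT, hyU⟩ := D.exists_point hTU
  obtain ⟨w, hw1, hwT', hwU⟩ := D.exists_point hT'U
  have hxU : x ∉ U.1 := fun hxU => by
    rcases D.line_cases h hx1 hxT hxT' hxU with e | e | e
    exacts [hTU e.symm, hT'U e.symm, hU e]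
  have hyx : y ≠ x := fun e => hxU (e ▸ hyU)
  have hwx : w ≠ x := fun e => hxU (e ▸ hwU)
  have hyw : y ≠ w := fun e => hyx (D.point_unique h.ne₁ hxT hxT' hyT (e ▸ hwT') hx1 hy1)
  have hyA := T.2.le hyT
  have hwA := T'.2.le hwT'
  have hxA := T.2.le hxT
  have hv1 : y * w ≠ 1 := fun e => hyw (by
    rw [eq_inv_of_mul_eq_one_left e, D.inv_eq hwA])
  have hvU : y * w ∈ U.1 := mul_mem hyU hwU
  have hvZ := U.2.pure _ hvU hv1
  obtain ⟨R, hR, -, hvR⟩ := D.exists_third_mem h.ne₁ hx1 hxT hxT' hyT hwT' hy1 hyx hw1 hwx hvZ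
  obtain rfl := D.line_unique hR h
  -- the point `x y`
  have hxy1 : x * y ≠ 1 := fun e => hyx (by
    rw [eq_inv_of_mul_eq_one_right e, D.inv_eq hxA])
  have hxyT : x * y ∈ T.1 := mul_mem hxT hyT
  have hxyZ := T.2.pure _ hxyT hxy1
  have hxyne : x * y ≠ x := fun e => hy1 (mul_eq_left.1 e)
  have hxw : x * y * (y * w) = x * w := by
    rw [show x * y * (y * w) = x * (y * y) * w by group, D.sq y hyA, mul_one]
  have hxwZ : x * y * (y * w) ∈ orbitIn N z := by
    rw [hxw]
    exact T'.2.pure _ (mul_mem hxT' hwT') fun e => hwx (by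
      rw [eq_inv_of_mul_eq_one_right e, D.inv_eq hxA])
  obtain ⟨R1, hvR1, hxyR1⟩ := D.exists_star_pair hvZ hxyZ hxwZ
  have h10 : R ≠ R1 := fun e => hxyne
    (D.point_unique h.ne₂ hxT hxR0 hxyT (e ▸ hxyR1) hx1 hxy1)
  have h1U : U ≠ R1 := fun e => hx1 (mul_eq_right.1
    (D.point_unique hTU hyT hyU hxyT (e ▸ hxyR1) hy1 hxy1))
  have L1 : StarLine R U R1 := ⟨Ne.symm hU, h10, h1U, y * w, hv1, hvR, hvU, hvR1⟩
  have hxyw : x * y * w = x * (y * w) := mul_assoc x y w
  have hxywZ : x * y * w ∈ orbitIn N z := by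
    rw [hxyw]
    refine R.2.pure _ (mul_mem hxR0 hvR) fun e => hxU ?_
    rw [← D.inv_eq hxA, inv_eq_of_mul_eq_one_right e]
    exact hvU
  obtain ⟨R2, hwR2, hxyR2⟩ := D.exists_star_pair (T'.2.pure w hwT' hw1) hxyZ hxywZ
  have h2T' : T' ≠ R2 := fun e => hxyne
    (D.point_unique h.ne₁ hxT hxT' hxyT (e ▸ hxyR2) hx1 hxy1)
  have h2U : U ≠ R2 := fun e => hx1 (mul_eq_right.1
    (D.point_unique hTU hyT hyU hxyT (e ▸ hxyR2) hy1 hxy1))
  have L2 : StarLine T' U R2 := ⟨hT'U, h2T', h2U, w, hw1, hwT', hwU, hwR2⟩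
  have hTR2 : T ≠ R2 := fun e => hwx (D.point_unique h.ne₁ hxT hxT' (e ▸ hwR2) hwT' hx1 hw1)
  have hTR1 : T ≠ R1 := fun e => hw1 (mul_eq_left.1
    (D.point_unique hTU hyT hyU (e ▸ hvR1) hvU hy1 hv1))
  have h21 : R2 ≠ R1 := fun e => hy1 (mul_eq_right.1
    (D.point_unique (Ne.symm h2U) hwR2 hwU (e ▸ hvR1) hvU hw1 hv1))
  refine ⟨R1, R2, L1, L2, ⟨hTR2, hTR1, h21, x * y, hxy1, hxyT, hxyR2, hxyR1⟩, ?_⟩
  rw [D.meetPt_eq hTR2 hxy1 hxyT hxyR2, D.meetPt_eq h.ne₁ hx1 hxT hxT', D.meetPt_eq hTU hy1 hyT hyU]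

theorem vadd_assoc (a b c : D.Vec) : D.vadd (D.vadd a b) c = D.vadd a (D.vadd b c) := by
  rcases a with ⟨- | T⟩
  · rw [D.none_vadd, D.none_vadd]
  rcases b with ⟨- | T'⟩
  · rw [D.vadd_none, D.none_vadd]
  rcases c with ⟨- | U⟩
  · rw [D.vadd_none, D.vadd_none]
  by_cases h1 : T = T'
  · rw [h1, D.vadd_self, D.none_vadd, D.vadd_cancel]
  by_cases h2 : T' = U
  · rw [h2, D.vadd_self, D.vadd_none, D.vadd_comm ⟨some T⟩, D.vadd_comm _ ⟨some U⟩, D.vadd_cancel]
  by_cases h3 : T = U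
  · rw [h3, D.vadd_comm ⟨some T'⟩ ⟨some U⟩, D.vadd_comm (D.vadd ⟨some U⟩ ⟨some T'⟩) ⟨some U⟩]
  obtain ⟨R0, hR⟩ := D.exists_starLine h1
  by_cases h4 : U = R0
  · subst h4
    rw [D.vadd_line hR, D.vadd_self, D.vadd_line (D.line_rot (D.line_swap hR)), D.vadd_self]
  obtain ⟨R1, R2, L1, L2, L3, -⟩ := D.general_position hR h3 h2 h4
  rw [D.vadd_line hR, D.vadd_line L1, D.vadd_line L2, D.vadd_line L3]

theorem meetPt_vadd (a b c : D.Vec) : D.meetPt a (D.vadd b c) = D.meetPt a b * D.meetPt a c := by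
  rcases a with ⟨- | T⟩
  · simp [D.none_meetPt]
  rcases b with ⟨- | T'⟩
  · rw [D.none_vadd, D.meetPt_none, one_mul]
  rcases c with ⟨- | U⟩
  · rw [D.vadd_none, D.meetPt_none, mul_one]
  by_cases h2 : T' = U
  · rw [h2, D.vadd_self, D.meetPt_none, D.sq _ (D.meetPt_mem _ _)]
  by_cases h1 : T = T'
  · subst h1
    obtain ⟨R, hR⟩ := D.exists_starLine h2
    obtain ⟨x, hx1, hxT, hxU, hxR⟩ := hR.common
    rw [D.vadd_line hR, D.meetPt_self, one_mul, D.meetPt_eq hR.ne₂ hx1 hxT hxR,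
      D.meetPt_eq h2 hx1 hxT hxU]
  by_cases h3 : T = U
  · subst h3
    obtain ⟨R, hR⟩ := D.exists_starLine h1
    obtain ⟨x, hx1, hxT, hxT', hxR⟩ := hR.common
    rw [D.vadd_comm, D.vadd_line hR, D.meetPt_self, mul_one, D.meetPt_eq hR.ne₂ hx1 hxT hxR,
      D.meetPt_eq h1 hx1 hxT hxT']
  obtain ⟨R0, hR⟩ := D.exists_starLine h1
  by_cases h4 : U = R0
  · subst h4
    obtain ⟨x, hx1, hxT, hxT', hxU⟩ := hR.common
    rw [D.vadd_line (D.line_rot (D.line_swap hR)), D.meetPt_self, D.meetPt_eq h1 hx1 hxT hxT',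
      D.meetPt_eq h3 hx1 hxT hxU, D.sq x (T.2.le hxT)]
  obtain ⟨R1, R2, L1, L2, -, hm⟩ := D.general_position hR h3 h2 h4
  rw [D.vadd_line L2, hm]

noncomputable instance : Add D.Vec := ⟨D.vadd⟩

instance : Zero D.Vec := ⟨D.vzero⟩

instance : Neg D.Vec := ⟨id⟩

noncomputable instance : AddCommGroup D.Vec where
  nsmul := nsmulRec
  zsmul := zsmulRec
  add_assoc := D.vadd_assoc
  zero_add := D.none_vadd
  add_zero := D.vadd_none
  add_comm := D.vadd_comm
  neg_add_cancel := fun a => by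
    change D.vadd a a = D.vzero
    have := D.vadd_cancel a ⟨none⟩
    rwa [D.vadd_none] at this

theorem add_self (a : D.Vec) : a + a = 0 := neg_add_cancel a

noncomputable instance : Module (ZMod 2) D.Vec :=
  AddCommGroup.zmodModule fun a => (two_nsmul a).trans (D.add_self a)

/-- Vectors as options. -/
def vecEquiv : D.Vec ≃ Option (StarType N A z) where
  toFun := Vec.toOpt
  invFun := Vec.mk

instance : Finite D.Vec := Finite.of_equiv _ D.vecEquiv.symm

theorem finrank_vec : finrank (ZMod 2) D.Vec = 5 := by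
  have h := Module.natCard_eq_pow_finrank (K := ZMod 2) (V := D.Vec)
  rw [Nat.card_zmod, show Nat.card D.Vec = 32 from ((Nat.card_congr D.vecEquiv).trans Finite.card_option).trans (by rw [D.card_star]),
    show (32 : ℕ) = 2 ^ 5 by norm_num] at h
  exact ((Nat.pow_right_injective le_rfl) h).symm

theorem meetPt_add (a b c : D.Vec) : D.meetPt a (b + c) = D.meetPt a b * D.meetPt a c :=
  D.meetPt_vadd a b c

theorem meetPt_zero (a : D.Vec) : D.meetPt a 0 = 1 := D.meetPt_none a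

/-! ### The action -/

/-- The action of `n` on the vectors. -/
def mapVec {n : G} (hn : n ∈ N) (a : D.Vec) : D.Vec := ⟨a.toOpt.map (D.starMap hn)⟩

include D in
theorem starMap_inj {n : G} (hn : n ∈ N) {T T' : StarType N A z}
    (h : D.starMap hn T = D.starMap hn T') : T = T' :=
  Subtype.ext (map_injective (MulAut.conj n).injective (congrArg Subtype.val h))

theorem meetPt_map {n : G} (hn : n ∈ N) (a b : D.Vec) :
    D.meetPt (D.mapVec hn a) (D.mapVec hn b) = n * D.meetPt a b * n⁻¹ := by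
  rcases a with ⟨- | T⟩
  · simp [mapVec, D.none_meetPt]
  rcases b with ⟨- | T'⟩
  · simp [mapVec, D.meetPt_none]
  by_cases h : T = T'
  · simp [h, mapVec, D.meetPt_self]
  obtain ⟨x, h1, h2, h3⟩ := D.exists_point h
  rw [D.meetPt_eq h h1 h2 h3]
  exact D.meetPt_eq (fun e => h (D.starMap_inj hn e)) (fun e => h1 (conj_eq_one_iff.1 e))
    ⟨x, h2, rfl⟩ ⟨x, h3, rfl⟩

theorem mapVec_add {n : G} (hn : n ∈ N) (a b : D.Vec) :
    D.mapVec hn (a + b) = D.mapVec hn a + D.mapVec hn b := by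
  show D.mapVec hn (D.vadd a b) = D.vadd (D.mapVec hn a) (D.mapVec hn b)
  rcases a with ⟨- | T⟩
  · simp [mapVec, D.none_vadd]
  rcases b with ⟨- | T'⟩
  · simp [mapVec, D.vadd_none]
  by_cases h : T = T'
  · simp [h, mapVec, D.vadd_self]
  obtain ⟨R, hR⟩ := D.exists_starLine h
  obtain ⟨x, h1, h2, h3, h4⟩ := hR.common
  rw [D.vadd_line hR]
  refine (D.vadd_line ?_).symm
  exact ⟨fun e => h (D.starMap_inj hn e), fun e => hR.ne₂ (D.starMap_inj hn e),
    fun e => hR.ne₃ (D.starMap_inj hn e), n * x * n⁻¹, fun e => h1 (conj_eq_one_iff.1 e),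
    ⟨x, h2, rfl⟩, ⟨x, h3, rfl⟩, ⟨x, h4, rfl⟩⟩

/-- The linear map of `n`. -/
noncomputable def linMap (n : ↥N) : D.Vec →ₗ[ZMod 2] D.Vec :=
  (AddMonoidHom.mk' (D.mapVec n.2) (D.mapVec_add n.2)).toZModLinearMap 2

theorem linMap_apply (n : ↥N) (v : D.Vec) : D.linMap n v = D.mapVec n.2 v := rfl

theorem linMap_one : D.linMap 1 = LinearMap.id := by
  refine LinearMap.ext fun v => ?_
  rcases v with ⟨- | T⟩
  · rfl
  · refine Vec.ext (congrArg some (Subtype.ext ?_))
    ext x; simp [starMap]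

theorem linMap_mul (n m : ↥N) : D.linMap (n * m) = D.linMap n ∘ₗ D.linMap m := by
  refine LinearMap.ext fun v => ?_
  rcases v with ⟨- | T⟩
  · rfl
  · exact Vec.ext (congrArg some (Subtype.ext (cj_cj (n : G) (m : G) T.1).symm))

/-- A basis. -/
noncomputable def vecBasis : Basis (Fin 5) (ZMod 2) D.Vec :=
  Module.finBasisOfFinrankEq (ZMod 2) D.Vec D.finrank_vec

theorem zmod_two_eq_one : ∀ c : ZMod 2, c ≠ 0 → c = 1 := by decide

/-- The map to `SL(5, 2)`. -/
noncomputable def toSL : ↥N →* Matrix.SpecialLinearGroup (Fin 5) (ZMod 2) where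
  toFun n := ⟨LinearMap.toMatrix D.vecBasis D.vecBasis (D.linMap n), zmod_two_eq_one _ fun h => by
    have e : D.linMap (n⁻¹ * n) = LinearMap.id := by rw [inv_mul_cancel, D.linMap_one]
    have e' := congrArg Matrix.det (congrArg (LinearMap.toMatrix D.vecBasis D.vecBasis) e)
    rw [D.linMap_mul, LinearMap.toMatrix_comp D.vecBasis D.vecBasis D.vecBasis, Matrix.det_mul, h,
      mul_zero, LinearMap.toMatrix_id, Matrix.det_one] at e'
    exact zero_ne_one e'⟩
  map_one' := Subtype.ext (by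
    show LinearMap.toMatrix _ _ (D.linMap 1) = _
    rw [D.linMap_one, LinearMap.toMatrix_id]; rfl)
  map_mul' n m := Subtype.ext (by
    show LinearMap.toMatrix _ _ (D.linMap (n * m)) = _
    rw [D.linMap_mul, LinearMap.toMatrix_comp D.vecBasis D.vecBasis D.vecBasis]; rfl)

theorem toSL_ker : D.toSL.ker = A.subgroupOf N := by
  ext n
  rw [MonoidHom.mem_ker, mem_subgroupOf]
  constructor
  · intro h
    have h1 : D.linMap n = LinearMap.id :=
      (LinearMap.toMatrix D.vecBasis D.vecBasis).injective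
        ((congrArg Subtype.val h).trans (LinearMap.toMatrix_id D.vecBasis).symm)
    have hcent : ∀ v ∈ orbitIn N z, (n : G) * v * (n : G)⁻¹ = v := by
      intro v hv
      obtain ⟨f, hf, hfv, -⟩ := D.stars_through hv
      have hT : ∀ i, D.starMap n.2 (f i) = f i := fun i => Option.some.inj (congrArg Vec.toOpt (LinearMap.congr_fun h1 ⟨some (f i)⟩))
      have hmem : ∀ i, (n : G) * v * (n : G)⁻¹ ∈ (f i).1 := fun i =>
        (congrArg Subtype.val (hT i)) ▸ ⟨v, hfv i, rfl⟩
      exact D.point_unique (fun e => absurd (hf e) (by decide : (0 : Fin 3) ≠ 1)) (hfv 0) (hfv 1) (hmem 0)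
        (hmem 1) (D.orbit_ne_one hv) fun e => D.orbit_ne_one hv (conj_eq_one_iff.1 e)
    refine D.self n n.2 fun a ha => ?_
    have hle : closure (orbitIn N z) ≤ centralizer ({(n : G)} : Set G) :=
      (closure_le _).2 fun v hv => mem_centralizer_singleton_iff.2 (mul_inv_eq_iff_eq_mul.1 (hcent v hv)).symm
    exact (mem_centralizer_singleton_iff.1 (hle (D.gen ha))).symm
  · intro ha
    have h1 : D.linMap n = LinearMap.id := by
      refine LinearMap.ext fun v => ?_
      rcases v with ⟨- | T⟩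
      · rfl
      refine Vec.ext (congrArg some (Subtype.ext ?_))
      show cj (n : G) T.1 = T.1
      ext x
      rw [mem_cj]
      constructor
      · intro hx
        have hxA := T.2.le hx
        have : (n : G)⁻¹ * x * n = x := by
          have e := D.comm _ ha _ hxA
          rw [show (n : G) * ((n : G)⁻¹ * x * n) = x * n by group] at e
          exact (mul_right_cancel e).symm
        rwa [← this]
      · intro hx
        rwa [mul_assoc, D.comm x (T.2.le hx) _ ha, ← mul_assoc, inv_mul_cancel, one_mul]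
    exact Subtype.ext ((congrArg _ h1).trans (LinearMap.toMatrix_id D.vecBasis))

theorem card_SL_le : Nat.card (Matrix.SpecialLinearGroup (Fin 5) (ZMod 2)) ≤ 9999360 := by
  refine (Nat.card_le_card_of_injective Matrix.SpecialLinearGroup.toGL fun a b h => ?_).trans ?_
  · exact Subtype.ext (congrArg Units.val h)
  · rw [Matrix.card_GL_field, ZMod.card, Fin.prod_univ_five]
    norm_num

include D in
theorem card_ker_index : Nat.card ↥(A.subgroupOf N) = 2 ^ 10 := by
  rw [Nat.card_congr (subgroupOfEquivOfLe D.A_le).toEquiv, D.card_A]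

theorem toSL_surjective : Function.Surjective D.toSL := by
  rw [← MonoidHom.range_eq_top]
  refine eq_of_le_of_card_ge le_top ?_
  rw [Subgroup.card_top]
  refine card_SL_le.trans ?_
  have h := D.toSL.ker.card_mul_index
  rw [Subgroup.index_ker, D.toSL_ker, D.card_ker_index, D.card_N] at h
  exact (Nat.eq_of_mul_eq_mul_left (by norm_num) h).ge

include D in
/-- `N` maps onto `SL(5, 2)` with kernel `A`. -/
theorem exists_hom : ∃ φ : ↥N →* Matrix.SpecialLinearGroup (Fin 5) (ZMod 2),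
    Function.Surjective φ ∧ φ.ker = A.subgroupOf N :=
  ⟨D.toSL, D.toSL_surjective, D.toSL_ker⟩

/-! ### The second orbit -/

theorem meetPt_change (a b : D.Vec) (α β : ZMod 2) (h : ¬ (α = 0 ∧ β = 0)) :
    ∃ b', D.meetPt a b = D.meetPt (α • a + β • b) b' := by
  rcases (by decide : ∀ γ : ZMod 2, γ = 0 ∨ γ = 1) α with rfl | rfl <;>
    rcases (by decide : ∀ γ : ZMod 2, γ = 0 ∨ γ = 1) β with rfl | rfl
  · exact absurd ⟨rfl, rfl⟩ h
  · exact ⟨a, by rw [zero_smul, zero_add, one_smul, D.meetPt_comm]⟩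
  · exact ⟨b, by rw [zero_smul, add_zero, one_smul]⟩
  · refine ⟨b, ?_⟩
    rw [one_smul, one_smul, D.meetPt_comm (a + b) b, D.meetPt_add, D.meetPt_self, mul_one, D.meetPt_comm]

/-- A product of three common points is one of two. -/
theorem reduce_three (a b c d e f : D.Vec) : ∃ a' b' c' d',
    D.meetPt a b * D.meetPt c d * D.meetPt e f = D.meetPt a' b' * D.meetPt c' d' := by
  have hnot : ¬ LinearIndependent (ZMod 2) ![a, b, c, d, e, f] := fun hli => by
    have := hli.fintype_card_le_finrank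
    rw [D.finrank_vec] at this
    simp at this
  obtain ⟨g, hg, hne⟩ := Fintype.not_linearIndependent_iff.1 hnot
  rw [Fin.sum_univ_six] at hg
  simp only [Matrix.cons_val] at hg
  obtain ⟨u, hu⟩ : ∃ u, u = g 0 • a + g 1 • b := ⟨_, rfl⟩
  obtain ⟨w, hw⟩ : ∃ w, w = g 2 • c + g 3 • d := ⟨_, rfl⟩
  obtain ⟨v, hv⟩ : ∃ v, v = g 4 • e + g 5 • f := ⟨_, rfl⟩
  have huwv : u + (w + v) = 0 := by rw [hu, hw, hv, ← hg]; abel
  have hvuw : v = u + w := by
    have := congrArg (fun t => u + w + t) huwv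
    simp only [add_zero] at this
    rw [← this, show u + w + (u + (w + v)) = (u + u) + ((w + w) + v) by abel, D.add_self, D.add_self,
      zero_add, zero_add]
  by_cases h3 : g 4 = 0 ∧ g 5 = 0
  · have hv0 : v = 0 := by rw [hv, h3.1, h3.2, zero_smul, zero_smul, zero_add]
    have huw : u = w := by
      have e1 := hvuw.symm.trans hv0
      calc u = u + (w + w) := by rw [D.add_self, add_zero]
        _ = (u + w) + w := by rw [add_assoc]
        _ = w := by rw [e1, zero_add]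
    by_cases h1 : g 0 = 0 ∧ g 1 = 0
    · have h2 : ¬ (g 2 = 0 ∧ g 3 = 0) := fun h2 => by
        obtain ⟨i, hi⟩ := hne
        fin_cases i <;> simp_all
      obtain ⟨d', hd⟩ := D.meetPt_change c d _ _ h2
      have hw0 : w = 0 := by rw [← huw, hu, h1.1, h1.2, zero_smul, zero_smul, zero_add]
      refine ⟨a, b, e, f, ?_⟩
      rw [hd, ← hw, hw0, D.meetPt_comm 0, D.meetPt_zero, mul_one]
    obtain ⟨b', hb⟩ := D.meetPt_change a b _ _ h1
    rw [← hu] at hb
    by_cases h2 : g 2 = 0 ∧ g 3 = 0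
    · have hu0 : u = 0 := by rw [huw, hw, h2.1, h2.2, zero_smul, zero_smul, zero_add]
      refine ⟨c, d, e, f, ?_⟩
      rw [hb, hu0, D.meetPt_comm 0, D.meetPt_zero, one_mul]
    obtain ⟨d', hd⟩ := D.meetPt_change c d _ _ h2
    rw [← hw, ← huw] at hd
    exact ⟨u, b' + d', e, f, by rw [hb, hd, D.meetPt_add]⟩
  obtain ⟨f', hf⟩ := D.meetPt_change e f _ _ h3
  rw [← hv, hvuw, D.meetPt_comm (u + w) f', D.meetPt_add, D.meetPt_comm f' u, D.meetPt_comm f' w] at hf
  have h1' : ∃ a' b', D.meetPt a b * D.meetPt u f' = D.meetPt a' b' := by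
    by_cases h1 : g 0 = 0 ∧ g 1 = 0
    · exact ⟨a, b, by rw [hu, h1.1, h1.2, zero_smul, zero_smul, zero_add, D.meetPt_comm 0,
        D.meetPt_zero, mul_one]⟩
    · obtain ⟨b', hb⟩ := D.meetPt_change a b _ _ h1
      exact ⟨u, b' + f', by rw [hb, ← hu, D.meetPt_add]⟩
  have h2' : ∃ c' d', D.meetPt c d * D.meetPt w f' = D.meetPt c' d' := by
    by_cases h2 : g 2 = 0 ∧ g 3 = 0
    · exact ⟨c, d, by rw [hw, h2.1, h2.2, zero_smul, zero_smul, zero_add, D.meetPt_comm 0,
        D.meetPt_zero, mul_one]⟩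
    · obtain ⟨d', hd⟩ := D.meetPt_change c d _ _ h2
      exact ⟨w, d' + f', by rw [hd, ← hw, D.meetPt_add]⟩
  obtain ⟨a', b', hab⟩ := h1'
  obtain ⟨c', d', hcd⟩ := h2'
  refine ⟨a', b', c', d', ?_⟩
  rw [hf, ← hab, ← hcd]
  have hc := D.comm _ (D.meetPt_mem u f') _ (D.meetPt_mem c d)
  calc D.meetPt a b * D.meetPt c d * (D.meetPt u f' * D.meetPt w f')
      = D.meetPt a b * (D.meetPt c d * D.meetPt u f') * D.meetPt w f' := by group
    _ = D.meetPt a b * (D.meetPt u f' * D.meetPt c d) * D.meetPt w f' := by rw [hc]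
    _ = D.meetPt a b * D.meetPt u f' * (D.meetPt c d * D.meetPt w f') := by group

theorem exists_meetPt {v : G} (hv : v ∈ orbitIn N z) : ∃ a b, D.meetPt a b = v := by
  obtain ⟨f, hf, hfv, -⟩ := D.stars_through hv
  exact ⟨⟨some (f 0)⟩, ⟨some (f 1)⟩, D.meetPt_eq (fun e => absurd (hf e) (by decide : (0 : Fin 3) ≠ 1))
    (D.orbit_ne_one hv) (hfv 0) (hfv 1)⟩

/-- Every element of `A` is a product of two common points. -/
theorem exists_two {x : G} (hx : x ∈ A) : ∃ a b c d, x = D.meetPt a b * D.meetPt c d := by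
  have hx' := D.gen hx
  rw [← mem_toSubmonoid, closure_toSubmonoid_of_finite] at hx'
  induction hx' using Submonoid.closure_induction_left with
  | one => exact ⟨0, 0, 0, 0, by rw [D.meetPt_zero, one_mul]⟩
  | mul_left y hy w hw ih =>
    have hwA : w ∈ A := (D.A_le.trans le_rfl) |> fun _ => by
      have hle : closure (orbitIn N z) ≤ A := (closure_le _).2 fun v hv => D.orbit_mem hv
      exact hle (by rw [← mem_toSubmonoid, closure_toSubmonoid_of_finite]; exact hw)
    obtain ⟨a, b, c, d, rfl⟩ := ih hwA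
    obtain ⟨e, f, hef⟩ := D.exists_meetPt hy
    obtain ⟨a', b', c', d', h⟩ := D.reduce_three a b c d e f
    exact ⟨a', b', c', d', by rw [← h, ← hef, D.comm _ (D.meetPt_mem e f) _ hwA]⟩

/-- Such a product outside the orbit of `z` comes from independent vectors. -/
theorem indep_of_outside {a b c d : D.Vec} (h1 : D.meetPt a b * D.meetPt c d ≠ 1)
    (hz : D.meetPt a b * D.meetPt c d ∉ orbitIn N z) : LinearIndependent (ZMod 2) ![a, b, c, d] := by
  by_contra hnot
  have single : ∀ a' b', D.meetPt a b * D.meetPt c d ≠ D.meetPt a' b' := fun a' b' e => by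
    rcases D.meetPt_pure a' b' with h | h
    exacts [h1 (e.trans h), hz (e ▸ h)]
  obtain ⟨g, hg, hne⟩ := Fintype.not_linearIndependent_iff.1 hnot
  rw [Fin.sum_univ_four] at hg
  simp only [Matrix.cons_val] at hg
  have huw : g 0 • a + g 1 • b = g 2 • c + g 3 • d := by
    have := congrArg (fun t => t + (g 2 • c + g 3 • d)) hg
    simp only [zero_add] at this
    rw [← this, add_assoc (g 0 • a + g 1 • b) (g 2 • c) (g 3 • d), add_assoc (g 0 • a + g 1 • b),
      D.add_self, add_zero]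
  by_cases h0 : g 0 = 0 ∧ g 1 = 0
  · have h2 : ¬ (g 2 = 0 ∧ g 3 = 0) := fun h2 => by
      obtain ⟨i, hi⟩ := hne
      fin_cases i <;> simp_all
    obtain ⟨d', hd⟩ := D.meetPt_change c d _ _ h2
    refine single a b ?_
    rw [hd, ← huw, h0.1, h0.2, zero_smul, zero_smul, zero_add, D.meetPt_comm 0, D.meetPt_zero, mul_one]
  obtain ⟨b', hb⟩ := D.meetPt_change a b _ _ h0
  by_cases h2 : g 2 = 0 ∧ g 3 = 0
  · refine single c d ?_
    rw [hb, huw, h2.1, h2.2, zero_smul, zero_smul, zero_add, D.meetPt_comm 0, D.meetPt_zero, one_mul]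
  · obtain ⟨d', hd⟩ := D.meetPt_change c d _ _ h2
    refine single (g 0 • a + g 1 • b) (b' + d') ?_
    rw [hb, hd, ← huw, D.meetPt_add]

theorem exists_basis_extend {v : Fin 4 → D.Vec} (hv : LinearIndependent (ZMod 2) v) :
    ∃ e : Basis (Fin 5) (ZMod 2) D.Vec, ∀ i : Fin 4, e i.castSucc = v i := by
  have hne : Submodule.span (ZMod 2) (Set.range v) ≠ ⊤ := fun h => by
    have h4 := finrank_span_eq_card hv
    rw [h, finrank_top, D.finrank_vec] at h4
    simp at h4
  obtain ⟨x, hx⟩ : ∃ x, x ∉ Submodule.span (ZMod 2) (Set.range v) := by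
    by_contra hall
    push Not at hall
    exact hne (Submodule.eq_top_iff'.2 hall)
  refine ⟨basisOfLinearIndependentOfCardEqFinrank (b := Fin.snoc v x) (linearIndependent_finSnoc.2 ⟨hv, hx⟩)
    (by rw [Fintype.card_fin, D.finrank_vec]), fun i => ?_⟩
  rw [coe_basisOfLinearIndependentOfCardEqFinrank, Fin.snoc_castSucc]

theorem exists_mover {a b c d a' b' c' d' : D.Vec} (h : LinearIndependent (ZMod 2) ![a, b, c, d])
    (h' : LinearIndependent (ZMod 2) ![a', b', c', d']) : ∃ n ∈ N,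
    n * (D.meetPt a b * D.meetPt c d) * n⁻¹ = D.meetPt a' b' * D.meetPt c' d' := by
  obtain ⟨e, he⟩ := D.exists_basis_extend h
  obtain ⟨e', he'⟩ := D.exists_basis_extend h'
  set M : D.Vec →ₗ[ZMod 2] D.Vec := (e.equiv e' (Equiv.refl _)).toLinearMap with hM
  have hdet : (LinearMap.toMatrix D.vecBasis D.vecBasis M).det = 1 := by
    refine zmod_two_eq_one _ fun h0 => ?_
    have := LinearEquiv.isUnit_det' (e.equiv e' (Equiv.refl _))
    rw [← hM, ← LinearMap.det_toMatrix D.vecBasis, h0] at this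
    exact not_isUnit_zero this
  obtain ⟨n, hn⟩ := D.toSL_surjective ⟨_, hdet⟩
  have hlin : D.linMap n = M :=
    (LinearMap.toMatrix D.vecBasis D.vecBasis).injective (congrArg Subtype.val hn)
  have hmap : ∀ i : Fin 4, D.mapVec n.2 (![a, b, c, d] i) = ![a', b', c', d'] i := fun i => by
    rw [← D.linMap_apply n, hlin, hM, ← he i, ← he' i]
    simp [Basis.equiv_apply]
  refine ⟨n, n.2, ?_⟩
  have p0 : D.mapVec n.2 a = a' := hmap 0
  have p1 : D.mapVec n.2 b = b' := hmap 1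
  have p2 : D.mapVec n.2 c = c' := hmap 2
  have p3 : D.mapVec n.2 d = d' := hmap 3
  rw [← p0, ← p1, ← p2, ← p3, D.meetPt_map, D.meetPt_map]
  group

include D in
/-- The other orbit has 868 elements. -/
theorem exists_second_orbit : ∃ b ∈ A, (orbitIn N b).ncard = 868 := by
  set R : Set G := ((A : Set G) \ {1}) \ orbitIn N z with hR
  have hsub : orbitIn N z ⊆ (A : Set G) \ {1} := fun v hv =>
    ⟨D.orbit_mem hv, fun e => D.orbit_ne_one hv (Set.mem_singleton_iff.1 e)⟩
  have hcard : R.ncard = 868 := by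
    rw [hR, Set.ncard_sdiff hsub, Set.ncard_sdiff_singleton_of_mem A.one_mem, D.orbit,
      ← Nat.card_coe_set_eq, SetLike.coe_sort_coe, D.card_A]
    norm_num
  obtain ⟨x, hx⟩ : R.Nonempty := Set.nonempty_of_ncard_ne_zero (by rw [hcard]; norm_num)
  refine ⟨x, hx.1.1, ?_⟩
  rw [← hcard]
  congr 1
  refine Set.Subset.antisymm ?_ fun y hy => ?_
  · rintro _ ⟨n, hn, rfl⟩
    refine ⟨⟨D.conj_mem hn hx.1.1, fun e => hx.1.2 (conj_eq_one_iff.1 (Set.mem_singleton_iff.1 e))⟩,
      fun h => hx.2 ?_⟩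
    have := conj_orbit (inv_mem hn) h
    rwa [show n⁻¹ * (n * x * n⁻¹) * n⁻¹⁻¹ = x by group] at this
  · obtain ⟨a, b, c, d, hxe⟩ := D.exists_two hx.1.1
    obtain ⟨a', b', c', d', hye⟩ := D.exists_two hy.1.1
    obtain ⟨n, hn, he⟩ := D.exists_mover
      (D.indep_of_outside (a := a) (b := b) (c := c) (d := d) (hxe ▸ fun e => hx.1.2 e) (hxe ▸ hx.2))
      (D.indep_of_outside (a := a') (b := b') (c := c') (d := d') (hye ▸ fun e => hy.1.2 e) (hye ▸ hy.2))
    exact ⟨n, hn, by rw [hxe, hye, he]⟩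

end StarData

end Cfsg.Agent.JankoFour
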