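import Cfsg.Agent.Lib.JankoFour.TenTwoStarData
import Cfsg.Agent.Lib.JankoFour.TenTwoStars
import Cfsg.Agent.Lib.Coprime.Gaschutz

/-!
# Janko-four type: self-centralising elementary subgroups of order `2^10` (S5570, S5571)

Assembly: one class, the normaliser a split extension by `L₅(2)` (given a complement of `A` in a
Sylow 2-subgroup of the normaliser), irreducible action, orbits 155 and 868.
-/

set_option autoImplicit false
set_option linter.unusedSectionVars false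

namespace Cfsg.Agent.JankoFour

open Subgroup

variable {G : Type*} [Group G] {z : G} {P : Subgroup G}

theorem isTenSelf_of {A : Subgroup G} (hA : Cfsg.IsElementaryAbelian 2 A) (hc : Nat.card ↥A = 2 ^ 10)
    (hs : centralizer (A : Set G) = A) : IsTenSelf A :=
  ⟨fun a ha => by rw [← pow_two]; exact hA.2 a ha, hc, hs⟩

theorem normalizer_cj [Finite G] (g : G) (A : Subgroup G) :
    normalizer (cj g A : Set G) = cj g (normalizer (A : Set G)) := by
  ext x
  rw [mem_cj_iff]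
  constructor
  · intro hx
    refine mem_normalizer_of_cj_eq ?_
    rw [show g⁻¹ * x * g = g⁻¹ * (x * g) by group, cj_mul, cj_mul, cj_eq_of_mem_normalizer hx,
      ← cj_mul, inv_mul_cancel, cj_one]
  · intro hx
    refine mem_normalizer_of_cj_eq ?_
    rw [← cj_mul, show x * g = g * (g⁻¹ * x * g) by group, cj_mul, cj_eq_of_mem_normalizer hx]

theorem orbitIn_cj (g a : G) (N : Subgroup G) :
    orbitIn (cj g N) (g * a * g⁻¹) = (fun v => g * v * g⁻¹) '' orbitIn N a := by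
  ext v
  constructor
  · rintro ⟨m, hm, rfl⟩
    rw [mem_cj_iff] at hm
    exact ⟨_, ⟨_, hm, rfl⟩, by group⟩
  · rintro ⟨w, ⟨n, hn, rfl⟩, rfl⟩
    exact ⟨g * n * g⁻¹, mem_cj_conj hn, by group⟩

/-- A Gaschütz complement with its isomorphism. -/
theorem exists_complement_iso [Finite G] {N A B : Subgroup G} {L : Type*} [Group L]
    (hAN : A ≤ N) (hn : N ≤ normalizer (A : Set G)) (hcomm : ∀ a ∈ A, ∀ b ∈ A, a * b = b * a)
    (hA : Nat.card ↥A = 2 ^ 10) (hN : Nat.card ↥N = 2 ^ 10 * 9999360) (hB : B ≤ N)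
    (hBc : Nat.card ↥B = 2 ^ 10) (hBA : B ⊓ A = ⊥)
    {φ : ↥N →* L} (hφ : Function.Surjective φ) (hker : φ.ker = A.subgroupOf N) :
    ∃ C : Subgroup G, C ≤ N ∧ C ⊓ A = ⊥ ∧ C ⊔ A = N ∧ Nonempty (↥C ≃* L) := by
  classical
  set K := A.subgroupOf N with hK
  set B' := B.subgroupOf N with hB'
  have hKn : K.Normal := normal_subgroupOf_of_le_normalizer hn
  have hKc : IsMulCommutative ↥K :=
    ⟨⟨fun a b => Subtype.ext (Subtype.ext (hcomm _ (mem_subgroupOf.1 a.2) _ (mem_subgroupOf.1 b.2)))⟩⟩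
  have hK10 : Nat.card ↥K = 2 ^ 10 := by rw [Nat.card_congr (subgroupOfEquivOfLe hAN).toEquiv, hA]
  have hB10 : Nat.card ↥B' = 2 ^ 10 := by rw [Nat.card_congr (subgroupOfEquivOfLe hB).toEquiv, hBc]
  have hinf : B' ⊓ K = ⊥ := by
    rw [eq_bot_iff]
    intro x hx
    have h : (x : G) ∈ B ⊓ A := Subgroup.mem_inf.2 ⟨mem_subgroupOf.1 hx.1, mem_subgroupOf.1 hx.2⟩
    rw [hBA, mem_bot] at h
    exact mem_bot.2 (Subtype.ext h)
  have hU := card_sup_mul_card_inf (A := B') (B := K) (by rw [normalizer_eq_top]; exact le_top)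
  rw [hinf, card_bot, mul_one, hK10, hB10, sup_comm] at hU
  have hidx := (K ⊔ B').card_mul_index
  rw [hU, hN] at hidx
  have hi : (K ⊔ B').index = 9765 := by omega
  obtain ⟨C, hC⟩ := Coprime.exists_complement_of_gaschutz K (K ⊔ B') le_sup_left
    (by rw [hK10, hi]; norm_num) B' le_sup_right hinf rfl
  refine ⟨C.map N.subtype, map_subtype_le _, ?_, ?_, ?_⟩
  · rw [eq_bot_iff]
    rintro _ ⟨⟨c, hc, rfl⟩, hcA⟩
    have hcK : c ∈ K ⊓ C := Subgroup.mem_inf.2 ⟨mem_subgroupOf.2 hcA, hc⟩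
    rw [hC.disjoint.eq_bot, mem_bot] at hcK
    rw [hcK]; exact one_mem _
  · refine le_antisymm (sup_le (map_subtype_le _) hAN) fun n hn' => ?_
    obtain ⟨⟨k, c⟩, hkc, -⟩ := hC.existsUnique ⟨n, hn'⟩
    have h : ((k : ↥N) : G) * ((c : ↥N) : G) = n := congrArg Subtype.val hkc
    rw [← h]
    exact mul_mem (mem_sup_right (mem_subgroupOf.1 k.2)) (mem_sup_left ⟨c, c.2, rfl⟩)
  · have hbij : Function.Bijective (φ.comp C.subtype) := by
      refine ⟨(injective_iff_map_eq_one _).2 fun c hc => ?_, fun l => ?_⟩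
      · have hcK : (c : ↥N) ∈ K ⊓ C := Subgroup.mem_inf.2 ⟨hker ▸ MonoidHom.mem_ker.2 hc, c.2⟩
        rw [hC.disjoint.eq_bot, mem_bot] at hcK
        exact Subtype.ext hcK
      · obtain ⟨n, rfl⟩ := hφ l
        obtain ⟨⟨k, c⟩, hkc, -⟩ := hC.existsUnique n
        refine ⟨c, ?_⟩
        have hk : φ (k : ↥N) = 1 := MonoidHom.mem_ker.1 (hker.symm ▸ k.2)
        simp only at hkc
        rw [← hkc, map_mul, hk, one_mul]
        rfl
    exact ⟨(C.equivMapOfInjective _ N.subtype_injective).symm.trans (MulEquiv.ofBijective _ hbij)⟩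

namespace TenH

variable [Finite G] (Δ : TenH z P)

include Δ

theorem exists_self : ∃ A : Subgroup G, Cfsg.IsElementaryAbelian 2 A ∧ Nat.card ↥A = 2 ^ 10 ∧
    centralizer (A : Set G) = A :=
  ⟨Δ.tenA, ⟨⟨⟨fun a b => Subtype.ext (Δ.tenA_comm a a.2 b b.2)⟩⟩,
    fun a ha => by rw [pow_two]; exact Δ.tenA_sq a ha⟩, Δ.card_tenA, Δ.centralizer_tenA⟩

theorem conj_any {A A' : Subgroup G} (hA : IsTenSelf A) (hA' : IsTenSelf A') :
    ∃ g : G, A' = A.map (MulAut.conj g).toMonoidHom := by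
  obtain ⟨g, rfl⟩ := Δ.exists_conj_any hA
  obtain ⟨g', rfl⟩ := Δ.exists_conj_any hA'
  refine ⟨g' * g⁻¹, ?_⟩
  show cj g' Δ.tenA = cj (g' * g⁻¹) (cj g Δ.tenA)
  rw [← cj_mul]
  congr 1
  group

theorem orbits {A : Subgroup G} (hA : IsTenSelf A) : ∃ a b : G, a ∈ A ∧ b ∈ A ∧
    (orbitIn (normalizer (A : Set G)) a).ncard = 155 ∧ (orbitIn (normalizer (A : Set G)) b).ncard = 868 := by
  obtain ⟨g, rfl⟩ := Δ.exists_conj_any hA
  obtain ⟨S, D⟩ := Δ.exists_starData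
  obtain ⟨b, hb, h868⟩ := D.exists_second_orbit
  have hinj : Function.Injective fun v => g * v * g⁻¹ := fun _ _ h => (MulAut.conj g).injective h
  refine ⟨g * z * g⁻¹, g * b * g⁻¹, mem_cj_conj Δ.z_mem_tenA, mem_cj_conj hb, ?_, ?_⟩ <;>
    rw [show normalizer ((Δ.tenA.map (MulAut.conj g).toMonoidHom : Subgroup G) : Set G) =
      cj g Δ.tenN from normalizer_cj g Δ.tenA, orbitIn_cj, Set.ncard_image_of_injective _ hinj]
  exacts [Δ.ncard_zOrb, h868]

theorem structure_any (hB : ∃ B : Subgroup G, B ≤ Δ.tenN ∧ Nat.card ↥B = 2 ^ 10 ∧ B ⊓ Δ.tenA = ⊥)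
    {A : Subgroup G} (hA : IsTenSelf A) :
    (∃ C : Subgroup G, C ≤ normalizer (A : Set G) ∧ C ⊓ A = ⊥ ∧ C ⊔ A = normalizer (A : Set G) ∧
      Nonempty (↥C ≃* Matrix.SpecialLinearGroup (Fin 5) (ZMod 2))) ∧
    ∀ W : Subgroup G, W ≤ A → normalizer (A : Set G) ≤ normalizer (W : Set G) → W = ⊥ ∨ W = A := by
  obtain ⟨g, rfl⟩ := Δ.exists_conj_any hA
  obtain ⟨S, D⟩ := Δ.exists_starData
  obtain ⟨φ, hφ, hker⟩ := D.exists_hom
  obtain ⟨B, hBN, hBc, hBA⟩ := hB
  obtain ⟨C, hCN, hCA, hCs, ⟨e⟩⟩ := exists_complement_iso D.A_le D.normal Δ.tenA_comm Δ.card_tenA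
    Δ.card_tenN_eq hBN hBc hBA hφ hker
  have hg : (MulAut.conj g).toMonoidHom.toFun.Injective := (MulAut.conj g).injective
  have hN : normalizer ((Δ.tenA.map (MulAut.conj g).toMonoidHom : Subgroup G) : Set G) = cj g Δ.tenN :=
    normalizer_cj g Δ.tenA
  refine ⟨⟨cj g C, ?_, ?_, ?_, ?_⟩, ?_⟩
  · rw [hN]; exact map_mono hCN
  · show cj g C ⊓ cj g Δ.tenA = ⊥
    rw [← map_inf C Δ.tenA _ hg, hCA, Subgroup.map_bot]
  · rw [hN]
    show cj g C ⊔ cj g Δ.tenA = _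
    rw [← Subgroup.map_sup, hCs]
  · exact ⟨((C.equivMapOfInjective _ hg).symm).trans e⟩
  · intro W hW hWn
    rw [hN] at hWn
    have hW' : cj g⁻¹ W ≤ Δ.tenA := by
      refine (map_mono hW).trans_eq ?_
      show cj g⁻¹ (cj g Δ.tenA) = _
      rw [← cj_mul, inv_mul_cancel, cj_one]
    have hback : W = cj g (cj g⁻¹ W) := by rw [← cj_mul, mul_inv_cancel, cj_one]
    rcases Δ.irreducible hW' (fun n hn => by
      rw [normalizer_cj, mem_cj_iff, inv_inv]
      exact hWn (mem_cj_conj hn)) with h | h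
    · left; rw [hback, h]; exact Subgroup.map_bot _
    · right; rw [hback, h]

end TenH

end Cfsg.Agent.JankoFour
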