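import Cfsg.Agent.Lib.JankoFour.PairStab
import Cfsg.Agent.Lib.JankoFour.Data.TenData

/-!
# The kernel of an octad on its seven pairs in the model of `Aut M₂₂` (S5570, S5571)

`Ten.U`: the group; the 32s it normalises are those of the seven pairs; its normaliser has order 2688.
-/

set_option autoImplicit false
set_option maxRecDepth 20000
set_option maxHeartbeats 4000000

namespace Cfsg.Agent.JankoFour.Ten

open Cfsg Subgroup Cfsg.Agent.Mathieu
open Hex (code code_mul code_one code_injective code_conj cjN invPair exists_of_invPair groupList listSub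
  exists_code card_listSub A0 U0 S0 mem_S0 cj_mem cj_cj cj_one keep keep_iff code_lt code_mul_app
  code_inv_app code_inj_app pinned mem_pinned exists_of_mem_pinned fix23_iff)

theorem tenList_ok : groupList Data.tenList = true := by decide +kernel

/-- The group on the seven pairs. -/
def U : Subgroup ↥pairGrp := listSub Data.tenList tenList_ok

theorem tenList_facts : Data.tenList.Nodup ∧ Data.tenList.length = 8 ∧
    (∀ l ∈ Data.tenList, packMulS 24 l l = packId 24 ∧ app l 23 = 23) ∧
    Data.tenBase ∈ Data.tenList ∧ Data.tenBase ≠ packId 24 := by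
  decide +kernel

theorem mem_U {σ : ↥pairGrp} : σ ∈ U ↔ code σ ∈ Data.tenList := Iff.rfl

theorem U_sq : ∀ u ∈ U, u * u = 1 := fun u hu =>
  code_injective (by rw [code_mul, (tenList_facts.2.2.1 _ hu).1, code_one])

theorem card_U : Nat.card ↥U = 8 := (card_listSub _ tenList_facts.1).trans tenList_facts.2.1

theorem U_le : U ≤ innerPair := fun _ hu => fix23_iff.2 (tenList_facts.2.2.1 _ hu).2

theorem mem_normalizer_list {L : List ℕ} {h : groupList L = true} {σ : ↥pairGrp}
    (hs : ∀ a ∈ L, ∃ b ∈ L, packMulS 24 b (code σ) = packMulS 24 (code σ) a) :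
    σ ∈ normalizer (listSub L h : Set ↥pairGrp) := by
  refine mem_normalizer_iff_map_conj_eq.2
    (Subgroup.eq_of_le_of_card_ge ?_ (le_of_eq (Hex.card_cj σ (listSub L h)).symm))
  rintro _ ⟨a, ha, rfl⟩
  obtain ⟨b, hb, hbe⟩ := hs _ ha
  obtain ⟨b', rfl⟩ := exists_code h hb
  rw [← code_mul, ← code_mul] at hbe
  show code (σ * a * σ⁻¹) ∈ L
  rw [← code_injective hbe, mul_inv_cancel_right]
  exact hb

/-- The packed element normalises `U`. -/
def normSelf (l : ℕ) : Bool :=
  Data.tenList.all fun a => Data.tenList.any fun b => packMulS 24 b l == packMulS 24 l a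

theorem mem_normalizer_of_normSelf {σ : ↥pairGrp} (h : normSelf (code σ) = true) :
    σ ∈ normalizer (U : Set ↥pairGrp) := by
  simp only [normSelf, List.all_eq_true, List.any_eq_true, beq_iff_eq] at h
  exact mem_normalizer_list h

theorem normSelf_of_mem {σ : ↥pairGrp} (h : σ ∈ normalizer (U : Set ↥pairGrp)) :
    normSelf (code σ) = true := by
  simp only [normSelf, List.all_eq_true, List.any_eq_true, beq_iff_eq]
  intro a ha
  obtain ⟨a', rfl⟩ := exists_code tenList_ok ha
  exact ⟨code (σ * a' * σ⁻¹), (mem_normalizer_iff.1 h a').1 ha, by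
    rw [← code_mul, ← code_mul, inv_mul_cancel_right]⟩

/-! ### The seven pairs -/

/-- The `i`-th pair. -/
def pr (i : ℕ) : ℕ × ℕ := Data.tenPairs.getD i (0, 0)

/-- Membership in the seven pairs, in either order. -/
def onPairs (i j : ℕ) : Bool := Data.tenPairs.contains (i, j) || Data.tenPairs.contains (j, i)

theorem pairs_facts :
    ((List.range 23).all fun i => (List.range 23).all fun j =>
      i == 0 || j == 0 || i == j || onPairs i j || !(Data.tenList.all fun l => keep l (i, j))) = true ∧
    (Data.tenList.all fun l => Data.tenPairs.all fun q => keep l q) = true ∧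
    Data.sevenMovers.all invPair = true ∧
    Data.sevenMovers.length = 7 ∧ Data.tenPairs.length = 7 ∧
    ((List.range 7).all fun i => app (Data.sevenMovers.getD i (0, 0)).1 1 == (pr i).1 &&
      app (Data.sevenMovers.getD i (0, 0)).1 2 == (pr i).2) = true ∧
    ((List.range 7).all fun i => (List.range 7).all fun j => i == j ||
      !((pr j).1 == (pr i).1 || (pr j).1 == (pr i).2)) = true := by
  decide +kernel

theorem exists_seven_mover (i : Fin 7) :
    ∃ k : ↥pairGrp, app (code k) 1 = (pr i).1 ∧ app (code k) 2 = (pr i).2 := by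
  obtain ⟨-, -, hinv, hlen, -, himg, -⟩ := pairs_facts
  simp only [List.all_eq_true, List.mem_range, Bool.and_eq_true, beq_iff_eq] at hinv himg
  obtain ⟨k, hk, -⟩ := exists_of_invPair (hinv (Data.sevenMovers.getD i.val (0, 0)) (by
    rw [List.getD_eq_getElem _ _ (by rw [hlen]; exact i.2)]; exact List.getElem_mem _))
  exact ⟨k, hk ▸ himg i.val i.2⟩

/-- An element moving `{1, 2}` to the `i`-th pair. -/
noncomputable def mv (i : Fin 7) : ↥pairGrp := (exists_seven_mover i).choose

theorem mv_spec (i : Fin 7) : app (code (mv i)) 1 = (pr i).1 ∧ app (code (mv i)) 2 = (pr i).2 :=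
  (exists_seven_mover i).choose_spec

/-- The group of the `i`-th pair. -/
noncomputable def sevenA (i : Fin 7) : Subgroup ↥pairGrp := cj (mv i) A0

theorem isThirtyTwo_cj (k : ↥pairGrp) : IsThirtyTwo (cj k A0) :=
  ⟨Hex.cj_sq Hex.isThirtyTwo_A0.1, (Hex.card_cj k A0).trans Hex.isThirtyTwo_A0.2⟩

theorem mem_norm_seven {i : Fin 7} {σ : ↥pairGrp} :
    σ ∈ normalizer (sevenA i : Set ↥pairGrp) ↔ keep (code σ) (pr i) = true := by
  rw [sevenA, Hex.mem_normalizer_cj_A0, (mv_spec i).1, (mv_spec i).2]

theorem pr_mem (i : Fin 7) : pr i ∈ Data.tenPairs := by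
  rw [pr, List.getD_eq_getElem _ _ (by rw [pairs_facts.2.2.2.2.1]; exact i.2)]
  exact List.getElem_mem _

theorem U_le_norm_seven (i : Fin 7) : U ≤ normalizer (sevenA i : Set ↥pairGrp) := fun u hu => by
  have h := pairs_facts.2.1
  simp only [List.all_eq_true] at h
  exact mem_norm_seven.2 (h _ hu _ (pr_mem i))

theorem exists_index {i j : ℕ} (h : onPairs i j = true) :
    ∃ t : Fin 7, pr t = (i, j) ∨ pr t = (j, i) := by
  simp only [onPairs, Bool.or_eq_true, List.contains_iff_mem] at h
  rcases h with h | h <;> obtain ⟨t, ht, e⟩ := List.getElem_of_mem h <;>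
    refine ⟨⟨t, pairs_facts.2.2.2.2.1 ▸ ht⟩, ?_⟩
  · exact Or.inl (by rw [pr, List.getD_eq_getElem _ _ ht, e])
  · exact Or.inr (by rw [pr, List.getD_eq_getElem _ _ ht, e])

/-- The groups of order 32 normalised by `U`. -/
theorem exists_seven {A : Subgroup ↥pairGrp} (hA : IsThirtyTwo A)
    (hU : U ≤ normalizer (A : Set ↥pairGrp)) : ∃ i, A = sevenA i := by
  obtain ⟨k, rfl, h1, h2, hne⟩ := Hex.exists_pair hA
  have h := pairs_facts.1
  simp only [List.all_eq_true, List.mem_range, Bool.or_eq_true, beq_iff_eq, Bool.not_eq_true'] at h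
  rcases h (app (code k) 1) (by omega) (app (code k) 2) (by omega) with (((e | e) | e) | e) | e
  · omega
  · omega
  · exact absurd e hne
  · obtain ⟨t, ht⟩ := exists_index e
    refine ⟨t, Hex.cj_A0_eq ?_⟩
    rw [(mv_spec t).1, (mv_spec t).2]
    rcases ht with ht | ht <;> rw [ht]
    · exact Or.inl ⟨rfl, rfl⟩
    · exact Or.inr ⟨rfl, rfl⟩
  · exfalso
    have hall : (Data.tenList.all fun l => keep l (app (code k) 1, app (code k) 2)) = true := by
      simp only [List.all_eq_true]
      intro l hl
      obtain ⟨u, rfl⟩ := exists_code tenList_ok hl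
      exact Hex.mem_normalizer_cj_A0.1 (hU hl)
    rw [hall] at e
    exact Bool.noConfusion e

theorem sevenA_injective : Function.Injective sevenA := by
  intro i j h
  have hn : (mv i)⁻¹ * mv j ∈ normalizer (A0 : Set ↥pairGrp) := by
    have h' : cj ((mv i)⁻¹ * mv j) A0 = A0 := by
      have := congrArg (cj (mv i)⁻¹) h.symm
      rwa [sevenA, sevenA, cj_cj, cj_cj, inv_mul_cancel, cj_one] at this
    exact mem_normalizer_iff_map_conj_eq.2 h'
  have hk := Hex.mem_normalizer_A0.1 hn
  have hd := pairs_facts.2.2.2.2.2.2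
  simp only [List.all_eq_true, List.mem_range, Bool.or_eq_true, beq_iff_eq, Bool.not_eq_true',
    Bool.or_eq_false_iff, beq_eq_false_iff_ne] at hd
  by_contra hne
  obtain ⟨d1, d2⟩ := (hd i.val i.2 j.val j.2).resolve_left (fun e => hne (Fin.ext e))
  have e1 : app (code (mv i)) (app (code ((mv i)⁻¹ * mv j)) 1) = (pr j).1 := by
    rw [← code_mul_app _ _ (by norm_num), mul_inv_cancel_left, (mv_spec j).1]
  rcases keep_iff.1 hk with ⟨a, -⟩ | ⟨a, -⟩ <;> rw [a] at e1
  · exact d1 (e1.symm.trans (mv_spec i).1)
  · exact d2 (e1.symm.trans (mv_spec i).2)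

theorem seven : Set.ncard {A : Subgroup ↥pairGrp | IsThirtyTwo A ∧ U ≤ normalizer (A : Set ↥pairGrp)} = 7 := by
  have : {A : Subgroup ↥pairGrp | IsThirtyTwo A ∧ U ≤ normalizer (A : Set ↥pairGrp)} = Set.range sevenA := by
    ext A
    constructor
    · rintro ⟨hA, hU⟩
      obtain ⟨i, rfl⟩ := exists_seven hA hU
      exact ⟨i, rfl⟩
    · rintro ⟨i, rfl⟩
      exact ⟨isThirtyTwo_cj _, U_le_norm_seven i⟩
  rw [this, Set.ncard_range_of_injective sevenA_injective, Nat.card_fin]

/-! ### Elements preserving given pairs -/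

/-- The images of the points of `F` are compatible with preserving the pairs of `Q`. -/
def partKeep (Q : List (ℕ × ℕ)) (F : List ℕ) (a : ℕ) : Bool :=
  Q.all fun q => (!F.contains q.1 || app a q.1 == q.1 || app a q.1 == q.2) &&
    (!F.contains q.2 || app a q.2 == q.1 || app a q.2 == q.2) &&
    (!(F.contains q.1 && F.contains q.2) || keep a q)

theorem exists_pinned {σ : ↥pairGrp} (hσ : σ ∈ innerPair) {Q : List (ℕ × ℕ)}
    (hQ : ∀ q ∈ Q, keep (code σ) q = true) :
    ∃ l ∈ pinned (partKeep Q), code σ = canonNum l := by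
  obtain ⟨l, hl, hr⟩ := mem_pinned hσ (partKeep Q) fun F a h => by
    simp only [partKeep, List.all_eq_true, Bool.and_eq_true, Bool.or_eq_true, Bool.not_eq_true',
      beq_iff_eq]
    intro q hq
    have hk := keep_iff.1 (hQ q hq)
    refine ⟨⟨?_, ?_⟩, ?_⟩
    · by_cases hc : F.contains q.1 = true
      · rw [(h _ (List.contains_iff_mem.1 hc)).2]
        rcases hk with ⟨x, -⟩ | ⟨x, -⟩
        exacts [Or.inl (Or.inr x), Or.inr x]
      · exact Or.inl (Or.inl (by simpa using hc))
    · by_cases hc : F.contains q.2 = true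
      · rw [(h _ (List.contains_iff_mem.1 hc)).2]
        rcases hk with ⟨-, x⟩ | ⟨-, x⟩
        exacts [Or.inr x, Or.inl (Or.inr x)]
      · exact Or.inl (Or.inl (by simpa using hc))
    · by_cases hc : F.contains q.1 = true
      · by_cases hc' : F.contains q.2 = true
        · refine Or.inr (keep_iff.2 ?_)
          rw [(h _ (List.contains_iff_mem.1 hc)).2, (h _ (List.contains_iff_mem.1 hc')).2]
          exact hk
        · exact Or.inl (by simp only [Bool.not_eq_true] at hc'; rw [hc']; exact Bool.and_false _)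
      · exact Or.inl (by simp only [Bool.not_eq_true] at hc; rw [hc]; exact Bool.false_and _)
  exact ⟨l, hl, canon_eq hr⟩

theorem cent_list : ∀ l ∈ pinned (partKeep Data.tenPairs),
    Data.tenPairs.all (keep (canonNum l)) = true → canonNum l ∈ Data.tenList := by
  decide +kernel

theorem mem_U_of_keep {k : ↥pairGrp} (hk : k ∈ innerPair) (h : ∀ i : Fin 7, keep (code k) (pr i) = true) :
    k ∈ U := by
  have hQ : ∀ q ∈ Data.tenPairs, keep (code k) q = true := fun q hq => by
    obtain ⟨t, ht, rfl⟩ := List.getElem_of_mem hq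
    have := h ⟨t, by rw [← pairs_facts.2.2.2.2.1]; exact ht⟩
    rwa [pr, List.getD_eq_getElem _ _ ht] at this
  obtain ⟨l, hl, hc⟩ := exists_pinned hk hQ
  show code k ∈ Data.tenList
  rw [hc]
  exact cent_list l hl (List.all_eq_true.2 fun q hq => hc ▸ hQ q hq)

/-! ### The normaliser -/

/-- The images of the points of `F` are compatible with permuting the seven pairs. -/
def partImg (F : List ℕ) (a : ℕ) : Bool :=
  Data.tenPairs.all fun q =>
    (!F.contains q.1 || Data.tenPairs.any fun r => app a q.1 == r.1 || app a q.1 == r.2) &&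
    (!F.contains q.2 || Data.tenPairs.any fun r => app a q.2 == r.1 || app a q.2 == r.2) &&
    (!(F.contains q.1 && F.contains q.2) || onPairs (app a q.1) (app a q.2))

/-- The inner elements permuting the seven pairs. -/
def normList : List ℕ :=
  (pinned partImg).filter fun l => Data.tenPairs.all fun q => onPairs (app l q.1) (app l q.2)

theorem normList_length : normList.length = 1344 := by decide +kernel

/-- The checks on the representatives. -/
def repsOK : Bool :=
  let A := Data.normReps.getD 0 []
  let B := Data.normReps.getD 1 []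
  let C := Data.normReps.getD 2 []
  A.length == 14 && B.length == 12 && C.length == 8 &&
    (Data.normReps.all fun L => L.all fun t => memPair t && canonNum t == t && app t 23 == 23 && normSelf t) &&
    decide (A.map fun t => app t 1).Nodup && decide (B.map fun t => app t 3).Nodup &&
    decide (C.map fun t => app t 4).Nodup &&
    (B.all fun t => app t 1 == 1) && (C.all fun t => app t 1 == 1 && app t 3 == 3)

theorem repsOK_true : repsOK = true := by decide +kernel

theorem tenPairs_range : ∀ q ∈ Data.tenPairs, (1 ≤ q.1 ∧ q.1 ≤ 22) ∧ (1 ≤ q.2 ∧ q.2 ≤ 22) ∧ q.1 ≠ q.2 := by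
  decide +kernel

theorem onPairs_image {σ : ↥pairGrp} (hσ : σ ∈ normalizer (U : Set ↥pairGrp)) {q : ℕ × ℕ}
    (hq : q ∈ Data.tenPairs) : onPairs (app (code σ) q.1) (app (code σ) q.2) = true := by
  obtain ⟨⟨h1, h1'⟩, ⟨h2, h2'⟩, hne⟩ := tenPairs_range q hq
  have hrange : ∀ i, 1 ≤ i → i ≤ 22 → 1 ≤ app (code σ) i ∧ app (code σ) i ≤ 22 := by
    intro i hi hi'
    have h := code_lt (σ := σ) (show i < 24 by omega)
    constructor <;> by_contra hc <;> rcases Hex.code_far σ with ⟨a, b⟩ | ⟨a, b⟩
    all_goals
      first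
      | (have := code_inj_app (σ := σ) (show i < 24 by omega) (show (0 : ℕ) < 24 by norm_num) (by omega); omega)
      | (have := code_inj_app (σ := σ) (show i < 24 by omega) (show (23 : ℕ) < 24 by norm_num) (by omega); omega)
  have r1 := hrange _ h1 h1'
  have r2 := hrange _ h2 h2'
  have h := pairs_facts.1
  simp only [List.all_eq_true, List.mem_range, Bool.or_eq_true, beq_iff_eq, Bool.not_eq_true'] at h
  rcases h (app (code σ) q.1) (by omega) (app (code σ) q.2) (by omega) with (((e | e) | e) | e) | e
  · omega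
  · omega
  · exact absurd (code_inj_app (by omega) (by omega) e) hne
  · exact e
  · exfalso
    have hall : (Data.tenList.all fun l => keep l (app (code σ) q.1, app (code σ) q.2)) = true := by
      simp only [List.all_eq_true]
      intro l hl
      obtain ⟨u, rfl⟩ := exists_code tenList_ok hl
      have hk := List.all_eq_true.1 (List.all_eq_true.1 pairs_facts.2.1 _
        ((mem_normalizer_iff''.1 hσ u).1 hl)) q hq
      have key : ∀ {i j : ℕ}, i < 24 → app (code (σ⁻¹ * u * σ)) i = j →
          app (code u) (app (code σ) i) = app (code σ) j := by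
        intro i j hi e
        rw [← e, ← code_mul_app _ _ hi, ← code_mul_app _ _ hi]
        congr 2
        group
      rw [keep_iff] at hk ⊢
      rcases hk with ⟨a, b⟩ | ⟨a, b⟩
      · exact Or.inl ⟨key (by omega) a, key (by omega) b⟩
      · exact Or.inr ⟨key (by omega) a, key (by omega) b⟩
    rw [hall] at e
    exact Bool.noConfusion e

theorem exists_normList {σ : ↥pairGrp} (hσ : σ ∈ normalizer (U : Set ↥pairGrp)) (hI : σ ∈ innerPair) :
    ∃ l ∈ normList, Rep ptEnc (σ : Equiv.Perm GolayPt) l := by
  have hpts : ∀ {x y : ℕ}, onPairs x y = true →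
      (∃ r ∈ Data.tenPairs, x = r.1 ∨ x = r.2) ∧ ∃ r ∈ Data.tenPairs, y = r.1 ∨ y = r.2 := by
    intro x y hxy
    simp only [onPairs, Bool.or_eq_true, List.contains_iff_mem] at hxy
    rcases hxy with hm | hm
    · exact ⟨⟨_, hm, Or.inl rfl⟩, _, hm, Or.inr rfl⟩
    · exact ⟨⟨_, hm, Or.inr rfl⟩, _, hm, Or.inl rfl⟩
  obtain ⟨l, hl, hr⟩ := mem_pinned hI partImg fun F a h => by
    simp only [partImg, List.all_eq_true, Bool.and_eq_true, Bool.or_eq_true, Bool.not_eq_true',
      List.any_eq_true, beq_iff_eq]
    intro q hq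
    have ho := onPairs_image hσ hq
    refine ⟨⟨?_, ?_⟩, ?_⟩
    · by_cases hc : F.contains q.1 = true
      · rw [(h _ (List.contains_iff_mem.1 hc)).2]; exact Or.inr (hpts ho).1
      · exact Or.inl (by simpa using hc)
    · by_cases hc : F.contains q.2 = true
      · rw [(h _ (List.contains_iff_mem.1 hc)).2]; exact Or.inr (hpts ho).2
      · exact Or.inl (by simpa using hc)
    · by_cases hc : F.contains q.1 = true
      · by_cases hc' : F.contains q.2 = true
        · rw [(h _ (List.contains_iff_mem.1 hc)).2, (h _ (List.contains_iff_mem.1 hc')).2]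
          exact Or.inr ho
        · exact Or.inl (by simp only [Bool.not_eq_true] at hc'; rw [hc']; exact Bool.and_false _)
      · exact Or.inl (by simp only [Bool.not_eq_true] at hc; rw [hc]; exact Bool.false_and _)
  refine ⟨l, List.mem_filter.2 ⟨hl, List.all_eq_true.2 fun q hq => ?_⟩, hr⟩
  have hr' : ∀ i, i < 24 → app (code σ) i = app l i := fun i hi => by
    rw [Hex.code_val hi, hr, idx_val hi]
  obtain ⟨h1, h2, -⟩ := tenPairs_range q hq
  rw [← hr' _ (by omega), ← hr' _ (by omega)]
  exact onPairs_image hσ hq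

theorem card_normalizer : Nat.card ↥(normalizer (U : Set ↥pairGrp)) = 2688 := by
  classical
  set N := normalizer (U : Set ↥pairGrp) with hN
  have hH : Nat.card ↥(N ⊓ innerPair) = 1344 := by
    refine le_antisymm ?_ ?_
    · have hex : ∀ σ : ↥(N ⊓ innerPair), ∃ l ∈ normList, Rep ptEnc ((σ : ↥pairGrp) : Equiv.Perm GolayPt) l :=
        fun σ => exists_normList σ.2.1 σ.2.2
      choose f hf hfr using hex
      have hinj : Function.Injective
          (fun σ => (⟨f σ, List.mem_toFinset.2 (hf σ)⟩ : normList.toFinset)) := fun σ τ h => by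
        have e : f σ = f τ := congrArg Subtype.val h
        exact Subtype.ext (Subtype.ext ((hfr σ).unique (e ▸ hfr τ)))
      have := Nat.card_le_card_of_injective _ hinj
      rw [Nat.card_eq_finsetCard] at this
      exact this.trans ((List.toFinset_card_le _).trans normList_length.le)
    · have h := repsOK_true
      simp only [repsOK, Bool.and_eq_true, beq_iff_eq, List.all_eq_true, decide_eq_true_eq] at h
      obtain ⟨⟨⟨⟨⟨⟨⟨⟨hA, hB⟩, hC⟩, hall⟩, ndA⟩, ndB⟩, ndC⟩, hB1⟩, hC1⟩ := h
      have hget : ∀ (j : Fin 3) (i : ℕ), i < (Data.normReps.getD j.val []).length →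
          ∃ σ : ↥pairGrp, σ ∈ N ⊓ innerPair ∧ code σ = (Data.normReps.getD j.val []).getD i 0 := by
        intro j i hi
        rw [List.getD_eq_getElem _ _ hi]
        have hj : Data.normReps.getD j.val [] ∈ Data.normReps := by
          rw [List.getD_eq_getElem _ _ (lt_of_lt_of_le j.2 (show 3 ≤ Data.normReps.length by decide +kernel))]
          exact List.getElem_mem _
        obtain ⟨⟨⟨hm, hcan⟩, h23⟩, hns⟩ := hall _ hj _ (List.getElem_mem hi)
        obtain ⟨σ, hσ⟩ := exists_rep_pair hm
        have hc := Hex.code_eq_of_rep hσ hcan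
        exact ⟨σ, ⟨mem_normalizer_of_normSelf (hc ▸ hns), fix23_iff.2 (hc ▸ h23)⟩, hc⟩
      choose tA hAm hAc using fun i : Fin 14 => hget 0 i.val (hA.symm ▸ i.2)
      choose tB hBm hBc using fun i : Fin 12 => hget 1 i.val (hB.symm ▸ i.2)
      choose tC hCm hCc using fun i : Fin 8 => hget 2 i.val (hC.symm ▸ i.2)
      simp only [Fin.val_zero, Fin.val_one, Fin.val_two] at hAc hBc hCc
      have eget : ∀ (L : List ℕ) (k : ℕ), (L.map fun t => app t k).Nodup → ∀ i j, i < L.length → j < L.length →
          app (L.getD i 0) k = app (L.getD j 0) k → i = j := by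
        intro L k hnd i j hi hj e
        refine (List.Nodup.getElem_inj_iff hnd (i := i) (j := j) (hi := by simpa using hi)
          (hj := by simpa using hj)).1 ?_
        rw [List.getD_eq_getElem _ _ hi, List.getD_eq_getElem _ _ hj] at e
        rw [List.getElem_map, List.getElem_map]
        exact e
      have fB : ∀ i : Fin 12, app (code (tB i)) 1 = 1 := fun i => by
        rw [hBc i]; exact hB1 _ (by rw [List.getD_eq_getElem (Data.normReps.getD 1 []) _ (by rw [hB]; exact i.2)]; exact List.getElem_mem _)
      have fC : ∀ i : Fin 8, app (code (tC i)) 1 = 1 ∧ app (code (tC i)) 3 = 3 := fun i => by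
        rw [hCc i]; exact hC1 _ (by rw [List.getD_eq_getElem (Data.normReps.getD 2 []) _ (by rw [hC]; exact i.2)]; exact List.getElem_mem _)
      have hinj : Function.Injective (fun o : Fin 14 × Fin 12 × Fin 8 =>
          (⟨tA o.1 * (tB o.2.1 * tC o.2.2),
            mul_mem (hAm _) (mul_mem (hBm _) (hCm _))⟩ : ↥(N ⊓ innerPair))) := by
        rintro ⟨a, b, c⟩ ⟨a', b', c'⟩ h
        have h0 : tA a * (tB b * tC c) = tA a' * (tB b' * tC c') := congrArg Subtype.val h
        have ha : a = a' := by
          have e := congrArg (fun x => app (code x) 1) h0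
          simp only [code_mul_app _ _ (show 1 < 24 by norm_num), (fC _).1, fB, hAc] at e
          exact Fin.ext (eget _ 1 ndA _ _ (hA.symm ▸ a.2) (hA.symm ▸ a'.2) e)
        subst ha
        have h1 := mul_left_cancel h0
        have hb : b = b' := by
          have e := congrArg (fun x => app (code x) 3) h1
          simp only [code_mul_app _ _ (show 3 < 24 by norm_num), (fC _).2, hBc] at e
          exact Fin.ext (eget _ 3 ndB _ _ (hB.symm ▸ b.2) (hB.symm ▸ b'.2) e)
        subst hb
        have e := congrArg (fun x => app (code x) 4) (mul_left_cancel h1)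
        simp only [hCc] at e
        rw [Fin.ext (eget _ 4 ndC _ _ (hC.symm ▸ c.2) (hC.symm ▸ c'.2) e)]
      have := Nat.card_le_card_of_injective _ hinj
      simpa using this
  have h2 : innerPair.relIndex N ≤ 2 := by
    calc innerPair.relIndex N ≤ innerPair.relIndex ⊤ :=
          Subgroup.relIndex_le_of_le_right le_top (by rw [relIndex_top_right, innerPair_index]; norm_num)
      _ = 2 := by rw [relIndex_top_right, innerPair_index]
  have hmul : Nat.card ↥(N ⊓ innerPair) * innerPair.relIndex N = Nat.card ↥N := by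
    rw [← Subgroup.card_mul_index ((N ⊓ innerPair).subgroupOf N), ← relIndex,
      Nat.card_congr (subgroupOfEquivOfLe (inf_le_left : N ⊓ innerPair ≤ N)).toEquiv, inf_relIndex_left]
  have hne : innerPair.relIndex N ≠ 1 := by
    rw [Ne, Subgroup.relIndex_eq_one]
    intro hle
    have hsw : (invPair (Data.tenSwap, Data.tenSwap) && normSelf Data.tenSwap && !(app Data.tenSwap 23 == 23)) = true := by
      decide +kernel
    simp only [Bool.and_eq_true, Bool.not_eq_true', beq_eq_false_iff_ne] at hsw
    obtain ⟨t, ht, -⟩ := exists_of_invPair hsw.1.1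
    have htN : t ∈ N := mem_normalizer_of_normSelf (by rw [ht]; exact hsw.1.2)
    have h23 := fix23_iff.1 (hle htN)
    rw [ht] at h23
    exact hsw.2 h23
  have hpos : innerPair.relIndex N ≠ 0 := Subgroup.index_ne_zero_of_finite
  rw [hH] at hmul
  rw [← hmul, show innerPair.relIndex N = 2 by omega]

end Cfsg.Agent.JankoFour.Ten
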