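import Cfsg.Agent.Lib.JankoFour.TenTwoCount

/-!
# Self-centralising `2^10` in Janko-four type: a complement in a Sylow 2-subgroup (S5570)

`exists_two_complement`: the normaliser of `tenA` has a subgroup of order `2^10` meeting `tenA`
trivially: `[fixA U', P]` of order `2^6` extended by a lift of `D₈ × 2` normalising `U` and `U'`.
* `outer_sq`: the lifts in `Y` of an outer element of a 32 are involutions.
-/

set_option autoImplicit false
set_option linter.unusedSectionVars false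

namespace Cfsg.Agent.JankoFour

open Subgroup
open scoped commutatorElement
open LargeExtraspecial (Hub Pair mem_conj_iff)

variable {G : Type*} [Group G] {z : G} {P : Subgroup G}

namespace Ctx

variable [Finite G] (Γ : Ctx z P)

include Γ

/-- An element of `E` normalising `P` is in `⟨z⟩`. -/
theorem mem_zpowers_of_norm {e : G} (he : e ∈ coreE z) (hn : e ∈ normalizer (P : Set G)) :
    e ∈ zpowers z := by
  rw [← Γ.S.fix]
  refine Subgroup.mem_inf.2 ⟨he, mem_centralizer_iff.2 fun q hq => ?_⟩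
  have h1 : e * q * e⁻¹ * q⁻¹ ∈ P := mul_mem ((mem_normalizer_iff.1 hn q).1 hq) (inv_mem hq)
  have h2 : e * q * e⁻¹ * q⁻¹ ∈ coreE z := by
    rw [show e * q * e⁻¹ * q⁻¹ = e * (q * e⁻¹ * q⁻¹) by group]
    exact mul_mem he (Γ.conj_core (Γ.S.P_le hq) (inv_mem he))
  exact (mul_inv_eq_iff_eq_mul.1 (mul_inv_eq_one.1 (Γ.eq_one_of_mem_core h1 h2))).symm

/-- An element of `E^g ∩ H` outside `E` may be changed by an element of `E ∩ E^g` to an involution. -/
theorem exists_invol_over {g : G} (hg : Pt z g) {t : AutM22} (ht : t ∈ Γ.imgA g) (ht1 : t ≠ 1) :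
    ∃ m ∈ conjE z g ⊓ centralizer ({z} : Set G), Γ.ph m = t ∧ m * m = 1 := by
  obtain ⟨m, hm, hmt, -⟩ := Γ.exists_imgA_lift hg ht
  rcases (Γ.hub_pt g).sq_cases m hm.1 with h | h
  · exact ⟨m, hm, hmt, h⟩
  obtain ⟨w, hw, hwne⟩ : ∃ w ∈ coreE z ⊓ conjE z g, m * w * m⁻¹ ≠ w := by
    by_contra hno
    push Not at hno
    refine ht1 ?_
    have hmem := Γ.mem_of_commute_seven (a := g) (W := coreE z ⊓ conjE z g) inf_le_right
      (fun x hx y hy => (Γ.pair hg).E_commute hx hy) (Γ.card_facts hg).1.ge hm.1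
      fun x hx => mul_inv_eq_iff_eq_mul.1 (hno x hx)
    rw [← hmt, Γ.ph_core hmem.1]
  have hwm : m * w ∈ conjE z g ⊓ centralizer ({z} : Set G) :=
    mul_mem hm (Subgroup.mem_inf.2 ⟨hw.2, coreE_le_H hw.1⟩)
  refine ⟨m * w, hwm, by rw [Γ.ph_mul hm.2 (coreE_le_H hw.1), Γ.ph_core hw.1, mul_one, hmt], ?_⟩
  have hs : m * w * m⁻¹ = w * (g * z * g⁻¹) :=
    ((Γ.hub_pt g).comm m hm.1 w hw.2).resolve_left hwne
  calc m * w * (m * w) = (m * w * m⁻¹) * (m * m) * w := by group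
    _ = w * ((g * z * g⁻¹) * (g * z * g⁻¹)) * w := by rw [hs, h]; group
    _ = 1 := by rw [(Γ.hub_pt g).sq, mul_one, (Γ.pair hg).E_sq hw]

/-- Lifts in `Y` of an outer element of a 32 are involutions. -/
theorem outer_sq {g : G} (hg : Pt z g) {y : G} (hy : y ∈ cY z P) (hi : Γ.ph y ∉ innerM22)
    (ht : Γ.ph y ∈ Γ.imgA g) : y * y = 1 := by
  have hyX : y ∉ cX z P := fun h => hi (Γ.ph_X_inner h)
  have ht1 : Γ.ph y ≠ 1 := fun h => hi (h ▸ one_mem _)
  obtain ⟨m, hm, hmt, hm2⟩ := Γ.exists_invol_over hg ht ht1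
  obtain ⟨e, he, q, hq, heq⟩ := Γ.exists_ep (mul_mem hm.2 ((centralizer ({z} : Set G)).inv_mem hy.1))
    (by rw [Γ.ph_mul hm.2 ((centralizer ({z} : Set G)).inv_mem hy.1), Γ.ph_inv hy.1, hmt, mul_inv_cancel])
  -- `y` and `y' = q y` have the same square
  obtain ⟨y', hy'd⟩ : ∃ x, x = q * y := ⟨_, rfl⟩
  have hy' : y' ∈ cY z P := hy'd ▸ mul_mem (s := cY z P) ⟨Γ.S.P_le hq, le_normalizer hq⟩ hy
  have hsq : y' * y' = y * y := by
    rw [hy'd, show q * y * (q * y) = q * (y * q * y⁻¹) * (y * y) by group, Γ.S.inverts y hy hyX q hq,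
      mul_inv_cancel, one_mul]
  have hm' : m = e * y' := by
    rw [hy'd, ← mul_assoc, ← heq]; group
  rw [← hsq]
  have hi' : Γ.ph y' ∉ innerM22 := by
    rwa [hy'd, Γ.ph_mul (Γ.S.P_le hq) hy.1, Γ.ph_P hq, one_mul]
  have hye : y' * e * y'⁻¹ = e⁻¹ * (y' * y')⁻¹ := by
    refine eq_mul_inv_of_mul_eq (eq_inv_of_mul_eq_one_right ?_)
    rw [hm'] at hm2
    rw [← hm2]; group
  have hye' : y' * e * y'⁻¹ ∈ coreE z := Γ.conj_core hy'.1 he
  have hyy : y' * y' ∈ zpowers z := by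
    refine Γ.mem_zpowers_of_norm ?_ (mul_mem hy'.2 hy'.2)
    rw [hye] at hye'
    have := inv_mem (((coreE z).mul_mem_cancel_left (inv_mem he)).1 hye')
    rwa [inv_inv] at this
  obtain ⟨p, hp, hp1⟩ := Γ.exists_generator
  have hpz := Γ.P_comm hp
  have hp3 : p ^ 3 = 1 := by rw [pow_three]; exact Γ.p_cube hp
  obtain ⟨f, hfd⟩ : ∃ f, f = p * e * p⁻¹ := ⟨_, rfl⟩
  have hf : f ∈ coreE z := hfd ▸ Γ.conj_core (Γ.S.P_le hp) he
  -- `y' f⁻¹ y'⁻¹ ≡ p⁻¹ e p`
  have h1 : Eqz z (y' * f⁻¹ * y'⁻¹) (p * p * e * (p * p)⁻¹) := by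
    have ha := Γ.outer_conj hy'.1 hi' hp (inv_mem he)
    rw [show y' * (p * e⁻¹ * p⁻¹) * y'⁻¹ = y' * f⁻¹ * y'⁻¹ by rw [hfd]; group] at ha
    refine Γ.eqz_trans ha ?_
    have hb : Eqz z (y' * e⁻¹ * y'⁻¹) e := by
      rw [show y' * e⁻¹ * y'⁻¹ = (y' * e * y'⁻¹)⁻¹ by group, hye, mul_inv_rev, inv_inv, inv_inv]
      rcases Γ.S.z_cases hyy with h | h <;> rw [h]
      exacts [Or.inl (one_mul e), Or.inr rfl]
    have hc := hb.conj (Γ.P_comm (inv_mem hp))
    rw [show p⁻¹ * (y' * e⁻¹ * y'⁻¹) * p⁻¹⁻¹ = p⁻¹ * (y' * e⁻¹ * y'⁻¹) * p by rw [inv_inv],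
      inv_eq_of_mul_eq_one_right (Γ.p_cube hp)] at hc
    rwa [inv_eq_of_mul_eq_one_right (Γ.p_cube hp)]
  have h2E : p * p * e * (p * p)⁻¹ ∈ coreE z := Γ.conj_core (Γ.S.P_le (mul_mem hp hp)) he
  -- so `f m f⁻¹ ∈ ⟨z⟩ y'`
  have h3 : Eqz z (f * e) (e * f) := by
    rcases Γ.comm_core hf he with h | h
    · exact Or.inl (mul_inv_eq_iff_eq_mul.1 h)
    · exact Or.inr (by rw [mul_inv_eq_iff_eq_mul.1 h, mul_assoc])
  have h4 : Eqz z (f * e * (y' * f⁻¹ * y'⁻¹)) (orbProd p e) := by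
    have := Eqz.mul Γ.S.hub.sq ((Γ.S.hub.central _ (mul_mem he hf)).symm) h3 h1
    rwa [hfd, ← show orbProd p e = e * (p * e * p⁻¹) * (p * p * e * (p * p)⁻¹) from rfl, ← hfd] at this
  have h5 : orbProd p e ∈ zpowers z := by
    rcases Γ.eq_one_or_z_of_fixed hp hp1 (Γ.orbProd_mem hpz he)
      (Or.inl (mul_inv_eq_iff_eq_mul.2 (Γ.orbProd_commute hp3 hpz he).eq)) with h | h <;> rw [h]
    exacts [one_mem _, mem_zpowers z]
  obtain ⟨w, hw, hwe⟩ : ∃ w ∈ zpowers z, f * e * (y' * f⁻¹ * y'⁻¹) = w := by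
    refine ⟨_, ?_, rfl⟩
    rcases h4 with h | h <;> rw [h]
    exacts [h5, mul_mem (mem_zpowers z) h5]
  have h6 : w * y' * (w * y') = 1 := by
    rw [← hwe]
    calc f * e * (y' * f⁻¹ * y'⁻¹) * y' * (f * e * (y' * f⁻¹ * y'⁻¹) * y')
        = f * (e * y' * (e * y')) * f⁻¹ := by group
      _ = 1 := by rw [← hm', hm2]; group
  have hwy : w * y' = y' * w := by
    rcases Γ.S.z_cases hw with rfl | rfl
    · rw [one_mul, mul_one]
    · exact (mem_H.1 hy'.1).eq.symm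
  calc y' * y' = w * w * (y' * y') := by rw [Γ.w_sq hw, one_mul]
    _ = w * (w * y') * y' := by group
    _ = w * (y' * w) * y' := by rw [hwy]
    _ = w * y' * (w * y') := by group
    _ = 1 := h6

/-- A point fixed modulo `z` by lifts of two subgroups is fixed by those of the group they generate. -/
theorem eqz_of_closure {V V' : Subgroup AutM22} (hV : InnerElem V) (hV' : InnerElem V') {e : G}
    (he : e ∈ Γ.fixA V) (he' : e ∈ Γ.fixA V') {a : AutM22}
    (ha : a ∈ closure ((V : Set AutM22) ∪ V')) :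
    ∃ y ∈ cX z P, Γ.ph y = a ∧ Eqz z (y * e * y⁻¹) e := by
  refine closure_induction_finite (p := fun a => ∃ y ∈ cX z P, Γ.ph y = a ∧ Eqz z (y * e * y⁻¹) e)
    ?_ ?_ ?_ ha
  · rintro a (ha | ha)
    · obtain ⟨x, hx⟩ := Γ.exists_sqz_lift (hV.le ha) (hV.sq a ha)
      exact ⟨x, hx.mem, hx.img, (Γ.mem_fixA.1 he).2 a ha x hx⟩
    · obtain ⟨x, hx⟩ := Γ.exists_sqz_lift (hV'.le ha) (hV'.sq a ha)
      exact ⟨x, hx.mem, hx.img, (Γ.mem_fixA.1 he').2 a ha x hx⟩
  · exact ⟨1, one_mem _, Γ.ph_one, Or.inl (by group)⟩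
  · rintro a b ⟨x, hx, hxa, hxe⟩ ⟨y, hy, hyb, hye⟩
    refine ⟨x * y, mul_mem hx hy, by rw [Γ.ph_mul hx.1 hy.1, hxa, hyb], ?_⟩
    rw [show x * y * e * (x * y)⁻¹ = x * (y * e * y⁻¹) * x⁻¹ by group]
    exact Γ.eqz_trans (hye.conj (Γ.z_comm_X hx)) hxe

theorem ph_pow {h : G} (hh : h ∈ centralizer ({z} : Set G)) (n : ℕ) : Γ.ph (h ^ n) = Γ.ph h ^ n := by
  induction n with
  | zero => rw [pow_zero, pow_zero, Γ.ph_one]
  | succ n ih => rw [pow_succ, pow_succ, Γ.ph_mul (pow_mem hh n) hh, ih]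

end Ctx

namespace TenH

variable [Finite G] (Δ : TenH z P)

include Δ

/-- Lifts of two involutions with product of order 4 have product of order dividing 4. -/
theorem lift_pow_four {a b : AutM22} {x y : G} (hx : Δ.Γ.Lifts a x) (hy : Δ.Γ.Lifts b y)
    (hx2 : x * x = 1) (hy2 : y * y = 1) (h4 : (a * b) ^ 4 = 1) : (x * y) ^ 4 = 1 := by
  set Γ := Δ.Γ
  have hxy : x * y ∈ cX z P := mul_mem hx.mem hy.mem
  have hph : Γ.ph (x * y) = a * b := by rw [Γ.ph_mul hx.mem.1 hy.mem.1, hx.img, hy.img]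
  obtain ⟨w, hw, r, hr, hwr⟩ := Γ.exists_zp (pow_mem hxy 4) (by rw [Γ.ph_pow hxy.1, hph, h4])
  have hxi : x⁻¹ = x := inv_eq_of_mul_eq_one_right hx2
  have hyi : y⁻¹ = y := inv_eq_of_mul_eq_one_right hy2
  have hconj : x * (x * y) ^ 4 * x⁻¹ = ((x * y) ^ 4)⁻¹ := by
    rw [← inv_pow, ← conj_pow, mul_inv_rev, hxi, hyi]
    congr 1
    rw [← mul_assoc x x y, hx2, one_mul]
  have hc : Commute x (w * r) := (Γ.zw_comm hx.mem hw).mul_right (Γ.P_comm_X hx.mem hr)
  rw [hwr, hc.eq, mul_inv_cancel_right] at hconj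
  have hwr2 : w * r * (w * r) = 1 := mul_eq_one_iff_eq_inv.2 hconj
  have hr1 : r = 1 := by
    refine Γ.P_eq_one hr ?_
    rw [show w * r * (w * r) = w * (r * w) * r by group, (Γ.zw_comm (Γ.S.P_le_X hr) hw).eq,
      show w * (w * r) * r = w * w * (r * r) by group, Γ.w_sq hw, one_mul] at hwr2
    rw [hwr2]; exact one_mem _
  subst hr1
  have hl : Γ.Lifts ((a * b) ^ 2) ((x * y) ^ 2) := ⟨pow_mem hxy 2, by rw [Γ.ph_pow hxy.1, hph],
    by rw [← pow_add, hwr, mul_one]; exact hw⟩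
  rw [show 4 = 2 + 2 from rfl, pow_add]
  exact Δ.lift_sq hl (by rw [← pow_add]; exact h4)

/-- A subgroup of order `2^10` of the normaliser meeting `tenA` trivially. -/
theorem exists_two_complement : ∃ B : Subgroup G, B ≤ Δ.tenN ∧ Nat.card ↥B = 2 ^ 10 ∧ B ⊓ Δ.tenA = ⊥ := by
  classical
  set Γ := Δ.Γ
  have hU := Δ.inner_U
  obtain ⟨k, a, b, t, hnorm, ⟨A, hA, hAU, hAle⟩, haI, hbI, ha2, hb2, hab, htI, hta, htb, ht32, hmeet⟩ :=
    Δ.TF.split
  have hU' := Γ.innerElem_cj hU k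
  set F' := Γ.fixA (cj k Δ.U) with hF'
  obtain ⟨h, hh, hhk⟩ := Γ.exists_ph k
  have hmap : (Γ.fixA Δ.U).map (MulAut.conj h).toMonoidHom = F' := by rw [Γ.fixA_conj hU hh, hhk]
  have hF'2 : ∀ e ∈ F', e * e = 1 := by
    intro e he
    rw [← hmap] at he
    obtain ⟨u, hu, rfl⟩ := he
    rw [← map_mul, Δ.fixA_octad.2 u hu, map_one]
  have hF'7 : Nat.card ↥F' = 2 ^ 7 := by
    rw [← hmap, card_map_of_injective (MulAut.conj h).injective, Δ.fixA_octad.1]
  have hF'c := comm_of_sq hF'2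
  have hF'P : ∀ r ∈ P, ∀ e ∈ F', r * e * r⁻¹ ∈ F' := fun r hr e he => Γ.fixA_P hU' hr he
  obtain ⟨p, hp, hp1⟩ := Γ.exists_generator
  let ψ : ↥F' →* G := MonoidHom.mk' (fun w => (w : G) * (p * w * p⁻¹)) fun w w' => by
    push_cast
    have hpc : (p * (w : G) * p⁻¹) * w' = w' * (p * (w : G) * p⁻¹) := hF'c _ (hF'P p hp _ w.2) _ w'.2
    calc (w : G) * w' * (p * ((w : G) * w') * p⁻¹)
        = (w : G) * ((w' : G) * (p * (w : G) * p⁻¹)) * (p * (w' : G) * p⁻¹) := by group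
      _ = (w : G) * (p * (w : G) * p⁻¹ * w') * (p * (w' : G) * p⁻¹) := by rw [hpc]
      _ = (w : G) * (p * (w : G) * p⁻¹) * ((w' : G) * (p * (w' : G) * p⁻¹)) := by group
  set E₀ := ψ.range with hE₀
  have hE₀F : E₀ ≤ F' := by
    rintro _ ⟨w, rfl⟩
    exact mul_mem w.2 (hF'P p hp _ w.2)
  have hker : ∀ w : ↥F', Eqz z (p * (w : G) * p⁻¹) w → (w : G) = 1 ∨ (w : G) = z := fun w hw =>
    Γ.eq_one_or_z_of_fixed hp hp1 (Γ.fixA_le _ w.2) hw
  have hψ1 : ∀ w : ↥F', ψ w = 1 ↔ ((w : G) = 1 ∨ (w : G) = z) := by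
    intro w
    constructor
    · intro hw
      refine hker w (Or.inl ?_)
      have : (w : G) * (p * (w : G) * p⁻¹) = (w : G) * w := (hw : (w : G) * _ = 1).trans (hF'2 _ w.2).symm
      exact mul_left_cancel this
    · intro hw
      show (w : G) * (p * (w : G) * p⁻¹) = 1
      rcases hw with e | e <;> rw [e]
      · group
      · rw [(Γ.P_comm hp).eq, mul_inv_cancel_right, Γ.S.hub.sq]
  have hE₀z : z ∉ E₀ := by
    rintro ⟨w, hw⟩
    have hw' : (w : G) * (p * (w : G) * p⁻¹) = z := hw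
    have h0 : Eqz z (p * (w : G) * p⁻¹) w := Or.inr (by
      rw [← mul_left_cancel_iff (a := (w : G)), hw', ← mul_assoc,
        (Γ.S.hub.central _ (Γ.fixA_le _ w.2)).eq, mul_assoc, hF'2 _ w.2, mul_one])
    exact Γ.S.hub.ne_one (hw.symm.trans ((hψ1 w).2 (hker w h0)))
  have hE₀6 : Nat.card ↥E₀ = 2 ^ 6 := by
    have h1 := ψ.ker.card_mul_index
    rw [Subgroup.index_ker, hF'7] at h1
    have h2 : Nat.card ↥ψ.ker = 2 := by
      have e : (ψ.ker : Set ↥F') = {1, ⟨z, Γ.z_mem_fixA _⟩} := by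
        ext w
        rw [SetLike.mem_coe, MonoidHom.mem_ker, hψ1, Set.mem_insert_iff, Set.mem_singleton_iff,
          Subtype.ext_iff, Subtype.ext_iff]
        rfl
      rw [← SetLike.coe_sort_coe, e, Nat.card_coe_set_eq,
        Set.ncard_pair fun e => Γ.S.hub.ne_one (congrArg Subtype.val e).symm]
    rw [h2, ← hE₀] at h1
    omega
  have hE₀E : E₀ ≤ coreE z := hE₀F.trans (Γ.fixA_le _)
  have hE₀U : ∀ e ∈ E₀, e ∈ Γ.fixA Δ.U → e = 1 := by
    intro e he heU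
    obtain ⟨g, hg, rfl⟩ := Δ.exists_pt_img hA
    have hAe : InnerElem (Γ.imgA g ⊓ innerM22) := ⟨inf_le_right, fun c hc => Γ.imgA_sq hg c hc.1⟩
    have hfix : e ∈ Γ.fixA (Γ.imgA g ⊓ innerM22) := by
      refine Γ.mem_fixA.2 ⟨hE₀E he, fun c hc x hx => ?_⟩
      obtain ⟨y, hy, hyc, hye⟩ := Γ.eqz_of_closure hU hU' heU (hE₀F he) (hAle hc)
      exact Γ.eqz_of_same hx.mem.1 hy.1 (hx.img.symm ▸ hc.2) (Ctx.Lifts.core Γ hx)
        (hx.img.trans hyc.symm) (hE₀E he) hye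
    rcases Γ.fixA_duad hg hfix with h' | ⟨r, hr, h'⟩
    · rcases Γ.S.z_cases h' with h'' | h''
      · exact h''
      · exact absurd (h'' ▸ he) hE₀z
    · exfalso
      refine hAU (Δ.normalizer_of_pt_mem hU hg ?_)
      have hr' : r * (g * z * g⁻¹) * r⁻¹ ∈ Γ.fixA Δ.U := by
        rcases h' with h'' | h''
        · exact h'' ▸ heU
        · exact (Subgroup.mul_mem_cancel_left _ (Γ.z_mem_fixA _)).1 (h'' ▸ heU)
      have := Γ.fixA_P hU (inv_mem hr) hr'
      rwa [show r⁻¹ * (r * (g * z * g⁻¹) * r⁻¹) * r⁻¹⁻¹ = g * z * g⁻¹ by group] at this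
  -- the lifts
  obtain ⟨xa, hxa⟩ := Γ.exists_sqz_lift haI ha2
  obtain ⟨xb, hxb⟩ := Γ.exists_sqz_lift hbI hb2
  obtain ⟨y, hy, hyt⟩ := Γ.exists_liftY t
  have hxa2 := Δ.lift_sq hxa ha2
  have hxb2 := Δ.lift_sq hxb hb2
  have hXY : cX z P ≤ cY z P := inf_le_inf_left _ (centralizer_le_normalizer _)
  have hio : ∀ x ∈ innerM22, t * x ∉ innerM22 := fun x hx h => htI ((Subgroup.mul_mem_cancel_right _ hx).1 h)
  have hsq : ∀ {w : G}, w ∈ cY z P → Γ.ph w ∈ ({t, t * a, t * b} : Set AutM22) → w * w = 1 := by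
    intro w hw hwt
    obtain ⟨A', hA', hmem⟩ := ht32 _ hwt
    obtain ⟨g, hg, rfl⟩ := Δ.exists_pt_img hA'
    refine Γ.outer_sq hg hw ?_ hmem
    rcases hwt with h' | h' | h'
    · rw [h']; exact htI
    · rw [h']; exact hio a haI
    · rw [Set.mem_singleton_iff.1 h']; exact hio b hbI
  have hy2 : y * y = 1 := hsq hy (by rw [hyt]; exact Or.inl rfl)
  have hyX : ∀ {c : AutM22} {x : G}, Γ.Lifts c x → x * x = 1 → t * c ∈ ({t, t * a, t * b} : Set AutM22) →
      y * x = x * y := by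
    intro c x hx hx2 hc
    have h' := hsq (mul_mem hy (hXY hx.mem)) (by rw [Γ.ph_mul hy.1 hx.mem.1, hyt, hx.img]; exact hc)
    calc y * x = y * x * (y * y) := by rw [hy2, mul_one]
      _ = (y * x * (y * x)) * (x⁻¹ * y) := by group
      _ = x * y := by rw [h', one_mul, inv_eq_of_mul_eq_one_right hx2]
  have hya : y * xa = xa * y := hyX hxa hxa2 (Or.inr (Or.inl rfl))
  have hyb : y * xb = xb * y := hyX hxb hxb2 (Or.inr (Or.inr rfl))
  set u := xa * xb with hu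
  have hu4 : u ^ 4 = 1 := Δ.lift_pow_four hxa hxb hxa2 hxb2 (by rw [← hab]; exact pow_orderOf_eq_one _)
  set D := closure ({y, xa, u} : Set G) with hD
  have hyu : y * u = u * y := (Commute.mul_right hya hyb).eq
  have hxau : xa * u * xa⁻¹ = u⁻¹ := by
    rw [hu, mul_inv_rev, inv_eq_of_mul_eq_one_right hxb2, ← mul_assoc xa xa xb, hxa2, one_mul]
  -- normal forms
  have hform : ∀ d ∈ D, ∃ e i j : ℕ, e < 2 ∧ i < 4 ∧ j < 2 ∧ d = y ^ e * u ^ i * xa ^ j := by
    have hyp : ∀ n : ℕ, y ^ n = y ^ (n % 2) := fun n => (pow_eq_pow_mod n (by rw [pow_two]; exact hy2))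
    have hup : ∀ n : ℕ, u ^ n = u ^ (n % 4) := fun n => pow_eq_pow_mod n hu4
    have hap : ∀ n : ℕ, xa ^ n = xa ^ (n % 2) := fun n => (pow_eq_pow_mod n (by rw [pow_two]; exact hxa2))
    intro d hd
    rw [hD, ← mem_toSubmonoid, closure_toSubmonoid_of_finite] at hd
    induction hd using Submonoid.closure_induction_left with
    | one => exact ⟨0, 0, 0, by norm_num, by norm_num, by norm_num, by simp⟩
    | mul_left x hx w _ ih =>
      obtain ⟨e, i, j, he, hi, hj, rfl⟩ := ih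
      simp only [Set.mem_insert_iff, Set.mem_singleton_iff] at hx
      rcases hx with hx | hx | hx <;> rw [hx]
      · refine ⟨(e + 1) % 2, i, j, Nat.mod_lt _ (by norm_num), hi, hj, ?_⟩
        rw [← hyp, pow_succ']; group
      · refine ⟨e, (3 * i) % 4, (j + 1) % 2, he, Nat.mod_lt _ (by norm_num), Nat.mod_lt _ (by norm_num), ?_⟩
        rw [← hup, ← hap, pow_succ' xa j]
        have h1 : xa * u ^ i * xa⁻¹ = u ^ (3 * i) := by
          rw [← conj_pow, hxau, pow_mul]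
          congr 1
          exact inv_eq_of_mul_eq_one_right (by rw [← pow_succ']; exact hu4)
        calc xa * (y ^ e * u ^ i * xa ^ j) = (xa * y ^ e) * u ^ i * xa ^ j := by group
          _ = (y ^ e * xa) * u ^ i * xa ^ j := by rw [((Commute.symm hya).pow_right e).eq]
          _ = y ^ e * (xa * u ^ i * xa⁻¹) * (xa * xa ^ j) := by group
          _ = y ^ e * u ^ (3 * i) * (xa * xa ^ j) := by rw [h1]
      · refine ⟨e, (i + 1) % 4, j, he, Nat.mod_lt _ (by norm_num), hj, ?_⟩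
        rw [← hup, pow_succ']
        calc u * (y ^ e * u ^ i * xa ^ j) = (u * y ^ e) * u ^ i * xa ^ j := by group
          _ = (y ^ e * u) * u ^ i * xa ^ j := by rw [((Commute.symm hyu).pow_right e).eq]
          _ = y ^ e * (u * u ^ i) * xa ^ j := by group
  have hgenY : ∀ x ∈ ({y, xa, u} : Set G), x ∈ cY z P := by
    rintro x (rfl | rfl | rfl)
    exacts [hy, hXY hxa.mem, mul_mem (hXY hxa.mem) (hXY hxb.mem)]
  have hDY : D ≤ cY z P := (closure_le _).2 hgenY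
  have hphu : Γ.ph u = a * b := by rw [hu, Γ.ph_mul hxa.mem.1 hxb.mem.1, hxa.img, hxb.img]
  have huH : u ∈ centralizer ({z} : Set G) := mul_mem hxa.mem.1 hxb.mem.1
  have hphd : ∀ e i j : ℕ, Γ.ph (y ^ e * u ^ i * xa ^ j) = t ^ e * (a * b) ^ i * a ^ j := fun e i j => by
    rw [Γ.ph_mul (mul_mem (pow_mem hy.1 e) (pow_mem huH i)) (pow_mem hxa.mem.1 j),
      Γ.ph_mul (pow_mem hy.1 e) (pow_mem huH i), Γ.ph_pow hy.1, Γ.ph_pow huH, Γ.ph_pow hxa.mem.1, hyt, hphu,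
      hxa.img]
  -- the exponents are determined by the image
  have hinI : ∀ i j : ℕ, (a * b) ^ i * a ^ j ∈ innerM22 := fun i j =>
    mul_mem (pow_mem (mul_mem haI hbI) i) (pow_mem haI j)
  have heven : ∀ e i j : ℕ, e < 2 → t ^ e * (a * b) ^ i * a ^ j ∈ innerM22 → e = 0 := by
    intro e i j he h'
    rcases (show e = 0 ∨ e = 1 by omega) with rfl | rfl
    · rfl
    · rw [pow_one, mul_assoc] at h'
      exact absurd h' (hio _ (hinI i j))
  have hdih : ∀ i j : ℕ, i < 4 → j < 2 → (a * b) ^ i * a ^ j = 1 → i = 0 ∧ j = 0 := by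
    intro i j hi hj h'
    rcases (show j = 0 ∨ j = 1 by omega) with rfl | rfl
    · rw [pow_zero, mul_one] at h'
      have := orderOf_dvd_of_pow_eq_one h'
      rw [hab] at this
      exact ⟨Nat.eq_zero_of_dvd_of_lt this hi, rfl⟩
    · exfalso
      rw [pow_one] at h'
      have ha' : a = ((a * b) ^ i)⁻¹ := eq_inv_of_mul_eq_one_right h'
      have hc : Commute a (a * b) := by
        have : Commute (((a * b) ^ i)⁻¹) (a * b) := ((Commute.refl (a * b)).pow_left i).inv_left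
        rwa [← ha'] at this
      have : (a * b) ^ 2 = 1 := by
        rw [pow_two]
        calc a * b * (a * b) = a * b * a * b := by group
          _ = a * (a * b) * b := by rw [hc.eq]
          _ = (a * a) * (b * b) := by group
          _ = 1 := by rw [ha2, hb2, one_mul]
      have := orderOf_dvd_of_pow_eq_one this
      rw [hab] at this
      omega
  have htriv : ∀ d ∈ D, Γ.ph d ∈ Δ.U → d = 1 := by
    intro d hd hdU
    obtain ⟨e, i, j, he, hi, hj, rfl⟩ := hform d hd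
    rw [hphd] at hdU
    obtain rfl := heven e i j he (Δ.TF.le hdU)
    rw [pow_zero, one_mul] at hdU
    have ha_mem : a ∈ closure ({a, b} : Set AutM22) := subset_closure (by simp)
    have hb_mem : b ∈ closure ({a, b} : Set AutM22) := subset_closure (by simp)
    obtain ⟨rfl, rfl⟩ := hdih i j hi hj
      (hmeet _ hdU (mul_mem (pow_mem (mul_mem ha_mem hb_mem) i) (pow_mem ha_mem j)))
    simp
  have hD16 : Nat.card ↥D = 16 := by
    have hyD : y ∈ D := subset_closure (by simp)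
    have hxaD : xa ∈ D := subset_closure (by simp)
    have huD : u ∈ D := subset_closure (by simp)
    let f : Fin 2 × Fin 4 × Fin 2 → ↥D := fun x => ⟨y ^ (x.1 : ℕ) * u ^ (x.2.1 : ℕ) * xa ^ (x.2.2 : ℕ),
      mul_mem (mul_mem (pow_mem hyD _) (pow_mem huD _)) (pow_mem hxaD _)⟩
    have hf : Function.Bijective f := by
      refine ⟨?_, ?_⟩
      · rintro ⟨e, i, j⟩ ⟨e', i', j'⟩ h'
        have hp' := congrArg (fun d : ↥D => Γ.ph d) h'
        simp only [f, hphd] at hp'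
        have hE : (e : ℕ) = e' := by
          rcases (show (e : ℕ) = 0 ∨ (e : ℕ) = 1 by omega) with h0 | h0 <;>
            rcases (show (e' : ℕ) = 0 ∨ (e' : ℕ) = 1 by omega) with h1 | h1 <;> first | omega | skip
          · exfalso
            rw [h0, h1, pow_zero, one_mul, pow_one, mul_assoc] at hp'
            exact hio _ (hinI i' j') (hp' ▸ hinI i j)
          · exfalso
            rw [h0, h1, pow_zero, one_mul, pow_one, mul_assoc] at hp'
            exact hio _ (hinI i j) (hp'.symm ▸ hinI i' j')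
        rw [hE, mul_assoc, mul_assoc] at hp'
        have hp'' := mul_left_cancel hp'
        have hJ : (j : ℕ) = j' := by
          by_contra hne
          have key : ∀ i i' : ℕ, i < 4 → i' < 4 → (a * b) ^ i * a = (a * b) ^ i' → False := by
            intro i i' hi hi' h''
            have hu4' : (a * b) ^ 4 = 1 := by rw [← hab]; exact pow_orderOf_eq_one _
            obtain ⟨-, h0⟩ := hdih ((i + (4 - i')) % 4) 1 (Nat.mod_lt _ (by norm_num)) (by norm_num) (by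
              rw [← pow_eq_pow_mod _ hu4', pow_one, pow_add, (Commute.pow_pow_self (a * b) i (4 - i')).eq,
                mul_assoc, h'', ← pow_add, show 4 - i' + i' = 4 by omega, hu4'])
            omega
          rcases (show (j : ℕ) = 0 ∧ (j' : ℕ) = 1 ∨ (j : ℕ) = 1 ∧ (j' : ℕ) = 0 by omega) with ⟨h0, h1⟩ | ⟨h0, h1⟩
          · rw [h0, h1, pow_zero, mul_one, pow_one] at hp''
            exact key _ _ i'.2 i.2 hp''.symm
          · rw [h0, h1, pow_zero, mul_one, pow_one] at hp''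
            exact key _ _ i.2 i'.2 hp''
        rw [hJ] at hp''
        have hI : (i : ℕ) = i' := by
          have := pow_inj_mod.1 (mul_right_cancel hp'')
          rw [hab, Nat.mod_eq_of_lt i.2, Nat.mod_eq_of_lt i'.2] at this
          exact this
        simp only [Prod.mk.injEq]
        exact ⟨Fin.ext hE, Fin.ext hI, Fin.ext hJ⟩
      · rintro ⟨d, hd⟩
        obtain ⟨e, i, j, he, hi, hj, rfl⟩ := hform d hd
        exact ⟨(⟨e, he⟩, ⟨i, hi⟩, ⟨j, hj⟩), rfl⟩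
    rw [← Nat.card_congr (Equiv.ofBijective f hf)]
    simp
  -- `D` normalises `tenA` and `E₀`
  have hgen : ∀ x ∈ ({y, xa, u} : Set G), Γ.ph x ∈ normalizer (Δ.U : Set AutM22) ∧
      Γ.ph x ∈ normalizer (cj k Δ.U : Set AutM22) := by
    have hN := fun x hx => hnorm x hx
    rintro x (rfl | rfl | rfl)
    · rw [hyt]; exact hN t (by simp)
    · rw [hxa.img]; exact hN a (by simp)
    · rw [hphu]
      exact ⟨mul_mem (hN a (by simp)).1 (hN b (by simp)).1, mul_mem (hN a (by simp)).2 (hN b (by simp)).2⟩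
  have hDN : D ≤ Δ.tenN := (closure_le _).2 fun x hx =>
    (Δ.mem_normalizer_tenA_iff (hgenY x hx).1).2 (hgen x hx).1
  have hDE : D ≤ normalizer (E₀ : Set G) := by
    refine (closure_le _).2 fun x hx => mem_normalizer_of_cj_eq (eq_of_le_of_card_ge ?_ ?_)
    · rintro _ ⟨_, ⟨w, rfl⟩, rfl⟩
      have hxY := hgenY x hx
      have hxw : x * (w : G) * x⁻¹ ∈ F' := by
        have h' := Γ.fixA_map_le hU' hxY.1 ⟨w, w.2, rfl⟩
        rwa [cj_eq_of_mem_normalizer (hgen x hx).2] at h'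
      obtain ⟨v, hvd⟩ : ∃ v, v = x * (w : G) * x⁻¹ := ⟨_, rfl⟩
      have hxp : x * p * x⁻¹ = p ∨ x * p * x⁻¹ = p⁻¹ := by
        by_cases hxX : x ∈ cX z P
        · left; rw [(Γ.P_comm_X hxX hp).eq, mul_inv_cancel_right]
        · exact Or.inr (Γ.S.inverts x hxY hxX p hp)
      have e1 : x * ψ w * x⁻¹ = v * ((x * p * x⁻¹) * v * (x * p * x⁻¹)⁻¹) := by
        rw [hvd]; show x * ((w : G) * (p * w * p⁻¹)) * x⁻¹ = _; group
      show x * ψ w * x⁻¹ ∈ E₀
      rcases hxp with h' | h'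
      · exact ⟨⟨v, hvd ▸ hxw⟩, by rw [e1, h']; rfl⟩
      · refine ⟨⟨p⁻¹ * v * p⁻¹⁻¹, hF'P _ (inv_mem hp) _ (hvd ▸ hxw)⟩, ?_⟩
        rw [e1, h']
        show p⁻¹ * v * p⁻¹⁻¹ * (p * (p⁻¹ * v * p⁻¹⁻¹) * p⁻¹) = _
        rw [show p * (p⁻¹ * v * p⁻¹⁻¹) * p⁻¹ = v by group]
        exact hF'c _ (hF'P _ (inv_mem hp) _ (hvd ▸ hxw)) _ (hvd ▸ hxw)
    · rw [card_map_of_injective (MulAut.conj x).injective]
  refine ⟨E₀ ⊔ D, sup_le (hE₀E.trans Δ.core_le_tenN) hDN, ?_, (eq_bot_iff_forall _).2 ?_⟩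
  · have h2 : E₀ ⊓ D = ⊥ := (eq_bot_iff_forall _).2 fun x hx =>
      htriv x hx.2 (by rw [Γ.ph_core (hE₀E hx.1)]; exact one_mem _)
    have h1 := card_sup_mul_card_inf (A := D) (B := E₀) hDE
    rw [inf_comm, h2, card_bot, mul_one, hD16, hE₀6] at h1
    rw [sup_comm, h1]; norm_num
  · intro x hx
    obtain ⟨hxB, hxA⟩ := Subgroup.mem_inf.1 hx
    rw [← SetLike.mem_coe, coe_mul_of_right_le_normalizer_left E₀ D hDE] at hxB
    obtain ⟨r, hr, d, hd, hrd⟩ := hxB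
    have hrd' : r * d = x := hrd
    have hphx : Γ.ph x ∈ Δ.U := Δ.img_tenA ▸ Γ.ph_mem_img Δ.tenA_le_H hxA
    rw [← hrd', Γ.ph_mul (coreE_le_H (hE₀E hr)) (hDY hd).1, Γ.ph_core (hE₀E hr), one_mul] at hphx
    obtain rfl := htriv d hd hphx
    rw [mul_one] at hrd'
    subst hrd'
    exact hE₀U r hr (Δ.tenA_inf_core ▸ Subgroup.mem_inf.2 ⟨hxA, hE₀E hr⟩)

end TenH

end Cfsg.Agent.JankoFour
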