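import Cfsg.Agent.Lib.JankoFour.TenTwoCount

/-!
# Self-centralising `2^10` in Janko-four type: the three stars at `z`

An element outside `innerM22` fixing the seven pairs of `U` fixes one point modulo `z` on each of the
seven lines; with `z` they form a pure subgroup of order 16, and its `P`-conjugates are the three
stars at `z`.  `tenA` has no proper nontrivial invariant subgroup as `z` is the only involution
fixed by `E`.
-/

set_option autoImplicit false
set_option linter.unusedSectionVars false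

namespace Cfsg.Agent.JankoFour

open Subgroup
open scoped commutatorElement
open LargeExtraspecial (Hub Pair mem_conj_iff)

variable {G : Type*} [Group G] {z : G} {P : Subgroup G}

namespace TenH

variable [Finite G] (Δ : TenH z P)

include Δ

theorem star_meet {h : G} (hh : h ∈ centralizer ({z} : Set G)) (ho : Δ.Γ.ph h ∉ innerM22) {r u : G}
    (hr : r ∈ P) (hr1 : r ≠ 1) (hu : u ∈ Δ.Γ.fixZ h) (hru : r * u * r⁻¹ ∈ Δ.Γ.fixZ h) :
    u = 1 ∨ u = z := by
  obtain ⟨huE, h1⟩ := Δ.Γ.mem_fixZ.1 hu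
  obtain ⟨-, h2⟩ := Δ.Γ.mem_fixZ.1 hru
  have h3 := Δ.Γ.eqz_trans (Δ.Γ.eqz_symm h2)
    (Δ.Γ.eqz_trans (Δ.Γ.outer_conj hh ho hr huE) (by
      have := h1.conj (Δ.Γ.P_comm (inv_mem hr))
      rwa [inv_inv] at this))
  have h4 : Eqz z (r * u * r⁻¹) (r⁻¹ * u * r⁻¹⁻¹) := by rwa [inv_inv]
  by_contra hne
  push Not at hne
  have h5 := Δ.Γ.eqz_of_P_fixed hr (inv_mem hr) huE hne.1 hne.2 h4
  have hrr : r * r = 1 := mul_eq_one_iff_eq_inv.2 h5
  refine hr1 ?_
  simpa [hrr] using Δ.Γ.p_cube hr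

/-- On each line a point fixed modulo `z` by an outer element normalising its 32. -/
theorem exists_fixed_pt {h : G} (hh : h ∈ centralizer ({z} : Set G)) (ho : Δ.Γ.ph h ∉ innerM22)
    {g : G} (hg : Pt z g) (hn : Δ.Γ.ph h ∈ normalizer (Δ.Γ.imgA g : Set AutM22)) :
    ∃ q ∈ P, q * (g * z * g⁻¹) * q⁻¹ ∈ Δ.Γ.fixZ h := by
  set Γ := Δ.Γ
  obtain ⟨hpt, himg⟩ := Γ.imgA_conj hg hh
  rw [cj_eq_of_mem_normalizer hn] at himg
  obtain ⟨r, hr, hEq⟩ := Γ.point_of_imgA hg hpt himg.ge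
  rw [show h * g * z * (h * g)⁻¹ = h * (g * z * g⁻¹) * h⁻¹ by group] at hEq
  have hq : r * r ∈ P := mul_mem hr hr
  refine ⟨r * r, hq, Γ.mem_fixZ.2 ⟨Γ.conj_core (Γ.S.P_le hq) hg.mem, ?_⟩⟩
  have h1 := Γ.outer_conj hh ho hq hg.mem
  have h2 := hEq.conj (Γ.P_comm (inv_mem hq))
  rw [inv_inv] at h2
  have h3 := Γ.eqz_trans h1 h2
  have hi : (r * r)⁻¹ * r = r * r := by
    rw [show (r * r)⁻¹ = r from inv_eq_of_mul_eq_one_left (Γ.p_cube hr)]
  rw [show (r * r)⁻¹ * (r * (g * z * g⁻¹) * r⁻¹) * (r * r) =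
    ((r * r)⁻¹ * r) * (g * z * g⁻¹) * ((r * r)⁻¹ * r)⁻¹ by group, hi] at h3
  exact h3

/-- The data for the identification of `N/A`. -/
theorem exists_starData : ∃ S : Fin 3 → Subgroup G, StarData Δ.tenN Δ.tenA (Δ.Γ.fixA Δ.U) z S := by
  classical
  set Γ := Δ.Γ
  have hU := Δ.inner_U
  obtain ⟨t, hto, htU, htA⟩ := Δ.TF.swap
  obtain ⟨h, hh, rfl⟩ := Γ.exists_ph t
  set L := Γ.fixA Δ.U ⊓ Γ.fixZ h with hL
  have hzL : z ∈ L := Subgroup.mem_inf.2 ⟨Γ.z_mem_fixA _, Γ.z_mem_fixZ hh⟩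
  have hpt : ∀ {g : G}, Pt z g → Δ.U ≤ normalizer (Γ.imgA g : Set AutM22) →
      ∃ q ∈ P, q * (g * z * g⁻¹) * q⁻¹ ∈ L := by
    intro g hg hn
    obtain ⟨q, hq, hqf⟩ := Δ.exists_fixed_pt hh hto hg (htA _ (Γ.thirtyTwo_imgA hg) hn)
    exact ⟨q, hq, Subgroup.mem_inf.2 ⟨Δ.pt_mem_fixA hU hg hn hq, hqf⟩⟩
  -- its order is 16
  have hle16 : Nat.card ↥L ≤ 16 := by
    obtain ⟨p, hp, hp1⟩ := Γ.exists_generator
    set L' := L.map (MulAut.conj p).toMonoidHom with hL'
    have hL'F : L' ≤ Γ.fixA Δ.U := by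
      rintro _ ⟨e, he, rfl⟩
      exact Γ.fixA_P hU hp he.1
    have hmeet : L ⊓ L' ≤ zpowers z := by
      rintro x ⟨hx, e, he, rfl⟩
      have hx' : p * e * p⁻¹ ∈ Γ.fixZ h := hx.2
      show p * e * p⁻¹ ∈ zpowers z
      rcases Δ.star_meet hh hto hp hp1 he.2 hx' with rfl | rfl
      · rw [mul_one, mul_inv_cancel]; exact one_mem _
      · rw [(Γ.P_comm hp).eq, mul_inv_cancel_right]; exact mem_zpowers _
    have h1 : Nat.card ↥L * Nat.card ↥L' ≤ Nat.card ↥(Γ.fixA Δ.U) * Nat.card ↥(L ⊓ L') :=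
      card_mul_le_inf inf_le_left hL'F
    rw [card_map_of_injective (MulAut.conj p).injective, Δ.fixA_octad.1] at h1
    have h2 : Nat.card ↥(L ⊓ L') ≤ 2 := (Subgroup.card_le_of_le hmeet).trans_eq Γ.S.card_zpowers_eq
    by_contra hlt
    have := Nat.mul_le_mul (show 17 ≤ Nat.card ↥L by omega) (show 17 ≤ Nat.card ↥L by omega)
    have := Nat.mul_le_mul (le_refl (2 ^ 7)) h2
    omega
  -- and it consists of `1`, `z` and one pair of each line
  set 𝒜 : Set (Subgroup AutM22) := {A | IsThirtyTwo A ∧ Δ.U ≤ normalizer (A : Set AutM22)} with h𝒜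
  choose pt hpti using fun A : 𝒜 => Δ.exists_pt_img A.2.1
  have hn : ∀ A : 𝒜, Δ.U ≤ normalizer (Γ.imgA (pt A) : Set AutM22) := fun A => by
    rw [(hpti A).2]; exact A.2.2
  choose qq hqq hqL using fun A : 𝒜 => hpt (hpti A).1 (hn A)
  let f : Option 𝒜 × Bool → G := fun x =>
    (if x.2 then z else 1) * x.1.elim 1 fun A => qq A * (pt A * z * (pt A)⁻¹) * (qq A)⁻¹
  have hmul : ∀ {b b' : Bool} {u v : G}, (if b then z else 1) * u = (if b' then z else 1) * v →
      Eqz z u v := by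
    intro b b' u v h
    rcases b <;> rcases b' <;> simp only [Bool.false_eq_true, if_false, if_true, one_mul] at h
    · exact Or.inl h
    · exact Or.inr h
    · exact Γ.eqz_symm (Or.inr h.symm)
    · exact Or.inl (mul_left_cancel h)
  have hpne : ∀ A : 𝒜, ¬ Eqz z (qq A * (pt A * z * (pt A)⁻¹) * (qq A)⁻¹) 1 := by
    rintro A (e | e)
    · exact (Γ.hub_pt (pt A)).ne_one (conj_eq_one_iff.1 e)
    · rw [mul_one] at e
      refine (hpti A).1.ne ?_
      calc pt A * z * (pt A)⁻¹ = (qq A)⁻¹ * (qq A * (pt A * z * (pt A)⁻¹) * (qq A)⁻¹) * qq A := by group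
        _ = z := by rw [e, (Γ.P_comm (inv_mem (hqq A))).eq, inv_mul_cancel_right]
  have hf : Function.Injective f := by
    rintro ⟨a, b⟩ ⟨a', b'⟩ hab
    have hEq := hmul hab
    have haa : a = a' := by
      rcases a with - | A <;> rcases a' with - | A' <;> simp only [Option.elim] at hEq
      · rfl
      · exact absurd (Γ.eqz_symm hEq) (hpne A')
      · exact absurd hEq (hpne A)
      · obtain ⟨hp, hi⟩ := Γ.imgA_P (hpti A).1 (hqq A)
        obtain ⟨hp', hi'⟩ := Γ.imgA_P (hpti A').1 (hqq A')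
        refine congrArg some (Subtype.ext ?_)
        rw [← (hpti A).2, ← (hpti A').2, ← hi, ← hi']
        refine Γ.imgA_eq_of_eqz hp' hp ?_
        rwa [show qq A * pt A * z * (qq A * pt A)⁻¹ = qq A * (pt A * z * (pt A)⁻¹) * (qq A)⁻¹ by group,
          show qq A' * pt A' * z * (qq A' * pt A')⁻¹ = qq A' * (pt A' * z * (pt A')⁻¹) * (qq A')⁻¹ by group]
    subst haa
    have hb : (if b then z else (1 : G)) = if b' then z else 1 := mul_right_cancel hab
    rcases b <;> rcases b' <;> first | rfl | (exfalso; simp at hb)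
    · exact Γ.S.hub.ne_one hb.symm
    · exact Γ.S.hub.ne_one hb
  have hfL : Set.range f ⊆ (L : Set G) := by
    rintro _ ⟨⟨a, b⟩, rfl⟩
    refine mul_mem (s := L) (by split_ifs; exacts [hzL, one_mem _]) ?_
    rcases a with - | A
    exacts [one_mem _, hqL A]
  have hrange : (Set.range f).ncard = 16 := by
    rw [← Nat.card_coe_set_eq, Nat.card_range_of_injective hf, Nat.card_prod, Finite.card_option,
      Nat.card_coe_set_eq, Δ.TF.seven, Nat.card_eq_fintype_card (α := Bool), Fintype.card_bool]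
  have hLeq : Set.range f = (L : Set G) := Set.eq_of_subset_of_ncard_le hfL (by
    rw [hrange, ← Nat.card_coe_set_eq]; exact hle16) (Set.toFinite _)
  have hL16 : Nat.card ↥L = 16 := by
    rw [← SetLike.coe_sort_coe, Nat.card_coe_set_eq, ← hLeq, hrange]
  have hLorb : ∀ v ∈ L, v ≠ 1 → v ∈ Δ.zOrb := by
    intro v hv hv1
    obtain ⟨⟨a, b⟩, rfl⟩ : v ∈ Set.range f := by rw [hLeq]; exact hv
    rcases a with - | A
    · rcases b
      · exact absurd (by simp [f]) hv1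
      · simpa [f] using Δ.z_mem_zOrb
    have hrs := Δ.zOrb_conj (Δ.P_le_tenN (hqq A)) (Δ.pt_mem_zOrb (hpti A).1 (hn A))
    simp only [f, Option.elim]
    rcases b <;> simp only [Bool.false_eq_true, if_false, if_true, one_mul]
    · exact hrs
    · obtain ⟨hp', -⟩ := Γ.imgA_P (hpti A).1 (hqq A)
      obtain ⟨e, he, heq⟩ :=
        LargeFischer.Loc.exists_flip Γ.S.hub hp'.mem (Γ.hub_pt (qq A * pt A)).ne_one hp'.ne
      have := Δ.zOrb_conj (Δ.core_le_tenN he) hrs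
      rw [show qq A * (pt A * z * (pt A)⁻¹) * (qq A)⁻¹ = qq A * pt A * z * (qq A * pt A)⁻¹ by group,
        heq] at this
      rw [show qq A * (pt A * z * (pt A)⁻¹) * (qq A)⁻¹ = qq A * pt A * z * (qq A * pt A)⁻¹ by group,
        ← (Γ.S.hub.central _ hp'.mem).eq]
      exact this
  obtain ⟨p, hp, hp1⟩ := Γ.exists_generator
  have hp3 : p ^ 3 = 1 := by rw [pow_three]; exact Γ.p_cube hp
  refine ⟨fun i => cj (p ^ (i : ℕ)) L,
    { A_le := le_normalizer
      normal := le_rfl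
      comm := Δ.tenA_comm
      sq := Δ.tenA_sq
      card_A := Δ.card_tenA
      card_N := Δ.card_tenN_eq
      self := Δ.self_tenN
      z_mem := Δ.z_mem_tenA
      z_ne := Γ.S.hub.ne_one
      orbit := Δ.ncard_zOrb
      gen := Δ.tenA_le_closure
      W_le := Γ.fixA_le_preA _
      S_le := ?_
      S_card := fun i => by rw [card_map_of_injective (MulAut.conj _).injective, hL16]
      z_mem_S := ?_
      meet := ?_
      pure := ?_
      cover := ?_
      twin := fun v hv hvz => Δ.mem_fixA_of_twin hv hvz }⟩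
  · intro i v hv
    rw [mem_cj_iff] at hv
    have := Γ.fixA_P hU (pow_mem hp i) hv.1
    rwa [show p ^ (i : ℕ) * ((p ^ (i : ℕ))⁻¹ * v * p ^ (i : ℕ)) * (p ^ (i : ℕ))⁻¹ = v by group] at this
  · intro i
    rw [mem_cj_iff, (Γ.P_comm (inv_mem (pow_mem hp i))).eq, inv_mul_cancel_right]
    exact hzL
  · intro i j hij v hvi hvj
    rw [mem_cj_iff] at hvi hvj
    set ri := p ^ (i : ℕ) with hri
    set rj := p ^ (j : ℕ) with hrj
    have hne : rj⁻¹ * ri ≠ 1 := by
      intro e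
      have e' : rj = ri := inv_mul_eq_one.1 e
      have ho : orderOf p = 3 := orderOf_eq_prime (hp := ⟨Nat.prime_three⟩) hp3 hp1
      exact hij (Fin.ext (pow_injOn_Iio_orderOf (by rw [ho]; exact i.2) (by rw [ho]; exact j.2) e'.symm))
    have hrP : rj⁻¹ * ri ∈ P := mul_mem (inv_mem (pow_mem hp _)) (pow_mem hp _)
    have hri2 : rj⁻¹ * ri * (ri⁻¹ * v * ri) * (rj⁻¹ * ri)⁻¹ = rj⁻¹ * v * rj := by group
    have hv : v = ri * (ri⁻¹ * v * ri) * ri⁻¹ := by group
    rcases Δ.star_meet hh hto hrP hne hvi.2 (hri2.symm ▸ hvj.2) with e | e <;> rw [e] at hv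
    · left; rw [hv]; group
    · right; rw [hv, (Γ.P_comm (pow_mem hp _)).eq, mul_inv_cancel_right]
  · intro i v hv hv1
    rw [mem_cj_iff] at hv
    have h1 := hLorb _ hv fun e => hv1 (by
      calc v = p ^ (i : ℕ) * ((p ^ (i : ℕ))⁻¹ * v * p ^ (i : ℕ)) * (p ^ (i : ℕ))⁻¹ := by group
        _ = 1 := by rw [e]; group)
    have h2 := Δ.zOrb_conj (Δ.P_le_tenN (pow_mem hp (i : ℕ))) h1
    rwa [show p ^ (i : ℕ) * ((p ^ (i : ℕ))⁻¹ * v * p ^ (i : ℕ)) * (p ^ (i : ℕ))⁻¹ = v by group] at h2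
  · intro v hvF hv
    rcases Δ.zOrb_fix hvF hv with rfl | ⟨g, hg, hgn, rfl⟩
    · exact ⟨0, by rw [mem_cj_iff]; simpa using hzL⟩
    obtain ⟨q, hq, hqL'⟩ := hpt hg hgn
    obtain ⟨i, hi3, hi⟩ : ∃ i : ℕ, i < 3 ∧ p ^ i = q⁻¹ := by
      have hm : q⁻¹ ∈ zpowers p := Γ.zpowers_eq hp hp1 ▸ inv_mem hq
      rcases cases_zpowers_three hp3 hm with e | e | e
      · exact ⟨0, by norm_num, by rw [e, pow_zero]⟩
      · exact ⟨1, by norm_num, by rw [e, pow_one]⟩
      · exact ⟨2, by norm_num, by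
          rw [e, pow_two]; exact eq_inv_of_mul_eq_one_left (by rw [mul_assoc]; exact Γ.p_cube hp)⟩
    refine ⟨⟨i, hi3⟩, ?_⟩
    rw [mem_cj_iff]
    show (p ^ i)⁻¹ * (g * z * g⁻¹) * p ^ i ∈ L
    rw [hi, inv_inv]
    exact hqL'

/-- `tenA` has no proper nontrivial subgroup invariant under its normaliser. -/
theorem irreducible {W : Subgroup G} (hW : W ≤ Δ.tenA) (hN : Δ.tenN ≤ normalizer (W : Set G)) :
    W = ⊥ ∨ W = Δ.tenA := by
  classical
  set Γ := Δ.Γ
  by_cases hbot : W = ⊥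
  · exact Or.inl hbot
  right
  have : Fact (Nat.Prime 2) := ⟨Nat.prime_two⟩
  let act : MulAction ↥(coreE z) ↥W :=
    { smul := fun e w => ⟨(e : G) * w * (e : G)⁻¹,
        inv_conj_mem_normalizer (hN (Δ.core_le_tenN e.2)) w.2⟩
      one_smul := fun w => Subtype.ext (show ((1 : ↥(coreE z)) : G) * w * ((1 : ↥(coreE z)) : G)⁻¹ = w by simp)
      mul_smul := fun a b w => Subtype.ext (show ((a * b : ↥(coreE z)) : G) * w *
        ((a * b : ↥(coreE z)) : G)⁻¹ = (a : G) * ((b : G) * w * (b : G)⁻¹) * (a : G)⁻¹ by push_cast; group) }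
  letI := act
  have hmod := (Γ.core_two : IsPGroup 2 ↥(coreE z)).card_modEq_card_fixedPoints ↥W
  have h2 : 2 ∣ Nat.card ↥W := by
    obtain ⟨m, hm, hmc⟩ := (Nat.dvd_prime_pow Nat.prime_two).1 (Δ.card_tenA ▸ card_dvd_of_le hW)
    have : m ≠ 0 := fun e => hbot (eq_bot_of_card_eq _ (by rw [hmc, e, pow_zero]))
    exact hmc ▸ dvd_pow_self 2 this
  obtain ⟨w, hw1, hwfix⟩ : ∃ w : ↥W, w ≠ 1 ∧ w ∈ MulAction.fixedPoints ↥(coreE z) ↥W := by
    by_contra hno
    push Not at hno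
    have heq : MulAction.fixedPoints ↥(coreE z) ↥W = {1} := by
      refine Set.Subset.antisymm (fun w hw => by_contra fun h => hno w h hw) ?_
      rintro w rfl e
      refine Subtype.ext ?_
      show (e : G) * 1 * (e : G)⁻¹ = 1
      group
    rw [heq, Nat.card_coe_set_eq, Set.ncard_singleton] at hmod
    have h0 : Nat.card ↥W % 2 = 0 := Nat.mod_eq_zero_of_dvd h2
    unfold Nat.ModEq at hmod
    omega
  have hzW : z ∈ W := by
    rcases Γ.S.hub.self (w : G) (fun e he => (mul_inv_eq_iff_eq_mul.1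
      (congrArg Subtype.val (hwfix ⟨e, he⟩) : e * (w : G) * e⁻¹ = w)).symm) with h | h
    · exact absurd (Subtype.ext h) hw1
    · exact h ▸ w.2
  refine le_antisymm hW (Δ.tenA_le_closure.trans ((closure_le _).2 ?_))
  rintro _ ⟨n, hn, rfl⟩
  exact inv_conj_mem_normalizer (hN hn) hzW

end TenH

end Cfsg.Agent.JankoFour
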