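import Cfsg.Agent.Lib.JankoFour.TenTwoInterface

/-!
# The 31 stars in a self-centralising `2^10` (S5570, S5571)

From `StarData`: a star is a subgroup of order 16 of `A` whose involutions are conjugates of `z`.
Through each of the 155 conjugates of `z` there are exactly three stars, two different stars meet in
exactly one of the conjugates, and there are 31 stars.
-/

set_option autoImplicit false

namespace Cfsg.Agent.JankoFour

open Subgroup

variable {G : Type*} [Group G]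

/-- A subgroup of order 16 of `A` whose nonidentity elements are conjugate to `z` under `N`. -/
structure IsStarSub (N A : Subgroup G) (z : G) (T : Subgroup G) : Prop where
  le : T ≤ A
  card : Nat.card ↥T = 16
  pure : ∀ v ∈ T, v ≠ 1 → v ∈ orbitIn N z

/-- The type of stars. -/
abbrev StarType (N A : Subgroup G) (z : G) : Type _ := {T : Subgroup G // IsStarSub N A z T}

/-- Three different stars with a common point. -/
structure StarLine {N A : Subgroup G} {z : G} (T T' R : StarType N A z) : Prop where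
  ne₁ : T ≠ T'
  ne₂ : T ≠ R
  ne₃ : T' ≠ R
  common : ∃ x, x ≠ 1 ∧ x ∈ T.1 ∧ x ∈ T'.1 ∧ x ∈ R.1

namespace StarData

variable {N A W : Subgroup G} {z : G} {S : Fin 3 → Subgroup G}

theorem z_mem_orbit : z ∈ orbitIn N z := ⟨1, one_mem _, by group⟩

theorem conj_orbit {n v : G} (hn : n ∈ N) (hv : v ∈ orbitIn N z) : n * v * n⁻¹ ∈ orbitIn N z := by
  obtain ⟨m, hm, rfl⟩ := hv
  exact ⟨n * m, mul_mem hn hm, by group⟩

theorem cj_cj (n m : G) (T : Subgroup G) : cj n (cj m T) = cj (n * m) T := by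
  rw [cj, cj, cj, map_map]; congr 1; ext x; simp [mul_assoc]

theorem mem_cj {n x : G} {T : Subgroup G} : x ∈ cj n T ↔ n⁻¹ * x * n ∈ T := by
  constructor
  · rintro ⟨t, ht, rfl⟩
    simpa [mul_assoc] using ht
  · exact fun h => ⟨_, h, by simp [mul_assoc]⟩

theorem card_offDiag (α : Type*) [Finite α] :
    Nat.card {p : α × α // p.1 ≠ p.2} = Nat.card α * Nat.card α - Nat.card α := by
  classical
  cases nonempty_fintype α
  rw [Nat.card_eq_fintype_card, Nat.card_eq_fintype_card (α := α), Fintype.card_subtype,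
    ← Finset.card_univ (α := α), ← Finset.offDiag_card]
  congr 1
  ext p; simp [Finset.mem_offDiag]

variable (D : StarData N A W z S)
include D

theorem conj_mem {n a : G} (hn : n ∈ N) (ha : a ∈ A) : n * a * n⁻¹ ∈ A :=
  (mem_normalizer_iff.1 (D.normal hn) a).1 ha

theorem orbit_mem {v : G} (hv : v ∈ orbitIn N z) : v ∈ A := by
  obtain ⟨n, hn, rfl⟩ := hv
  exact D.conj_mem hn D.z_mem

theorem orbit_ne_one {v : G} (hv : v ∈ orbitIn N z) : v ≠ 1 := by
  obtain ⟨n, hn, rfl⟩ := hv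
  exact fun h => D.z_ne (conj_eq_one_iff.1 h)

theorem inv_eq {a : G} (ha : a ∈ A) : a⁻¹ = a := inv_eq_of_mul_eq_one_right (D.sq a ha)

theorem mul_mul_cancel {a b : G} (ha : a ∈ A) : a * (a * b) = b := by
  rw [← mul_assoc, D.sq a ha, one_mul]

theorem isStar_map {n : G} (hn : n ∈ N) {T : Subgroup G} (hT : IsStarSub N A z T) :
    IsStarSub N A z (cj n T) := by
  refine ⟨?_, (card_map_of_injective (MulAut.conj n).injective).trans hT.card, ?_⟩
  · rintro _ ⟨t, ht, rfl⟩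
    exact D.conj_mem hn (hT.le ht)
  · rintro _ ⟨t, ht, rfl⟩ h
    exact conj_orbit hn (hT.pure t ht fun e => h (by rw [e]; exact map_one _))

/-- A conjugate of a star. -/
def starMap {n : G} (hn : n ∈ N) (T : StarType N A z) : StarType N A z :=
  ⟨cj n T.1, D.isStar_map hn T.2⟩

/-- One of the three given stars. -/
def base (i : Fin 3) : StarType N A z :=
  ⟨S i, (D.S_le i).trans D.W_le, D.S_card i, D.pure i⟩

theorem base_inj {i j : Fin 3} (h : S i = S j) : i = j := by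
  by_contra hij
  have hsub : ((S i : Set G)) ⊆ {1, z} := fun v hv => by
    rcases D.meet i j hij v hv (h ▸ hv) with e | e <;> simp [e]
  have := Set.ncard_le_ncard hsub (Set.toFinite _)
  rw [← Nat.card_coe_set_eq, SetLike.coe_sort_coe, D.S_card i] at this
  have h2 := this.trans (Set.ncard_insert_le 1 {z})
  simp at h2

theorem star_at_z (T : StarType N A z) (hz : z ∈ T.1) : ∃ i, T = D.base i := by
  have hcases : ∀ v ∈ T.1, v ≠ 1 → v ≠ z → ∃ i, v ∈ S i := by
    intro v hv h1 hvz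
    have hvA := T.2.le hv
    have hne : v * z ≠ 1 := fun e => hvz (by
      rw [← D.inv_eq D.z_mem]; exact eq_inv_of_mul_eq_one_left e)
    exact D.cover v (D.twin v (T.2.pure v hv h1) (T.2.pure _ (mul_mem hv hz) hne)) (T.2.pure v hv h1)
  by_cases hsame : ∃ i, T.1 ≤ S i
  · obtain ⟨i, hi⟩ := hsame
    have : Finite ↥(S i) := Nat.finite_of_card_ne_zero (by rw [D.S_card i]; norm_num)
    exact ⟨i, Subtype.ext (show T.1 = S i from
      eq_of_le_of_card_ge hi (by rw [D.S_card i, T.2.card]))⟩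
  exfalso
  push Not at hsame
  -- members of `T` in one star differ by a power of `z`
  have hpair : ∀ l, ∀ u ∈ T.1, ∀ u' ∈ T.1, u ∈ S l → u' ∈ S l → u ≠ 1 → u ≠ z → u' ≠ 1 → u' ≠ z →
      u' = u ∨ u' = u * z := by
    intro l u hu u' hu' hul hu'l hu1 huz hu'1 hu'z
    obtain ⟨v, hv, hvl⟩ := Set.not_subset.1 (hsame l)
    have hv1 : v ≠ 1 := fun e => hvl (e ▸ one_mem _)
    have hvz : v ≠ z := fun e => hvl (e ▸ D.z_mem_S l)
    obtain ⟨j, hvj⟩ := hcases v hv hv1 hvz
    have hjl : j ≠ l := fun e => hvl (e ▸ hvj)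
    have third : ∀ {w : G}, w ∈ T.1 → w ∈ S l → w ≠ 1 → w ≠ z → ∃ k, k ≠ l ∧ k ≠ j ∧ w * v ∈ S k := by
      intro w hw hwl hw1 hwz
      have h1 : w * v ≠ 1 := fun e => hvl ((eq_inv_of_mul_eq_one_right e) ▸ inv_mem hwl)
      have h2 : w * v ≠ z := fun e => hvl (by
        have : v = w⁻¹ * z := by rw [← e]; group
        exact this ▸ mul_mem (inv_mem hwl) (D.z_mem_S l))
      obtain ⟨k, hk⟩ := hcases _ (mul_mem hw hv) h1 h2
      refine ⟨k, fun e => hvl (((S l).mul_mem_cancel_left hwl).1 (e ▸ hk)), fun e => ?_, hk⟩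
      rcases D.meet l j hjl.symm w hwl (((S j).mul_mem_cancel_right hvj).1 (e ▸ hk)) with e' | e'
      exacts [hw1 e', hwz e']
    obtain ⟨k, hkl, hkj, hk⟩ := third hu hul hu1 huz
    obtain ⟨k', hk'l, hk'j, hk'⟩ := third hu' hu'l hu'1 hu'z
    have hkk : k' = k := by omega
    have hprod : u * u' ∈ S k := by
      have := mul_mem hk (hkk ▸ hk')
      have hvA := T.2.le hv
      rwa [show u * v * (u' * v) = u * (v * u') * v by group,
        D.comm v hvA u' (T.2.le hu'), show u * (u' * v) * v = u * u' * (v * v) by group,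
        D.sq v hvA, mul_one] at this
    have huA := T.2.le hu
    rcases D.meet k l hkl _ hprod (mul_mem hul hu'l) with e | e
    · left; rw [← D.mul_mul_cancel huA (b := u'), e, mul_one]
    · right; rw [← D.mul_mul_cancel huA (b := u'), e]
  classical
  let rep : Option (Fin 3) → G
    | none => 1
    | some l => if h : ∃ u ∈ T.1, u ∈ S l ∧ u ≠ 1 ∧ u ≠ z then h.choose else 1
  let f : Option (Fin 3) × Bool → G := fun p => rep p.1 * if p.2 then z else 1
  have hsub : (T.1 : Set G) ⊆ f '' Set.univ := by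
    intro v hv
    by_cases h1 : v = 1
    · exact ⟨(none, false), trivial, by simp [f, rep, h1]⟩
    by_cases hvz : v = z
    · exact ⟨(none, true), trivial, by simp [f, rep, hvz]⟩
    obtain ⟨l, hl⟩ := hcases v hv h1 hvz
    have h : ∃ u ∈ T.1, u ∈ S l ∧ u ≠ 1 ∧ u ≠ z := ⟨v, hv, hl, h1, hvz⟩
    obtain ⟨hc1, hc2, hc3, hc4⟩ := h.choose_spec
    rcases hpair l _ hc1 v hv hc2 hl hc3 hc4 h1 hvz with e | e
    · exact ⟨(some l, false), trivial, by simp [f, rep, dif_pos h, ← e]⟩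
    · exact ⟨(some l, true), trivial, by simp [f, rep, dif_pos h, ← e]⟩
  have hle := (Set.ncard_le_ncard hsub (Set.toFinite _)).trans (Set.ncard_image_le (Set.toFinite _))
  rw [Set.ncard_univ, ← Nat.card_coe_set_eq, SetLike.coe_sort_coe, T.2.card] at hle
  simp at hle

/-- The stars through a point. -/
theorem stars_through {y : G} (hy : y ∈ orbitIn N z) :
    ∃ f : Fin 3 → StarType N A z, Function.Injective f ∧ (∀ i, y ∈ (f i).1) ∧
      ∀ T : StarType N A z, y ∈ T.1 → ∃ i, f i = T := by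
  obtain ⟨n, hn, rfl⟩ := hy
  refine ⟨fun i => D.starMap hn (D.base i), fun i j h => ?_, fun i => ⟨z, D.z_mem_S i, rfl⟩,
    fun T hT => ?_⟩
  · exact D.base_inj (map_injective (MulAut.conj n).injective (congrArg Subtype.val h))
  · have hz : z ∈ cj n⁻¹ T.1 := mem_cj.2 (by simpa [mul_assoc] using hT)
    obtain ⟨i, hi⟩ := D.star_at_z (D.starMap (inv_mem hn) T) hz
    refine ⟨i, Subtype.ext ?_⟩
    show cj n (D.base i).1 = T.1
    rw [← hi]
    show cj n (cj n⁻¹ T.1) = T.1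
    rw [cj_cj, mul_inv_cancel]
    ext x; simp

/-- Two stars have at most one common point. -/
theorem point_unique {T T' : StarType N A z} (h : T ≠ T') {u v : G} (hu : u ∈ T.1) (hu' : u ∈ T'.1)
    (hv : v ∈ T.1) (hv' : v ∈ T'.1) (hu1 : u ≠ 1) (hv1 : v ≠ 1) : v = u := by
  obtain ⟨n, hn, rfl⟩ := T.2.pure u hu hu1
  have key : ∀ R : StarType N A z, n * z * n⁻¹ ∈ R.1 → ∃ i, cj n⁻¹ R.1 = S i := fun R hR => by
    obtain ⟨i, hi⟩ := D.star_at_z (D.starMap (inv_mem hn) R)
      (mem_cj.2 (by simpa [mul_assoc] using hR))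
    exact ⟨i, congrArg Subtype.val hi⟩
  obtain ⟨i, hi⟩ := key T hu
  obtain ⟨j, hj⟩ := key T' hu'
  have hij : i ≠ j := fun e => h (Subtype.ext
    (map_injective (MulAut.conj n⁻¹).injective (hi.trans ((congrArg S e).trans hj.symm))))
  have h1 : n⁻¹ * v * n ∈ S i := hi ▸ mem_cj.2 (by simpa [mul_assoc] using hv)
  have h2 : n⁻¹ * v * n ∈ S j := hj ▸ mem_cj.2 (by simpa [mul_assoc] using hv')
  rcases D.meet i j hij _ h1 h2 with e | e
  · exfalso
    refine hv1 ?_
    calc v = n * (n⁻¹ * v * n) * n⁻¹ := by group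
      _ = 1 := by rw [e]; group
  · calc v = n * (n⁻¹ * v * n) * n⁻¹ := by group
      _ = n * z * n⁻¹ := by rw [e]

/-- A star through two points whose product is a point. -/
theorem exists_star_pair {u v : G} (hu : u ∈ orbitIn N z) (hv : v ∈ orbitIn N z)
    (huv : v * u ∈ orbitIn N z) : ∃ T : StarType N A z, u ∈ T.1 ∧ v ∈ T.1 := by
  obtain ⟨n, hn, rfl⟩ := hu
  have hv' := conj_orbit (inv_mem hn) hv
  have hp : n⁻¹ * v * n * z ∈ orbitIn N z := by
    have := conj_orbit (inv_mem hn) huv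
    rwa [inv_inv, show n⁻¹ * (v * (n * z * n⁻¹)) * n = n⁻¹ * v * n * z by group] at this
  rw [inv_inv] at hv'
  obtain ⟨i, hi⟩ := D.cover _ (D.twin _ hv' hp) hv'
  exact ⟨D.starMap hn (D.base i), ⟨z, D.z_mem_S i, rfl⟩, mem_cj.2 hi⟩

/-- A point product of two points on different stars through `x` is on the third one. -/
theorem exists_third_mem {T T' : StarType N A z} (h : T ≠ T') {x u v : G} (hx1 : x ≠ 1) (hxT : x ∈ T.1)
    (hxT' : x ∈ T'.1) (hu : u ∈ T.1) (hv : v ∈ T'.1) (hu1 : u ≠ 1) (hux : u ≠ x) (hv1 : v ≠ 1)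
    (hvx : v ≠ x) (huv : u * v ∈ orbitIn N z) : ∃ R, StarLine T T' R ∧ x ∈ R.1 ∧ u * v ∈ R.1 := by
  obtain ⟨n, hn, rfl⟩ := T.2.pure x hxT hx1
  have key : ∀ R : StarType N A z, n * z * n⁻¹ ∈ R.1 → ∃ i, cj n⁻¹ R.1 = S i := fun R hR => by
    obtain ⟨i, hi⟩ := D.star_at_z (D.starMap (inv_mem hn) R)
      (mem_cj.2 (by simpa [mul_assoc] using hR))
    exact ⟨i, congrArg Subtype.val hi⟩
  obtain ⟨i, hi⟩ := key T hxT
  obtain ⟨j, hj⟩ := key T' hxT'
  have hui : n⁻¹ * u * n ∈ S i := hi ▸ mem_cj.2 (by simpa [mul_assoc] using hu)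
  have hvj : n⁻¹ * v * n ∈ S j := hj ▸ mem_cj.2 (by simpa [mul_assoc] using hv)
  have hp : n⁻¹ * (u * v) * n ∈ orbitIn N z := by simpa using conj_orbit (inv_mem hn) huv
  have hW : n⁻¹ * (u * v) * n ∈ W := by
    rw [show n⁻¹ * (u * v) * n = n⁻¹ * u * n * (n⁻¹ * v * n) by group]
    exact mul_mem (D.S_le i hui) (D.S_le j hvj)
  obtain ⟨k, hk⟩ := D.cover _ hW hp
  have hR : u * v ∈ (D.starMap hn (D.base k)).1 := mem_cj.2 hk
  have hxR : n * z * n⁻¹ ∈ (D.starMap hn (D.base k)).1 := ⟨z, D.z_mem_S k, rfl⟩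
  refine ⟨D.starMap hn (D.base k), ⟨h, fun e => ?_, fun e => ?_, ⟨_, hx1, hxT, hxT', hxR⟩⟩, hxR, hR⟩
  · exact hvx (D.point_unique h hxT hxT' ((T.1.mul_mem_cancel_left hu).1 (e ▸ hR)) hv hx1 hv1)
  · exact hux (D.point_unique h hxT hxT' hu ((T'.1.mul_mem_cancel_right hv).1 (e ▸ hR)) hx1 hu1)

/-- The third star at the common point of two. -/
theorem exists_line {T T' : StarType N A z} (h : T ≠ T') {x : G} (hx1 : x ≠ 1) (hx : x ∈ T.1)
    (hx' : x ∈ T'.1) : ∃ R, StarLine T T' R ∧ x ∈ R.1 := by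
  obtain ⟨f, hf, hfx, hall⟩ := D.stars_through (T.2.pure x hx hx1)
  obtain ⟨i, rfl⟩ := hall T hx
  obtain ⟨j, rfl⟩ := hall T' hx'
  have hij : i ≠ j := fun e => h (congrArg f e)
  have hk3 : ∀ i j : Fin 3, ∃ k, k ≠ i ∧ k ≠ j := by decide
  obtain ⟨k, hki, hkj⟩ := hk3 i j
  exact ⟨f k, ⟨h, fun e => hki (hf e).symm, fun e => hkj (hf e).symm, ⟨x, hx1, hfx i, hfx j, hfx k⟩⟩,
    hfx k⟩

theorem line_unique {T T' R R' : StarType N A z} (h : StarLine T T' R) (h' : StarLine T T' R') :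
    R = R' := by
  obtain ⟨x, hx1, hxT, hxT', hxR⟩ := h.common
  obtain ⟨y, hy1, hyT, hyT', hyR'⟩ := h'.common
  obtain rfl := D.point_unique h.ne₁ hxT hxT' hyT hyT' hx1 hy1
  obtain ⟨f, hf, hfx, hall⟩ := D.stars_through (T.2.pure _ hxT hx1)
  obtain ⟨i, rfl⟩ := hall T hxT
  obtain ⟨j, rfl⟩ := hall T' hxT'
  obtain ⟨k, rfl⟩ := hall R hxR
  obtain ⟨l, rfl⟩ := hall R' hyR'
  have h1 : i ≠ j := fun e => h.ne₁ (congrArg f e)
  have h2 : i ≠ k := fun e => h.ne₂ (congrArg f e)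
  have h3 : j ≠ k := fun e => h.ne₃ (congrArg f e)
  have h4 : i ≠ l := fun e => h'.ne₂ (congrArg f e)
  have h5 : j ≠ l := fun e => h'.ne₃ (congrArg f e)
  exact congrArg f (by omega)

/-- A star through the common point of a line is one of its three members. -/
theorem line_cases {T T' R : StarType N A z} (h : StarLine T T' R) {x : G} (hx1 : x ≠ 1)
    (hx : x ∈ T.1) (hx' : x ∈ T'.1) {U : StarType N A z} (hU : x ∈ U.1) : U = T ∨ U = T' ∨ U = R := by
  by_cases h1 : U = T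
  · exact Or.inl h1
  by_cases h2 : U = T'
  · exact Or.inr (Or.inl h2)
  exact Or.inr (Or.inr (D.line_unique ⟨h.ne₁, Ne.symm h1, Ne.symm h2, ⟨x, hx1, hx, hx', hU⟩⟩ h))

omit D in
theorem card_points (T : StarType N A z) : Nat.card {v : G // v ∈ T.1 ∧ v ≠ 1} = 15 := by
  have e : {v : G | v ∈ T.1 ∧ v ≠ 1} = (T.1 : Set G) \ {1} := by ext v; simp
  show Nat.card ↥{v : G | v ∈ T.1 ∧ v ≠ 1} = 15
  rw [Nat.card_coe_set_eq, e, Set.ncard_sdiff_singleton_of_mem T.1.one_mem, ← Nat.card_coe_set_eq,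
    SetLike.coe_sort_coe, T.2.card]

theorem card_at {y : G} (hy : y ∈ orbitIn N z) : Nat.card {T : StarType N A z // y ∈ T.1} = 3 := by
  obtain ⟨f, hf, hfy, hall⟩ := D.stars_through hy
  refine (Nat.card_congr (Equiv.ofBijective (fun i => (⟨f i, hfy i⟩ : {T : StarType N A z // y ∈ T.1}))
    ⟨fun i j h => hf (congrArg Subtype.val h), fun T => ?_⟩)).symm.trans (Nat.card_fin 3)
  obtain ⟨i, hi⟩ := hall T.1 T.2
  exact ⟨i, Subtype.ext hi⟩

variable [Finite G]

theorem card_star : Nat.card (StarType N A z) = 31 := by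
  classical
  let e : (Σ T : StarType N A z, {v : G // v ∈ T.1 ∧ v ≠ 1}) ≃
      Σ y : ↥(orbitIn N z), {T : StarType N A z // (y : G) ∈ T.1} :=
    { toFun := fun p => ⟨⟨p.2.1, p.1.2.pure _ p.2.2.1 p.2.2.2⟩, p.1, p.2.2.1⟩
      invFun := fun p => ⟨p.2.1, p.1.1, p.2.2, D.orbit_ne_one p.1.2⟩
      left_inv := fun _ => rfl
      right_inv := fun _ => rfl }
  cases nonempty_fintype (StarType N A z)
  cases nonempty_fintype ↥(orbitIn N z)
  have h := Nat.card_congr e
  rw [Nat.card_sigma, Nat.card_sigma, Finset.sum_congr rfl (fun T _ => card_points T),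
    Finset.sum_congr rfl (fun y _ => D.card_at y.2), Finset.sum_const, Finset.sum_const,
    Finset.card_univ, Finset.card_univ, ← Nat.card_eq_fintype_card, ← Nat.card_eq_fintype_card,
    Nat.card_coe_set_eq, D.orbit, smul_eq_mul, smul_eq_mul] at h
  omega

/-- Two different stars have a common point. -/
theorem exists_point {T T' : StarType N A z} (h : T ≠ T') : ∃ x, x ≠ 1 ∧ x ∈ T.1 ∧ x ∈ T'.1 := by
  classical
  let At : ↥(orbitIn N z) → Type _ := fun y => {T : StarType N A z // (y : G) ∈ T.1}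
  let f : (Σ y : ↥(orbitIn N z), {p : At y × At y // p.1 ≠ p.2}) →
      {p : StarType N A z × StarType N A z // p.1 ≠ p.2} :=
    fun q => ⟨(q.2.1.1.1, q.2.1.2.1), fun e => q.2.2 (Subtype.ext e)⟩
  have hf : Function.Injective f := by
    rintro ⟨⟨y, hy⟩, ⟨⟨a, ha⟩, ⟨b, hb⟩⟩, hab⟩ ⟨⟨y', hy'⟩, ⟨⟨a', ha'⟩, ⟨b', hb'⟩⟩, hab'⟩ e
    have e1 : a = a' := congrArg (fun q => q.1.1) e
    have e2 : b = b' := congrArg (fun q => q.1.2) e
    subst e1 e2
    obtain rfl := D.point_unique (fun e => hab (Subtype.ext e)) ha' hb' ha hb (D.orbit_ne_one hy')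
      (D.orbit_ne_one hy)
    rfl
  cases nonempty_fintype ↥(orbitIn N z)
  have hcard : Nat.card (Σ y : ↥(orbitIn N z), {p : At y × At y // p.1 ≠ p.2}) =
      Nat.card {p : StarType N A z × StarType N A z // p.1 ≠ p.2} := by
    rw [Nat.card_sigma, card_offDiag, D.card_star,
      Finset.sum_congr rfl (fun y _ => (card_offDiag (At y)).trans (by rw [D.card_at y.2])),
      Finset.sum_const, Finset.card_univ, ← Nat.card_eq_fintype_card, Nat.card_coe_set_eq, D.orbit,
      smul_eq_mul]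
  obtain ⟨⟨y, ⟨a, b⟩, hab⟩, hq⟩ :=
    ((Nat.bijective_iff_injective_and_card f).2 ⟨hf, hcard⟩).2 ⟨(T, T'), h⟩
  have e1 : a.1 = T := congrArg (fun q => q.1.1) hq
  have e2 : b.1 = T' := congrArg (fun q => q.1.2) hq
  exact ⟨y, D.orbit_ne_one y.2, e1 ▸ a.2, e2 ▸ b.2⟩

theorem exists_starLine {T T' : StarType N A z} (h : T ≠ T') : ∃ R, StarLine T T' R := by
  obtain ⟨x, hx1, hx, hx'⟩ := D.exists_point h
  exact (D.exists_line h hx1 hx hx').imp fun R hR => hR.1

end StarData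

end Cfsg.Agent.JankoFour
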