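import Cfsg.Agent.Lib.JankoFour.TenTwoBuild

/-!
# Self-centralising `2^10` in Janko-four type: uniqueness

* `exists_conj_tenA`: a self-centralising elementary abelian subgroup of order `2^10` through `z`
  is an `H`-conjugate of `tenA`;
* `exists_conj_any`: any self-centralising elementary abelian subgroup of order `2^10` is a conjugate;
* `exists_normalizer_conj_z`: the conjugates of `z` in `tenA` form one orbit of `N(tenA)`.
-/

set_option autoImplicit false
set_option linter.unusedSectionVars false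

namespace Cfsg.Agent.JankoFour

open Subgroup
open scoped commutatorElement Pointwise
open LargeExtraspecial (Hub Pair mem_conj_iff)

variable {G : Type*} [Group G] {z : G} {P : Subgroup G}

/-- A self-centralising elementary abelian subgroup of order `2^10`. -/
structure IsTenSelf (A : Subgroup G) : Prop where
  sq : ∀ a ∈ A, a * a = 1
  card : Nat.card ↥A = 2 ^ 10
  self : centralizer (A : Set G) = A

theorem IsTenSelf.map_conj [Finite G] {A : Subgroup G} (hA : IsTenSelf A) (x : G) :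
    IsTenSelf (A.map (MulAut.conj x).toMonoidHom) := by
  refine ⟨?_, by rw [card_map_of_injective (MulAut.conj x).injective, hA.card], le_antisymm ?_ ?_⟩
  · rintro _ ⟨a, ha, rfl⟩
    rw [← map_mul, hA.sq a ha, map_one]
  · intro c hc
    refine ⟨x⁻¹ * c * x, ?_, by show x * (x⁻¹ * c * x) * x⁻¹ = c; group⟩
    rw [SetLike.mem_coe, ← hA.self]
    refine mem_centralizer_iff.2 fun a ha => ?_
    have h : x * a * x⁻¹ * c = c * (x * a * x⁻¹) := hc (x * a * x⁻¹) ⟨a, ha, rfl⟩
    calc a * (x⁻¹ * c * x) = x⁻¹ * (x * a * x⁻¹ * c) * x := by group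
      _ = x⁻¹ * (c * (x * a * x⁻¹)) * x := by rw [h]
      _ = x⁻¹ * c * x * a := by group
  · rintro _ ⟨a, ha, rfl⟩
    refine mem_centralizer_iff.2 ?_
    rintro _ ⟨b, hb, rfl⟩
    rw [← map_mul, ← map_mul, comm_of_sq hA.sq b hb a ha]

namespace Ctx

variable [Finite G] (Γ : Ctx z P)

include Γ

/-- An element over the image of a lift, of square in `E`, differs from the lift by an element of `E`. -/
theorem mul_lift_inv_mem {b : AutM22} {a x : G} (ha : a ∈ centralizer ({z} : Set G)) (hab : Γ.ph a = b)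
    (ha2 : a * a ∈ coreE z) (hx : Γ.Lifts b x) : a * x⁻¹ ∈ coreE z := by
  obtain ⟨e, he, q, hq, heq⟩ := Γ.exists_ep (mul_mem ha (inv_mem hx.mem.1))
    (by rw [Γ.ph_mul ha (inv_mem hx.mem.1), Γ.ph_inv hx.mem.1, hab, hx.img, mul_inv_cancel])
  have hqx : q * x * (q * x) = (q * q) * (x * x) := by
    rw [show q * x * (q * x) = q * (x * q) * x by group, (Γ.P_comm_X hx.mem hq).eq]; group
  have haq : a = e * (q * x) := by rw [← mul_assoc, ← heq]; group
  have h1 : q * x * (q * x) ∈ coreE z := by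
    rw [haq, show e * (q * x) * (e * (q * x)) =
      e * (q * x * e * (q * x)⁻¹) * (q * x * (q * x)) by group] at ha2
    exact ((coreE z).mul_mem_cancel_left
      (mul_mem he (Γ.conj_core (mul_mem (Γ.S.P_le hq) hx.mem.1) he))).1 ha2
  rw [hqx] at h1
  have hqq : q * q ∈ coreE z := ((coreE z).mul_mem_cancel_right (Lifts.core Γ hx)).1 h1
  have hq1 : q = 1 := by
    have h3 := Γ.p_cube hq
    rwa [Γ.eq_one_of_mem_core (mul_mem hq hq) hqq, mul_one] at h3
  rw [heq, hq1, mul_one]; exact he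

/-- The elements of `E` in a commutative subgroup of `H` are fixed by its image. -/
theorem inf_core_le_fixA {A : Subgroup G} (hA : A ≤ centralizer ({z} : Set G))
    (hsq : ∀ a ∈ A, a * a = 1) {V : Subgroup AutM22} (hV : V ≤ img Γ.S A) :
    A ⊓ coreE z ≤ Γ.fixA V := by
  intro e he
  refine Γ.mem_fixA.2 ⟨he.2, fun b hb x hx => ?_⟩
  obtain ⟨v, hv, hvH, hvb⟩ := Γ.exists_img (hV hb)
  refine Γ.eqz_of_same hx.mem.1 hvH (Γ.ph_X_inner hx.mem) (Lifts.core Γ hx) (hx.img.trans hvb.symm)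
    he.2 (Or.inl ?_)
  rw [comm_of_sq hsq v hv e he.1, mul_inv_cancel_right]

end Ctx

namespace TenH

variable [Finite G] (Δ : TenH z P)

include Δ

theorem card_inner_part {V : Subgroup AutM22} (hV : ¬ V ≤ innerM22) :
    Nat.card ↥V = 2 * Nat.card ↥(V ⊓ innerM22) := by
  have h1 := relIndex_mul_card (H := V ⊓ innerM22) (K := V) inf_le_left
  rw [inf_relIndex_left] at h1
  have h2 : innerM22.relIndex V ≤ 2 := by
    have := relIndex_le_of_le_right (H := innerM22) (K := V) (L := ⊤) le_top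
      (by rw [relIndex_top_right, Δ.Γ.F.index_two]; norm_num)
    rwa [relIndex_top_right, Δ.Γ.F.index_two] at this
  have h3 : innerM22.relIndex V ≠ 1 := fun e => hV (relIndex_eq_one.1 e)
  have h4 : innerM22.relIndex V ≠ 0 := by simp [relIndex, index_ne_zero_of_finite]
  have h5 : innerM22.relIndex V = 2 := by omega
  rw [h5] at h1
  omega

theorem preA_absurd {A : Subgroup G} (hA : IsTenSelf A) {V : Subgroup AutM22} (hV : InnerElem V)
    (hF : ∀ e ∈ Δ.Γ.fixA V, e * e = 1) (h7 : Nat.card ↥(Δ.Γ.fixA V) = 2 ^ 7)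
    (h16 : 16 ≤ Nat.card ↥V) (hle : A ≤ Δ.Γ.preA V) : False := by
  have hback : Δ.Γ.preA V ≤ A := fun v hv => by
    rw [← hA.self]
    exact mem_centralizer_iff.2 fun a ha => comm_of_sq (Δ.preA_elementary hV hF) a (hle ha) v hv
  have h := Subgroup.card_le_of_le hback
  rw [(Δ.preA_facts hV hF h7).2.2, hA.card] at h
  omega

/-- The image is inner. -/
theorem img_inner {A : Subgroup G} (hA : IsTenSelf A) (hH : A ≤ centralizer ({z} : Set G)) :
    Ctx.img Δ.Γ.S A ≤ innerM22 := by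
  set Γ := Δ.Γ
  set V := Ctx.img Γ.S A with hVdef
  set W := A ⊓ coreE z with hW
  have hAE : ∀ v ∈ A, v * v ∈ coreE z := fun v hv => by rw [hA.sq v hv]; exact one_mem _
  have hcard := Γ.card_img hH hAE
  rw [← hVdef, ← hW, hA.card] at hcard
  have hVsq : ∀ a ∈ V, a * a = 1 := by
    intro a ha
    obtain ⟨v, hv, hvH, rfl⟩ := Γ.exists_img ha
    rw [← Γ.ph_mul hvH hvH, hA.sq v hv, Γ.ph_one]
  have h32 := Γ.F.elem_card _ hVsq
  have hW7 : Nat.card ↥W ≤ 2 ^ 7 := by
    refine Γ.abelian_card_le (a := 1) ?_ fun x hx y hy => comm_of_sq hA.sq x hx.1 y hy.1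
    rw [Γ.eq_conjE_one]; exact inf_le_right
  by_contra ho
  have h2 := Δ.card_inner_part ho
  set V0 := V ⊓ innerM22 with hV0
  have hV0e : InnerElem V0 := ⟨inf_le_right, fun a ha => hVsq a ha.1⟩
  have h4 : 4 ≤ Nat.card ↥V0 := by
    by_contra h
    have := Nat.mul_le_mul (show Nat.card ↥V ≤ 6 by omega) hW7
    omega
  obtain ⟨b, hb, hbi⟩ := Set.not_subset.1 ho
  obtain ⟨u, huA, huH, hub⟩ := Γ.exists_img hb
  obtain ⟨p, hp, hp1⟩ := Γ.exists_generator
  set W' := W.map (MulAut.conj p).toMonoidHom with hW'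
  have hWF : W ≤ Γ.fixA V0 := Γ.inf_core_le_fixA hH hA.sq inf_le_left
  have hW'F : W' ≤ Γ.fixA V0 := by
    rintro _ ⟨e, he, rfl⟩
    exact Γ.fixA_P hV0e hp (hWF he)
  have hmeet : W ⊓ W' ≤ zpowers z := by
    rintro x ⟨hx, e, he, rfl⟩
    have hx1 : p * e * p⁻¹ ∈ W := hx
    have h1 := Γ.outer_conj huH (hub ▸ hbi) hp he.2
    rw [show u * (p * e * p⁻¹) * u⁻¹ = p * e * p⁻¹ by
      rw [comm_of_sq hA.sq u huA _ hx1.1]; group, show u * e * u⁻¹ = e by
      rw [comm_of_sq hA.sq u huA e he.1]; group] at h1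
    have h2 : Eqz z (p * p * e * (p * p)⁻¹) e := by
      have := h1.conj (Γ.P_comm hp)
      rwa [show p * (p * e * p⁻¹) * p⁻¹ = p * p * e * (p * p)⁻¹ by group,
        show p * (p⁻¹ * e * p) * p⁻¹ = e by group] at this
    have hpp : p * p ≠ 1 := fun h => hp1 (by
      have := Γ.p_cube hp
      rwa [h, mul_one] at this)
    show p * e * p⁻¹ ∈ zpowers z
    rcases Γ.eq_one_or_z_of_fixed (mul_mem hp hp) hpp he.2 h2 with rfl | rfl
    · rw [mul_one, mul_inv_cancel]; exact one_mem _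
    · rw [(Γ.P_comm hp).eq, mul_inv_cancel_right]; exact mem_zpowers _
  have h1 := card_mul_le_inf hWF hW'F
  rw [card_map_of_injective (MulAut.conj p).injective] at h1
  have h3 : Nat.card ↥(W ⊓ W') ≤ 2 := (Subgroup.card_le_of_le hmeet).trans_eq Γ.S.card_zpowers_eq
  have h5 : Nat.card ↥(Γ.fixA V0) * Nat.card ↥(W ⊓ W') ≤ 2 ^ 7 * 2 :=
    Nat.mul_le_mul (Δ.card_fixA_le hV0e h4) h3
  have h17 : 17 ≤ Nat.card ↥W := by
    by_contra h
    have := Nat.mul_le_mul h32 (show Nat.card ↥W ≤ 16 by omega)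
    omega
  have := Nat.mul_le_mul h17 h17
  omega

/-- A self-centralising elementary subgroup of order `2^10` through `z`. -/
theorem exists_conj_tenA {A : Subgroup G} (hA : IsTenSelf A) (hz : z ∈ A) :
    ∃ h ∈ centralizer ({z} : Set G), A = Δ.tenA.map (MulAut.conj h).toMonoidHom := by
  classical
  set Γ := Δ.Γ
  have hc := comm_of_sq hA.sq
  have hH : A ≤ centralizer ({z} : Set G) := fun a ha => mem_centralizer_singleton_iff.2 (hc a ha z hz)
  set V := Ctx.img Γ.S A with hVdef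
  set W := A ⊓ coreE z with hWdef
  have hAE : ∀ v ∈ A, v * v ∈ coreE z := fun v hv => by rw [hA.sq v hv]; exact one_mem _
  have hVi := Δ.img_inner hA hH
  rw [← hVdef] at hVi
  have hcard := Γ.card_img hH hAE
  rw [← hVdef, ← hWdef, hA.card] at hcard
  have hVsq : ∀ a ∈ V, a * a = 1 := by
    intro a ha
    obtain ⟨v, hv, hvH, rfl⟩ := Γ.exists_img ha
    rw [← Γ.ph_mul hvH hvH, hA.sq v hv, Γ.ph_one]
  have hV : InnerElem V := ⟨hVi, hVsq⟩
  have hW7 : Nat.card ↥W ≤ 2 ^ 7 := by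
    refine Γ.abelian_card_le (a := 1) ?_ fun x hx y hy => hc x hx.1 y hy.1
    rw [Γ.eq_conjE_one]; exact inf_le_right
  have hWF : W ≤ Γ.fixA V := Γ.inf_core_le_fixA hH hA.sq le_rfl
  obtain ⟨n, hn⟩ := (IsPGroup.iff_card (p := 2)).1 (fun a : ↥V =>
    ⟨1, Subtype.ext (by simpa [pow_two] using hVsq a a.2)⟩)
  have : Fact (Nat.Prime 2) := ⟨Nat.prime_two⟩
  have hn34 : n = 3 ∨ n = 4 := by
    have h1 : 3 ≤ n := by
      by_contra h
      have := Nat.mul_le_mul (Nat.pow_le_pow_right (show 1 ≤ 2 by norm_num) (show n ≤ 2 by omega)) hW7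
      rw [← hn] at this
      omega
    have h2 : n ≤ 5 := by
      have := Γ.F.elem_card _ hVsq
      rw [hn] at this
      exact (Nat.pow_le_pow_iff_right (by norm_num)).1 (this.trans (by norm_num))
    have h3 : n ≠ 5 := fun h => Γ.F.elem_not_le V ⟨hVsq, by rw [hn, h]; norm_num⟩ hVi
    omega
  -- the decomposition of the elements of `A`
  have hdec : ∀ {b : AutM22} {a x : G}, a ∈ A → Γ.ph a = b → Γ.Lifts b x →
      b ∈ V ∧ a * x⁻¹ ∈ coreE z ∧ (∀ w ∈ W, a * x⁻¹ * w = w * (a * x⁻¹)) := by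
    intro b a x ha hab hx
    have hbV : b ∈ V := hab ▸ Γ.ph_mem_img hH ha
    refine ⟨hbV, Γ.mul_lift_inv_mem (hH ha) hab (hAE a ha) hx, fun w hw => ?_⟩
    exact (Commute.mul_left (hc a ha w hw.1 : Commute a w)
      (Commute.inv_left (Γ.lifts_commute_fixA hV hbV hx (hWF hw) : Commute x w))).eq
  have hpre : (∀ {b : AutM22} {a x : G}, a ∈ A → Γ.ph a = b → Γ.Lifts b x → a * x⁻¹ ∈ Γ.fixA V) →
      A ≤ Γ.preA V := by
    intro h a ha
    have hb : Γ.ph a ∈ V := Γ.ph_mem_img hH ha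
    obtain ⟨x, hx⟩ := Γ.exists_sqz_lift (hVi hb) (hVsq _ hb)
    rw [show a = a * x⁻¹ * x by group]
    exact mul_mem (Γ.fixA_le_preA V (h ha rfl hx)) (Γ.lift_mem_preA hb hx)
  rcases hn34 with rfl | rfl
  · -- image of order 8
    have hW : Nat.card ↥W = 2 ^ 7 := by rw [hn] at hcard; omega
    have hWeq : W = Γ.fixA V :=
      eq_of_le_of_card_ge hWF ((Δ.card_fixA_le hV (by rw [hn]; norm_num)).trans hW.ge)
    have hF : ∀ e ∈ Γ.fixA V, e * e = 1 := fun e he => hA.sq e (hWeq.symm ▸ he : e ∈ W).1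
    have h7 : Nat.card ↥(Γ.fixA V) = 2 ^ 7 := hWeq ▸ hW
    have hle : A ≤ Γ.preA V := hpre fun {b a x} ha hab hx => by
      obtain ⟨-, he, hcw⟩ := hdec ha hab hx
      refine Γ.mem_of_commute_seven (a := 1) (by rw [Γ.eq_conjE_one]; exact Γ.fixA_le V)
        (comm_of_sq hF) h7.ge (by rw [Γ.eq_conjE_one]; exact he) fun w hw => hcw w (hWeq.symm ▸ hw)
    have heq : A = Γ.preA V := eq_of_le_of_card_ge hle (by
      rw [(Δ.preA_facts hV hF h7).2.2, hA.card, hn]; norm_num)
    rcases Δ.TF.classify V hVi hVsq (by rw [hn]; norm_num) with ⟨k, hk⟩ | ⟨A32, hA32, hle32⟩ | ⟨k, hk⟩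
    · exfalso
      have hk' := Γ.innerElem_cj Δ.inner_U₀ k
      obtain ⟨hk7, hkF⟩ := Δ.fixA_hexad k
      have hsub := Γ.fixA_anti hk
      have hFeq : Γ.fixA (cj k Δ.U₀) = Γ.fixA V := eq_of_le_of_card_ge hsub (by rw [h7, hk7])
      refine Δ.preA_absurd hA hk' hkF hk7 ?_ (hle.trans (Γ.preA_anti_lifts hk hFeq.ge))
      rw [card_map_of_injective (MulAut.conj k).injective, Δ.HF.sixteen.2]
    · exfalso
      obtain ⟨g, hg, rfl⟩ := Δ.exists_pt_img hA32
      set V1 := Γ.imgA g ⊓ innerM22 with hV1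
      have hV1e : InnerElem V1 := ⟨inf_le_right, fun a ha => Γ.imgA_sq hg a ha.1⟩
      have hVV1 : V ≤ V1 := le_inf hle32 hVi
      have hV116 : Nat.card ↥V1 = 16 := by
        have := Δ.card_inner_part (fun h => Γ.F.elem_not_le _ (Γ.thirtyTwo_imgA hg) h)
        rw [(Γ.thirtyTwo_imgA hg).2, ← hV1] at this
        omega
      obtain ⟨b, hb, hbV⟩ : ∃ b ∈ V1, b ∉ V := by
        by_contra hno
        push Not at hno
        have := Subgroup.card_le_of_le (show V1 ≤ V from hno)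
        rw [hV116, hn] at this
        omega
      obtain ⟨x, hx⟩ := Γ.exists_sqz_lift (hV1e.le hb) (hV1e.sq b hb)
      have hx2 := Δ.lift_sq hx (hV1e.sq b hb)
      have hxi : x⁻¹ = x := inv_eq_of_mul_eq_one_right hx2
      have hnorm : ∀ e ∈ Γ.fixA V, x * e * x⁻¹ ∈ Γ.fixA V := by
        intro e he
        have := Γ.fixA_map_le hV hx.mem.1 ⟨e, he, rfl⟩
        rwa [hx.img, show cj b V = V from ?_] at this
        refine cj_eq_of_mem_normalizer (mem_normalizer_iff.2 fun a => ?_)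
        show a ∈ V ↔ b * a * b⁻¹ ∈ V
        constructor
        · intro ha
          rw [hV1e.comm b hb a (hVV1 ha), mul_inv_cancel_right]; exact ha
        · intro ha
          have := hV1e.comm b hb _ (hVV1 ha)
          have h2 : b * a * b⁻¹ = a := by
            calc b * a * b⁻¹ = b⁻¹ * (b * (b * a * b⁻¹)) := by group
              _ = b⁻¹ * (b * a * b⁻¹ * b) := by rw [this]
              _ = a := by group
          rwa [h2] at ha
      -- fixed by `V` and by `x` implies fixed by `V1`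
      have hfix1 : ∀ d ∈ Γ.fixA V, Eqz z (x * d * x⁻¹) d → d ∈ Γ.fixA V1 := by
        intro d hd hxd
        refine Γ.mem_fixA.2 ⟨Γ.fixA_le V hd, fun a ha w hw => ?_⟩
        by_cases haV : a ∈ V
        · exact (Γ.mem_fixA.1 hd).2 a haV w hw
        have hba : b * a ∈ V := mul_mem_of_half hVV1 (by rw [hV116, hn]; norm_num) hb ha hbV haV
        have hxw : x * w ∈ centralizer ({z} : Set G) := mul_mem hx.mem.1 hw.mem.1
        have h1 : Eqz z (x * w * d * (x * w)⁻¹) d := by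
          refine Γ.fixA_fix hV hd hxw (by rw [Γ.ph_mul hx.mem.1 hw.mem.1, hx.img, hw.img]; exact hba) ?_
          obtain ⟨k, hk, -, h2, -⟩ := hx.mul Γ hw (hV1e.comm b hb a ha)
          rw [h2]
          exact mul_mem (mul_mem (Ctx.Lifts.core Γ hx) (Ctx.Lifts.core Γ hw))
            (zpowers_le.2 Γ.z_mem_core hk)
        have h2 := h1.conj (Γ.z_comm_X hx.mem)
        rw [show x * (x * w * d * (x * w)⁻¹) * x⁻¹ = (x * x) * (w * d * w⁻¹) * (x * x)⁻¹ by group, hx2,
          one_mul, inv_one, mul_one] at h2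
        exact Γ.eqz_trans h2 hxd
      have h8 : Nat.card ↥(Γ.fixA V1) ≤ 8 := Γ.card_fixA_duad hg
      have horb := card_le_orbit (Γ.fixA V) x
      have himg : (fun f => f * x * f⁻¹ * x⁻¹) '' (Γ.fixA V : Set G) ⊆ (Γ.fixA V1 : Set G) := by
        rintro _ ⟨e, he, rfl⟩
        have hd : e * x * e⁻¹ * x⁻¹ ∈ Γ.fixA V := by
          rw [show e * x * e⁻¹ * x⁻¹ = e * (x * e⁻¹ * x⁻¹) by group]
          exact mul_mem he (hnorm _ (inv_mem he))
        refine hfix1 _ hd (Or.inl ?_)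
        have hd2 := hF _ hd
        calc x * (e * x * e⁻¹ * x⁻¹) * x⁻¹ = x * e * x * e⁻¹ * (x⁻¹ * x⁻¹) := by group
          _ = x * e * x⁻¹ * e⁻¹ := by rw [hxi, hx2, mul_one]
          _ = (e * x * e⁻¹ * x⁻¹)⁻¹ := by group
          _ = e * x * e⁻¹ * x⁻¹ := inv_eq_of_mul_eq_one_right hd2
      have h1 : ((fun f => f * x * f⁻¹ * x⁻¹) '' (Γ.fixA V : Set G)).ncard ≤ 8 :=
        (Set.ncard_le_ncard himg (Set.toFinite _)).trans (by
          rw [← Nat.card_coe_set_eq]; exact h8)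
      have h2 : Nat.card ↥(Γ.fixA V ⊓ centralizer ({x} : Set G)) ≤ 8 :=
        (Subgroup.card_le_of_le fun d (hd : d ∈ Γ.fixA V ⊓ centralizer ({x} : Set G)) => hfix1 d hd.1 (Or.inl (by
          rw [← mem_centralizer_singleton_iff.1 hd.2, mul_inv_cancel_right]))).trans h8
      have := horb.trans (Nat.mul_le_mul h1 h2)
      rw [h7] at this
      omega
    · obtain ⟨y, hy, hyk⟩ := Γ.exists_liftY k
      refine ⟨y, hy.1, ?_⟩
      rw [heq, hk, ← hyk]
      exact (Γ.preA_conj Δ.inner_U hy).symm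
  · -- image of order 16
    exfalso
    have hW : Nat.card ↥W = 2 ^ 6 := by rw [hn] at hcard; omega
    rcases Δ.HF.classify V hVi ⟨hVsq, by rw [hn]; norm_num⟩ with ⟨A32, hA32, hle32⟩ | ⟨k, hk⟩
    · obtain ⟨g, hg, rfl⟩ := Δ.exists_pt_img hA32
      have h2 := Δ.card_inner_part (fun h => Γ.F.elem_not_le _ (Γ.thirtyTwo_imgA hg) h)
      rw [(Γ.thirtyTwo_imgA hg).2] at h2
      have hVeq : V = Γ.imgA g ⊓ innerM22 := eq_of_le_of_card_ge (le_inf hle32 hVi) (by rw [hn]; omega)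
      have h3 := (Subgroup.card_le_of_le hWF).trans (hVeq ▸ Γ.card_fixA_duad hg)
      rw [hW] at h3
      omega
    · obtain ⟨h7, hF⟩ := Δ.fixA_hexad k
      rw [← hk] at h7 hF
      have hzW : z ∈ W := Subgroup.mem_inf.2 ⟨hz, Γ.z_mem_core⟩
      set C := coreE z ⊓ centralizer (W : Set G) with hC
      have hCcard : Nat.card ↥C = 2 ^ 8 := by
        have := Γ.card_centralizer (K := W) inf_le_right hzW
        rw [hW, ← hC] at this
        omega
      have hFC : Γ.fixA V ≤ C := fun e he => Subgroup.mem_inf.2 ⟨Γ.fixA_le V he,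
        mem_centralizer_iff.2 fun w hw => comm_of_sq hF w (hWF hw) e he⟩
      refine Δ.preA_absurd hA hV hF h7 (by rw [hn]; norm_num) (hpre fun {b a x} ha hab hx => ?_)
      obtain ⟨hbV, he, hcw⟩ := hdec ha hab hx
      -- `e` is fixed modulo `z` by every lift
      by_contra hne
      refine hne (Γ.mem_fixA.2 ⟨he, fun b' hb' x' hx' => ?_⟩)
      obtain ⟨a', ha', ha'H, hab'⟩ := Γ.exists_img hb'
      obtain ⟨-, he', hcw'⟩ := hdec ha' hab' hx'
      have hx'2 := Δ.lift_sq hx' (hVsq b' hb')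
      have hx2 := Δ.lift_sq hx (hVsq b hbV)
      have hxx' := Δ.lifts_commute hV hbV hb' hx hx'
      set e := a * x⁻¹ with hedef
      set e' := a' * x'⁻¹ with he'def
      have hae : a = e * x := by rw [hedef]; group
      have hae' : a' = e' * x' := by rw [he'def]; group
      by_cases hF' : e' ∈ Γ.fixA V
      · have hxe' : x * e' = e' * x := Γ.lifts_commute_fixA hV hbV hx hF'
        have key : e * e' = e' * (x' * e * x'⁻¹) := by
          have h := hc a ha a' ha'
          rw [hae, hae'] at h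
          calc e * e' = e * (e' * x) * x' * (x * x')⁻¹ := by group
            _ = e * x * (e' * x') * (x * x')⁻¹ := by rw [← hxe']; group
            _ = e' * x' * (e * x) * (x * x')⁻¹ := by rw [h]
            _ = e' * x' * (e * x) * (x' * x)⁻¹ := by rw [hxx']
            _ = e' * (x' * e * x'⁻¹) := by group
        have e3 : x' * e * x'⁻¹ = e'⁻¹ * e * e'⁻¹⁻¹ := by
          calc x' * e * x'⁻¹ = e'⁻¹ * (e' * (x' * e * x'⁻¹)) := (inv_mul_cancel_left _ _).symm
            _ = e'⁻¹ * (e * e') := by rw [key]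
            _ = e'⁻¹ * e * e'⁻¹⁻¹ := by group
        rw [e3]
        exact Γ.eqz_core (inv_mem he') he
      · have hx'e' : Eqz z (x' * e' * x'⁻¹) e' := by
          have h := hA.sq a' ha'
          rw [hae'] at h
          have hx'i : x'⁻¹ = x' := inv_eq_of_mul_eq_one_right hx'2
          have : x' * e' * x'⁻¹ = e'⁻¹ := by
            rw [hx'i]
            refine (inv_eq_of_mul_eq_one_right ?_).symm
            rw [← h]; group
          rw [this]
          exact Γ.sq_eq_or he'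
        have hC' : e' ∈ C := Subgroup.mem_inf.2 ⟨he', mem_centralizer_iff.2 fun w hw => (hcw' w hw).symm⟩
        have hC0 : e ∈ C := Subgroup.mem_inf.2 ⟨he, mem_centralizer_iff.2 fun w hw => (hcw w hw).symm⟩
        have hf : e'⁻¹ * e ∈ Γ.fixA V := mul_mem_of_half hFC (by rw [hCcard, h7]; norm_num)
          (inv_mem hC') hC0 (fun h => hF' ((inv_mem_iff).1 h)) hne
        have h1 := (Γ.mem_fixA.1 hf).2 b' hb' x' hx'
        have h2 := Eqz.mul Γ.S.hub.sq (Γ.S.hub.central e' he').symm hx'e' h1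
        rw [show x' * e' * x'⁻¹ * (x' * (e'⁻¹ * e) * x'⁻¹) = x' * e * x'⁻¹ by group,
          show e' * (e'⁻¹ * e) = e by group] at h2
        exact h2

theorem isTenSelf_tenA : IsTenSelf Δ.tenA := ⟨Δ.tenA_sq, Δ.card_tenA, Δ.centralizer_tenA⟩

/-- Every self-centralising elementary abelian subgroup of order `2^10` is a conjugate of `tenA`. -/
theorem exists_conj_any {A : Subgroup G} (hA : IsTenSelf A) :
    ∃ g : G, A = Δ.tenA.map (MulAut.conj g).toMonoidHom := by
  have : Fact (Nat.Prime 2) := ⟨Nat.prime_two⟩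
  obtain ⟨T, hT⟩ := Δ.Γ.exists_sylow_le
  obtain ⟨Q, hQ⟩ := (IsPGroup.of_card hA.card : IsPGroup 2 ↥A).exists_le_sylow
  obtain ⟨x, hx⟩ := MulAction.exists_smul_eq G Q T
  have hA' := hA.map_conj x
  have hH : A.map (MulAut.conj x).toMonoidHom ≤ centralizer ({z} : Set G) := by
    refine le_trans ?_ hT
    rw [← hx, Sylow.coe_subgroup_smul]
    rintro _ ⟨a, ha, rfl⟩
    exact ⟨a, hQ ha, rfl⟩
  have hz : z ∈ A.map (MulAut.conj x).toMonoidHom := by
    rw [← hA'.self]
    exact mem_centralizer_iff.2 fun a ha => mem_centralizer_singleton_iff.1 (hH ha)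
  obtain ⟨h, -, hh⟩ := Δ.exists_conj_tenA hA' hz
  refine ⟨x⁻¹ * h, ?_⟩
  show A = cj (x⁻¹ * h) Δ.tenA
  rw [cj_mul, show cj h Δ.tenA = cj x A from hh.symm, ← cj_mul, inv_mul_cancel, cj_one]

/-- The conjugates of `z` in `tenA` form one orbit of its normaliser. -/
theorem exists_normalizer_conj_z {y : G} (hy : y ∈ Δ.tenA) (hc : IsConj z y) :
    ∃ n ∈ normalizer (Δ.tenA : Set G), n * z * n⁻¹ = y := by
  obtain ⟨g, rfl⟩ := isConj_iff.1 hc
  obtain ⟨h, hh, he⟩ := Δ.exists_conj_tenA (Δ.isTenSelf_tenA.map_conj g⁻¹)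
    ⟨g * z * g⁻¹, hy, show g⁻¹ * (g * z * g⁻¹) * g⁻¹⁻¹ = z by group⟩
  refine ⟨g * h, mem_normalizer_of_cj_eq ?_, ?_⟩
  · rw [cj_mul, show cj h Δ.tenA = cj g⁻¹ Δ.tenA from he.symm, ← cj_mul, mul_inv_cancel, cj_one]
  · rw [show g * h * z * (g * h)⁻¹ = g * (h * z * h⁻¹) * g⁻¹ by group, (mem_H.1 hh).eq,
      mul_inv_cancel_right]

end TenH

end Cfsg.Agent.JankoFour
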