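import Cfsg.Agent.Lib.JankoFour.Basic
import Cfsg.Agent.Lib.JankoFour.Isolation
import Cfsg.Agent.Lib.PGroup.SymplecticType
import Mathlib.GroupTheory.Transfer

/-!
# Janko-four type: the 3-elements of `H`

A subgroup of order 27 in `X` is extraspecial of exponent 3 with centre `P`; its normaliser in `Y` has order 864.
-/

set_option autoImplicit false

namespace Cfsg.Agent.JankoFour

open Subgroup LargeExtraspecial
open scoped commutatorElement Pointwise

variable {G : Type*} [Group G] {z : G} {P : Subgroup G}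

theorem Setting.P_pow_three (S : Setting z P) {p : G} (hp : p ∈ P) : p ^ 3 = 1 := by
  rw [← S.card_P]
  exact congrArg Subtype.val (pow_card_eq_one' (x := (⟨p, hp⟩ : ↥P)))

theorem Setting.pow_six (S : Setting z P) {v : G} (hv : v ∈ coreE z ⊔ P) (hvX : v ∈ centralizer (P : Set G)) :
    v ^ 6 = 1 := by
  obtain ⟨w, hw, p, hp, rfl⟩ := S.mem_zpowers_mul_of_mem_sup hv hvX
  have hc : Commute w p := by
    rcases S.z_cases hw with rfl | rfl
    exacts [Commute.one_left p, (mem_centralizer_singleton_iff.mp (S.P_le hp)).symm]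
  have hw2 : w ^ 2 = 1 := by
    rcases S.z_cases hw with rfl | rfl
    exacts [one_pow 2, by rw [pow_two, S.hub.sq]]
  rw [hc.mul_pow, show (6 : ℕ) = 2 * 3 from rfl, pow_mul, hw2, one_pow, one_mul,
    mul_comm 2 3, pow_mul, S.P_pow_three hp, one_pow]

/-- The restriction of `pi` to `X`. -/
noncomputable def Setting.piX (S : Setting z P) : ↥(cX z P) →* AutM22 :=
  S.pi.comp (Subgroup.inclusion inf_le_left)

theorem Setting.range_piX (S : Setting z P) : S.piX.range = innerM22 := by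
  refine le_antisymm ?_ fun b hb => ?_
  · rintro _ ⟨x, rfl⟩
    exact S.pi_X_mem x.2
  · obtain ⟨y, hy, hyb⟩ := S.exists_lift hb
    exact ⟨⟨y, hy⟩, hyb⟩

theorem Setting.mem_ker_piX (S : Setting z P) {x : ↥(cX z P)} :
    x ∈ S.piX.ker ↔ (x : G) ∈ zpowers z ⊔ P := by
  rw [MonoidHom.mem_ker]
  refine (S.pi_eq_one _).trans ⟨fun h => ?_, fun h => ?_⟩
  · obtain ⟨w, hw, p, hp, he⟩ := S.mem_zpowers_mul_of_mem_sup h x.2.2
    exact he ▸ mul_mem (mem_sup_left hw) (mem_sup_right hp)
  · have : zpowers z ≤ coreE z := by rw [← S.fix]; exact inf_le_left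
    exact sup_le_sup_right this P h

theorem Setting.card_zP [Finite G] (S : Setting z P) : Nat.card ↥(zpowers z ⊔ P) = 6 := by
  have h1 : Nat.card ↥(zpowers z) ∣ Nat.card ↥(zpowers z ⊔ P) := card_dvd_of_le le_sup_left
  have h2 : Nat.card P ∣ Nat.card ↥(zpowers z ⊔ P) := card_dvd_of_le le_sup_right
  rw [S.card_zpowers_z] at h1
  rw [S.card_P] at h2
  refine Nat.dvd_antisymm ?_ (Nat.Coprime.mul_dvd_of_dvd_of_dvd (by norm_num) h1 h2)
  have hn : P ≤ normalizer (zpowers z : Set G) := by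
    refine le_trans (fun p hp => ?_) (centralizer_le_normalizer _)
    refine mem_centralizer_iff.mpr fun w hw => ?_
    rcases S.z_cases hw with rfl | rfl
    · simp
    · exact (mem_centralizer_singleton_iff.mp (S.P_le hp)).symm
  have hle : Nat.card ↥(zpowers z ⊔ P) ≤ 6 := by
    have : Nat.card ↥(zpowers z ⊔ P) ≤ Nat.card ↥(zpowers z) * Nat.card ↥P := by
      rw [← Nat.card_prod]
      have hsurj : ∀ v : ↥(zpowers z ⊔ P), ∃ a : ↥(zpowers z) × ↥P, (a.1 : G) * a.2 = v := by
        intro v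
        have hv : (v : G) ∈ ((zpowers z : Subgroup G) : Set G) * (P : Set G) := by
          rw [← coe_mul_of_right_le_normalizer_left (zpowers z) P hn]
          exact v.2
        obtain ⟨w, hw, p, hp, he⟩ := hv
        exact ⟨(⟨w, hw⟩, ⟨p, hp⟩), he⟩
      choose f hf using hsurj
      exact Nat.card_le_card_of_injective f fun a b e => Subtype.ext ((hf a).symm.trans (by rw [e, hf b]))
    rwa [S.card_zpowers_z, S.card_P] at this
  have h6 : 2 * 3 ∣ Nat.card ↥(zpowers z ⊔ P) := Nat.Coprime.mul_dvd_of_dvd_of_dvd (by norm_num) h1 h2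
  obtain ⟨k, hk⟩ := h6
  have : k ≠ 0 := by rintro rfl; exact Nat.card_pos.ne' (hk.trans (mul_zero _))
  have : k = 1 := by omega
  rw [hk, this]

theorem Setting.card_X [Finite G] (S : Setting z P) (F : AutFacts innerM22) :
    Nat.card ↥(cX z P) = 2661120 := by
  have h := Subgroup.card_mul_index S.piX.ker
  have hk : Nat.card S.piX.ker = 6 := by
    have : S.piX.ker = (zpowers z ⊔ P).subgroupOf (cX z P) := by
      ext x
      rw [S.mem_ker_piX, mem_subgroupOf]
    rw [this, Nat.card_congr (subgroupOfEquivOfLe (sup_le S.zpowers_le_X S.P_le_X)).toEquiv, S.card_zP]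
  rw [index_ker, S.range_piX, F.card_inner, hk] at h
  rw [← h]

theorem Setting.three_part_H (S : Setting z P) :
    (Nat.card ↥(centralizer ({z} : Set G))).factorization 3 = 3 := by
  rw [S.card_H, show 2 ^ 13 * 3 * 887040 = 3 ^ 3 * (2 ^ 13 * 98560) by norm_num,
    Nat.factorization_mul (by norm_num) (by norm_num), Finsupp.add_apply,
    Nat.Prime.factorization_pow Nat.prime_three, Finsupp.single_eq_same,
    Nat.factorization_eq_zero_of_not_dvd (by norm_num)]

/-- `X` contains a subgroup of order 27. -/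
theorem Setting.exists_R [Finite G] (S : Setting z P) (F : AutFacts innerM22) :
    ∃ R : Subgroup G, R ≤ cX z P ∧ Nat.card ↥R = 27 := by
  have : Fact (Nat.Prime 3) := ⟨Nat.prime_three⟩
  obtain ⟨T, hT⟩ := Sylow.exists_subgroup_card_pow_prime (G := ↥(cX z P)) 3 (n := 3)
    (by rw [S.card_X F]; norm_num)
  exact ⟨T.map (cX z P).subtype, map_subtype_le _, by
    rw [card_map_of_injective (cX z P).subtype_injective, hT]; norm_num⟩

/-- Every subgroup of order 27 of `H` is conjugate in `H` into `X`. -/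
theorem Setting.exists_conj_le_X [Finite G] (S : Setting z P) (F : AutFacts innerM22) {T : Subgroup G}
    (hT : T ≤ centralizer ({z} : Set G)) (hc : Nat.card ↥T = 27) :
    ∃ c ∈ centralizer ({z} : Set G), T.map (MulAut.conj c).toMonoidHom ≤ cX z P := by
  have : Fact (Nat.Prime 3) := ⟨Nat.prime_three⟩
  obtain ⟨R, hR, hRc⟩ := S.exists_R F
  set H := centralizer ({z} : Set G)
  let T₁ : Sylow 3 ↥H := Sylow.ofCard (T.subgroupOf H) (by
    rw [Nat.card_congr (subgroupOfEquivOfLe hT).toEquiv, hc, S.three_part_H]; norm_num)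
  let T₂ : Sylow 3 ↥H := Sylow.ofCard (R.subgroupOf H) (by
    rw [Nat.card_congr (subgroupOfEquivOfLe (hR.trans inf_le_left)).toEquiv, hRc, S.three_part_H]; norm_num)
  obtain ⟨c, hc'⟩ := MulAction.exists_smul_eq ↥H T₁ T₂
  refine ⟨c, c.2, ?_⟩
  rintro _ ⟨t, ht, rfl⟩
  refine hR ?_
  have hm : c * ⟨t, hT ht⟩ * c⁻¹ ∈ (T₂ : Subgroup ↥H) := by
    rw [← hc', Sylow.coe_subgroup_smul, mem_pointwise_smul_iff_inv_smul_mem]
    simp only [MulAut.smul_def, ← map_inv, MulAut.conj_apply, inv_inv]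
    rw [show c⁻¹ * (c * ⟨t, hT ht⟩ * c⁻¹) * c = ⟨t, hT ht⟩ by group]
    exact ht
  exact hm

theorem Setting.P_le_R [Finite G] (S : Setting z P) (F : AutFacts innerM22) {R : Subgroup G}
    (hR : R ≤ cX z P) (hc : Nat.card ↥R = 27) : P ≤ R := by
  have : Fact (Nat.Prime 3) := ⟨Nat.prime_three⟩
  have hn : R ≤ normalizer (P : Set G) := fun r hr => centralizer_le_normalizer _ (hR hr).2
  have hp : IsPGroup 3 ↥(R ⊔ P) := (IsPGroup.of_card (p := 3) (n := 3) (by rw [hc]; norm_num)).to_sup_of_normal_right'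
    (IsPGroup.of_card (p := 3) (n := 1) S.card_P) hn
  obtain ⟨k, hk⟩ := hp.exists_card_eq
  have hle : R ⊔ P ≤ cX z P := sup_le hR S.P_le_X
  have hd := card_dvd_of_le hle
  rw [hk, S.card_X F] at hd
  have hk3 : k ≤ 3 := by
    by_contra hh
    have := (pow_dvd_pow 3 (show 4 ≤ k by omega)).trans hd
    norm_num at this
  have heq : R = R ⊔ P := eq_of_le_of_card_ge le_sup_left (by
    rw [hk, hc]
    exact (Nat.pow_le_pow_right (by norm_num) hk3).trans (by norm_num))
  rw [heq]
  exact le_sup_right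

theorem Setting.R_not_abelian [Finite G] (S : Setting z P) (F : AutFacts innerM22) {R : Subgroup G}
    (hR : R ≤ cX z P) (hc : Nat.card ↥R = 27) : ¬ IsMulCommutative ↥R := by
  intro hab
  letI : CommGroup ↥R := { (inferInstance : Group ↥R) with mul_comm := hab.is_comm.comm }
  have hPR := S.P_le_R F hR hc
  obtain ⟨p, hp, hp1⟩ : ∃ p ∈ P, p ≠ 1 := by
    by_contra hall
    push Not at hall
    have := S.card_P
    rw [show P = ⊥ from (eq_bot_iff_forall P).mpr hall, card_bot] at this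
    norm_num at this
  set R' := R.subgroupOf (cX z P) with hR'
  let φ : ↥R' →* ↥R := (subgroupOfEquivOfLe hR).toMonoidHom
  have hcen : ∀ g₀ : ↥(cX z P), ∀ k : ℕ, g₀⁻¹ * (⟨p, S.P_le_X hp⟩ : ↥(cX z P)) ^ k * g₀ =
      (⟨p, S.P_le_X hp⟩ : ↥(cX z P)) ^ k := fun g₀ k => by
    have hc' : Commute (⟨p, S.P_le_X hp⟩ : ↥(cX z P)) g₀ :=
      Subtype.ext (mem_centralizer_iff.mp g₀.2.2 p hp)
    rw [mul_assoc, (hc'.pow_left k).eq, inv_mul_cancel_left]
  have htr := MonoidHom.transfer_eq_pow φ (⟨p, S.P_le_X hp⟩ : ↥(cX z P)) (fun k g₀ _ => hcen g₀ k)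
  have hone : MonoidHom.transfer φ (⟨p, S.P_le_X hp⟩ : ↥(cX z P)) = 1 := by
    have hmem : (⟨p, S.P_le_X hp⟩ : ↥(cX z P)) ∈ commutator ↥(cX z P) := by
      have h := S.P_le_derived hp
      rw [← map_subtype_commutator] at h
      obtain ⟨q, hq, he⟩ := h
      rwa [show q = ⟨p, S.P_le_X hp⟩ from Subtype.ext he] at hq
    exact Abelianization.commutator_subset_ker _ hmem
  rw [htr] at hone
  have hpi : p ^ R'.index = 1 := congrArg Subtype.val hone
  have hidx : R'.index = 98560 := by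
    have h := Subgroup.card_mul_index R'
    rw [Nat.card_congr (subgroupOfEquivOfLe hR).toEquiv, hc, S.card_X F] at h
    omega
  apply hp1
  rw [hidx] at hpi
  rw [← pow_one p, show 1 = Nat.gcd 3 98560 by norm_num]
  exact pow_gcd_eq_one.mpr ⟨S.P_pow_three hp, hpi⟩

theorem Setting.card_image_R [Finite G] (S : Setting z P) (F : AutFacts innerM22) {R : Subgroup G}
    (hR : R ≤ cX z P) (hc : Nat.card ↥R = 27) :
    Nat.card ↥((R.subgroupOf (cX z P)).map S.piX) = 9 := by
  set R' := R.subgroupOf (cX z P) with hR'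
  have h := Subgroup.card_mul_index (S.piX.comp R'.subtype).ker
  rw [index_ker, MonoidHom.range_comp, range_subtype, Nat.card_congr (subgroupOfEquivOfLe hR).toEquiv,
    hc] at h
  have hk : Nat.card ↥(S.piX.comp R'.subtype).ker = 3 := by
    rw [← S.card_P]
    refine Nat.card_congr ⟨fun a => ⟨((a.1 : ↥(cX z P)) : G), ?_⟩,
      fun p => ⟨⟨⟨p, S.P_le_X p.2⟩, S.P_le_R F hR hc p.2⟩, ?_⟩, fun a => rfl, fun p => rfl⟩
    · have ha : ((a.1 : ↥(cX z P)) : G) ∈ coreE z ⊔ P := (S.pi_eq_one _).mp a.2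
      have h6 := S.pow_six ha (a.1 : ↥(cX z P)).2.2
      have h27 : ((a.1 : ↥(cX z P)) : G) ^ 27 = 1 := by
        rw [← hc]
        exact congrArg Subtype.val (pow_card_eq_one' (x := (⟨_, a.1.2⟩ : ↥R)))
      have h3 := pow_gcd_eq_one.mpr ⟨h6, h27⟩
      rw [show Nat.gcd 6 27 = 3 by norm_num] at h3
      obtain ⟨w, hw, p, hp, he⟩ := S.mem_zpowers_mul_of_mem_sup ha (a.1 : ↥(cX z P)).2.2
      rcases S.z_cases hw with rfl | rfl
      · rw [he, one_mul]; exact hp
      · exfalso
        have hc' : Commute w p := (mem_centralizer_singleton_iff.mp (S.P_le hp)).symm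
        rw [he, hc'.mul_pow, S.P_pow_three hp, mul_one, pow_succ, pow_two, S.hub.sq, one_mul] at h3
        exact S.hub.ne_one h3
    · exact MonoidHom.mem_ker.mpr ((S.pi_eq_one _).mpr (mem_sup_right p.2))
  rw [hk] at h
  omega

theorem Setting.R_exponent [Finite G] (S : Setting z P) (F : AutFacts innerM22) {R : Subgroup G}
    (hR : R ≤ cX z P) (hc : Nat.card ↥R = 27) : ∀ r ∈ R, r ^ 3 = 1 := by
  intro r hr
  have hQ := S.card_image_R F hR hc
  set Q := (R.subgroupOf (cX z P)).map S.piX with hQdef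
  have hQI : Q ≤ innerM22 := S.range_piX ▸ map_le_range _ _
  obtain ⟨k, hk, hinv⟩ := F.three_inv Q hQ
  obtain ⟨y, hy, hyk⟩ := S.exists_lift hk
  have hrX := hR hr
  set a := S.piX ⟨r, hrX⟩ with ha
  have haQ : a ∈ Q := ⟨_, hr, rfl⟩
  have ha9 : a ^ 9 = 1 := by
    rw [← hQ]
    exact congrArg Subtype.val (pow_card_eq_one' (x := (⟨a, haQ⟩ : ↥Q)))
  have hr3ker : r ^ 3 ∈ coreE z ⊔ P :=
    (S.mem_ker_piX (x := ⟨r, hrX⟩ ^ 3)).mp (MonoidHom.mem_ker.mpr (by rw [map_pow, F.three_exp a ha9]))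
      |> fun h => sup_le_sup_right (by rw [← S.fix]; exact inf_le_left) P h
  have hvker : r * (y * r * y⁻¹) ∈ coreE z ⊔ P := by
    refine (S.pi_eq_one ⟨_, mul_mem hrX.1 (mul_mem (mul_mem hy.1 hrX.1) (inv_mem hy.1))⟩).mp ?_
    have : S.pi (⟨r, hrX.1⟩ * (⟨y, hy.1⟩ * ⟨r, hrX.1⟩ * ⟨y, hy.1⟩⁻¹)) = a * (k * a * k⁻¹) := by
      rw [map_mul, map_mul, map_mul, map_inv, hyk]
      rfl
    refine this.trans ?_
    rw [hinv a haQ, mul_inv_cancel]
  have hvX : r * (y * r * y⁻¹) ∈ centralizer (P : Set G) :=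
    mul_mem hrX.2 (mul_mem (mul_mem hy.2 hrX.2) ((centralizer (P : Set G)).inv_mem hy.2))
  set v := r * (y * r * y⁻¹) with hv
  have h6v := S.pow_six hvker hvX
  obtain ⟨w, hw, p, hp, hwp⟩ := S.mem_zpowers_mul_of_mem_sup hvker hvX
  obtain ⟨w', hw', p', hp', hwp'⟩ :=
    S.mem_zpowers_mul_of_mem_sup hr3ker ((centralizer (P : Set G)).pow_mem hrX.2 3)
  have hcy : ∀ u ∈ zpowers z ⊔ P, ∀ g ∈ cX z P, Commute u g := by
    intro u hu g hg
    have hle : zpowers z ⊔ P ≤ centralizer ({g} : Set G) := by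
      refine sup_le (zpowers_le.mpr ?_) fun q hq => ?_
      · exact mem_centralizer_singleton_iff.mpr (mem_centralizer_singleton_iff.mp hg.1).symm
      · exact mem_centralizer_singleton_iff.mpr (mem_centralizer_iff.mp hg.2 q hq)
    exact mem_centralizer_singleton_iff.mp (hle hu)
  have hvc : Commute v r := hcy v (hwp ▸ mul_mem (mem_sup_left hw) (mem_sup_right hp)) r hrX
  have hr3 : Commute (r ^ 3) y := hcy _ (hwp' ▸ mul_mem (mem_sup_left hw') (mem_sup_right hp')) y hy
  have hv3 : v ^ 3 = r ^ 6 := by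
    have h1 : y * r * y⁻¹ = r⁻¹ * v := by rw [hv]; group
    have h2 : (y * r * y⁻¹) ^ 3 = r ^ 3 := by
      rw [conj_pow, ← hr3.eq, mul_inv_cancel_right]
    rw [h1, (hvc.inv_right.symm).mul_pow, inv_pow] at h2
    rw [show (6 : ℕ) = 3 + 3 from rfl, pow_add]
    exact inv_mul_eq_iff_eq_mul.mp h2
  have h12 : r ^ 12 = 1 := by
    rw [show (12 : ℕ) = 6 * 2 from rfl, pow_mul, ← hv3, ← pow_mul]
    exact h6v
  have h27 : r ^ 27 = 1 := by
    rw [← hc]
    exact congrArg Subtype.val (pow_card_eq_one' (x := (⟨r, hr⟩ : ↥R)))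
  have h := pow_gcd_eq_one.mpr ⟨h12, h27⟩
  rwa [show Nat.gcd 12 27 = 3 by norm_num] at h

theorem Setting.R_center [Finite G] (S : Setting z P) (F : AutFacts innerM22) {R : Subgroup G}
    (hR : R ≤ cX z P) (hc : Nat.card ↥R = 27) :
    center ↥R = P.subgroupOf R ∧ Cfsg.IsExtraspecial 3 ↥R := by
  have : Fact (Nat.Prime 3) := ⟨Nat.prime_three⟩
  have hp : IsPGroup 3 ↥R := IsPGroup.of_card (n := 3) (by rw [hc]; norm_num)
  have hna := S.R_not_abelian F hR hc
  have hna' : center ↥R ≠ ⊤ := fun h => hna ⟨⟨fun a b =>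
    mem_center_iff.mp (h ▸ mem_top b) a⟩⟩
  have hle : P.subgroupOf R ≤ center ↥R := fun p hp' => mem_center_iff.mpr fun r =>
    Subtype.ext (mem_centralizer_iff.mp (hR r.2).2 p hp').symm
  have hcard : Nat.card (P.subgroupOf R) = 3 := by
    rw [Nat.card_congr (subgroupOfEquivOfLe (S.P_le_R F hR hc)).toEquiv, S.card_P]
  obtain ⟨i, hi⟩ := IsPGroup.iff_card.mp (hp.to_subgroup (center ↥R))
  have hmul := (center ↥R).card_mul_index
  have hd := card_dvd_of_le hle
  rw [hc, hi] at hmul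
  rw [hcard, hi] at hd
  have hi1 : i = 1 := by
    have hi0 : i ≠ 0 := by rintro rfl; norm_num at hd
    have hi3 : i ≤ 3 := by
      by_contra hh
      have := (pow_dvd_pow 3 (show 4 ≤ i by omega)).trans (Dvd.intro _ hmul)
      norm_num at this
    interval_cases i
    · exact absurd rfl hi0
    · rfl
    · exfalso
      have : IsCyclic (↥R ⧸ center ↥R) := isCyclic_of_prime_card (p := 3) (by rw [← index_eq_card]; norm_num at hmul; omega)
      exact hna ⟨⟨fun a b => commutative_of_cyclic_center_quotient (QuotientGroup.mk' (center ↥R))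
        (QuotientGroup.ker_mk' _).le a b⟩⟩
    · exfalso
      exact hna' (index_eq_one.mp (by norm_num at hmul; first | omega | exact hmul | exact index_eq_one.mpr hmul))
  subst hi1
  refine ⟨(eq_of_le_of_card_ge hle (by rw [hi, hcard, pow_one])).symm, ?_⟩
  refine PGroup.isExtraspecial_of hp (by rw [hi, pow_one]) hna' (fun a b => ?_)
    (fun a => by rw [show a ^ 3 = 1 from Subtype.ext (S.R_exponent F hR hc a a.2)]; exact one_mem _)
  have hidx : Nat.card (↥R ⧸ center ↥R) = 3 ^ 2 := by rw [← index_eq_card]; norm_num at hmul ⊢; omega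
  rw [← QuotientGroup.eq_one_iff, ← QuotientGroup.mk'_apply, map_commutatorElement]
  exact commutatorElement_eq_one_iff_mul_comm.mpr
    ((IsPGroup.isMulCommutative_of_card_eq_prime_sq hidx).is_comm.comm _ _)

/-- An element normalising `R` normalises `P = Z(R)`. -/
theorem Setting.normalizer_R_le [Finite G] (S : Setting z P) (F : AutFacts innerM22) {R : Subgroup G}
    (hR : R ≤ cX z P) (hc : Nat.card ↥R = 27) :
    normalizer (R : Set G) ≤ normalizer (P : Set G) := by
  have hcen := (S.R_center F hR hc).1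
  have key : ∀ g ∈ normalizer (R : Set G), ∀ p ∈ P, g * p * g⁻¹ ∈ P := by
    intro g hg p hp
    have hpR := S.P_le_R F hR hc hp
    have hq := (mem_normalizer_iff.mp hg p).mp hpR
    have hqc : (⟨g * p * g⁻¹, hq⟩ : ↥R) ∈ center ↥R := by
      refine mem_center_iff.mpr fun r => Subtype.ext ?_
      have hr' : g⁻¹ * r * g ∈ R := by
        have := (mem_normalizer_iff.mp (inv_mem hg) (r : G)).mp r.2
        rwa [inv_inv] at this
      have hpc : (⟨p, hpR⟩ : ↥R) ∈ center ↥R := by rw [hcen]; exact hp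
      have h1 : g⁻¹ * r * g * p = p * (g⁻¹ * r * g) :=
        congrArg Subtype.val (mem_center_iff.mp hpc ⟨_, hr'⟩)
      show (r : G) * (g * p * g⁻¹) = g * p * g⁻¹ * r
      calc (r : G) * (g * p * g⁻¹) = g * (g⁻¹ * r * g * p) * g⁻¹ := by group
        _ = g * (p * (g⁻¹ * r * g)) * g⁻¹ := by rw [h1]
        _ = g * p * g⁻¹ * r := by group
    rw [hcen] at hqc
    exact hqc
  intro g hg
  refine mem_normalizer_iff.mpr fun p => ⟨key g hg p, fun h => ?_⟩
  have := key g⁻¹ (inv_mem hg) _ h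
  rwa [show g⁻¹ * (g * p * g⁻¹) * g⁻¹⁻¹ = p by group] at this

/-- `|N_H(R)| = 864`. -/
theorem Setting.card_normalizer_R [Finite G] (S : Setting z P) (F : AutFacts innerM22) {R : Subgroup G}
    (hR : R ≤ cX z P) (hc : Nat.card ↥R = 27) :
    Nat.card ↥(normalizer (R : Set G) ⊓ centralizer ({z} : Set G) : Subgroup G) = 864 := by
  set L := (normalizer (R : Set G) ⊓ centralizer ({z} : Set G) : Subgroup G) with hL
  let f : ↥L →* AutM22 := S.pi.comp (Subgroup.inclusion inf_le_right)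
  have h := Subgroup.card_mul_index f.ker
  set Q := (R.subgroupOf (cX z P)).map S.piX with hQdef
  have hQ : Nat.card ↥Q = 9 := S.card_image_R F hR hc
  have hLY : L ≤ cY z P := fun g hg => ⟨hg.2, S.normalizer_R_le F hR hc hg.1⟩
  have hrange : f.range = normalizer (Q : Set AutM22) := by
    refine le_antisymm ?_ fun k hk => ?_
    · rintro _ ⟨g, rfl⟩
      have key : ∀ g : ↥L, ∀ q ∈ Q, f g * q * (f g)⁻¹ ∈ Q := by
        rintro g _ ⟨x, hx, rfl⟩
        refine ⟨⟨(g : G) * (x : G) * (g : G)⁻¹, hR ((mem_normalizer_iff.mp g.2.1 x).mp hx)⟩,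
          (mem_normalizer_iff.mp g.2.1 x).mp hx, ?_⟩
        show S.pi (⟨(g : G), g.2.2⟩ * ⟨x, (x : ↥(cX z P)).2.1⟩ * ⟨(g : G), g.2.2⟩⁻¹) = _
        rw [map_mul, map_mul, map_inv]
        rfl
      refine mem_normalizer_iff.mpr fun q => ⟨key g q, fun hq => ?_⟩
      have := key g⁻¹ _ hq
      rwa [map_inv, show (f g)⁻¹ * (f g * q * (f g)⁻¹) * (f g)⁻¹⁻¹ = q by group] at this
    · obtain ⟨c, rfl⟩ := S.pi_surjective k
      obtain ⟨e, he, y, hy, hce⟩ := S.factor c c.2
      have hcy : S.pi c = S.pi ⟨y, hy.1⟩ := by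
        rw [show c = ⟨e, S.E_le he⟩ * ⟨y, hy.1⟩ from Subtype.ext hce, map_mul,
          S.pi_E (c := ⟨e, S.E_le he⟩) he, one_mul]
      have hyR : ∀ r ∈ R, y * r * y⁻¹ ∈ R := by
        intro r hr
        obtain ⟨x, hx, hxk⟩ := (mem_normalizer_iff.mp hk (S.piX ⟨r, hR hr⟩)).mp ⟨_, hr, rfl⟩
        have hyrX : y * r * y⁻¹ ∈ cX z P := by
          refine Subgroup.mem_inf.mpr ⟨mul_mem (mul_mem hy.1 (hR hr).1) (inv_mem hy.1),
            mem_centralizer_iff.mpr fun p hp => ?_⟩
          have hp' : y⁻¹ * p * y ∈ P := by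
            have := (mem_normalizer_iff.mp ((normalizer (P : Set G)).inv_mem hy.2) p).mp hp
            rwa [inv_inv] at this
          have h1 := mem_centralizer_iff.mp (hR hr).2 _ hp'
          calc p * (y * r * y⁻¹) = y * (y⁻¹ * p * y * r) * y⁻¹ := by group
            _ = y * (r * (y⁻¹ * p * y)) * y⁻¹ := by rw [h1]
            _ = y * r * y⁻¹ * p := by group
        have hker : (x⁻¹ * ⟨y * r * y⁻¹, hyrX⟩ : ↥(cX z P)) ∈ S.piX.ker := by
          rw [MonoidHom.mem_ker, map_mul, map_inv, hxk, hcy]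
          show (S.pi ⟨y, hy.1⟩ * S.pi ⟨r, (hR hr).1⟩ * (S.pi ⟨y, hy.1⟩)⁻¹)⁻¹ *
            S.pi (⟨y, hy.1⟩ * ⟨r, (hR hr).1⟩ * ⟨y, hy.1⟩⁻¹) = 1
          rw [map_mul, map_mul, map_inv, inv_mul_cancel]
        have hker' := S.mem_ker_piX.mp hker
        have hle : zpowers z ≤ coreE z := by rw [← S.fix]; exact inf_le_left
        have hker'' : (x : G)⁻¹ * (y * r * y⁻¹) ∈ coreE z ⊔ P := sup_le_sup_right hle P hker'
        obtain ⟨w, hw, p, hp, hwp⟩ := S.mem_zpowers_mul_of_mem_sup hker''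
          (mul_mem ((centralizer (P : Set G)).inv_mem x.2.2) hyrX.2)
        have hxw : Commute w (x : G) := by
          rcases S.z_cases hw with rfl | rfl
          exacts [Commute.one_left _, (mem_centralizer_singleton_iff.mp x.2.1).symm]
        have heq : y * r * y⁻¹ = w * ((x : G) * p) := by
          rw [← mul_assoc w, hxw.eq, mul_assoc (x : G) w p, ← hwp, mul_inv_cancel_left]
        have hxp : (x : G) * p ∈ R := mul_mem hx (S.P_le_R F hR hc hp)
        rcases S.z_cases hw with rfl | rfl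
        · rw [heq, one_mul]; exact hxp
        · exfalso
          have hcw : Commute w ((x : G) * p) :=
            hxw.mul_right (mem_centralizer_singleton_iff.mp (S.P_le hp)).symm
          have h3 : (y * r * y⁻¹) ^ 3 = 1 := by
            rw [conj_pow, S.R_exponent F hR hc r hr, mul_one, mul_inv_cancel]
          rw [heq, hcw.mul_pow, S.R_exponent F hR hc _ hxp, mul_one, pow_succ, pow_two, S.hub.sq,
            one_mul] at h3
          exact S.hub.ne_one h3
      have himg : R.map (MulAut.conj y).toMonoidHom = R :=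
        eq_of_le_of_card_ge (by rintro _ ⟨r, hr, rfl⟩; exact hyR r hr)
          (by rw [card_map_of_injective (MulAut.conj y).injective])
      have hyN : y ∈ normalizer (R : Set G) := by
        refine mem_normalizer_iff.mpr fun r => ⟨hyR r, fun hr => ?_⟩
        rw [← himg] at hr
        obtain ⟨r', hr', he'⟩ := hr
        rwa [show r' = r from (MulAut.conj y).injective he'] at hr'
      exact ⟨⟨y, hyN, hy.1⟩, hcy.symm⟩
  have hker : Nat.card f.ker = 6 := by
    rw [← S.card_zP]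
    refine Nat.card_congr ⟨fun g => ⟨((g.1 : ↥L) : G), ?_⟩, fun v => ⟨⟨(v : G), ?_, ?_⟩, ?_⟩,
      fun g => rfl, fun v => rfl⟩
    · have hg : ((g.1 : ↥L) : G) ∈ coreE z ⊔ P := (S.pi_eq_one _).mp g.2
      have hgX : ((g.1 : ↥L) : G) ∈ centralizer (P : Set G) := by
        by_contra hgn
        have hgY := hLY g.1.2
        have hinv := S.inverts _ hgY fun h => hgn h.2
        obtain ⟨e, he, p, hp, hep⟩ := S.exists_mul_of_mem_sup hg
        have hpn : p ∈ normalizer (P : Set G) := le_normalizer hp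
        have hen : e ∈ normalizer (P : Set G) := by
          have := (normalizer (P : Set G)).mul_mem hgY.2 ((normalizer (P : Set G)).inv_mem hpn)
          rwa [hep, mul_inv_cancel_right] at this
        obtain ⟨q, hq, hq1⟩ : ∃ q ∈ P, q ≠ 1 := by
          by_contra hall
          push Not at hall
          have := S.card_P
          rw [show P = ⊥ from (eq_bot_iff_forall P).mpr hall, card_bot] at this
          norm_num at this
        have h1 := hinv q hq
        have hpq : p * q * p⁻¹ = q := mul_inv_eq_iff_eq_mul.mpr (mem_centralizer_iff.mp (S.P_le_X hp).2 q hq).symm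
        rw [hep, show e * p * q * (e * p)⁻¹ = e * (p * q * p⁻¹) * e⁻¹ by group, hpq] at h1
        have hb : e * q * e⁻¹ * q⁻¹ ∈ coreE z := by
          rw [show e * q * e⁻¹ * q⁻¹ = e * (q * e⁻¹ * q⁻¹) by group]
          exact mul_mem he ((mem_normalizer_iff.mp (S.le_normalizer_E (S.P_le hq)) _).mp (inv_mem he))
        have hb' : e * q * e⁻¹ * q⁻¹ ∈ coreE z ⊓ P :=
          Subgroup.mem_inf.mpr ⟨hb, mul_mem ((mem_normalizer_iff.mp hen q).mp hq) (inv_mem hq)⟩
        rw [S.E_inf_P, mem_bot, h1, ← mul_inv_rev, inv_eq_one] at hb'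
        have h3 := S.P_pow_three hq
        rw [pow_succ, pow_two, hb', one_mul] at h3
        exact hq1 h3
      obtain ⟨w, hw, p, hp, he⟩ := S.mem_zpowers_mul_of_mem_sup hg hgX
      exact he ▸ mul_mem (mem_sup_left hw) (mem_sup_right hp)
    · have hvc : (v : G) ∈ centralizer (R : Set G) := by
        refine sup_le (zpowers_le.mpr ?_) (fun p hp => ?_) v.2
        · exact mem_centralizer_iff.mpr fun r hr => mem_centralizer_singleton_iff.mp (hR hr).1
        · exact mem_centralizer_iff.mpr fun r hr => (mem_centralizer_iff.mp (hR hr).2 p hp).symm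
      exact centralizer_le_normalizer _ hvc
    · exact (sup_le S.zpowers_le_X S.P_le_X v.2).1
    · exact MonoidHom.mem_ker.mpr ((S.pi_eq_one _).mpr
        (sup_le_sup_right (by rw [← S.fix]; exact inf_le_left) P v.2))
  rw [index_ker, hrange, hker, F.three_norm Q hQ] at h
  rw [← h]

/-- The bound on odd subgroups of `H` centralising an element of order 3 outside `EP`. -/
theorem threeBound [Finite G] (S : Setting z P) (F : AutFacts innerM22) : ThreeBound z P := by
  intro t htH ht3 htN D hDH hDt hodd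
  have : Fact (Nat.Prime 3) := ⟨Nat.prime_three⟩
  have hpit : orderOf (S.pi ⟨t, htH⟩) = 3 := by
    refine orderOf_eq_prime ?_ fun e => htN ((S.pi_eq_one _).mp e)
    rw [← map_pow, show (⟨t, htH⟩ : ↥(centralizer ({z} : Set G))) ^ 3 = 1 from Subtype.ext ht3, map_one]
  have hD3 : IsPGroup 3 ↥D := by
    have hall : ∀ q : ℕ, q.Prime → q ∣ Nat.card ↥D → q = 3 := by
      intro q hq hqd
      have : Fact q.Prime := ⟨hq⟩
      obtain ⟨d, hd⟩ := exists_prime_orderOf_dvd_card' q hqd
      have hq2 : q ≠ 2 := fun e => (Nat.not_even_iff_odd.mpr hodd) (even_iff_two_dvd.mpr (e ▸ hqd))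
      by_contra hq3
      have hq5 : 3 < q := by have := hq.two_le; omega
      have hdH : (d : G) ∈ centralizer ({z} : Set G) := hDH d.2
      have hdq : (⟨d, hdH⟩ : ↥(centralizer ({z} : Set G))) ^ q = 1 :=
        Subtype.ext (by
          show ((d : G)) ^ q = 1
          exact congrArg Subtype.val (hd ▸ pow_orderOf_eq_one d))
      by_cases hpd : S.pi ⟨d, hdH⟩ = 1
      · obtain ⟨e, he, p, hp, hep⟩ := S.exists_mul_of_mem_sup ((S.pi_eq_one _).mp hpd)
        have hdvd : orderOf (d : G) ∣ Nat.card ↥(coreE z ⊔ P) :=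
          Subgroup.orderOf_dvd_natCard _ ((S.pi_eq_one _).mp hpd)
        have hcard : Nat.card ↥(coreE z ⊔ P) ∣ 2 ^ 13 * 3 := by
          have hsurj : Nat.card ↥(coreE z ⊔ P) ≤ 2 ^ 13 * 3 := by
            rw [← S.card_E, ← S.card_P, ← Nat.card_prod]
            have hs : ∀ v : ↥(coreE z ⊔ P), ∃ a : ↥(coreE z) × ↥P, (a.1 : G) * a.2 = v := fun v => by
              obtain ⟨e, he, p, hp, h⟩ := S.exists_mul_of_mem_sup v.2
              exact ⟨(⟨e, he⟩, ⟨p, hp⟩), h.symm⟩
            choose f hf using hs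
            exact Nat.card_le_card_of_injective f fun a b e => Subtype.ext ((hf a).symm.trans (by rw [e, hf b]))
          have h1 : 2 ^ 13 ∣ Nat.card ↥(coreE z ⊔ P) := S.card_E ▸ card_dvd_of_le le_sup_left
          have h2 : 3 ∣ Nat.card ↥(coreE z ⊔ P) := S.card_P ▸ card_dvd_of_le le_sup_right
          have h3 := Nat.Coprime.mul_dvd_of_dvd_of_dvd (by norm_num) h1 h2
          rw [le_antisymm hsurj (Nat.le_of_dvd Nat.card_pos h3)]
        rw [orderOf_coe, hd] at hdvd
        rcases hq.dvd_mul.mp (hdvd.trans hcard) with h | h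
        · exact hq2 ((Nat.prime_dvd_prime_iff_eq hq Nat.prime_two).mp (hq.dvd_of_dvd_pow h))
        · exact hq3 ((Nat.prime_dvd_prime_iff_eq hq Nat.prime_three).mp h)
      · have ho : orderOf (S.pi ⟨d, hdH⟩) = q := orderOf_eq_prime (by rw [← map_pow, hdq, map_one]) hpd
        have hcm : Commute (⟨t, htH⟩ : ↥(centralizer ({z} : Set G))) ⟨d, hdH⟩ :=
          Subtype.ext (hDt d d.2).eq.symm
        have := F.three_cent _ _ hpit (hcm.map S.pi) (ho ▸ hq)
        omega
    exact IsPGroup.of_card (n := (Nat.card ↥D).primeFactorsList.length)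
      (Nat.eq_prime_pow_of_unique_prime_dvd Nat.card_pos.ne' fun {q} hq hqd => hall q hq hqd)
  obtain ⟨n, hn⟩ := hD3.exists_card_eq
  have hd : 3 ^ n ∣ Nat.card ↥(centralizer ({z} : Set G)) := hn ▸ card_dvd_of_le hDH
  have hn3 : n ≤ 3 := by
    have := (Nat.Prime.pow_dvd_iff_le_factorization Nat.prime_three Nat.card_pos.ne').mp hd
    rwa [S.three_part_H] at this
  by_contra hgt
  have hn' : n = 3 := by
    rw [hn] at hgt
    interval_cases n <;> simp at hgt ⊢
  have hD27 : Nat.card ↥D = 27 := by rw [hn, hn']; norm_num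
  -- `t` lies in `D`, hence in its centre
  have hTD : zpowers t ⊔ D = D := by
    have hp : IsPGroup 3 ↥(zpowers t ⊔ D) := by
      refine IsPGroup.to_sup_of_normal_right' ?_ hD3 (zpowers_le.mpr (centralizer_le_normalizer _
        (mem_centralizer_iff.mpr fun d hd' => (hDt d hd').eq)))
      refine IsPGroup.of_card (n := 1) ?_
      rw [Nat.card_zpowers, pow_one]
      exact orderOf_eq_prime ht3 fun e => htN (e ▸ one_mem _)
    obtain ⟨m, hm⟩ := hp.exists_card_eq
    have hdm : 3 ^ m ∣ Nat.card ↥(centralizer ({z} : Set G)) :=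
      hm ▸ card_dvd_of_le (sup_le (zpowers_le.mpr htH) hDH)
    have hm3 := (Nat.Prime.pow_dvd_iff_le_factorization Nat.prime_three Nat.card_pos.ne').mp hdm
    rw [S.three_part_H] at hm3
    refine (eq_of_le_of_card_ge le_sup_right ?_).symm
    rw [hm, hD27]
    exact (Nat.pow_le_pow_right (by norm_num) hm3).trans (by norm_num)
  have htD : t ∈ D := hTD ▸ mem_sup_left (mem_zpowers t)
  obtain ⟨c, hc, hcX⟩ := S.exists_conj_le_X F hDH hD27
  set D' := D.map (MulAut.conj c).toMonoidHom with hD'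
  have hD'c : Nat.card ↥D' = 27 := by rw [hD', card_map_of_injective (MulAut.conj c).injective, hD27]
  have htc : (⟨c * t * c⁻¹, mem_map_of_mem _ htD⟩ : ↥D') ∈ center ↥D' := by
    refine mem_center_iff.mpr ?_
    rintro ⟨_, d, hd', rfl⟩
    refine Subtype.ext ?_
    show c * d * c⁻¹ * (c * t * c⁻¹) = c * t * c⁻¹ * (c * d * c⁻¹)
    calc c * d * c⁻¹ * (c * t * c⁻¹) = c * (d * t) * c⁻¹ := by group
      _ = c * (t * d) * c⁻¹ := by rw [(hDt d hd').eq]
      _ = c * t * c⁻¹ * (c * d * c⁻¹) := by group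
  rw [(S.R_center F hcX hD'c).1] at htc
  have hctP : c * t * c⁻¹ ∈ P := htc
  apply htN
  have hcp : c⁻¹ * (c * t * c⁻¹) * c ∈ coreE z ⊔ P := by
    have := (S.pi_eq_one (⟨c, hc⟩⁻¹ * ⟨_, S.P_le hctP⟩ * ⟨c, hc⟩)).mp (by
      rw [map_mul, map_mul, (S.pi_eq_one ⟨_, S.P_le hctP⟩).mpr (mem_sup_right hctP), mul_one, map_inv,
        inv_mul_cancel])
    exact this
  rwa [show c⁻¹ * (c * t * c⁻¹) * c = t by group] at hcp

end Cfsg.Agent.JankoFour
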